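import Mathlib
import Cfsg.Prelude.Def_FusionSystem

/-!
# Basic API for fusion systems

Morphisms of a fusion system are used mostly through isomorphisms `e : P ≃* Q` between subgroups;
`IsIso F e` says that `e`, followed by the inclusion of `Q`, is a map of `F`.
-/

set_option autoImplicit false

open Cfsg Cfsg.FusionSystem

namespace CfsgLib.Fusion

variable {Ω : Type*} [Group Ω] {S : Subgroup Ω}

/-! ### Subgroups and conjugation -/

/-- The image of `R` under a hom defined on `P`. -/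
def img {P : Subgroup Ω} (φ : P →* Ω) (R : Subgroup Ω) : Subgroup Ω := (R.subgroupOf P).map φ

theorem mem_img {P R : Subgroup Ω} {φ : P →* Ω} {y : Ω} :
    y ∈ img φ R ↔ ∃ x : P, (x : Ω) ∈ R ∧ φ x = y := by
  simp [img, Subgroup.mem_subgroupOf]

theorem img_mono {P R R' : Subgroup Ω} (φ : P →* Ω) (h : R ≤ R') : img φ R ≤ img φ R' := by
  intro y hy
  obtain ⟨x, hx, rfl⟩ := mem_img.1 hy
  exact mem_img.2 ⟨x, h hx, rfl⟩

theorem img_self {P : Subgroup Ω} (φ : P →* Ω) : img φ P = φ.range := by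
  ext y
  simp [mem_img]

theorem img_le_range {P : Subgroup Ω} (φ : P →* Ω) (R : Subgroup Ω) : img φ R ≤ φ.range := by
  rintro y hy
  obtain ⟨x, -, rfl⟩ := mem_img.1 hy
  exact ⟨x, rfl⟩

theorem apply_mem_img {P R : Subgroup Ω} (φ : P →* Ω) {x : P} (hx : (x : Ω) ∈ R) : φ x ∈ img φ R :=
  mem_img.2 ⟨x, hx, rfl⟩

theorem range_comp_inclusion {P R : Subgroup Ω} (φ : P →* Ω) (h : R ≤ P) :
    (φ.comp (Subgroup.inclusion h)).range = img φ R := by
  ext y
  rw [mem_img]
  constructor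
  · rintro ⟨x, rfl⟩
    exact ⟨Subgroup.inclusion h x, x.2, rfl⟩
  · rintro ⟨x, hx, rfl⟩
    exact ⟨⟨x, hx⟩, rfl⟩

theorem card_img {P R : Subgroup Ω} {φ : P →* Ω} (hi : Function.Injective φ) (h : R ≤ P) :
    Nat.card (img φ R) = Nat.card R := by
  rw [img, Nat.card_congr ((R.subgroupOf P).equivMapOfInjective φ hi).symm.toEquiv]
  exact Nat.card_congr (Subgroup.subgroupOfEquivOfLe h).toEquiv

/-- The conjugate subgroup `g P g⁻¹`. -/
def conjSub (g : Ω) (P : Subgroup Ω) : Subgroup Ω := P.map (MulAut.conj g).toMonoidHom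

theorem mem_conjSub {g : Ω} {P : Subgroup Ω} {y : Ω} :
    y ∈ conjSub g P ↔ g⁻¹ * y * g ∈ P := by
  rw [conjSub, Subgroup.mem_map]
  constructor
  · rintro ⟨x, hx, rfl⟩
    simpa [mul_assoc] using hx
  · intro h
    exact ⟨_, h, by simp [mul_assoc]⟩

theorem conj_mem_conjSub {g : Ω} {P : Subgroup Ω} {x : Ω} (hx : x ∈ P) :
    g * x * g⁻¹ ∈ conjSub g P := by
  rw [mem_conjSub]
  simpa [mul_assoc] using hx

theorem conjSub_conjSub (g h : Ω) (P : Subgroup Ω) :
    conjSub g (conjSub h P) = conjSub (g * h) P := by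
  ext y
  simp [mem_conjSub, mul_assoc]

theorem conjSub_one (P : Subgroup Ω) : conjSub 1 P = P := by
  ext y
  simp [mem_conjSub]

theorem conjSub_mono (g : Ω) {P Q : Subgroup Ω} (h : P ≤ Q) : conjSub g P ≤ conjSub g Q :=
  Subgroup.map_mono h

theorem card_conjSub (g : Ω) (P : Subgroup Ω) : Nat.card (conjSub g P) = Nat.card P :=
  Subgroup.card_map_of_injective (MulAut.conj g).injective

theorem range_conjHom (P : Subgroup Ω) (g : Ω) : (conjHom P g).range = conjSub g P := by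
  rw [conjHom, MonoidHom.range_comp, Subgroup.range_subtype]
  rfl

@[simp] theorem conjHom_apply (P : Subgroup Ω) (g : Ω) (x : P) :
    conjHom P g x = g * (x : Ω) * g⁻¹ := rfl

theorem conjSub_eq_iff_mem_normalizer {g : Ω} {P : Subgroup Ω} :
    conjSub g P = P ↔ g ∈ Subgroup.normalizer (P : Set Ω) := by
  rw [Subgroup.mem_normalizer_iff'']
  constructor
  · intro h x
    conv_lhs => rw [← h]
    rw [mem_conjSub]
  · intro h
    ext y
    rw [mem_conjSub, ← h]

/-- For a finite subgroup it suffices to map it into itself. -/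
theorem mem_normalizer_of_forall {g : Ω} {P : Subgroup Ω} [Finite P]
    (h : ∀ x ∈ P, g * x * g⁻¹ ∈ P) : g ∈ Subgroup.normalizer (P : Set Ω) := by
  rw [← conjSub_eq_iff_mem_normalizer]
  refine Subgroup.eq_of_le_of_card_ge ?_ (card_conjSub g P).ge
  intro y hy
  rw [mem_conjSub] at hy
  simpa [mul_assoc] using h _ hy

theorem conj_mem_of_mem_normalizer {g x : Ω} {P : Subgroup Ω}
    (hg : g ∈ Subgroup.normalizer (P : Set Ω)) (hx : x ∈ P) : g * x * g⁻¹ ∈ P :=
  (Subgroup.mem_normalizer_iff.1 hg x).1 hx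

theorem finite_of_le [Finite S] {P : Subgroup Ω} (h : P ≤ S) : Finite P :=
  Finite.of_injective _ (Subgroup.inclusion_injective h)

theorem finite_subgroups_le [Finite S] : {P : Subgroup Ω | P ≤ S}.Finite := by
  refine Set.Finite.of_injOn (f := fun P => P.subgroupOf S) (t := Set.univ) (Set.mapsTo_univ _ _)
    ?_ Set.finite_univ
  intro P hP Q hQ h
  have := congrArg (Subgroup.map S.subtype) h
  simpa [Subgroup.map_subgroupOf_eq_of_le, hP.out, hQ.out] using this

/-- Every nonempty family of subgroups of a finite `S` has a member of maximal order. -/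
theorem exists_max_card [Finite S] (p : Subgroup Ω → Prop) (f : Subgroup Ω → ℕ)
    (hp : ∀ P, p P → P ≤ S) (hne : ∃ P, p P) : ∃ P, p P ∧ ∀ Q, p Q → f Q ≤ f P := by
  have hfin : {P : Subgroup Ω | p P}.Finite := finite_subgroups_le.subset hp
  obtain ⟨P, hP, hmax⟩ := Set.exists_max_image _ f hfin hne
  exact ⟨P, hP, hmax⟩

/-! ### Maps of a fusion system -/

variable (F : FusionSystem S)

theorem le_S {P : Subgroup Ω} {φ : P →* Ω} (hφ : φ ∈ F.Hom P) : P ≤ S := (F.le_of_mem hφ).1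

theorem apply_mem_S {P : Subgroup Ω} {φ : P →* Ω} (hφ : φ ∈ F.Hom P) (x : P) : φ x ∈ S :=
  (F.le_of_mem hφ).2 x

theorem range_le_S {P : Subgroup Ω} {φ : P →* Ω} (hφ : φ ∈ F.Hom P) : φ.range ≤ S := by
  rintro _ ⟨x, rfl⟩
  exact apply_mem_S F hφ x

theorem id_mem {P : Subgroup Ω} (hP : P ≤ S) : P.subtype ∈ F.Hom P := by
  have h : conjHom P 1 = P.subtype := MonoidHom.ext fun x => by simp
  exact h ▸ F.conj_mem hP S.one_mem

theorem res_mem {P R : Subgroup Ω} {φ : P →* Ω} (hφ : φ ∈ F.Hom P) (h : R ≤ P) :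
    φ.comp (Subgroup.inclusion h) ∈ F.Hom R := by
  have h' := F.comp_mem (id_mem F (h.trans (le_S F hφ))) hφ (fun x => h x.2)
  exact (show φ.comp (R.subtype.codRestrict P fun x => h x.2) = φ.comp (Subgroup.inclusion h) from
    MonoidHom.ext fun x => rfl) ▸ h'

/-- `e : P ≃* Q` is an isomorphism of the fusion system. -/
def IsIso {P Q : Subgroup Ω} (e : P ≃* Q) : Prop :=
  Q.subtype.comp e.toMonoidHom ∈ F.Hom P

variable {F}

theorem IsIso.mem {P Q : Subgroup Ω} {e : P ≃* Q} (he : IsIso F e) :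
    Q.subtype.comp e.toMonoidHom ∈ F.Hom P := he

theorem IsIso.le_left {P Q : Subgroup Ω} {e : P ≃* Q} (he : IsIso F e) : P ≤ S := le_S F he

theorem IsIso.le_right {P Q : Subgroup Ω} {e : P ≃* Q} (he : IsIso F e) : Q ≤ S := by
  intro y hy
  simpa using apply_mem_S F he (e.symm ⟨y, hy⟩)

theorem range_subtype_comp {P Q : Subgroup Ω} (e : P ≃* Q) :
    (Q.subtype.comp e.toMonoidHom).range = Q := by
  ext y
  exact ⟨fun ⟨x, hx⟩ => hx ▸ (e x).2, fun hy => ⟨e.symm ⟨y, hy⟩, by simp⟩⟩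

theorem isIso_refl {P : Subgroup Ω} (hP : P ≤ S) : IsIso F (MulEquiv.refl P) := by
  exact id_mem F hP

theorem IsIso.trans {P Q R : Subgroup Ω} {e : P ≃* Q} {f : Q ≃* R} (he : IsIso F e)
    (hf : IsIso F f) : IsIso F (e.trans f) :=
  F.comp_mem he hf fun x => (e x).2

/-- Transport of membership in `Hom` along equal source subgroups. -/
theorem mem_of_eq {P P' : Subgroup Ω} (h : P = P') {φ : P →* Ω} {φ' : P' →* Ω}
    (hφ : φ ∈ F.Hom P) (he : ∀ x : P, φ' ⟨x, h ▸ x.2⟩ = φ x) : φ' ∈ F.Hom P' := by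
  subst h
  exact (MonoidHom.ext he : φ' = φ) ▸ hφ

theorem IsIso.symm {P Q : Subgroup Ω} {e : P ≃* Q} (he : IsIso F e) : IsIso F e.symm := by
  obtain ⟨ψ, hψ, hψe⟩ := F.inv_mem he
  refine mem_of_eq (range_subtype_comp e) hψ ?_
  rintro ⟨_, x, rfl⟩
  rw [hψe]
  simp

theorem IsIso.congr {P Q : Subgroup Ω} {e e' : P ≃* Q} (he : IsIso F e)
    (h : ∀ x, (e' x : Ω) = e x) : IsIso F e' :=
  mem_of_eq rfl he h

theorem isIso_of_mem {P Q : Subgroup Ω} {φ : P →* Ω} (hφ : φ ∈ F.Hom P) {e : P ≃* Q}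
    (h : ∀ x, (e x : Ω) = φ x) : IsIso F e :=
  mem_of_eq rfl hφ h

/-- The isomorphism onto its image given by a map of the system. -/
theorem exists_iso_of_mem {P : Subgroup Ω} {φ : P →* Ω} (hφ : φ ∈ F.Hom P) :
    ∃ e : P ≃* φ.range, IsIso F e ∧ ∀ x, (e x : Ω) = φ x :=
  ⟨MonoidHom.ofInjective (F.injective_of_mem hφ), isIso_of_mem hφ (fun _ => rfl), fun _ => rfl⟩

theorem exists_iso_of_range {P Q : Subgroup Ω} {φ : P →* Ω} (hφ : φ ∈ F.Hom P)
    (h : φ.range = Q) : ∃ e : P ≃* Q, IsIso F e ∧ ∀ x, (e x : Ω) = φ x := by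
  subst h
  exact exists_iso_of_mem hφ

/-- Restriction of an isomorphism to a subgroup of its source. -/
theorem IsIso.exists_res {P Q R : Subgroup Ω} {e : P ≃* Q} (he : IsIso F e) (h : R ≤ P) :
    ∃ f : R ≃* img (Q.subtype.comp e.toMonoidHom) R, IsIso F f ∧
      ∀ x : R, (f x : Ω) = e (Subgroup.inclusion h x) :=
  exists_iso_of_range (res_mem F he h) (range_comp_inclusion _ h)

theorem isConj_iff {P Q : Subgroup Ω} : F.IsConj P Q ↔ ∃ e : P ≃* Q, IsIso F e := by
  constructor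
  · rintro ⟨φ, hφ, h⟩
    obtain ⟨e, he, -⟩ := exists_iso_of_range hφ h
    exact ⟨e, he⟩
  · rintro ⟨e, he⟩
    exact ⟨_, he, range_subtype_comp e⟩

theorem isConj_refl {P : Subgroup Ω} (hP : P ≤ S) : F.IsConj P P :=
  isConj_iff.2 ⟨_, isIso_refl hP⟩

theorem isConj_symm {P Q : Subgroup Ω} (h : F.IsConj P Q) : F.IsConj Q P := by
  obtain ⟨e, he⟩ := isConj_iff.1 h
  exact isConj_iff.2 ⟨_, he.symm⟩

theorem isConj_trans {P Q R : Subgroup Ω} (h : F.IsConj P Q) (h' : F.IsConj Q R) :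
    F.IsConj P R := by
  obtain ⟨e, he⟩ := isConj_iff.1 h
  obtain ⟨f, hf⟩ := isConj_iff.1 h'
  exact isConj_iff.2 ⟨_, he.trans hf⟩

theorem le_left_of_isConj {P Q : Subgroup Ω} (h : F.IsConj P Q) : P ≤ S := by
  obtain ⟨e, he⟩ := isConj_iff.1 h
  exact he.le_left

theorem le_right_of_isConj {P Q : Subgroup Ω} (h : F.IsConj P Q) : Q ≤ S := by
  obtain ⟨e, he⟩ := isConj_iff.1 h
  exact he.le_right

theorem card_eq_of_isConj {P Q : Subgroup Ω} (h : F.IsConj P Q) : Nat.card P = Nat.card Q := by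
  obtain ⟨e, -⟩ := isConj_iff.1 h
  exact Nat.card_congr e.toEquiv

variable (F) in
theorem isConj_conjSub {P : Subgroup Ω} {g : Ω} (hP : P ≤ S) (hg : g ∈ S) :
    F.IsConj P (conjSub g P) :=
  ⟨_, F.conj_mem hP hg, range_conjHom P g⟩

/-! ### Automorphism groups -/

variable (F)

theorem autGroup_eq_bot {P : Subgroup Ω} (hP : ¬ P ≤ S) : F.autGroup P = ⊥ := by
  refine (Subgroup.closure_eq_bot_iff).2 fun α hα => ?_
  exact absurd (le_S F hα) hP

theorem mem_autGroup_iff {P : Subgroup Ω} (hP : P ≤ S) {α : MulAut P} :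
    α ∈ F.autGroup P ↔ IsIso F α := by
  refine ⟨fun h => ?_, fun h => Subgroup.subset_closure h⟩
  let A : Subgroup (MulAut P) :=
    { carrier := {α | IsIso F α}
      one_mem' := isIso_refl hP
      mul_mem' := fun {a b} ha hb => (hb.trans ha : IsIso F (b.trans a))
      inv_mem' := fun {a} ha => ha.symm }
  exact (Subgroup.closure_le A).2 (fun α hα => hα) h

theorem mem_autGroup_of_mem {P : Subgroup Ω} {α : MulAut P} {φ : P →* Ω} (hφ : φ ∈ F.Hom P)
    (h : ∀ x, (α x : Ω) = φ x) : α ∈ F.autGroup P :=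
  (mem_autGroup_iff F (le_S F hφ)).2 (isIso_of_mem hφ h)

variable {F}

theorem congr_mem_autGroup {P Q : Subgroup Ω} {e : P ≃* Q} (he : IsIso F e) {α : MulAut P}
    (hα : α ∈ F.autGroup P) : MulAut.congr e α ∈ F.autGroup Q := by
  rw [mem_autGroup_iff F he.le_left] at hα
  rw [mem_autGroup_iff F he.le_right]
  exact he.symm.trans (hα.trans he)

theorem autGroup_map_congr {P Q : Subgroup Ω} {e : P ≃* Q} (he : IsIso F e) :
    (F.autGroup P).map (MulAut.congr e).toMonoidHom = F.autGroup Q := by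
  refine le_antisymm ?_ fun β hβ => ?_
  · rintro _ ⟨α, hα, rfl⟩
    exact congr_mem_autGroup he hα
  · refine ⟨MulAut.congr e.symm β, congr_mem_autGroup he.symm hβ, ?_⟩
    ext x
    simp [MulAut.congr]

/-- The automorphism groups of conjugate subgroups, identified. -/
noncomputable def autEquiv {P Q : Subgroup Ω} {e : P ≃* Q} (he : IsIso F e) :
    F.autGroup P ≃* F.autGroup Q :=
  ((MulAut.congr e).subgroupMap (F.autGroup P)).trans
    (MulEquiv.subgroupCongr (autGroup_map_congr he))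

theorem autEquiv_coe {P Q : Subgroup Ω} {e : P ≃* Q} (he : IsIso F e) (α : F.autGroup P) :
    (autEquiv he α : MulAut Q) = MulAut.congr e α := rfl

theorem autEquiv_apply {P Q : Subgroup Ω} {e : P ≃* Q} (he : IsIso F e) (α : F.autGroup P)
    (x : Q) : (autEquiv he α : MulAut Q) x = e ((α : MulAut P) (e.symm x)) := rfl

/-! ### Automorphisms induced by a subgroup -/

theorem mem_autInducedBy_iff {K P : Subgroup Ω} {α : MulAut P} :
    α ∈ autInducedBy K P ↔ ∃ g ∈ K, ∀ x : P, ((α x : P) : Ω) = g * (x : Ω) * g⁻¹ := by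
  refine ⟨fun h => ?_, fun h => Subgroup.subset_closure h⟩
  let A : Subgroup (MulAut P) :=
    { carrier := {α | ∃ g ∈ K, ∀ x : P, ((α x : P) : Ω) = g * (x : Ω) * g⁻¹}
      one_mem' := ⟨1, K.one_mem, fun x => by simp⟩
      mul_mem' := by
        rintro a b ⟨g, hg, ha⟩ ⟨k, hk, hb⟩
        exact ⟨g * k, K.mul_mem hg hk, fun x => by simp [ha, hb, mul_assoc]⟩
      inv_mem' := by
        rintro a ⟨g, hg, ha⟩
        refine ⟨g⁻¹, K.inv_mem hg, fun x => ?_⟩
        have := ha (a⁻¹ x)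
        rw [MulAut.apply_inv_self] at this
        rw [this]
        simp [mul_assoc] }
  exact (Subgroup.closure_le A).2 (fun α hα => hα) h

theorem mem_normalizer_of_aut {P : Subgroup Ω} {α : MulAut P} {g : Ω}
    (h : ∀ x : P, ((α x : P) : Ω) = g * (x : Ω) * g⁻¹) : g ∈ Subgroup.normalizer (P : Set Ω) := by
  rw [← conjSub_eq_iff_mem_normalizer]
  ext y
  rw [mem_conjSub]
  constructor
  · intro hy
    have h2 := h ⟨_, hy⟩
    simp only [mul_assoc, mul_inv_cancel, mul_one, mul_inv_cancel_left] at h2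
    exact h2 ▸ (α _).2
  · intro hy
    have h2 := h (α.symm ⟨y, hy⟩)
    simp only [MulEquiv.apply_symm_apply] at h2
    rw [h2]
    simp [mul_assoc]

theorem autInducedBy_mono {K K' P : Subgroup Ω} (h : K ≤ K') :
    autInducedBy K P ≤ autInducedBy K' P :=
  fun α hα => by
    obtain ⟨g, hg, hα⟩ := mem_autInducedBy_iff.1 hα
    exact mem_autInducedBy_iff.2 ⟨g, h hg, hα⟩

theorem autInducedBy_le_autGroup {P : Subgroup Ω} (hP : P ≤ S) :
    autInducedBy S P ≤ F.autGroup P := fun α hα => by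
  obtain ⟨g, hg, hα⟩ := mem_autInducedBy_iff.1 hα
  exact mem_autGroup_of_mem F (F.conj_mem hP hg) hα

theorem inn_eq (P : Subgroup Ω) : Cfsg.Inn P = autInducedBy P P := by
  ext α
  rw [mem_autInducedBy_iff]
  constructor
  · rintro ⟨g, rfl⟩
    exact ⟨g, g.2, fun x => by simp⟩
  · rintro ⟨g, hg, h⟩
    refine ⟨⟨g, hg⟩, MulEquiv.ext fun x => Subtype.ext ?_⟩
    rw [h]
    simp

theorem inn_le_autInducedBy {P : Subgroup Ω} (hP : P ≤ S) : Cfsg.Inn P ≤ autInducedBy S P :=
  (inn_eq P).trans_le (autInducedBy_mono hP)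

theorem inn_le_autGroup {P : Subgroup Ω} (hP : P ≤ S) : Cfsg.Inn P ≤ F.autGroup P :=
  (inn_le_autInducedBy hP).trans (autInducedBy_le_autGroup hP)

/-- The automorphism of `P` given by an element of its normalizer. -/
def normAut {P : Subgroup Ω} (g : Ω) (hg : g ∈ Subgroup.normalizer (P : Set Ω)) : MulAut P :=
  P.normalizerMonoidHom ⟨g, hg⟩

@[simp] theorem normAut_apply {P : Subgroup Ω} (g : Ω)
    (hg : g ∈ Subgroup.normalizer (P : Set Ω)) (x : P) :
    ((normAut g hg x : P) : Ω) = g * (x : Ω) * g⁻¹ := rfl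

theorem autInducedBy_eq_map (K P : Subgroup Ω) :
    autInducedBy K P = (K.subgroupOf (Subgroup.normalizer (P : Set Ω))).map
      P.normalizerMonoidHom := by
  ext α
  rw [mem_autInducedBy_iff]
  constructor
  · rintro ⟨g, hg, h⟩
    exact ⟨⟨g, mem_normalizer_of_aut h⟩, hg, MulEquiv.ext fun x => Subtype.ext (h x).symm⟩
  · rintro ⟨g, hg, rfl⟩
    exact ⟨g, hg, fun x => rfl⟩

theorem isPGroup_autInducedBy {p : ℕ} (hS : IsPGroup p S) (P : Subgroup Ω) :
    IsPGroup p (autInducedBy S P) := by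
  rw [autInducedBy_eq_map]
  exact (hS.comap_subtype).map _

/-! ### Centralizer and normalizer in `S` -/

theorem mem_normalizerIn {P : Subgroup Ω} {x : Ω} :
    x ∈ normalizerIn S P ↔ x ∈ S ∧ x ∈ Subgroup.normalizer (P : Set Ω) := Iff.rfl

theorem mem_centralizerIn {P : Subgroup Ω} {x : Ω} :
    x ∈ centralizerIn S P ↔ x ∈ S ∧ ∀ y ∈ P, y * x = x * y := Iff.rfl

theorem normalizerIn_le (P : Subgroup Ω) : normalizerIn S P ≤ S := inf_le_left

theorem centralizerIn_le (P : Subgroup Ω) : centralizerIn S P ≤ S := inf_le_left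

theorem le_normalizerIn {P : Subgroup Ω} (hP : P ≤ S) : P ≤ normalizerIn S P :=
  le_inf hP Subgroup.le_normalizer

theorem mem_normalizer_of_forall_commute {P : Subgroup Ω} {x : Ω} (h : ∀ y ∈ P, y * x = x * y) :
    x ∈ Subgroup.normalizer (P : Set Ω) := by
  rw [Subgroup.mem_normalizer_iff]
  intro y
  constructor
  · intro hy
    rwa [← h y hy, mul_inv_cancel_right]
  · intro hy
    have h2 := h _ hy
    simp only [mul_assoc, inv_mul_cancel, mul_one] at h2
    have h3 : y = x * y * x⁻¹ := mul_left_cancel (h2.trans (by rw [mul_assoc x y x⁻¹]))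
    rwa [h3]

theorem centralizerIn_le_normalizerIn (P : Subgroup Ω) :
    centralizerIn S P ≤ normalizerIn S P := fun _ hx =>
  ⟨hx.1, mem_normalizer_of_forall_commute hx.2⟩

theorem sup_centralizerIn_le_normalizerIn {P : Subgroup Ω} (hP : P ≤ S) :
    P ⊔ centralizerIn S P ≤ normalizerIn S P :=
  sup_le (le_normalizerIn hP) (centralizerIn_le_normalizerIn P)

theorem lt_normalizerIn [Finite S] {p : ℕ} [Fact p.Prime] (hS : IsPGroup p S) {P : Subgroup Ω}
    (h : P < S) : P < normalizerIn S P := by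
  refine lt_of_le_of_ne (le_normalizerIn h.le) fun he => ?_
  have : Group.IsNilpotent S := hS.isNilpotent
  have hlt : P.subgroupOf S < Subgroup.normalizer ((P.subgroupOf S : Subgroup S) : Set S) := by
    refine normalizerCondition_of_isNilpotent _ (lt_top_iff_ne_top.2 ?_)
    rw [Ne, Subgroup.subgroupOf_eq_top]
    exact fun hh => h.not_ge hh
  refine hlt.not_ge fun x hx => ?_
  rw [Subgroup.mem_subgroupOf, he]
  refine ⟨x.2, ?_⟩
  have := finite_of_le h.le
  refine mem_normalizer_of_forall fun y hy => ?_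
  exact (Subgroup.mem_normalizer_iff.1 hx ⟨y, h.le hy⟩).1 hy

end CfsgLib.Fusion
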