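import Cfsg.Agent.Lib.Fusion.Dihedral
import Cfsg.Agent.Lib.Classical.GLOrder
import Cfsg.Agent.Lib.Classical.FiniteFieldSq

/-!
# `PSL(2, q)` for odd `q`: one class of involutions and a dihedral Sylow 2-subgroup
-/

set_option autoImplicit false

open Matrix

namespace CfsgLib.Fusion.PSL2

variable {F : Type*} [Field F]

/-- The special linear group of degree 2. -/
local notation "SL2" => Matrix.SpecialLinearGroup (Fin 2) F

/-- The rotation by a quarter turn. -/
def wM : SL2 := ⟨!![0, -1; 1, 0], by simp [Matrix.det_fin_two]⟩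

theorem ext2 {g h : SL2} (h00 : g.1 0 0 = h.1 0 0) (h01 : g.1 0 1 = h.1 0 1)
    (h10 : g.1 1 0 = h.1 1 0) (h11 : g.1 1 1 = h.1 1 1) : g = h := by
  ext i j
  fin_cases i <;> fin_cases j <;> assumption

theorem det_eq (g : SL2) : g.1 0 0 * g.1 1 1 - g.1 0 1 * g.1 1 0 = 1 := by
  rw [← Matrix.det_fin_two]
  exact g.2

theorem mul_entry (g h : SL2) (i j : Fin 2) :
    (g * h).1 i j = g.1 i 0 * h.1 0 j + g.1 i 1 * h.1 1 j := by
  rw [Matrix.SpecialLinearGroup.coe_mul, Matrix.mul_apply, Fin.sum_univ_two]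

/-- `-1`. -/
def negOne : SL2 := ⟨!![-1, 0; 0, -1], by simp [Matrix.det_fin_two]⟩

theorem mem_center_iff' {g : SL2} : g ∈ Subgroup.center SL2 ↔ g = 1 ∨ g = negOne := by
  rw [Matrix.SpecialLinearGroup.mem_center_iff]
  constructor
  · rintro ⟨r, hr, hg⟩
    have h00 : g.1 0 0 = r := by rw [← hg]; simp
    have h01 : g.1 0 1 = 0 := by rw [← hg]; simp
    have h10 : g.1 1 0 = 0 := by rw [← hg]; simp
    have h11 : g.1 1 1 = r := by rw [← hg]; simp
    have : (r - 1) * (r + 1) = 0 := by
      simp only [Fintype.card_fin] at hr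
      linear_combination hr
    rcases mul_eq_zero.1 this with h | h
    · exact Or.inl (ext2 (by simp [h00, sub_eq_zero.1 h]) (by simp [h01]) (by simp [h10])
        (by simp [h11, sub_eq_zero.1 h]))
    · have hr' : r = -1 := by linear_combination h
      exact Or.inr (ext2 (by simp [negOne, h00, hr']) (by simp [negOne, h01])
        (by simp [negOne, h10]) (by simp [negOne, h11, hr']))
  · rintro (rfl | rfl)
    · exact ⟨1, by simp, by simp⟩
    · refine ⟨-1, by simp, ?_⟩
      ext i j
      fin_cases i <;> fin_cases j <;> simp [negOne]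

theorem sq_of_trace_zero {g : SL2} (h : g.1 0 0 + g.1 1 1 = 0) : g * g = negOne := by
  have hd := det_eq g
  refine ext2 ?_ ?_ ?_ ?_ <;> rw [mul_entry]
  · simp only [negOne, Matrix.of_apply, Matrix.cons_val', Matrix.cons_val_zero,
      Matrix.cons_val_fin_one]
    linear_combination (g.1 0 0) * h - hd
  · simp only [negOne, Matrix.of_apply, Matrix.cons_val', Matrix.cons_val_zero,
      Matrix.cons_val_fin_one, Matrix.cons_val_one]
    linear_combination (g.1 0 1) * h
  · simp only [negOne, Matrix.of_apply, Matrix.cons_val', Matrix.cons_val_zero,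
      Matrix.cons_val_fin_one, Matrix.cons_val_one]
    linear_combination (g.1 1 0) * h
  · simp only [negOne, Matrix.of_apply, Matrix.cons_val', Matrix.cons_val_fin_one,
      Matrix.cons_val_one]
    linear_combination (g.1 1 1) * h - hd

variable (h2 : (2 : F) ≠ 0)
include h2

theorem negOne_ne_one : (negOne : SL2) ≠ 1 := by
  intro h
  have h1 := congrArg (fun g : SL2 => g.1 0 0) h
  simp [negOne] at h1
  exact h2 (by linear_combination (-1 : F) * h1)

theorem trace_zero_of_sq {g : SL2} (hc : g * g ∈ Subgroup.center SL2)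
    (hg : g ∉ Subgroup.center SL2) : g.1 0 0 + g.1 1 1 = 0 := by
  have hd := det_eq g
  by_contra ht
  have hoff : g.1 0 1 = 0 ∧ g.1 1 0 = 0 ∧ g.1 0 0 = g.1 1 1 := by
    rcases mem_center_iff'.1 hc with h | h
    all_goals
      have e00 := congrArg (fun x : SL2 => x.1 0 0) h
      have e01 := congrArg (fun x : SL2 => x.1 0 1) h
      have e10 := congrArg (fun x : SL2 => x.1 1 0) h
      have e11 := congrArg (fun x : SL2 => x.1 1 1) h
      simp only [mul_entry] at e00 e01 e10 e11
      simp [negOne] at e00 e01 e10 e11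
    all_goals
      refine ⟨?_, ?_, ?_⟩
      · refine (mul_eq_zero.1 (?_ : (g.1 0 0 + g.1 1 1) * g.1 0 1 = 0)).resolve_left ht
        linear_combination e01
      · refine (mul_eq_zero.1 (?_ : (g.1 0 0 + g.1 1 1) * g.1 1 0 = 0)).resolve_left ht
        linear_combination e10
      · refine sub_eq_zero.1 ((mul_eq_zero.1
          (?_ : (g.1 0 0 + g.1 1 1) * (g.1 0 0 - g.1 1 1) = 0)).resolve_left ht)
        linear_combination e00 - e11
  obtain ⟨h01, h10, h0⟩ := hoff
  refine hg (mem_center_iff'.2 ?_)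
  have : (g.1 0 0 - 1) * (g.1 0 0 + 1) = 0 := by
    rw [← h0, h01, h10] at hd
    linear_combination hd
  rcases mul_eq_zero.1 this with h | h
  · exact Or.inl (ext2 (by simp [sub_eq_zero.1 h]) (by simp [h01]) (by simp [h10])
      (by simp [← h0, sub_eq_zero.1 h]))
  · have hm : g.1 0 0 = -1 := by linear_combination h
    exact Or.inr (ext2 (by simp [negOne, hm]) (by simp [negOne, h01]) (by simp [negOne, h10])
      (by simp [negOne, ← h0, hm]))

variable [Fintype F]

/-- An element of trace 0 is conjugate to the quarter turn. -/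
theorem exists_conj_wM {g : SL2} (h : g.1 0 0 + g.1 1 1 = 0) : ∃ P : SL2, g * P = P * wM := by
  have hd := det_eq g
  have hy : g.1 1 1 = -g.1 0 0 := by linear_combination h
  obtain ⟨v, w, hvw⟩ : ∃ v w : F,
      v * (g.1 1 0 * v - g.1 0 0 * w) - w * (g.1 0 0 * v + g.1 0 1 * w) ≠ 0 := by
    by_contra hall
    push Not at hall
    have hz : g.1 1 0 = 0 := by simpa using hall 1 0
    have hy0 : g.1 0 1 = 0 := by simpa using hall 0 1
    have h11 := hall 1 1
    rw [hy, hz, hy0] at hd
    rw [hz, hy0] at h11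
    have hx : g.1 0 0 = 0 := by
      refine (mul_eq_zero.1 (?_ : (2 : F) * g.1 0 0 = 0)).resolve_left h2
      linear_combination -h11
    rw [hx] at hd
    simp at hd
  set d := v * (g.1 1 0 * v - g.1 0 0 * w) - w * (g.1 0 0 * v + g.1 0 1 * w) with hdd
  obtain ⟨r, s, hrs⟩ := CfsgLib.Classical.exists_sq_add_sq h2 d⁻¹
  set u1 := g.1 0 0 * v + g.1 0 1 * w with hu1
  set u2 := g.1 1 0 * v - g.1 0 0 * w with hu2
  obtain ⟨P, hP⟩ : ∃ P : SL2,
      P.1 = !![v * r + u1 * s, -v * s + u1 * r; w * r + u2 * s, -w * s + u2 * r] := by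
    refine ⟨⟨_, ?_⟩, rfl⟩
    rw [Matrix.det_fin_two]
    simp only [Matrix.of_apply, Matrix.cons_val', Matrix.cons_val_zero, Matrix.cons_val_fin_one,
      Matrix.cons_val_one]
    have h1 : d * (r ^ 2 + s ^ 2) = 1 := by rw [hrs]; exact mul_inv_cancel₀ hvw
    rw [hdd] at h1
    linear_combination h1
  have p00 : P.1 0 0 = v * r + u1 * s := by rw [hP]; rfl
  have p01 : P.1 0 1 = -v * s + u1 * r := by rw [hP]; rfl
  have p10 : P.1 1 0 = w * r + u2 * s := by rw [hP]; rfl
  have p11 : P.1 1 1 = -w * s + u2 * r := by rw [hP]; rfl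
  have w00 : (wM : SL2).1 0 0 = 0 := rfl
  have w01 : (wM : SL2).1 0 1 = -1 := rfl
  have w10 : (wM : SL2).1 1 0 = 1 := rfl
  have w11 : (wM : SL2).1 1 1 = 0 := rfl
  rw [hy] at hd
  refine ⟨P, ext2 ?_ ?_ ?_ ?_⟩
  all_goals
    rw [mul_entry, mul_entry]
    simp only [p00, p01, p10, p11, w00, w01, w10, w11, hy, hu1, hu2]
  · linear_combination -s * v * hd
  · linear_combination -r * v * hd
  · linear_combination -s * w * hd
  · linear_combination -r * w * hd

omit [Fintype F] h2 in
/-- The rotations. -/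
def torus : Subgroup (Matrix.SpecialLinearGroup (Fin 2) F) where
  carrier := {g | g.1 0 0 = g.1 1 1 ∧ g.1 0 1 = -g.1 1 0}
  one_mem' := by simp
  mul_mem' := fun {a b} ⟨a1, a2⟩ ⟨b1, b2⟩ => by
    constructor <;> simp only [mul_entry] <;> rw [a1, a2, b1, b2] <;> ring
  inv_mem' := fun {a} ⟨a1, a2⟩ => by
    rw [Set.mem_ofPred_eq, Matrix.SpecialLinearGroup.coe_inv, Matrix.adjugate_fin_two]
    simp [a1, a2]

omit [Fintype F] h2 in
theorem torus_comm {a b : SL2} (ha : a ∈ torus) (hb : b ∈ torus) : a * b = b * a := by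
  obtain ⟨a1, a2⟩ := ha
  obtain ⟨b1, b2⟩ := hb
  refine ext2 ?_ ?_ ?_ ?_ <;> simp only [mul_entry, a1, a2, b1, b2] <;> ring

omit [Fintype F] in
theorem torus_sq {g : SL2} (hg : g ∈ torus) (h : g * g = 1) : g = 1 ∨ g = negOne := by
  by_cases hc : g ∈ Subgroup.center SL2
  · exact mem_center_iff'.1 hc
  · exfalso
    have h1 := sq_of_trace_zero (trace_zero_of_sq h2 (h ▸ one_mem _) hc)
    exact negOne_ne_one h2 (h1.symm.trans h)

/-- The number of rotations. -/
theorem card_torus :
    Nat.card (torus : Subgroup SL2) + Nat.card {t : F // 1 + t ^ 2 = 0} = Fintype.card F + 1 := by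
  classical
  have e : Option {t : F // 1 + t ^ 2 ≠ 0} ≃ (torus : Subgroup SL2) := by
    refine Equiv.ofBijective (fun o => match o with
      | none => ⟨negOne, ⟨by simp [negOne], by simp [negOne]⟩⟩
      | some t => ⟨⟨!![(1 - t.1 ^ 2) / (1 + t.1 ^ 2), -(2 * t.1 / (1 + t.1 ^ 2));
          2 * t.1 / (1 + t.1 ^ 2), (1 - t.1 ^ 2) / (1 + t.1 ^ 2)], by
            rw [Matrix.det_fin_two]
            have := t.2
            simp
            field_simp
            ring⟩, ⟨rfl, rfl⟩⟩) ⟨?_, ?_⟩
    · rintro (_ | a) (_ | b) hab <;> have h' := congrArg Subtype.val hab <;>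
        simp only at h'
      · rfl
      · exfalso
        have h1 := congrArg (fun g : SL2 => g.1 0 0) h'
        simp [negOne] at h1
        have := b.2
        field_simp at h1
        exact h2 (by linear_combination -h1)
      · exfalso
        have h1 := congrArg (fun g : SL2 => g.1 0 0) h'
        simp [negOne] at h1
        have := a.2
        field_simp at h1
        exact h2 (by linear_combination h1)
      · have h0 := congrArg (fun g : SL2 => g.1 0 0) h'
        have h1 := congrArg (fun g : SL2 => g.1 1 0) h'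
        simp at h0 h1
        have := a.2
        have := b.2
        field_simp at h0 h1
        refine congrArg some (Subtype.ext ?_)
        have e2 : (2 : F) * (a.1 ^ 2 - b.1 ^ 2) = 0 := by linear_combination -h0
        have e3 : a.1 ^ 2 = b.1 ^ 2 :=
          sub_eq_zero.1 ((mul_eq_zero.1 e2).resolve_left h2)
        have e4 : (2 : F) * (1 + b.1 ^ 2) * (a.1 - b.1) = 0 := by
          rw [e3] at h1
          first | linear_combination h1 | linear_combination (2 : F) * h1
        exact sub_eq_zero.1 ((mul_eq_zero.1 e4).resolve_left (mul_ne_zero h2 b.2))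
    · rintro ⟨g, g1, g2⟩
      have hd := det_eq g
      by_cases ha : g.1 0 0 = -1
      · refine ⟨none, Subtype.ext ?_⟩
        have hb : g.1 1 0 = 0 := by
          rw [← g1, g2, ha] at hd
          have : g.1 1 0 * g.1 1 0 = 0 := by linear_combination hd
          exact mul_self_eq_zero.1 this
        refine ext2 ?_ ?_ ?_ ?_
        · simp [negOne, ha]
        · simp [negOne, g2, hb]
        · simp [negOne, hb]
        · simp [negOne, ← g1, ha]
      · have ha1 : g.1 0 0 + 1 ≠ 0 := fun h => ha (by linear_combination h)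
        rw [← g1, g2] at hd
        have ht : 1 + (g.1 1 0 / (g.1 0 0 + 1)) ^ 2 = 2 / (g.1 0 0 + 1) := by
          field_simp
          linear_combination hd
        have htne : 1 + (g.1 1 0 / (g.1 0 0 + 1)) ^ 2 ≠ 0 := by
          rw [ht]; exact div_ne_zero h2 ha1
        refine ⟨some ⟨_, htne⟩, Subtype.ext ?_⟩
        have e0 : (1 - (g.1 1 0 / (g.1 0 0 + 1)) ^ 2) / (1 + (g.1 1 0 / (g.1 0 0 + 1)) ^ 2) =
            g.1 0 0 := by
          rw [ht]
          field_simp
          linear_combination -hd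
        have e1 : 2 * (g.1 1 0 / (g.1 0 0 + 1)) / (1 + (g.1 1 0 / (g.1 0 0 + 1)) ^ 2) =
            g.1 1 0 := by
          rw [ht]
          field_simp
        refine ext2 ?_ ?_ ?_ ?_
        · simp [e0]
        · simp [e1, g2]
        · simp [e1]
        · simp [e0, ← g1]
  rw [← Nat.card_congr e, Finite.card_option, add_right_comm, ← Nat.card_eq_fintype_card]
  congr 1
  rw [← Nat.card_sum]
  exact Nat.card_congr ((Equiv.sumComm _ _).trans (Equiv.sumCompl _))

end CfsgLib.Fusion.PSL2
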