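import Cfsg.Agent.Lib.Fusion.PSL2

/-!
# The 2-fusion system of `PSL(2, q)`, `q` odd, `16 ∣ q² - 1`
-/

set_option autoImplicit false

open Cfsg Matrix

namespace CfsgLib.Fusion

/-- A finite subgroup of exponent dividing `2^k` in which `x² = 1` has at most two solutions has
at most `2^k` elements. -/
theorem card_le_of_two_sqrts {A : Type*} [CommGroup A] [Finite A] (z : A)
    (hz : ∀ x : A, x * x = 1 → x = 1 ∨ x = z) :
    ∀ (k : ℕ) (H : Subgroup A), (∀ x ∈ H, x ^ 2 ^ k = 1) → Nat.card H ≤ 2 ^ k := by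
  intro k
  induction k with
  | zero =>
    intro H hH
    have : H = ⊥ := (Subgroup.eq_bot_iff_forall _).2 fun x hx => by simpa using hH x hx
    simp [this]
  | succ k ih =>
    intro H hH
    let f : H →* A := (powMonoidHom 2).comp H.subtype
    have h1 : Nat.card f.range ≤ 2 ^ k := ih _ (by
      rintro _ ⟨x, rfl⟩
      change ((x : A) ^ 2) ^ 2 ^ k = 1
      rw [← pow_mul, ← pow_succ']
      exact hH _ x.2)
    have h2 : Nat.card f.ker ≤ 2 := by
      classical
      let g : f.ker → Bool := fun x => decide (((x : H) : A) = 1)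
      have hg : Function.Injective g := by
        intro x y hxy
        have hx := hz ((x : H) : A) ((pow_two _).symm.trans x.2)
        have hy := hz ((y : H) : A) ((pow_two _).symm.trans y.2)
        refine Subtype.ext (Subtype.ext ?_)
        simp only [g, decide_eq_decide] at hxy
        rcases hx with hx | hx
        · rw [hx, hxy.1 hx]
        · rcases hy with hy | hy
          · rw [hy, hxy.2 hy]
          · rw [hx, hy]
      simpa using Nat.card_le_card_of_injective g hg
    rw [← Subgroup.card_mul_index f.ker, Subgroup.index_ker, pow_succ']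
    exact Nat.mul_le_mul h2 h1

theorem exists_orderOf_eq_two_pow {A : Type*} [CommGroup A] [Finite A] (z : A)
    (hz : ∀ x : A, x * x = 1 → x = 1 ∨ x = z) {k : ℕ} (hk : 2 ^ k ∣ Nat.card A) :
    ∃ x : A, orderOf x = 2 ^ k := by
  rcases Nat.eq_zero_or_pos k with rfl | hk0
  · exact ⟨1, by simp⟩
  obtain ⟨P, hP⟩ := Sylow.exists_subgroup_card_pow_prime (G := A) 2 hk
  by_contra hne
  push Not at hne
  have h1 : ∀ x ∈ P, x ^ 2 ^ (k - 1) = 1 := by
    intro x hx
    have hd : orderOf x ∣ 2 ^ k := by
      have := orderOf_dvd_natCard (⟨x, hx⟩ : P)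
      rwa [hP, Subgroup.orderOf_mk] at this
    obtain ⟨i, hi, hxi⟩ := (Nat.dvd_prime_pow Nat.prime_two).1 hd
    have : i ≠ k := fun h => hne x (h ▸ hxi)
    refine orderOf_dvd_iff_pow_eq_one.1 ?_
    rw [hxi]
    exact Nat.pow_dvd_pow 2 (by omega)
  have h2 := card_le_of_two_sqrts z hz (k - 1) P h1
  rw [hP] at h2
  have : 2 ^ (k - 1) < 2 ^ k := Nat.pow_lt_pow_right one_lt_two (by omega)
  omega

namespace PSL2

variable {F : Type*} [Field F] [Fintype F]

/-- The special linear group of degree 2. -/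
local notation "SL2" => Matrix.SpecialLinearGroup (Fin 2) F

/-- The projection. -/
local notation "π" => QuotientGroup.mk' (Subgroup.center (Matrix.SpecialLinearGroup (Fin 2) F))

theorem proj_eq_one {g : SL2} : π g = 1 ↔ g = 1 ∨ g = negOne := by
  rw [QuotientGroup.mk'_apply, QuotientGroup.eq_one_iff, mem_center_iff']

theorem isConj_of_orderOf_two (h2 : (2 : F) ≠ 0)
    (x y : ProjectiveSpecialLinearGroup (Fin 2) F) (hx : orderOf x = 2) (hy : orderOf y = 2) :
    IsConj x y := by
  have key : ∀ x : SL2 ⧸ Subgroup.center SL2, orderOf x = 2 → IsConj (π wM) x := by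
    intro x hx
    obtain ⟨g, rfl⟩ := QuotientGroup.mk'_surjective (Subgroup.center SL2) x
    obtain ⟨hsq, hne⟩ := orderOf_eq_prime_iff.1 hx
    rw [pow_two, ← map_mul] at hsq
    have hc : g * g ∈ Subgroup.center SL2 := (QuotientGroup.eq_one_iff _).1 hsq
    have hg : g ∉ Subgroup.center SL2 := fun h => hne ((QuotientGroup.eq_one_iff _).2 h)
    obtain ⟨P, hP⟩ := exists_conj_wM h2 (trace_zero_of_sq h2 hc hg)
    refine _root_.isConj_iff.2 ⟨π P, ?_⟩
    rw [← map_mul, ← map_inv, ← map_mul, ← hP, mul_inv_cancel_right]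
  exact (key x hx).symm.trans (key y hy)

/-- `PSL(2, q)` has dihedral Sylow 2-subgroups of order at least 8 when `16 ∣ q² - 1`. -/
theorem exists_dihedralData (hodd : Fintype.card F % 2 = 1) (h16 : 16 ∣ Fintype.card F ^ 2 - 1) :
    ∃ (a t : ProjectiveSpecialLinearGroup (Fin 2) F) (m : ℕ), DihedralData a t m ∧
      ¬ 2 ∣ (Subgroup.closure {a, t}).index := by
  classical
  have h2 : (2 : F) ≠ 0 := CfsgLib.Classical.two_ne_zero_of_odd_card (Nat.odd_iff.2 hodd)
  set q := Fintype.card F with hq
  have hq1 : 1 < q := Fintype.one_lt_card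
  -- the number of square roots of -1
  have hroots : Nat.card (torus : Subgroup SL2) = if q % 4 = 3 then q + 1 else q - 1 := by
    have h := card_torus h2 (F := F)
    split
    · next h3 =>
      have : IsEmpty {t : F // 1 + t ^ 2 = 0} := ⟨fun t => by
        have hs : IsSquare (-1 : F) := ⟨t.1, by linear_combination -t.2⟩
        exact (FiniteField.isSquare_neg_one_iff.1 hs) h3⟩
      rw [Nat.card_of_isEmpty (α := {t : F // 1 + t ^ 2 = 0})] at h
      omega
    · next h3 =>
      obtain ⟨r, hr⟩ : IsSquare (-1 : F) := FiniteField.isSquare_neg_one_iff.2 h3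
      have hrne : r ≠ -r := fun h => by
        have : r = 0 := (mul_eq_zero.1 (show (2 : F) * r = 0 by linear_combination h)).resolve_left h2
        simp [this] at hr
      have hc : Nat.card {t : F // 1 + t ^ 2 = 0} = 2 := by
        rw [Nat.card_eq_fintype_card, Fintype.card_subtype,
          show (Finset.univ.filter fun t : F => 1 + t ^ 2 = 0) = {r, -r} by
            ext t
            simp only [Finset.mem_filter, Finset.mem_univ, true_and, Finset.mem_insert,
              Finset.mem_singleton]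
            constructor
            · intro ht
              have : (t - r) * (t + r) = 0 := by linear_combination ht + hr
              rcases mul_eq_zero.1 this with h | h
              · exact Or.inl (sub_eq_zero.1 h)
              · exact Or.inr (by linear_combination h)
            · rintro (rfl | rfl) <;> linear_combination -hr,
          Finset.card_pair hrne]
      rw [hc] at h
      omega
  -- arithmetic
  obtain ⟨N, m', hN, hN3, hm', hprod⟩ : ∃ N m' : ℕ, Nat.card (torus : Subgroup SL2) = N ∧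
      8 ∣ N ∧ m' % 2 = 1 ∧ N * (2 * m') = q ^ 2 - 1 := by
    have hfac : q ^ 2 - 1 = (q + 1) * (q - 1) := by
      simpa using Nat.sq_sub_sq q 1
    rw [hfac] at h16 ⊢
    rcases Nat.lt_or_ge (q % 4) 2 with h4 | h4
    · refine ⟨q - 1, (q + 1) / 2, by rw [hroots, if_neg (by omega)], ?_, by omega, ?_⟩
      · have h5 : 8 * 2 ∣ (q - 1) * ((q + 1) / 2) * 2 := by
          rw [mul_assoc, Nat.div_mul_cancel (by omega)]
          rwa [mul_comm (q - 1)]
        exact Nat.Coprime.dvd_of_dvd_mul_right
          (Nat.Coprime.pow_left 3 (Nat.coprime_two_left.2 (Nat.odd_iff.2 (by omega))))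
          (Nat.dvd_of_mul_dvd_mul_right two_pos h5)
      · rw [mul_comm 2, Nat.div_mul_cancel (by omega), mul_comm]
    · refine ⟨q + 1, (q - 1) / 2, by rw [hroots, if_pos (by omega)], ?_, by omega, ?_⟩
      · have h5 : 8 * 2 ∣ (q + 1) * ((q - 1) / 2) * 2 := by
          rw [mul_assoc, Nat.div_mul_cancel (by omega)]
          exact h16
        exact Nat.Coprime.dvd_of_dvd_mul_right
          (Nat.Coprime.pow_left 3 (Nat.coprime_two_left.2 (Nat.odd_iff.2 (by omega))))
          (Nat.dvd_of_mul_dvd_mul_right two_pos h5)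
      · rw [mul_comm 2, Nat.div_mul_cancel (by omega)]
  obtain ⟨k, o, ho, hNo⟩ := Nat.exists_eq_two_pow_mul_odd (n := N) (by
    rintro rfl
    rw [zero_mul] at hprod
    have h1 : 2 ^ 2 ≤ q ^ 2 := Nat.pow_le_pow_left hq1 2
    omega)
  have hk : 3 ≤ k := by
    by_contra hk
    have h8 : 2 ^ 3 ∣ 2 ^ k := Nat.Coprime.dvd_of_dvd_mul_right
      (Nat.Coprime.pow_left 3 (Nat.coprime_two_left.2 ho)) (hNo ▸ hN3)
    have := (Nat.pow_dvd_pow_iff_le_right one_lt_two).1 h8
    omega
  -- a rotation of order `2^k`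
  letI : CommGroup (torus : Subgroup SL2) :=
    { (inferInstance : Group (torus : Subgroup SL2)) with
      mul_comm := fun a b => Subtype.ext (torus_comm a.2 b.2) }
  obtain ⟨c, hc⟩ := exists_orderOf_eq_two_pow (A := (torus : Subgroup SL2))
    (⟨negOne, ⟨by simp [negOne], by simp [negOne]⟩⟩)
    (fun x hx => (torus_sq h2 x.2 (congrArg Subtype.val hx)).imp Subtype.ext Subtype.ext)
    (k := k) (by rw [hN, hNo]; exact dvd_mul_right _ _)
  rw [← Subgroup.orderOf_coe] at hc
  -- the reflection
  obtain ⟨x, y, hxy⟩ := CfsgLib.Classical.exists_sq_add_sq h2 (-1 : F)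
  let j : SL2 := ⟨!![x, y; y, -x], by rw [Matrix.det_fin_two]; simp; linear_combination -hxy⟩
  have hjj : j * j = negOne := sq_of_trace_zero (by simp [j])
  have hjc : ∀ g ∈ (torus : Subgroup SL2), j * g = g⁻¹ * j := by
    rintro g ⟨g1, g2⟩
    rw [eq_inv_mul_iff_mul_eq]
    have e00 : j.1 0 0 = x := rfl
    have e01 : j.1 0 1 = y := rfl
    have e10 : j.1 1 0 = y := rfl
    have e11 : j.1 1 1 = -x := rfl
    have hd := det_eq g
    rw [g1, g2] at hd
    refine ext2 ?_ ?_ ?_ ?_
    all_goals
      simp only [mul_entry, e00, e01, e10, e11, g1, g2]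
    · linear_combination x * hd
    · linear_combination y * hd
    · linear_combination y * hd
    · linear_combination -x * hd
  have hjt : j ∉ (torus : Subgroup SL2) := by
    rintro ⟨h1, h3⟩
    change x = -x at h1
    change y = -y at h3
    have hx0 : x = 0 := (mul_eq_zero.1 (show (2 : F) * x = 0 by linear_combination h1)).resolve_left h2
    have hy0 : y = 0 := (mul_eq_zero.1 (show (2 : F) * y = 0 by linear_combination h3)).resolve_left h2
    simp [hx0, hy0] at hxy
  have hne1 := negOne_ne_one h2 (F := F)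
  -- `c ^ 2^(k-1) = -1`
  have hhalf : (c : SL2) ^ 2 ^ (k - 1) = negOne := by
    have hsq : (c : SL2) ^ 2 ^ (k - 1) * (c : SL2) ^ 2 ^ (k - 1) = 1 := by
      rw [← pow_add, ← two_mul, ← pow_succ', show k - 1 + 1 = k by omega, ← hc, pow_orderOf_eq_one]
    refine (torus_sq h2 (Subgroup.pow_mem _ c.2 _) hsq).resolve_left ?_
    intro h
    have := Nat.le_of_dvd (by positivity) (orderOf_dvd_of_pow_eq_one h)
    rw [hc] at this
    have : 2 ^ (k - 1) < 2 ^ k := Nat.pow_lt_pow_right one_lt_two (by omega)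
    omega
  have hdata : DihedralData (π (c : SL2) : ProjectiveSpecialLinearGroup (Fin 2) F) (π j) (k - 1) := by
    refine ⟨by omega, ?_, ?_, ?_, ?_⟩
    · change orderOf (π (c : SL2)) = _
      have h1 := orderOf_eq_prime_pow (p := 2) (n := k - 2) (x := π (c : SL2)) ?_ ?_
      · rwa [show k - 2 + 1 = k - 1 by omega] at h1
      · rw [← map_pow]
        intro h
        have hh : (c : SL2) ^ 2 ^ (k - 1) = 1 := by
          rw [show k - 1 = k - 2 + 1 by omega, pow_succ, pow_mul]
          rcases proj_eq_one.1 h with h | h <;> rw [h]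
          · simp
          · rw [pow_two]
            refine ext2 ?_ ?_ ?_ ?_ <;> rw [mul_entry] <;> simp [negOne]
        exact hne1 (hhalf.symm.trans hh)
      · rw [← map_pow, show k - 2 + 1 = k - 1 by omega, hhalf]
        exact proj_eq_one.2 (Or.inr rfl)
    · change π j * π j = 1
      rw [← map_mul, hjj]
      exact proj_eq_one.2 (Or.inr rfl)
    · change π j * π (c : SL2) * (π j)⁻¹ = (π (c : SL2))⁻¹
      rw [mul_inv_eq_iff_eq_mul, ← map_inv, ← map_mul, ← map_mul, hjc _ c.2]
    · intro h
      obtain ⟨i, hi⟩ := Subgroup.mem_zpowers_iff.1 h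
      change (π (c : SL2)) ^ i = π j at hi
      have hn : (negOne : SL2) ∈ torus := ⟨by simp [negOne], by simp [negOne]⟩
      rw [← map_zpow, ← div_eq_one, ← map_div] at hi
      rcases proj_eq_one.1 hi with h | h
      · rw [div_eq_one] at h
        exact hjt (h ▸ Subgroup.zpow_mem _ c.2 i)
      · rw [div_eq_iff_eq_mul] at h
        have h' : j = negOne⁻¹ * (c : SL2) ^ i := by rw [h, inv_mul_cancel_left]
        exact hjt (h' ▸ mul_mem (inv_mem hn) (Subgroup.zpow_mem _ c.2 i))
  refine ⟨_, _, _, hdata, ?_⟩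
  have hcard := CfsgLib.Classical.card_PSL_mul hq.symm 2 one_le_two
  rw [Fin.prod_univ_two] at hcard
  have hg : Nat.gcd 2 (q - 1) = 2 := Nat.gcd_eq_left (by omega)
  rw [hg] at hcard
  have hidx := (Subgroup.closure
    {(π (c : SL2) : ProjectiveSpecialLinearGroup (Fin 2) F), π j}).card_mul_index
  rw [hdata.card, show k - 1 + 1 = k by omega] at hidx
  intro hd
  have h3 : 2 * ((q - 1) * Nat.card (ProjectiveSpecialLinearGroup (Fin 2) F)) =
      (q ^ 2 - 1) * (q * (q - 1)) := by
    rw [hcard]
    congr 1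
    all_goals simp [Nat.mul_sub, pow_two]
  rw [← hprod, hNo] at h3
  have h4 : Nat.card (ProjectiveSpecialLinearGroup (Fin 2) F) = 2 ^ k * (o * m' * q) := by
    refine Nat.eq_of_mul_eq_mul_left (show 0 < 2 * (q - 1) by omega) ?_
    calc 2 * (q - 1) * Nat.card (ProjectiveSpecialLinearGroup (Fin 2) F)
        = 2 ^ k * o * (2 * m') * (q * (q - 1)) := by rw [mul_assoc, h3]
      _ = 2 * (q - 1) * (2 ^ k * (o * m' * q)) := by ring
  rw [h4] at hidx
  have h5 := Nat.eq_of_mul_eq_mul_left (by positivity) hidx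
  rw [h5] at hd
  rcases (Nat.prime_two.dvd_mul).1 hd with h | h
  · rcases (Nat.prime_two.dvd_mul).1 h with h | h
    · exact absurd h (by rw [Nat.two_dvd_ne_zero]; exact Nat.odd_iff.1 ho)
    · omega
  · omega

theorem isSimple (hodd : Fintype.card F % 2 = 1) (h16 : 16 ∣ Fintype.card F ^ 2 - 1)
    (S : Sylow 2 (ProjectiveSpecialLinearGroup (Fin 2) F)) :
    (groupFusionSystem (S : Subgroup (ProjectiveSpecialLinearGroup (Fin 2) F))).IsSimple 2 := by
  obtain ⟨a, t, m, h, hi⟩ := exists_dihedralData hodd h16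
  exact h.isSimple (isConj_of_orderOf_two
    (CfsgLib.Classical.two_ne_zero_of_odd_card (Nat.odd_iff.2 hodd))) hi S

end PSL2

end CfsgLib.Fusion
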