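import Mathlib

/-!
# The unitriangular subgroup of `SL(n, K)`
-/

set_option autoImplicit false

namespace CfsgLib.Fusion.UniTri

open Matrix

variable {K : Type*} [Field K] {n : ℕ}

/-- The special linear group. -/
local notation "SLn" => Matrix.SpecialLinearGroup (Fin n) K

theorem val_mul (a b : SLn) : (a * b).1 = a.1 * b.1 := rfl

theorem val_one : (1 : SLn).1 = 1 := rfl

theorem transvection_mul_apply {i j : Fin n} (c : K) (M : Matrix (Fin n) (Fin n) K)
    (x y : Fin n) :
    (transvection i j c * M) x y = M x y + if x = i then c * M j y else 0 := by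
  by_cases h : x = i
  · subst h; rw [transvection_mul_apply_same, if_pos rfl]
  · rw [transvection_mul_apply_of_ne _ _ _ _ h, if_neg h, add_zero]

theorem mul_transvection_apply {i j : Fin n} (c : K) (M : Matrix (Fin n) (Fin n) K)
    (x y : Fin n) :
    (M * transvection i j c) x y = M x y + if y = j then c * M x i else 0 := by
  by_cases h : y = j
  · subst h; rw [mul_transvection_apply_same, if_pos rfl]
  · rw [mul_transvection_apply_of_ne _ _ _ _ h, if_neg h, add_zero]

/-- Upper unitriangular. -/
def IsUni (M : Matrix (Fin n) (Fin n) K) : Prop :=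
  (∀ x y, y < x → M x y = 0) ∧ ∀ x, M x x = 1

theorem IsUni.one : IsUni (1 : Matrix (Fin n) (Fin n) K) :=
  ⟨fun _ _ h => one_apply_ne h.ne', fun _ => one_apply_eq _⟩

theorem mul_apply_diag {M N : Matrix (Fin n) (Fin n) K} (hM : ∀ x y, y < x → M x y = 0)
    (hN : ∀ x y, y < x → N x y = 0) (x : Fin n) : (M * N) x x = M x x * N x x := by
  rw [Matrix.mul_apply, Finset.sum_eq_single x]
  · intro z _ hz
    rcases lt_or_gt_of_ne hz with h | h
    · rw [hM x z h, zero_mul]
    · rw [hN z x h, mul_zero]
  · simp

theorem mul_apply_lower {M N : Matrix (Fin n) (Fin n) K} (hM : ∀ x y, y < x → M x y = 0)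
    (hN : ∀ x y, y < x → N x y = 0) {x y : Fin n} (h : y < x) : (M * N) x y = 0 := by
  rw [Matrix.mul_apply]
  refine Finset.sum_eq_zero fun z _ => ?_
  rcases lt_or_ge z x with h1 | h1
  · rw [hM x z h1, zero_mul]
  · rw [hN z y (h.trans_le h1), mul_zero]

theorem IsUni.mul {M N : Matrix (Fin n) (Fin n) K} (hM : IsUni M) (hN : IsUni N) :
    IsUni (M * N) :=
  ⟨fun _ _ h => mul_apply_lower hM.1 hN.1 h,
    fun x => by rw [mul_apply_diag hM.1 hN.1, hM.2, hN.2, one_mul]⟩

theorem IsUni.pow {M : Matrix (Fin n) (Fin n) K} (hM : IsUni M) : ∀ k : ℕ, IsUni (M ^ k)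
  | 0 => by rw [pow_zero]; exact IsUni.one
  | k + 1 => by rw [pow_succ]; exact (hM.pow k).mul hM

theorem strict_pow_apply {N : Matrix (Fin n) (Fin n) K} (hN : ∀ x y, y ≤ x → N x y = 0) :
    ∀ (k : ℕ) (x y : Fin n), (y : ℕ) < x + k → (N ^ k) x y = 0
  | 0, x, y, h => by
    rw [pow_zero, one_apply_ne]
    intro he
    rw [he] at h
    omega
  | k + 1, x, y, h => by
    rw [pow_succ, Matrix.mul_apply]
    refine Finset.sum_eq_zero fun z _ => ?_
    rcases lt_or_ge (z : ℕ) (x + k) with h1 | h1
    · rw [strict_pow_apply hN k x z h1, zero_mul]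
    · rw [hN z y (Fin.le_def.2 (by omega)), mul_zero]

theorem IsUni.pow_char {p : ℕ} [Fact p.Prime] [CharP K p] {M : Matrix (Fin n) (Fin n) K}
    (hM : IsUni M) : M ^ p ^ n = 1 := by
  rcases Nat.eq_zero_or_pos n with rfl | hn
  · exact Subsingleton.elim _ _
  have : Nonempty (Fin n) := ⟨⟨0, hn⟩⟩
  have h0 : ∀ x y : Fin n, y ≤ x → (M - 1) x y = 0 := by
    intro x y h
    rw [Matrix.sub_apply]
    rcases h.lt_or_eq with h | rfl
    · rw [hM.1 x y h, one_apply_ne h.ne', sub_zero]
    · rw [hM.2, one_apply_eq, sub_self]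
  have h1 : (M - 1) ^ p ^ n = 0 := by
    ext x y
    refine strict_pow_apply h0 _ x y ?_
    have : n ≤ p ^ n := (Nat.lt_pow_self (Fact.out : p.Prime).one_lt).le
    have := y.isLt
    omega
  rw [sub_pow_char_pow_of_commute (p := p) (n := n) (Commute.one_right M), one_pow] at h1
  exact sub_eq_zero.1 h1

variable [Finite K]

variable (K n) in
/-- The upper unitriangular subgroup. -/
def upper : Subgroup (Matrix.SpecialLinearGroup (Fin n) K) where
  carrier := {g | IsUni g.1}
  one_mem' := IsUni.one
  mul_mem' := fun {a b} ha hb => ha.mul hb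
  inv_mem' := fun {a} ha => by
    obtain ⟨k, hk0, hk⟩ := (isOfFinOrder_of_finite a).exists_pow_eq_one
    have h1 : a⁻¹ = a ^ (k - 1) := by
      rw [inv_eq_iff_mul_eq_one, ← pow_succ', show k - 1 + 1 = k by omega, hk]
    rw [Set.mem_ofPred_eq, h1, Matrix.SpecialLinearGroup.coe_pow]
    exact ha.pow _

theorem mem_upper {g : SLn} : g ∈ upper K n ↔ IsUni g.1 := Iff.rfl

/-- The elementary transvection. -/
abbrev el {i j : Fin n} (h : i ≠ j) (c : K) : SLn := Matrix.SpecialLinearGroup.transvection h c

omit [Finite K] in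
theorem el_val {i j : Fin n} (h : i ≠ j) (c : K) :
    (el h c : SLn).1 = transvection i j c := rfl

theorem el_mem_upper {i j : Fin n} (h : i < j) (c : K) : el h.ne c ∈ upper K n := by
  refine mem_upper.2 ⟨fun x y hxy => ?_, fun x => ?_⟩
  · rw [el_val, transvection, Matrix.add_apply, one_apply_ne hxy.ne', single_apply_of_ne, add_zero]
    rintro ⟨rfl, rfl⟩
    exact lt_asymm h hxy
  · rw [el_val, transvection, Matrix.add_apply, one_apply_eq, single_apply_of_ne, add_zero]
    rintro ⟨rfl, rfl⟩
    exact lt_irrefl _ h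

/-- The elementary transvections of the upper triangle generate. -/
theorem upper_le_closure :
    upper K n ≤ Subgroup.closure {g | ∃ (i j : Fin n) (h : i < j) (c : K), g = el h.ne c} := by
  suffices H : ∀ (m : ℕ) (g : SLn), IsUni g.1 →
      (∀ x y : Fin n, x < y → m ≤ y.val * n + x.val → g.1 x y = 0) →
      g ∈ Subgroup.closure {g | ∃ (i j : Fin n) (h : i < j) (c : K), g = el h.ne c} by
    intro g hg
    refine H (n * n) g hg fun x y _ hle => ?_
    have h1 : y.val * n + x.val < n * n := by
      have := x.isLt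
      have h2 : (y.val + 1) * n ≤ n * n := Nat.mul_le_mul_right _ y.isLt
      rw [add_mul, one_mul] at h2
      omega
    omega
  intro m
  induction m with
  | zero =>
    intro g hg h0
    have : g = 1 := by
      ext x y
      rcases lt_trichotomy x y with h | rfl | h
      · rw [h0 x y h (Nat.zero_le _), val_one, one_apply_ne h.ne]
      · rw [hg.2, val_one, one_apply_eq]
      · rw [hg.1 x y h, val_one, one_apply_ne h.ne']
    rw [this]
    exact one_mem _
  | succ m ih =>
    intro g hg h0
    by_cases hex : ∃ k l : Fin n, k < l ∧ l.val * n + k.val = m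
    · obtain ⟨k, l, hkl, hm⟩ := hex
      set E : SLn := el hkl.ne (-g.1 k l) with hE
      have hmem : g * E ∈ Subgroup.closure {g | ∃ (i j : Fin n) (h : i < j) (c : K), g = el h.ne c} := by
        refine ih _ (hg.mul (mem_upper.1 (el_mem_upper hkl _))) fun x y hxy hle => ?_
        rw [hE, val_mul, el_val, mul_transvection_apply]
        by_cases hy : y = l
        · subst hy
          rw [if_pos rfl]
          rcases eq_or_ne x k with rfl | hx
          · rw [hg.2, mul_one, add_neg_cancel]
          · have hlt : k.val < x.val := by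
              have : k.val ≠ x.val := fun h => hx (Fin.ext h.symm)
              omega
            rw [h0 x y hxy (by omega), hg.1 x k (Fin.lt_def.2 hlt), mul_zero, add_zero]
        · rw [if_neg hy, add_zero]
          refine h0 x y hxy ?_
          by_contra hlt
          have heq : y.val * n + x.val = m := by omega
          rw [← hm] at heq
          refine hy (Fin.ext ?_)
          have h1 := congrArg (· / n) heq
          simpa [Nat.add_mul_div_right, Nat.mul_comm _ n, Nat.mul_add_div x.pos, Nat.div_eq_of_lt x.isLt,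
            Nat.div_eq_of_lt k.isLt] using h1
      have := mul_mem hmem (inv_mem (Subgroup.subset_closure
        (show E ∈ {g | ∃ (i j : Fin n) (h : i < j) (c : K), g = el h.ne c} from ⟨k, l, hkl, _, rfl⟩)))
      rwa [mul_inv_cancel_right] at this
    · push Not at hex
      refine ih g hg fun x y hxy hle => ?_
      refine h0 x y hxy ?_
      have := hex x y hxy
      omega

omit [Finite K] in
/-- A matrix conjugating the unitriangular group into itself is upper triangular. -/
theorem upper_triangular_of_conj {g : SLn}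
    (h : ∀ v : SLn, IsUni v.1 → ∃ u : SLn, IsUni u.1 ∧ v * g = g * u) :
    ∀ x y : Fin n, y < x → g.1 x y = 0 := by
  suffices H : ∀ (m : ℕ) (x y : Fin n), y.val = m → y < x → g.1 x y = 0 from
    fun x y hxy => H y.val x y rfl hxy
  intro m
  induction m using Nat.strong_induction_on with
  | _ m ih =>
    intro x y hym hxy
    obtain ⟨u, hu, hvu⟩ := h (el hxy.ne 1) (by
      refine ⟨fun a b hab => ?_, fun a => ?_⟩
      · rw [el_val, transvection, Matrix.add_apply, one_apply_ne hab.ne', single_apply_of_ne,
          add_zero]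
        rintro ⟨rfl, rfl⟩
        exact lt_asymm hxy hab
      · rw [el_val, transvection, Matrix.add_apply, one_apply_eq, single_apply_of_ne, add_zero]
        rintro ⟨rfl, rfl⟩
        exact lt_irrefl _ hxy)
    have h1 := congrArg (fun z : SLn => z.1 y y) hvu
    simp only [val_mul, el_val, transvection_mul_apply, if_true, one_mul] at h1
    rw [Matrix.mul_apply, Finset.sum_eq_single y] at h1
    · rw [hu.2, mul_one] at h1
      exact add_eq_left.1 h1
    · intro z _ hz
      rcases lt_or_gt_of_ne hz with h2 | h2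
      · rw [ih z.val (hym ▸ Fin.lt_def.1 h2) y z rfl h2, zero_mul]
      · rw [hu.1 z y h2, mul_zero]
    · simp

omit [Finite K] in
/-- A matrix commuting with an elementary transvection. -/
theorem commute_el {g : Matrix (Fin n) (Fin n) K} {k l : Fin n} {c : K} (hc : c ≠ 0)
    (h : g * transvection k l c = transvection k l c * g) :
    (∀ x, x ≠ k → g x k = 0) ∧ (∀ y, y ≠ l → g l y = 0) ∧ g k k = g l l := by
  refine ⟨fun x hx => ?_, fun y hy => ?_, ?_⟩
  · have h1 := congrFun (congrFun h x) l
    rw [mul_transvection_apply, if_pos rfl, transvection_mul_apply, if_neg hx, add_zero,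
      add_eq_left, mul_eq_zero] at h1
    exact h1.resolve_left hc
  · have h1 := congrFun (congrFun h k) y
    rw [mul_transvection_apply, if_neg hy, transvection_mul_apply, if_pos rfl, add_zero] at h1
    have h2 := left_eq_add.1 h1
    rw [mul_eq_zero] at h2
    exact h2.resolve_left hc
  · have h1 := congrFun (congrFun h k) l
    rw [mul_transvection_apply, if_pos rfl, transvection_mul_apply, if_pos rfl] at h1
    exact mul_left_cancel₀ hc (add_left_cancel h1)

omit [Finite K] in
/-- Two elementary transvections are conjugate in `SL(n, K)` for `n ≥ 3`. -/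
theorem exists_conj_el {a b k l : Fin n} (hab : a ≠ b) (hkl : k ≠ l) (m : Fin n) (hma : m ≠ a)
    (hmb : m ≠ b) {c₀ c : K} (hc₀ : c₀ ≠ 0) (hc : c ≠ 0) :
    ∃ P : SLn, P * el hab c₀ = el hkl c * P := by
  set b' := Equiv.swap a k b with hb'
  have hb'k : b' ≠ k := fun h => hab (by
    have := congrArg (Equiv.swap a k) h
    rw [hb', Equiv.swap_apply_self, Equiv.swap_apply_right] at this
    exact this.symm)
  set σ : Equiv.Perm (Fin n) := Equiv.swap b' l * Equiv.swap a k with hσ
  have hσa : σ a = k := by
    rw [hσ, Equiv.Perm.mul_apply, Equiv.swap_apply_left, Equiv.swap_apply_of_ne_of_ne hb'k.symm hkl]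
  have hσb : σ b = l := by rw [hσ, Equiv.Perm.mul_apply, ← hb', Equiv.swap_apply_left]
  set d₁ : Fin n → K := Function.update (fun _ => 1) a (c / c₀) with hd₁
  set e : K := (Equiv.Perm.sign σ.symm : K) * ∏ x, d₁ x with he
  have hd₁0 : ∀ x, d₁ x ≠ 0 := by
    intro x
    rcases eq_or_ne x a with rfl | hx
    · rw [hd₁, Function.update_self]; exact div_ne_zero hc hc₀
    · rw [hd₁, Function.update_of_ne hx]; exact one_ne_zero
  have he0 : e ≠ 0 := mul_ne_zero (by
    rcases Int.units_eq_one_or (Equiv.Perm.sign σ.symm) with h | h <;> simp [h])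
    (Finset.prod_ne_zero_iff.2 fun x _ => hd₁0 x)
  set d : Fin n → K := Function.update d₁ m e⁻¹ with hd
  have hdet : ((diagonal d).submatrix σ.symm id).det = 1 := by
    rw [det_permute, det_diagonal]
    have h1 : ∏ x, d x = (∏ x, d₁ x) * e⁻¹ := by
      rw [hd, Finset.prod_update_of_mem (Finset.mem_univ m)]
      rw [← Finset.mul_prod_erase Finset.univ d₁ (Finset.mem_univ m)]
      rw [show d₁ m = 1 by rw [hd₁, Function.update_of_ne hma]]
      rw [Finset.sdiff_singleton_eq_erase]
      ring
    rw [h1, ← mul_assoc, ← he, mul_inv_cancel₀ he0]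
  obtain ⟨P, hP⟩ : ∃ P : SLn, P.1 = (diagonal d).submatrix σ.symm id := ⟨⟨_, hdet⟩, rfl⟩
  refine ⟨P, ?_⟩
  ext x y
  rw [val_mul, val_mul, el_val, el_val, hP,
    mul_transvection_apply, transvection_mul_apply]
  change (diagonal d) (σ.symm x) y + (if y = b then c₀ * (diagonal d) (σ.symm x) a else 0) =
    (diagonal d) (σ.symm x) y + if x = k then c * (diagonal d) (σ.symm l) y else 0
  congr 1
  have hσl : σ.symm l = b := by rw [Equiv.symm_apply_eq, hσb]
  have hxk : x = k ↔ σ.symm x = a := by rw [Equiv.symm_apply_eq, hσa]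
  have hdb : d b = 1 := by
    rw [hd, Function.update_of_ne hmb.symm, hd₁, Function.update_of_ne hab.symm]
  have hda : d a = c / c₀ := by
    rw [hd, Function.update_of_ne hma.symm, hd₁, Function.update_self]
  by_cases hy : y = b <;> by_cases hx : x = k
  · rw [if_pos hy, if_pos hx, hxk.1 hx, hy, hσl, diagonal_apply_eq, diagonal_apply_eq, hdb, hda]
    field_simp
  · rw [if_pos hy, if_neg hx, diagonal_apply_ne _ (fun h => hx (hxk.2 h)), mul_zero]
  · rw [if_neg hy, if_pos hx, hσl, diagonal_apply_ne _ (Ne.symm hy), mul_zero]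
  · rw [if_neg hy, if_neg hx]

/-- The diagonal elements of a Levi subgroup of rank one. -/
theorem diag_mem_closure {i j : Fin n} (hij : i ≠ j) {t : K} (ht : t ≠ 0)
    (hdet : (diagonal (Function.update (Function.update (fun _ : Fin n => (1 : K)) i t) j t⁻¹)).det = 1) :
    (⟨_, hdet⟩ : SLn) ∈ Subgroup.closure
      ({g | ∃ c : K, g = el hij c} ∪ {g | ∃ c : K, g = el hij.symm c}) := by
  have h1 : ∀ c : K, (el hij c : SLn) ∈ Subgroup.closure
      ({g | ∃ c : K, g = el hij c} ∪ {g | ∃ c : K, g = el hij.symm c}) := fun c =>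
    Subgroup.subset_closure (Or.inl ⟨c, rfl⟩)
  have h2 : ∀ c : K, (el hij.symm c : SLn) ∈ Subgroup.closure
      ({g | ∃ c : K, g = el hij c} ∪ {g | ∃ c : K, g = el hij.symm c}) := fun c =>
    Subgroup.subset_closure (Or.inr ⟨c, rfl⟩)
  obtain ⟨D, hD⟩ : ∃ D : SLn,
      D.1 = diagonal (Function.update (Function.update (fun _ : Fin n => (1 : K)) i t) j t⁻¹) :=
    ⟨⟨_, hdet⟩, rfl⟩
  have hD' : (⟨_, hdet⟩ : SLn) = D := Subtype.ext hD.symm
  rw [hD']
  have e : D = el hij t * (el hij.symm (-t⁻¹) * (el hij t *
      (el hij (-1) * (el hij.symm 1 * (el hij (-1) * 1))))) := by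
    ext x y
    rw [hD, val_mul, val_mul, val_mul, val_mul, val_mul, val_mul, val_one]
    simp only [el_val, transvection_mul_apply]
    by_cases hxi : x = i <;> by_cases hxj : x = j
    · exact absurd (hxi.symm.trans hxj) hij
    all_goals by_cases hyi : y = i <;> by_cases hyj : y = j
    all_goals first
      | exact absurd (hyi.symm.trans hyj) hij
      | skip
    all_goals
      simp [hxi, hxj, hyi, hyj, hij, hij.symm, diagonal_apply, one_apply, Function.update_apply]
    all_goals
      first
        | done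
        | tauto
        | exact Or.inr trivial
        | exact Or.inr (by rw [inv_mul_cancel₀ ht, add_neg_cancel])
        | (split_ifs <;> subst_vars <;> simp_all; done)
        | (field_simp; done)
        | (field_simp; ring; done)
        | (split_ifs <;> subst_vars <;> simp_all <;> field_simp <;> ring; done)
  rw [e]
  exact mul_mem (h1 _) (mul_mem (h2 _) (mul_mem (h1 _) (mul_mem (h1 _) (mul_mem (h2 _)
    (mul_mem (h1 _) (one_mem _))))))

end CfsgLib.Fusion.UniTri
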