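import Cfsg.Agent.Lib.Fusion.Extender

/-!
# The fusion system of a finite group on a Sylow subgroup
-/

set_option autoImplicit false

open Cfsg Cfsg.FusionSystem
open scoped Pointwise

namespace CfsgLib.Fusion

section Generic

variable {G : Type*} [Group G] {p : ℕ} [Fact p.Prime]

theorem exists_sylow_subgroup_of (N : Subgroup G) [Finite G] :
    ∃ R : Subgroup G, R ≤ N ∧ IsPGroup p R ∧ ¬ p ∣ R.relIndex N := by
  obtain ⟨R⟩ : Nonempty (Sylow p N) := inferInstance
  refine ⟨(R : Subgroup N).map N.subtype, Subgroup.map_subtype_le _, R.2.map _, ?_⟩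
  rw [Subgroup.relIndex, Subgroup.subgroupOf, Subgroup.comap_map_eq_self_of_injective N.subtype_injective]
  exact R.not_dvd_index

omit [Fact p.Prime] in
theorem exists_sylow_iff [Finite G] [Fact p.Prime] {R N : Subgroup G} (hR : IsPGroup p R) :
    (∃ T : Sylow p N, (T : Subgroup N) = R.subgroupOf N) ↔ ¬ p ∣ R.relIndex N := by
  constructor
  · rintro ⟨T, hT⟩
    rw [Subgroup.relIndex, ← hT]
    exact T.not_dvd_index
  · exact fun h => ⟨hR.comap_subtype.toSylow h, IsPGroup.toSylow_coe _ _⟩

theorem map_conj_normalizer (g : G) (P : Subgroup G) :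
    conjSub g (Subgroup.normalizer (P : Set G)) = Subgroup.normalizer (conjSub g P : Set G) := by
  ext y
  rw [mem_conjSub, Subgroup.mem_normalizer_iff, Subgroup.mem_normalizer_iff]
  constructor
  · intro h x
    rw [mem_conjSub, mem_conjSub, h (g⁻¹ * x * g)]
    simp [mul_assoc]
  · intro h x
    have := h (g * x * g⁻¹)
    rw [mem_conjSub, mem_conjSub] at this
    simpa [mul_assoc] using this

theorem map_conj_centralizer (g : G) (P : Subgroup G) :
    conjSub g (Subgroup.centralizer (P : Set G)) = Subgroup.centralizer (conjSub g P : Set G) := by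
  ext y
  rw [mem_conjSub, Subgroup.mem_centralizer_iff, Subgroup.mem_centralizer_iff]
  constructor
  · intro h x hx
    have := congrArg (fun z => g * z * g⁻¹) (h _ (mem_conjSub.1 hx))
    simpa [mul_assoc] using this
  · intro h x hx
    have := congrArg (fun z => g⁻¹ * z * g) (h _ (conj_mem_conjSub (g := g) hx))
    simpa [mul_assoc] using this

theorem relIndex_conjSub (g : G) (H K : Subgroup G) :
    (conjSub g H).relIndex (conjSub g K) = H.relIndex K :=
  Subgroup.relIndex_map_map_of_injective H K (MulAut.conj g).injective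

theorem centralizer_le_normalizer' (P : Subgroup G) :
    Subgroup.centralizer (P : Set G) ≤ Subgroup.normalizer (P : Set G) := fun _ hx =>
  mem_normalizer_of_forall_commute (Subgroup.mem_centralizer_iff.1 hx)

theorem normalizer_le_normalizer_centralizer (P : Subgroup G) :
    Subgroup.normalizer (P : Set G) ≤
      Subgroup.normalizer (Subgroup.centralizer (P : Set G) : Set G) := by
  intro g hg
  rw [← conjSub_eq_iff_mem_normalizer] at hg ⊢
  rw [map_conj_centralizer, hg]

/-- A Sylow subgroup meets a normal subgroup in a Sylow subgroup. -/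
theorem not_dvd_relIndex_inf [Finite G] {T C N : Subgroup G} (hT : IsPGroup p T) (hTN : T ≤ N)
    (hi : ¬ p ∣ T.relIndex N) (hCN : C ≤ N) (hN : N ≤ Subgroup.normalizer (C : Set G)) :
    ¬ p ∣ (T ⊓ C).relIndex C := by
  obtain ⟨R, hRC, hR, hRi⟩ := exists_sylow_subgroup_of (p := p) C
  obtain ⟨n, hn, hconj⟩ := exists_conj_mem_of_le hR hT (hRC.trans hCN) hTN hi
  have hle : conjSub n R ≤ T ⊓ C := by
    intro y hy
    obtain ⟨x, hx, rfl⟩ := hy
    exact ⟨hconj x hx, conj_mem_of_mem_normalizer (hN hn) (hRC hx)⟩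
  intro h
  refine hRi ?_
  rw [← relIndex_conjSub n R C, conjSub_eq_iff_mem_normalizer.2 (hN hn)]
  exact h.trans (Subgroup.relIndex_dvd_of_le_left _ hle)

end Generic

variable {G : Type*} [Group G]

theorem isConj_groupFusion_iff {S P Q : Subgroup G} :
    (groupFusionSystem S).IsConj P Q ↔ P ≤ S ∧ Q ≤ S ∧ ∃ g : G, conjSub g P = Q := by
  constructor
  · intro h
    refine ⟨le_left_of_isConj h, le_right_of_isConj h, ?_⟩
    obtain ⟨φ, ⟨-, -, g, hg⟩, rfl⟩ := h
    refine ⟨g, ?_⟩
    rw [← range_conjHom]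
    exact congrArg MonoidHom.range (MonoidHom.ext fun x => (hg x).symm)
  · rintro ⟨hP, hQ, g, rfl⟩
    exact ⟨conjHom P g, ⟨hP, fun x => hQ (conj_mem_conjSub x.2), g, fun x => rfl⟩,
      range_conjHom P g⟩

theorem autGroup_groupFusion {S P : Subgroup G} (hP : P ≤ S) :
    (groupFusionSystem S).autGroup P = autInducedBy ⊤ P := by
  ext α
  rw [mem_autGroup_iff _ hP, mem_autInducedBy_iff]
  constructor
  · rintro ⟨-, -, g, hg⟩
    exact ⟨g, trivial, hg⟩
  · rintro ⟨g, -, hg⟩
    exact ⟨hP, fun x => hP (α x).2, g, hg⟩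

section Sylow

variable [Finite G] {p : ℕ} [Fact p.Prime] (S : Sylow p G)

theorem isPGroup_of_le_sylow {P : Subgroup G} (h : P ≤ S) : IsPGroup p P := S.2.to_le h

/-- Every subgroup of `S` has a conjugate in `S` whose normalizer and centralizer in `S` are
Sylow subgroups of its normalizer and centralizer. -/
theorem exists_conjSub_good {P : Subgroup G} (hP : P ≤ S) :
    ∃ g : G, conjSub g P ≤ S ∧
      ¬ p ∣ (normalizerIn (S : Subgroup G) (conjSub g P)).relIndex
        (Subgroup.normalizer (conjSub g P : Set G)) ∧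
      ¬ p ∣ (centralizerIn (S : Subgroup G) (conjSub g P)).relIndex
        (Subgroup.centralizer (conjSub g P : Set G)) := by
  obtain ⟨R, hRN, hR, hRi⟩ := exists_sylow_subgroup_of (p := p) (Subgroup.normalizer (P : Set G))
  have hPR : P ≤ R := by
    have h1 : IsPGroup p (P ⊔ R : Subgroup G) :=
      (isPGroup_of_le_sylow S hP).to_sup_of_normal_left' hR hRN
    have h2 := eq_of_le_of_not_dvd h1 le_sup_right (sup_le Subgroup.le_normalizer hRN) hRi
    exact h2 ▸ le_sup_left
  obtain ⟨g, hg⟩ := exists_conj_mem hR S.2 S.not_dvd_index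
  have hgR : conjSub g R ≤ S := by
    rintro _ ⟨x, hx, rfl⟩
    exact hg x hx
  refine ⟨g, (conjSub_mono g hPR).trans hgR, fun h => hRi ?_, fun h => ?_⟩
  · rw [← relIndex_conjSub g, map_conj_normalizer]
    refine h.trans (Subgroup.relIndex_dvd_of_le_left _ (le_inf hgR ?_))
    rw [← map_conj_normalizer]
    exact conjSub_mono g hRN
  · refine not_dvd_relIndex_inf hR hRN hRi (centralizer_le_normalizer' P)
      (normalizer_le_normalizer_centralizer P) ?_
    rw [← relIndex_conjSub g, map_conj_centralizer]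
    refine h.trans (Subgroup.relIndex_dvd_of_le_left _ (le_inf ?_ ?_))
    · exact (conjSub_mono g inf_le_left).trans hgR
    · rw [← map_conj_centralizer]
      exact conjSub_mono g inf_le_right

theorem card_le_of_conj {T U N N' : Subgroup G} {g : G} (hT : IsPGroup p T) (hU : IsPGroup p U)
    (hTN : T ≤ N) (hU' : U ≤ N') (hg : conjSub g N' = N) (hi : ¬ p ∣ T.relIndex N) :
    Nat.card U ≤ Nat.card T := by
  obtain ⟨n, -, hn⟩ := exists_conj_mem_of_le (U := conjSub g U)
    (hU.map (MulAut.conj g).toMonoidHom) hT ((conjSub_mono g hU').trans hg.le) hTN hi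
  rw [← card_conjSub g U, ← card_conjSub n (conjSub g U)]
  refine Subgroup.card_le_of_le ?_
  rintro _ ⟨x, hx, rfl⟩
  exact hn x hx

theorem relIndex_eq_of_card_eq {T U N M : Subgroup G} (hT : T ≤ N) (hU : U ≤ M)
    (hc : Nat.card U = Nat.card T) (hc' : Nat.card M = Nat.card N) :
    U.relIndex M = T.relIndex N := by
  have h1 := (U.subgroupOf M).card_mul_index
  have h2 := (T.subgroupOf N).card_mul_index
  rw [Nat.card_congr (Subgroup.subgroupOfEquivOfLe hU).toEquiv] at h1
  rw [Nat.card_congr (Subgroup.subgroupOfEquivOfLe hT).toEquiv, ← hc, ← hc'] at h2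
  exact Nat.eq_of_mul_eq_mul_left Nat.card_pos (h1.trans h2.symm)

theorem isFullyNormalized_groupFusion_iff {P : Subgroup G} (hP : P ≤ S) :
    (groupFusionSystem (S : Subgroup G)).IsFullyNormalized P ↔
      ¬ p ∣ (normalizerIn (S : Subgroup G) P).relIndex (Subgroup.normalizer (P : Set G)) := by
  have hpn : ∀ Q : Subgroup G, IsPGroup p (normalizerIn (S : Subgroup G) Q) :=
    fun Q => isPGroup_of_le_sylow S (normalizerIn_le Q)
  constructor
  · rintro ⟨-, hmax⟩
    obtain ⟨g, hgS, hgi, -⟩ := exists_conjSub_good S hP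
    have hc : Nat.card (normalizerIn (S : Subgroup G) P) =
        Nat.card (normalizerIn (S : Subgroup G) (conjSub g P)) :=
      le_antisymm
        (card_le_of_conj (hpn _) (hpn _) inf_le_right inf_le_right (map_conj_normalizer g P) hgi)
        (hmax _ (isConj_groupFusion_iff.2 ⟨hP, hgS, g, rfl⟩))
    rwa [relIndex_eq_of_card_eq (U := normalizerIn (S : Subgroup G) P)
      (T := normalizerIn (S : Subgroup G) (conjSub g P))
      (N := Subgroup.normalizer (conjSub g P : Set G)) inf_le_right inf_le_right hc]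
    rw [← map_conj_normalizer, card_conjSub]
  · intro hi
    refine ⟨hP, fun Q hQ => ?_⟩
    obtain ⟨-, -, g, rfl⟩ := isConj_groupFusion_iff.1 hQ
    refine card_le_of_conj (g := g⁻¹) (hpn _) (hpn _) inf_le_right inf_le_right ?_ hi
    rw [← map_conj_normalizer, conjSub_conjSub, inv_mul_cancel, conjSub_one]

theorem isFullyCentralized_groupFusion_iff {P : Subgroup G} (hP : P ≤ S) :
    (groupFusionSystem (S : Subgroup G)).IsFullyCentralized P ↔
      ¬ p ∣ (centralizerIn (S : Subgroup G) P).relIndex (Subgroup.centralizer (P : Set G)) := by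
  have hpn : ∀ Q : Subgroup G, IsPGroup p (centralizerIn (S : Subgroup G) Q) :=
    fun Q => isPGroup_of_le_sylow S (centralizerIn_le Q)
  constructor
  · rintro ⟨-, hmax⟩
    obtain ⟨g, hgS, -, hgi⟩ := exists_conjSub_good S hP
    have hc : Nat.card (centralizerIn (S : Subgroup G) P) =
        Nat.card (centralizerIn (S : Subgroup G) (conjSub g P)) :=
      le_antisymm
        (card_le_of_conj (hpn _) (hpn _) inf_le_right inf_le_right (map_conj_centralizer g P) hgi)
        (hmax _ (isConj_groupFusion_iff.2 ⟨hP, hgS, g, rfl⟩))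
    rwa [relIndex_eq_of_card_eq (U := centralizerIn (S : Subgroup G) P)
      (T := centralizerIn (S : Subgroup G) (conjSub g P))
      (N := Subgroup.centralizer (conjSub g P : Set G)) inf_le_right inf_le_right hc]
    rw [← map_conj_centralizer, card_conjSub]
  · intro hi
    refine ⟨hP, fun Q hQ => ?_⟩
    obtain ⟨-, -, g, rfl⟩ := isConj_groupFusion_iff.1 hQ
    refine card_le_of_conj (g := g⁻¹) (hpn _) (hpn _) inf_le_right inf_le_right ?_ hi
    rw [← map_conj_centralizer, conjSub_conjSub, inv_mul_cancel, conjSub_one]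

/-- The lifting step: an element `g` carrying `P` to `Q` can be corrected by an element of
`C_G(Q)` so as to carry the relevant part of `N_S(P)` into `S`. -/
theorem exists_centralizer_conj_le {Q M : Subgroup G}
    (hQ : ¬ p ∣ (normalizerIn (S : Subgroup G) Q).relIndex (Subgroup.normalizer (Q : Set G)))
    (hM : IsPGroup p M)
    (hMK : M ≤ normalizerIn (S : Subgroup G) Q ⊔ Subgroup.centralizer (Q : Set G)) :
    ∃ c ∈ Subgroup.centralizer (Q : Set G), conjSub c M ≤ normalizerIn (S : Subgroup G) Q := by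
  set T := normalizerIn (S : Subgroup G) Q with hT
  have hK : T ⊔ Subgroup.centralizer (Q : Set G) ≤ Subgroup.normalizer (Q : Set G) :=
    sup_le inf_le_right (centralizer_le_normalizer' Q)
  have hTK : ¬ p ∣ T.relIndex (T ⊔ Subgroup.centralizer (Q : Set G)) := fun h => hQ <| by
    rw [← Subgroup.relIndex_mul_relIndex T _ _ le_sup_left hK]
    exact dvd_mul_of_dvd_left h _
  obtain ⟨y, hy, hyM⟩ := exists_conj_mem_of_le hM
    (isPGroup_of_le_sylow S (normalizerIn_le Q)) hMK le_sup_left hTK
  have hy' : y ∈ ((T : Set G) * (Subgroup.centralizer (Q : Set G) : Set G)) := by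
    rw [← Subgroup.coe_mul_of_left_le_normalizer_right T _
      (inf_le_right.trans (normalizer_le_normalizer_centralizer Q))]
    exact hy
  obtain ⟨k, hk, c, hc, rfl⟩ := hy'
  refine ⟨c, hc, ?_⟩
  rintro _ ⟨x, hx, rfl⟩
  have := T.mul_mem (T.mul_mem (T.inv_mem hk) (hyM x hx)) hk
  simpa [mul_assoc] using this

theorem isReceptive_groupFusion {Q : Subgroup G} (hQS : Q ≤ S)
    (hQ : ¬ p ∣ (normalizerIn (S : Subgroup G) Q).relIndex (Subgroup.normalizer (Q : Set G))) :
    (groupFusionSystem (S : Subgroup G)).IsReceptive Q := by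
  refine ⟨hQS, fun P φ hφ hPQ => ?_⟩
  obtain ⟨hP, -, g, hg⟩ := hφ
  have hgP : conjSub g P = Q := by
    rw [← hPQ, ← range_conjHom]
    exact congrArg MonoidHom.range (MonoidHom.ext fun x => (hg x).symm)
  set N := extender (S : Subgroup G) P φ with hN
  have hM : conjSub g N ≤
      normalizerIn (S : Subgroup G) Q ⊔ Subgroup.centralizer (Q : Set G) := by
    rintro _ ⟨n, hn, rfl⟩
    obtain ⟨-, hnn, k, hk, hke⟩ := mem_extender_iff.1 hn
    have h1 : ∀ x ∈ P, g * (n * x * n⁻¹) * g⁻¹ = k * (g * x * g⁻¹) * k⁻¹ := by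
      intro x hx
      have := hke ⟨x, hx⟩
      rwa [hg, hg] at this
    have hkn : k ∈ Subgroup.normalizer (Q : Set G) := by
      refine mem_normalizer_of_forall fun y hy => ?_
      rw [← hgP] at hy ⊢
      obtain ⟨x, hx, rfl⟩ := hy
      exact ⟨n * x * n⁻¹, conj_mem_of_mem_normalizer hnn hx, h1 x hx⟩
    have hc : k⁻¹ * (g * n * g⁻¹) ∈ Subgroup.centralizer (Q : Set G) := by
      refine Subgroup.mem_centralizer_iff.2 fun y hy => ?_
      rw [← hgP] at hy
      obtain ⟨x, hx, rfl⟩ := hy
      have h2 : g * (n * x * n⁻¹) * g⁻¹ = k * (g * x * g⁻¹) * k⁻¹ := h1 x hx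
      change g * x * g⁻¹ * (k⁻¹ * (g * n * g⁻¹)) = k⁻¹ * (g * n * g⁻¹) * (g * x * g⁻¹)
      calc g * x * g⁻¹ * (k⁻¹ * (g * n * g⁻¹))
          = k⁻¹ * (k * (g * x * g⁻¹) * k⁻¹) * (g * n * g⁻¹) := by group
        _ = k⁻¹ * (g * (n * x * n⁻¹) * g⁻¹) * (g * n * g⁻¹) := by rw [h2]
        _ = _ := by group
    have h2 := Subgroup.mul_mem_sup (S := normalizerIn (S : Subgroup G) Q) ⟨hk, hkn⟩ hc
    simpa using h2
  obtain ⟨c, hc, hcM⟩ := exists_centralizer_conj_le S hQ
    (((isPGroup_of_le_sylow S ((extender_le_normalizerIn P φ).trans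
      (normalizerIn_le P)))).map _) hM
  refine ⟨conjHom N (c * g), ⟨(extender_le_normalizerIn P φ).trans (normalizerIn_le P),
    fun x => ?_, c * g, fun x => rfl⟩, fun x hxP hxN => ?_⟩
  · rw [conjHom_apply]
    exact (normalizerIn_le Q : _ ≤ (S : Subgroup G))
      (hcM ⟨g * x * g⁻¹, ⟨x, x.2, rfl⟩, by simp [mul_assoc]⟩)
  · rw [conjHom_apply, hg]
    have hy : g * x * g⁻¹ ∈ Q := hgP ▸ conj_mem_conjSub hxP
    have h2 := Subgroup.mem_centralizer_iff.1 hc _ hy
    calc c * g * x * (c * g)⁻¹ = c * (g * x * g⁻¹) * c⁻¹ := by group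
      _ = g * x * g⁻¹ * c * c⁻¹ := by rw [h2]
      _ = g * x * g⁻¹ := by group

theorem isFullyAutomized_groupFusion {Q : Subgroup G} (hQS : Q ≤ S)
    (hQ : ¬ p ∣ (normalizerIn (S : Subgroup G) Q).relIndex (Subgroup.normalizer (Q : Set G))) :
    (groupFusionSystem (S : Subgroup G)).IsFullyAutomized p Q := by
  refine (isFullyAutomized_iff S.2).2 ⟨hQS, ?_⟩
  rw [autGroup_groupFusion hQS, autInducedBy_eq_map, autInducedBy_eq_map]
  refine not_dvd_relIndex_map _ ?_ ?_
  · exact fun x _ => Subgroup.mem_subgroupOf.2 trivial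
  · rw [Subgroup.top_subgroupOf, Subgroup.relIndex_top_right]
    convert hQ using 2
    rw [Subgroup.relIndex]
    congr 1
    ext x
    simp [normalizerIn, Subgroup.mem_subgroupOf]

theorem isSaturated_groupFusion : (groupFusionSystem (S : Subgroup G)).IsSaturated p := by
  intro P hP
  obtain ⟨g, hg, hN, -⟩ := exists_conjSub_good S hP
  exact ⟨_, isConj_groupFusion_iff.2 ⟨hP, hg, g, rfl⟩, isFullyAutomized_groupFusion S hg hN,
    isReceptive_groupFusion S hg hN⟩

end Sylow

end CfsgLib.Fusion
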