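import Cfsg.Agent.Lib.Fusion.Invariant
import Cfsg.Agent.Lib.Fusion.GroupSystem
import Cfsg.Agent.Lib.Solvable.Nilpotent

/-!
# Tools for proving simplicity of fusion systems of groups from local subgroups
-/

set_option autoImplicit false

open Cfsg Cfsg.FusionSystem

namespace CfsgLib.Fusion

variable {G : Type*} [Group G] [Finite G] {p : ℕ} [Fact p.Prime]

theorem exists_central_mem_of_stronglyClosed (S : Sylow p G) {T : Subgroup G}
    (hT : (groupFusionSystem (S : Subgroup G)).StronglyClosed T) (hT1 : T ≠ ⊥) :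
    ∃ c ∈ T, c ≠ 1 ∧ ∀ s ∈ (S : Subgroup G), s * c = c * s := by
  have : Group.IsNilpotent (S : Subgroup G) := S.2.isNilpotent
  have : (T.subgroupOf (S : Subgroup G)).Normal := by
    refine ⟨fun t ht s => ?_⟩
    have := hT.2 T le_rfl _ ((groupFusionSystem (S : Subgroup G)).conj_mem hT.1 s.2) ⟨_, ht⟩
    simpa [Subgroup.mem_subgroupOf] using this
  have hne := CfsgLib.Solvable.inf_center_ne_bot_of_isNilpotent
    (N := T.subgroupOf (S : Subgroup G)) (fun h => hT1 (by
      rwa [Subgroup.subgroupOf_eq_bot, disjoint_iff, inf_eq_left.2 hT.1] at h))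
  obtain ⟨c, hcm, hc1⟩ := (Subgroup.bot_or_exists_ne_one _).resolve_left hne
  exact ⟨c, hcm.1, fun h => hc1 (Subtype.ext h),
    fun s hs => congrArg Subtype.val (Subgroup.mem_center_iff.1 hcm.2 ⟨s, hs⟩)⟩

theorem conj_mem_of_stronglyClosed {S : Subgroup G} {T : Subgroup G}
    (hT : (groupFusionSystem S).StronglyClosed T) {a : G} (ha : a ∈ T) (g : G)
    (hg : g * a * g⁻¹ ∈ S) : g * a * g⁻¹ ∈ T := by
  have haS : a ∈ S := hT.1 ha
  let φ : Subgroup.zpowers a →* G := (MulAut.conj g).toMonoidHom.comp (Subgroup.zpowers a).subtype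
  have hφ : φ ∈ (groupFusionSystem S).Hom (Subgroup.zpowers a) := by
    refine ⟨Subgroup.zpowers_le.2 haS, ?_, g, fun x => rfl⟩
    rintro ⟨_, n, rfl⟩
    change g * a ^ n * g⁻¹ ∈ S
    rw [← conj_zpow]
    exact S.zpow_mem hg n
  exact hT.2 _ (Subgroup.zpowers_le.2 ha) φ hφ ⟨a, Subgroup.mem_zpowers a⟩

/-- An element of the normaliser of `S` generated by `p`-elements normalising a centric normal
subgroup of `S` induces an automorphism of `S` in every invariant subsystem on `S`. -/
theorem normAut_mem_of_local (S : Sylow p G) {E : FusionSystem (S : Subgroup G)}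
    (hEs : E.IsSaturated p) (hinv : E.IsInvariantIn (groupFusionSystem (S : Subgroup G)))
    {R : Subgroup G} (hRS : R ≤ (S : Subgroup G))
    (hRn : (S : Subgroup G) ≤ Subgroup.normalizer (R : Set G))
    (hRc : (groupFusionSystem (S : Subgroup G)).IsCentric R) {g : G}
    (hg : g ∈ Subgroup.normalizer ((S : Subgroup G) : Set G))
    (hgR : g ∈ Subgroup.closure
      {h : G | h ∈ Subgroup.normalizer (R : Set G) ∧ ∃ k : ℕ, orderOf h = p ^ k}) :
    normAut g hg ∈ E.autGroup (S : Subgroup G) := by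
  have hS := S.2
  have hE := hinv.1
  have hcc := conjClosed_of_isInvariantIn hinv
  have hfn : (groupFusionSystem (S : Subgroup G)).IsFullyNormalized R := by
    refine ⟨hRS, fun Q hQ => ?_⟩
    rw [show normalizerIn (S : Subgroup G) R = (S : Subgroup G) from
      le_antisymm (normalizerIn_le R) (le_inf le_rfl hRn)]
    exact Subgroup.card_le_of_le (normalizerIn_le Q)
  have ha' := (fullyAutomized_receptive_of_fullyNormalized hS (isSaturated_groupFusion S) hfn).1
  let K : Subgroup (Subgroup.normalizer (R : Set G)) :=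
    (E.autGroup R).comap R.normalizerMonoidHom
  have hK : Subgroup.closure {h : G | h ∈ Subgroup.normalizer (R : Set G) ∧
      ∃ k : ℕ, orderOf h = p ^ k} ≤ K.map (Subgroup.normalizer (R : Set G)).subtype := by
    rw [Subgroup.closure_le]
    rintro h ⟨hhN, k, hk⟩
    refine ⟨⟨h, hhN⟩, ?_, rfl⟩
    refine mem_autGroup_of_pow_eq_one hS hE hcc ha' ?_ (k := k) ?_
    · rw [autGroup_groupFusion hRS]
      exact mem_autInducedBy_iff.2 ⟨h, trivial, fun x => rfl⟩
    · rw [← map_pow, show (⟨h, hhN⟩ : Subgroup.normalizer (R : Set G)) ^ p ^ k = 1 from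
        Subtype.ext (by simp [← hk, pow_orderOf_eq_one]), map_one]
  obtain ⟨⟨g', hgN⟩, hgE, rfl⟩ := hK hgR
  refine mem_autGroup_of_restrict hS (isSaturated_groupFusion S) hEs hE (R := R) ?_ hRc ?_ ?_
  · rw [autGroup_groupFusion le_rfl]
    exact mem_autInducedBy_iff.2 ⟨g', trivial, fun x => rfl⟩
  · exact fun x => Subgroup.mem_normalizer_iff.1 hgN x
  · exact mem_of_eq rfl ((mem_autGroup_iff E hRS).1 hgE) fun x => rfl

/-- Simplicity from generation of the normaliser of `S`. -/
theorem isSimple_groupFusion_of_normalizer (S : Sylow p G) (hS1 : (S : Subgroup G) ≠ ⊥)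
    (ha : ∀ T : Subgroup G, (groupFusionSystem (S : Subgroup G)).StronglyClosed T →
      T = ⊥ ∨ T = (S : Subgroup G))
    (hb : Subgroup.normalizer ((S : Subgroup G) : Set G) ≤ Subgroup.closure {g : G |
      g ∈ Subgroup.normalizer ((S : Subgroup G) : Set G) ∧ (g ∈ (S : Subgroup G) ∨
        ∃ R : Subgroup G, R ≤ (S : Subgroup G) ∧
          (S : Subgroup G) ≤ Subgroup.normalizer (R : Set G) ∧
          (groupFusionSystem (S : Subgroup G)).IsCentric R ∧
          g ∈ Subgroup.closure
            {h : G | h ∈ Subgroup.normalizer (R : Set G) ∧ ∃ k : ℕ, orderOf h = p ^ k})}) :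
    (groupFusionSystem (S : Subgroup G)).IsSimple p := by
  refine isSimple_of_criterion S.2 (isSaturated_groupFusion S) hS1 ha fun E hEs hinv => ?_
  rw [autGroup_groupFusion le_rfl]
  intro α hα
  obtain ⟨g, -, hgα⟩ := mem_autInducedBy_iff.1 hα
  have hg : g ∈ Subgroup.normalizer ((S : Subgroup G) : Set G) := mem_normalizer_of_aut hgα
  let K : Subgroup (Subgroup.normalizer ((S : Subgroup G) : Set G)) :=
    (E.autGroup (S : Subgroup G)).comap (S : Subgroup G).normalizerMonoidHom
  have hK : Subgroup.normalizer ((S : Subgroup G) : Set G) ≤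
      K.map (Subgroup.normalizer ((S : Subgroup G) : Set G)).subtype := by
    refine hb.trans ((Subgroup.closure_le _).2 ?_)
    rintro x ⟨hx, hxS | ⟨R, hRS, hRn, hRc, hxR⟩⟩
    · refine ⟨⟨x, hx⟩, ?_, rfl⟩
      exact inn_le_autGroup le_rfl (by
        rw [inn_eq]
        exact mem_autInducedBy_iff.2 ⟨x, hxS, fun _ => rfl⟩)
    · exact ⟨⟨x, hx⟩, normAut_mem_of_local S hEs hinv hRS hRn hRc hx hxR, rfl⟩
  obtain ⟨⟨g', hg'⟩, hgE, rfl⟩ := hK hg
  have : α = normAut g' hg' := MulEquiv.ext fun x => Subtype.ext (hgα x)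
  rw [this]
  exact hgE

end CfsgLib.Fusion
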