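import Cfsg.Agent.Lib.Fusion.UniTri
import Cfsg.Agent.Lib.Fusion.LocalCrit

/-!
# The defining characteristic fusion system of `PSL(n, K)`, `n ≥ 3`
-/

set_option autoImplicit false

open Cfsg Cfsg.FusionSystem Matrix

namespace CfsgLib.Fusion.UniTri

variable {K : Type*} [Field K] {n : ℕ}

/-- The special linear group. -/
local notation "SLn" => Matrix.SpecialLinearGroup (Fin n) K

theorem scalar_mem {μ : K} (h : μ ^ n = 1) :
    ∃ c : SLn, c ∈ Subgroup.center SLn ∧ c.1 = Matrix.scalar (Fin n) μ := by
  obtain ⟨c, hc⟩ : ∃ c : SLn, c.1 = Matrix.scalar (Fin n) μ := by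
    refine ⟨⟨_, ?_⟩, rfl⟩
    simp [Matrix.scalar_apply, h]
  exact ⟨c, Matrix.SpecialLinearGroup.mem_center_iff.2 ⟨μ, by simpa using h, hc.symm⟩, hc⟩

theorem val_pow (a : SLn) : ∀ k : ℕ, (a ^ k).1 = a.1 ^ k
  | 0 => by rw [pow_zero, pow_zero]; rfl
  | k + 1 => by rw [pow_succ, pow_succ, val_mul, val_pow a k]

theorem el_zero {i j : Fin n} (h : i ≠ j) : (el h (0 : K) : SLn) = 1 :=
  Matrix.SpecialLinearGroup.transvection_coeff_zero h

theorem el_mul {i j : Fin n} (h : i ≠ j) (c d : K) :
    (el h c : SLn) * el h d = el h (c + d) :=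
  Subtype.ext (transvection_mul_transvection_same _ _ h c d)

theorem el_pow_char {p : ℕ} [CharP K p] {i j : Fin n} (h : i ≠ j) (c : K) :
    (el h c : SLn) ^ p = 1 := by
  have : ∀ m : ℕ, (el h c : SLn) ^ m = el h (m * c) := by
    intro m
    induction m with
    | zero => rw [pow_zero, Nat.cast_zero, zero_mul, el_zero]
    | succ m ih => rw [pow_succ, ih, el_mul, Nat.cast_succ, add_mul, one_mul]
  rw [this, CharP.cast_eq_zero, zero_mul, el_zero]

variable {p : ℕ} [Fact p.Prime] [CharP K p]

theorem eq_one_of_pow_char {μ : K} {k : ℕ} (h : μ ^ p ^ k = 1) : μ = 1 := by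
  have h1 : (μ - 1) ^ p ^ k = 0 := by
    rw [sub_pow_char_pow_of_commute (p := p) (n := k) (Commute.one_right μ), h, one_pow, sub_self]
  exact sub_eq_zero.1 (eq_zero_of_pow_eq_zero h1)

theorem central_eq_one {z : SLn} (hz : z ∈ Subgroup.center SLn) {k : ℕ}
    (h : z ^ p ^ k = 1) : z = 1 := by
  obtain ⟨μ, -, hμ⟩ := Matrix.SpecialLinearGroup.mem_center_iff.1 hz
  rcases Nat.eq_zero_or_pos n with rfl | hn
  · exact Subtype.ext (Subsingleton.elim _ _)
  have h1 := congrArg (fun x : SLn => x.1 ⟨0, hn⟩ ⟨0, hn⟩) h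
  simp only [val_pow, ← hμ, Matrix.scalar_apply, diagonal_pow, Pi.pow_apply, val_one,
    diagonal_apply_eq, one_apply_eq] at h1
  have h2 := eq_one_of_pow_char h1
  apply Subtype.ext
  rw [← hμ, h2, map_one]
  exact val_one.symm

/-- An element commuting modulo the centre with an element of `p`-power order commutes with it. -/
theorem commute_of_mod_center {h r : SLn} (hr : r ^ p ^ n = 1)
    (hc : h * r * h⁻¹ * r⁻¹ ∈ Subgroup.center SLn) : h * r = r * h := by
  set z := h * r * h⁻¹ * r⁻¹ with hz
  have h1 : z * r = h * r * h⁻¹ := by rw [hz, inv_mul_cancel_right]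
  have h2 : (z * r) ^ p ^ n = 1 := by rw [h1, conj_pow, hr, mul_one, mul_inv_cancel]
  have hcomm : Commute z r := (Subgroup.mem_center_iff.1 hc r).symm
  rw [hcomm.mul_pow, hr, mul_one] at h2
  rw [central_eq_one hc h2, one_mul] at h1
  conv_rhs => rw [h1]
  group

theorem IsUni.pow_eq_one {u : SLn} (hu : IsUni u.1) : u ^ p ^ n = 1 :=
  Subtype.ext ((val_pow u _).trans (hu.pow_char (p := p)))

variable [Finite K]

/-- The upper triangular group modulo scalars, inside any central quotient of `SL`. -/
theorem triangular_of_normalizer (p : ℕ) [Fact p.Prime] [CharP K p] {G : Type*} [Group G] (π : SLn →* G)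
    (hker : π.ker = Subgroup.center SLn) {g : SLn}
    (hg : π g ∈ Subgroup.normalizer ((upper K n).map π : Set G)) :
    ∀ x y : Fin n, y < x → g.1 x y = 0 := by
  refine upper_triangular_of_conj fun v hv => ?_
  obtain ⟨u, hu, huv⟩ : (π g)⁻¹ * π v * (π g)⁻¹⁻¹ ∈ (upper K n).map π :=
    conj_mem_of_mem_normalizer (inv_mem hg) (Subgroup.mem_map_of_mem π hv)
  refine ⟨u, hu, ?_⟩
  have hu' : (u : SLn) ^ p ^ n = 1 := (mem_upper.1 hu).pow_eq_one
  have hz : g⁻¹ * v * g * u⁻¹ ∈ Subgroup.center SLn := by
    rw [← hker, MonoidHom.mem_ker]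
    simp only [map_mul, map_inv, huv]
    group
  have h2 : (g⁻¹ * v * g) ^ p ^ n = 1 := by
    have := conj_pow (i := p ^ n) (a := g⁻¹) (b := v)
    rw [inv_inv] at this
    rw [this, (IsUni.pow_eq_one (p := p) hv), mul_one, inv_mul_cancel]
  have hcomm : Commute (g⁻¹ * v * g * u⁻¹) u := (Subgroup.mem_center_iff.1 hz u).symm
  have h3 := hcomm.mul_pow (p ^ n)
  rw [inv_mul_cancel_right, h2, hu', mul_one] at h3
  have h4 := central_eq_one hz h3.symm
  rw [mul_inv_eq_one] at h4
  rw [← h4]
  group

theorem exists_unipotent_mul {g : SLn} (hg : ∀ x y : Fin n, y < x → g.1 x y = 0) :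
    ∃ D : SLn, D.1 = diagonal (fun x => g.1 x x) ∧ ∃ u ∈ upper K n, g = D * u := by
  have hdet : ∏ x, g.1 x x = 1 := by
    rw [← Matrix.det_of_upperTriangular (M := g.1) fun x y h => hg x y h]
    exact g.2
  obtain ⟨D, hD⟩ : ∃ D : SLn, D.1 = diagonal (fun x => g.1 x x) :=
    ⟨⟨diagonal (fun x => g.1 x x), by rw [det_diagonal]; exact hdet⟩, rfl⟩
  refine ⟨D, hD, D⁻¹ * g, ?_, (mul_inv_cancel_left D g).symm⟩
  have hne : ∀ x, g.1 x x ≠ 0 := fun x hx =>
    zero_ne_one ((Finset.prod_eq_zero (f := fun x => g.1 x x) (Finset.mem_univ x) hx).symm.trans hdet)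
  have h1 : ∀ x y, g.1 x y = g.1 x x * (D⁻¹ * g).1 x y := by
    intro x y
    conv_lhs => rw [← mul_inv_cancel_left D g, val_mul, hD, diagonal_mul]
  refine mem_upper.2 ⟨fun x y h => ?_, fun x => ?_⟩
  · have h2 := h1 x y
    rw [hg x y h] at h2
    exact (mul_eq_zero.1 h2.symm).resolve_left (hne x)
  · exact (mul_eq_left₀ (hne x)).1 (h1 x x).symm

/-- The kernel of an adjacent root coordinate. -/
def radical (i j : Fin n) (hij : i.val + 1 = j.val) : Subgroup SLn where
  carrier := {g | g ∈ upper K n ∧ g.1 i j = 0}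
  one_mem' := ⟨one_mem _, by rw [val_one, one_apply_ne]; intro h; rw [h] at hij; omega⟩
  mul_mem' := fun {a b} ha hb => ⟨mul_mem ha.1 hb.1, by
    rw [val_mul, Matrix.mul_apply, Finset.sum_eq_add i j (by intro h; rw [h] at hij; omega)]
    · rw [(mem_upper.1 ha.1).2, hb.2, ha.2, mul_zero, zero_mul, add_zero]
    · intro z _ ⟨hzi, hzj⟩
      rcases lt_or_ge z i with h | h
      · rw [(mem_upper.1 ha.1).1 i z h, zero_mul]
      · have : i.val ≠ z.val := fun h => hzi (Fin.ext h.symm)
        have : j.val ≠ z.val := fun h => hzj (Fin.ext h.symm)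
        have h' := Fin.le_def.1 h
        rw [(mem_upper.1 hb.1).1 z j (Fin.lt_def.2 (by omega)), mul_zero]
    · simp
    · simp⟩
  inv_mem' := fun {a} ha => ⟨inv_mem ha.1, by
    have h1 : (a * a⁻¹).1 i j = 0 := by
      rw [mul_inv_cancel, val_one, one_apply_ne]; intro h; rw [h] at hij; omega
    have hb := mem_upper.1 (inv_mem ha.1)
    rw [val_mul, Matrix.mul_apply, Finset.sum_eq_add i j (by intro h; rw [h] at hij; omega)] at h1
    · rw [(mem_upper.1 ha.1).2, ha.2, zero_mul, add_zero, one_mul] at h1
      exact h1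
    · intro z _ ⟨hzi, hzj⟩
      rcases lt_or_ge z i with h | h
      · rw [(mem_upper.1 ha.1).1 i z h, zero_mul]
      · have : i.val ≠ z.val := fun h => hzi (Fin.ext h.symm)
        have : j.val ≠ z.val := fun h => hzj (Fin.ext h.symm)
        have h' := Fin.le_def.1 h
        rw [hb.1 z j (Fin.lt_def.2 (by omega)), mul_zero]
    · simp
    · simp⟩

theorem radical_le {i j : Fin n} (hij : i.val + 1 = j.val) :
    (radical i j hij : Subgroup SLn) ≤ upper K n := fun _ h => h.1

theorem upper_le_normalizer {i j : Fin n} (hij : i.val + 1 = j.val) :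
    upper K n ≤ Subgroup.normalizer ((radical i j hij : Subgroup SLn) : Set SLn) := by
  intro u hu
  refine mem_normalizer_of_forall fun r hr => ⟨mul_mem (mul_mem hu hr.1) (inv_mem hu), ?_⟩
  -- the coordinate is additive
  have hadd : ∀ a b : SLn, a ∈ upper K n → b ∈ upper K n →
      (a * b).1 i j = a.1 i j + b.1 i j := by
    intro a b ha hb
    rw [val_mul, Matrix.mul_apply, Finset.sum_eq_add i j (by intro h; rw [h] at hij; omega)]
    · rw [(mem_upper.1 ha).2, (mem_upper.1 hb).2, one_mul, mul_one, add_comm]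
    · intro z _ ⟨hzi, hzj⟩
      rcases lt_or_ge z i with h | h
      · rw [(mem_upper.1 ha).1 i z h, zero_mul]
      · have : i.val ≠ z.val := fun h => hzi (Fin.ext h.symm)
        have : j.val ≠ z.val := fun h => hzj (Fin.ext h.symm)
        have h' := Fin.le_def.1 h
        rw [(mem_upper.1 hb).1 z j (Fin.lt_def.2 (by omega)), mul_zero]
    · simp
    · simp
  have h1 : (u * u⁻¹).1 i j = 0 := by
    rw [mul_inv_cancel, val_one, one_apply_ne]; intro h; rw [h] at hij; omega
  rw [hadd u u⁻¹ hu (inv_mem hu)] at h1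
  rw [hadd (u * r) u⁻¹ (mul_mem hu hr.1) (inv_mem hu), hadd u r hu hr.1, hr.2, add_zero]
  exact h1

theorem el_mem_normalizer {i j : Fin n} (hij : i.val + 1 = j.val) (hne : j ≠ i) (c : K) :
    (el hne c : SLn) ∈ Subgroup.normalizer ((radical i j hij : Subgroup SLn) : Set SLn) := by
  have : Finite SLn := inferInstance
  refine mem_normalizer_of_forall fun r hr => ?_
  have hinv : (el hne c : SLn)⁻¹ = el hne (-c) :=
    inv_eq_of_mul_eq_one_right (by
      rw [el_mul, add_neg_cancel, el_zero])
  obtain ⟨hr1, hr2⟩ := hr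
  obtain ⟨hlow, hdiag⟩ := mem_upper.1 hr1
  have hne' : i ≠ j := hne.symm
  have key : ∀ x y, (el hne c * r * (el hne c)⁻¹).1 x y =
      (r.1 x y + if x = j then c * r.1 i y else 0) +
        if y = i then -c * (r.1 x j + if x = j then c * r.1 i j else 0) else 0 := by
    intro x y
    rw [hinv, val_mul, val_mul, el_val, el_val, mul_transvection_apply, transvection_mul_apply,
      transvection_mul_apply]
  refine ⟨mem_upper.2 ⟨fun x y hxy => ?_, fun x => ?_⟩, ?_⟩
  · rw [key, hlow x y hxy, hr2, mul_zero, zero_add]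
    simp only [ite_self, add_zero]
    by_cases hx : x = j
    · rw [if_pos hx]
      subst hx
      by_cases hy : y = i
      · rw [if_pos hy, hy, hdiag, hdiag]
        ring
      · rw [if_neg hy, add_zero]
        have : y.val ≠ i.val := fun h => hy (Fin.ext h)
        have := Fin.lt_def.1 hxy
        rw [hlow i y (Fin.lt_def.2 (by omega)), mul_zero]
    · rw [if_neg hx, zero_add]
      by_cases hy : y = i
      · rw [if_pos hy]
        subst hy
        have : x.val ≠ j.val := fun h => hx (Fin.ext h)
        have := Fin.lt_def.1 hxy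
        rw [hlow x j (Fin.lt_def.2 (by omega)), mul_zero]
      · rw [if_neg hy]
  · rw [key, hdiag, hr2, mul_zero]
    simp only [ite_self, add_zero]
    by_cases hx : x = i
    · rw [if_pos hx, hx, if_neg hne', hr2, mul_zero, add_zero, add_zero]
    · rw [if_neg hx]
      by_cases hx' : x = j
      · rw [if_pos hx', hx', hr2, mul_zero, add_zero, add_zero]
      · rw [if_neg hx', add_zero, add_zero]
  · rw [key, if_neg hne', if_neg hne, hr2, add_zero, add_zero]

section Simple

variable {G : Type*} [Group G] [Finite G] (π : Matrix.SpecialLinearGroup (Fin n) K →* G)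
  (hπ : Function.Surjective π)
  (hker : π.ker = Subgroup.center (Matrix.SpecialLinearGroup (Fin n) K))

include hπ hker

theorem commute_of_centralizes {h r : SLn} (hr : r ^ p ^ n = 1) (hc : π h * π r = π r * π h) :
    h * r = r * h := by
  refine commute_of_mod_center hr ?_
  rw [← hker, MonoidHom.mem_ker]
  simp only [map_mul, map_inv, hc]
  group

theorem isCentric_radical (p : ℕ) [Fact p.Prime] [CharP K p] (hn : 3 ≤ n) {S : Subgroup G} (hS : S = (upper K n).map π) {i j : Fin n}
    (hij : i.val + 1 = j.val) :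
    (groupFusionSystem S).IsCentric ((radical i j hij : Subgroup SLn).map π) := by
  set R := (radical i j hij : Subgroup SLn).map π with hR
  have hRS : R ≤ S := hS ▸ Subgroup.map_mono (radical_le hij)
  have hcent : ∀ x : G, (∀ r ∈ R, x * r = r * x) → x ∈ R := by
    intro x hx
    obtain ⟨h, rfl⟩ := hπ x
    have hcomm : ∀ k l : Fin n, ∀ hkl : k < l, ¬(k = i ∧ l = j) →
        h.1 * transvection k l 1 = transvection k l 1 * h.1 := by
      intro k l hkl hne
      have hu : (el hkl.ne 1 : SLn) ∈ upper K n := el_mem_upper hkl 1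
      have hmem : (el hkl.ne 1 : SLn) ∈ radical i j hij := by
        refine ⟨hu, ?_⟩
        rw [el_val, transvection, Matrix.add_apply,
          one_apply_ne (show i ≠ j by intro h; rw [h] at hij; omega),
          single_apply_of_ne _ _ _ _ _ hne, add_zero]
      exact congrArg Subtype.val (commute_of_centralizes π hπ hker (p := p)
        ((mem_upper.1 hu).pow_eq_one) (hx _ (Subgroup.mem_map_of_mem π hmem)))
    let o : Fin n := ⟨0, by omega⟩
    let L : Fin n := ⟨n - 1, by omega⟩
    have hoff : ∀ x y : Fin n, x ≠ y → h.1 x y ≠ 0 →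
        (x.val = 0 ∨ (x = j ∧ i.val = 0)) ∧ (y.val = n - 1 ∨ (y = i ∧ j.val = n - 1)) := by
      intro x y hxy hne
      constructor
      · by_contra hcon
        push Not at hcon
        have hx0 : (o : Fin n) < x := Fin.lt_def.2 (Nat.pos_of_ne_zero hcon.1)
        by_cases hex : o = i ∧ x = j
        · exact absurd (congrArg Fin.val hex.1).symm (fun h => hcon.2 hex.2 (by simpa [o] using h))
        · exact hne ((commute_el one_ne_zero (hcomm o x hx0 hex)).2.1 y hxy.symm)
      · by_contra hcon
        push Not at hcon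
        have hyL : y < L := Fin.lt_def.2 (by
          change y.val < n - 1
          have := y.isLt
          omega)
        by_cases hex : y = i ∧ L = j
        · exact absurd (congrArg Fin.val hex.2).symm (fun h => hcon.2 hex.1 (by simpa [L] using h))
        · exact hne ((commute_el one_ne_zero (hcomm y L hyL hex)).1 x hxy)
    have hd : ∀ x : Fin n, h.1 x x = h.1 o o := by
      intro x
      rcases eq_or_ne x o with rfl | hx
      · rfl
      have hx0 : o < x := Fin.lt_def.2 (Nat.pos_of_ne_zero fun h => hx (Fin.ext h))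
      by_cases hex : o = i ∧ x = j
      · have hi0 : i.val = 0 := (congrArg Fin.val hex.1).symm
        have hxv : x.val = 1 := by rw [hex.2]; omega
        have hxL : x < L := Fin.lt_def.2 (show x.val < n - 1 by omega)
        rw [(commute_el one_ne_zero (hcomm x L hxL (by
          rintro ⟨h1, -⟩; rw [h1] at hxv; omega))).2.2]
        have hoL : o < L := Fin.lt_def.2 (show 0 < n - 1 by omega)
        exact (commute_el one_ne_zero (hcomm o L hoL (by
          rintro ⟨-, h2⟩
          have h3 : n - 1 = j.val := congrArg Fin.val h2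
          omega))).2.2.symm
      · exact (commute_el one_ne_zero (hcomm o x hx0 hex)).2.2.symm
    set μ := h.1 o o with hμ
    have hup : ∀ x y : Fin n, y < x → h.1 x y = 0 := by
      intro x y hxy
      by_contra hne
      obtain ⟨h1, h2⟩ := hoff x y hxy.ne' hne
      have := Fin.lt_def.1 hxy
      rcases h1 with h1 | ⟨h1, h1'⟩
      · omega
      · subst h1
        rcases h2 with h2 | ⟨h2, h2'⟩
        · omega
        · subst h2; omega
    obtain ⟨D, hD, u, hu, hDu⟩ := exists_unipotent_mul hup
    have hμn : μ ^ n = 1 := by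
      have h1 := D.2
      rw [hD, det_diagonal, Finset.prod_congr rfl fun x _ => hd x, Finset.prod_const,
        Finset.card_univ, Fintype.card_fin] at h1
      exact h1
    obtain ⟨c, hc, hcv⟩ := scalar_mem (n := n) hμn
    have hDc : D = c := Subtype.ext (by
      rw [hD, hcv, Matrix.scalar_apply]
      exact congrArg diagonal (funext hd))
    refine ⟨u, ⟨hu, ?_⟩, ?_⟩
    · have hμ0 : μ ≠ 0 := fun h0 => by
        rw [h0, zero_pow (by omega)] at hμn; exact zero_ne_one hμn
      have h1 : h.1 i j = μ * u.1 i j := by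
        rw [hDu, val_mul, hD, diagonal_mul, hd]
      have h2 : h.1 i j = 0 := by
        by_contra hne
        obtain ⟨h3, h4⟩ := hoff i j (by intro h; rw [h] at hij; omega) hne
        rcases h3 with h3 | ⟨h3, -⟩
        · rcases h4 with h4 | ⟨h4, -⟩
          · omega
          · rw [h4] at hij; omega
        · rw [← h3] at hij; omega
      rw [h2] at h1
      exact (mul_eq_zero.1 h1.symm).resolve_left hμ0
    · rw [hDu, map_mul, hDc, MonoidHom.mem_ker.1 (hker.ge hc), one_mul]
  refine ⟨hRS, fun Q hQ y hy => ?_⟩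
  obtain ⟨-, -, g, rfl⟩ := isConj_groupFusion_iff.1 hQ
  have hx : g⁻¹ * y * g ∈ R := hcent _ fun r hr => by
    have := Subgroup.mem_centralizer_iff.1 hy.2 _ (conj_mem_conjSub (g := g) hr)
    have h1 := congrArg (fun z => g⁻¹ * z * g) this
    simp only [mul_assoc, inv_mul_cancel_left, inv_mul_cancel, mul_one] at h1
    simpa [mul_assoc] using h1.symm
  have := conj_mem_conjSub (g := g) hx
  rwa [show g * (g⁻¹ * y * g) * g⁻¹ = y by group] at this

theorem stronglyClosed_eq (hn : 3 ≤ n) (S : Sylow p G) (hS : (S : Subgroup G) = (upper K n).map π)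
    (T : Subgroup G) (hT : (groupFusionSystem (S : Subgroup G)).StronglyClosed T) :
    T = ⊥ ∨ T = (S : Subgroup G) := by
  by_cases hT1 : T = ⊥
  · exact Or.inl hT1
  refine Or.inr (le_antisymm hT.1 ?_)
  obtain ⟨c, hcT, hc1, hc⟩ := exists_central_mem_of_stronglyClosed S hT hT1
  obtain ⟨h, hh, rfl⟩ : c ∈ (upper K n).map π := hS ▸ hT.1 hcT
  let o : Fin n := ⟨0, by omega⟩
  let L : Fin n := ⟨n - 1, by omega⟩
  have hoL : o < L := Fin.lt_def.2 (show 0 < n - 1 by omega)
  have hcomm : ∀ k l : Fin n, ∀ hkl : k < l,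
      h.1 * transvection k l 1 = transvection k l 1 * h.1 := by
    intro k l hkl
    have hu : (el hkl.ne 1 : SLn) ∈ upper K n := el_mem_upper hkl 1
    exact congrArg Subtype.val (commute_of_centralizes π hπ hker (p := p)
      ((mem_upper.1 hu).pow_eq_one) (hc _ (hS.symm ▸ Subgroup.mem_map_of_mem π hu)).symm)
  have hel : h = el hoL.ne (h.1 o L) := by
    ext x y
    rw [el_val, transvection, Matrix.add_apply]
    rcases eq_or_ne x y with rfl | hxy
    · rw [(mem_upper.1 hh).2, one_apply_eq, single_apply_of_ne, add_zero]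
      rintro ⟨h1, h2⟩
      exact hoL.ne (h1.trans h2.symm)
    rw [one_apply_ne hxy, zero_add]
    by_cases hex : o = x ∧ L = y
    · rw [← hex.1, ← hex.2, single_apply_same]
    · rw [single_apply_of_ne _ _ _ _ _ hex]
      rcases ne_or_eq x o with hx | hx
      · exact (commute_el one_ne_zero
          (hcomm o x (Fin.lt_def.2 (Nat.pos_of_ne_zero fun h => hx (Fin.ext h))))).2.1 y hxy.symm
      · have hy : y ≠ L := fun h => hex ⟨hx.symm, h.symm⟩
        have hyL : y < L := Fin.lt_def.2 (by
          have h1 : y.val ≠ n - 1 := fun h => hy (Fin.ext h)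
          have := y.isLt
          change y.val < n - 1
          omega)
        exact (commute_el one_ne_zero (hcomm y L hyL)).1 x hxy
  have hne : h.1 o L ≠ 0 := by
    intro h0
    rw [h0, el_zero] at hel
    exact hc1 (by rw [hel, map_one])
  rw [hS]
  refine (Subgroup.map_mono upper_le_closure).trans ?_
  rw [MonoidHom.map_closure, Subgroup.closure_le]
  rintro _ ⟨_, ⟨k, l, hkl, a, rfl⟩, rfl⟩
  rcases eq_or_ne a 0 with rfl | ha
  · rw [el_zero, map_one]
    exact one_mem _
  obtain ⟨P, hP⟩ := exists_conj_el hoL.ne hkl.ne ⟨1, by omega⟩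
    (by intro h; exact absurd (congrArg Fin.val h) (show (1 : ℕ) ≠ 0 by omega))
    (by intro h; exact absurd (congrArg Fin.val h) (show (1 : ℕ) ≠ n - 1 by omega)) hne ha
  have hconj : π P * π h * (π P)⁻¹ = π (el hkl.ne a) := by
    rw [← map_mul, ← map_inv, ← map_mul]
    conv_lhs => rw [hel, hP, mul_inv_cancel_right]
  rw [← hconj]
  refine conj_mem_of_stronglyClosed hT hcT (π P) ?_
  rw [hconj, hS]
  exact Subgroup.mem_map_of_mem π (el_mem_upper hkl a)

/-- The torus inside the local subgroups. -/
theorem diag_mem (hn : 3 ≤ n) (S : Sylow p G) (hS : (S : Subgroup G) = (upper K n).map π)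
    (d : Fin n → K) (D : SLn) (hD : D.1 = diagonal d) :
    π D ∈ Subgroup.closure {g : G |
      g ∈ Subgroup.normalizer ((S : Subgroup G) : Set G) ∧ (g ∈ (S : Subgroup G) ∨
        ∃ R : Subgroup G, R ≤ (S : Subgroup G) ∧
          (S : Subgroup G) ≤ Subgroup.normalizer (R : Set G) ∧
          (groupFusionSystem (S : Subgroup G)).IsCentric R ∧
          g ∈ Subgroup.closure
            {h : G | h ∈ Subgroup.normalizer (R : Set G) ∧ ∃ k : ℕ, orderOf h = p ^ k})} := by
  suffices H : ∀ (m : ℕ) (d : Fin n → K) (D : SLn), D.1 = diagonal d → m < n →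
      (∀ x : Fin n, x.val + m + 1 < n → d x = 1) → π D ∈ Subgroup.closure {g : G |
      g ∈ Subgroup.normalizer ((S : Subgroup G) : Set G) ∧ (g ∈ (S : Subgroup G) ∨
        ∃ R : Subgroup G, R ≤ (S : Subgroup G) ∧
          (S : Subgroup G) ≤ Subgroup.normalizer (R : Set G) ∧
          (groupFusionSystem (S : Subgroup G)).IsCentric R ∧
          g ∈ Subgroup.closure
            {h : G | h ∈ Subgroup.normalizer (R : Set G) ∧ ∃ k : ℕ, orderOf h = p ^ k})} from
    H (n - 1) d D hD (by omega) fun x hx => by omega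
  intro m
  induction m with
  | zero =>
    intro d D hD hm h0
    let L : Fin n := ⟨n - 1, by omega⟩
    have hL : d L = 1 := by
      have h1 := D.2
      rw [hD, det_diagonal, Finset.prod_eq_single L] at h1
      · exact h1
      · intro x _ hx
        refine h0 x ?_
        have h2 : x.val ≠ n - 1 := fun h => hx (Fin.ext h)
        have := x.isLt
        omega
      · simp
    have hD1 : D = 1 := Subtype.ext (by
      rw [hD, val_one, ← diagonal_one]
      refine congrArg diagonal (funext fun x => ?_)
      rcases eq_or_ne x L with rfl | hx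
      · exact hL
      · refine h0 x ?_
        have h2 : x.val ≠ n - 1 := fun h => hx (Fin.ext h)
        have := x.isLt
        omega)
    rw [hD1, map_one]
    exact one_mem _
  | succ m ih =>
    intro d D hD hm h0
    let i : Fin n := ⟨n - m - 2, by omega⟩
    let j : Fin n := ⟨n - m - 1, by omega⟩
    have hij : i.val + 1 = j.val := show n - m - 2 + 1 = n - m - 1 by omega
    have hne : i ≠ j := fun h => by rw [h] at hij; omega
    have hdi : d i ≠ 0 := fun h => by
      have h1 := D.2
      rw [hD, det_diagonal, Finset.prod_eq_zero (Finset.mem_univ i) h] at h1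
      exact zero_ne_one h1
    set e : Fin n → K := Function.update (Function.update (fun _ => 1) i (d i)) j (d i)⁻¹ with he
    have hedet : (diagonal e).det = 1 := by
      rw [det_diagonal, he, Finset.prod_update_of_mem (Finset.mem_univ j),
        Finset.sdiff_singleton_eq_erase,
        Finset.prod_update_of_mem (Finset.mem_erase.2 ⟨hne, Finset.mem_univ i⟩)]
      rw [Finset.prod_eq_one (fun _ _ => rfl), mul_one, inv_mul_cancel₀ hdi]
    obtain ⟨E, hE⟩ : ∃ E : SLn, E.1 = diagonal e := ⟨⟨_, hedet⟩, rfl⟩
    have hEcl := diag_mem_closure (K := K) hne hdi hedet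
    rw [show (⟨_, hedet⟩ : SLn) = E from Subtype.ext hE.symm] at hEcl
    have hrest : π (E⁻¹ * D) ∈ Subgroup.closure {g : G |
      g ∈ Subgroup.normalizer ((S : Subgroup G) : Set G) ∧ (g ∈ (S : Subgroup G) ∨
        ∃ R : Subgroup G, R ≤ (S : Subgroup G) ∧
          (S : Subgroup G) ≤ Subgroup.normalizer (R : Set G) ∧
          (groupFusionSystem (S : Subgroup G)).IsCentric R ∧
          g ∈ Subgroup.closure
            {h : G | h ∈ Subgroup.normalizer (R : Set G) ∧ ∃ k : ℕ, orderOf h = p ^ k})} := by
      refine ih (fun x => (e x)⁻¹ * d x) _ ?_ (by omega) fun x hx => ?_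
      · have hene : ∀ x, e x ≠ 0 := fun x h => by
          have h1 := E.2
          rw [hE, det_diagonal, Finset.prod_eq_zero (Finset.mem_univ x) h] at h1
          exact zero_ne_one h1
        have h2 : D.1 = E.1 * diagonal (fun x => (e x)⁻¹ * d x) := by
          rw [hD, hE, diagonal_mul_diagonal]
          exact congrArg diagonal (funext fun x => (mul_inv_cancel_left₀ (hene x) (d x)).symm)
        rw [val_mul, h2, ← mul_assoc, ← val_mul, inv_mul_cancel, val_one, one_mul]
      · rcases eq_or_ne x i with rfl | hxi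
        · rw [he, Function.update_of_ne hne, Function.update_self, inv_mul_cancel₀ hdi]
        · have h1 : x.val ≠ n - m - 2 := fun h => hxi (Fin.ext h)
          have hxj : x ≠ j := fun h => by
            have : x.val = n - m - 1 := congrArg Fin.val h
            omega
          rw [he, Function.update_of_ne hxj, Function.update_of_ne hxi, h0 x (by omega), inv_one,
            mul_one]
    have hEmem : π E ∈ Subgroup.closure {g : G |
      g ∈ Subgroup.normalizer ((S : Subgroup G) : Set G) ∧ (g ∈ (S : Subgroup G) ∨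
        ∃ R : Subgroup G, R ≤ (S : Subgroup G) ∧
          (S : Subgroup G) ≤ Subgroup.normalizer (R : Set G) ∧
          (groupFusionSystem (S : Subgroup G)).IsCentric R ∧
          g ∈ Subgroup.closure
            {h : G | h ∈ Subgroup.normalizer (R : Set G) ∧ ∃ k : ℕ, orderOf h = p ^ k})} := by
      refine Subgroup.subset_closure ⟨?_, Or.inr ⟨(radical i j hij : Subgroup SLn).map π,
        hS ▸ Subgroup.map_mono (radical_le hij), ?_, isCentric_radical π hπ hker p hn hS hij,
        ?_⟩⟩
      · rw [hS]
        refine mem_normalizer_of_forall fun y hy => ?_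
        obtain ⟨v, hv, rfl⟩ := hy
        rw [← map_mul, ← map_inv, ← map_mul]
        refine Subgroup.mem_map_of_mem π ?_
        have hene : ∀ x, e x ≠ 0 := fun x h => by
          have h1 := E.2
          rw [hE, det_diagonal, Finset.prod_eq_zero (Finset.mem_univ x) h] at h1
          exact zero_ne_one h1
        have hEi : E⁻¹.1 = diagonal fun x => (e x)⁻¹ := by
          have h2 : E⁻¹.1 * E.1 = 1 := by rw [← val_mul, inv_mul_cancel, val_one]
          have h3 : E.1 * diagonal (fun x => (e x)⁻¹) = 1 := by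
            rw [hE, diagonal_mul_diagonal, ← diagonal_one]
            exact congrArg diagonal (funext fun x => mul_inv_cancel₀ (hene x))
          exact left_inv_eq_right_inv h2 h3
        refine mem_upper.2 ⟨fun x y h => ?_, fun x => ?_⟩
        · rw [val_mul, val_mul, hEi, hE, mul_diagonal, diagonal_mul, (mem_upper.1 hv).1 x y h,
            mul_zero, zero_mul]
        · rw [val_mul, val_mul, hEi, hE, mul_diagonal, diagonal_mul, (mem_upper.1 hv).2, mul_one,
            mul_inv_cancel₀ (hene x)]
      · rw [hS]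
        rintro _ ⟨u, hu, rfl⟩
        refine mem_normalizer_of_forall fun y hy => ?_
        obtain ⟨r, hr, rfl⟩ := hy
        rw [← map_mul, ← map_inv, ← map_mul]
        exact Subgroup.mem_map_of_mem π
          (conj_mem_of_mem_normalizer (upper_le_normalizer hij hu) hr)
      · have hsub := Subgroup.mem_map_of_mem π hEcl
        rw [MonoidHom.map_closure] at hsub
        refine Subgroup.closure_mono ?_ hsub
        have hord : ∀ (a b : Fin n) (hab : a ≠ b) (c : K),
            ∃ k : ℕ, orderOf (π (el hab c)) = p ^ k := by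
          intro a b hab c
          obtain ⟨k, -, hk⟩ := (Nat.dvd_prime_pow Fact.out).1
            (orderOf_dvd_of_pow_eq_one (n := p ^ 1) (x := π (el hab c))
              (by rw [pow_one, ← map_pow, el_pow_char, map_one]))
          exact ⟨k, hk⟩
        have hnorm : ∀ {x : SLn},
            x ∈ Subgroup.normalizer ((radical i j hij : Subgroup SLn) : Set SLn) →
            π x ∈ Subgroup.normalizer ((radical i j hij : Subgroup SLn).map π : Set G) := by
          intro x hx
          refine mem_normalizer_of_forall fun y hy => ?_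
          obtain ⟨r, hr, rfl⟩ := hy
          rw [← map_mul, ← map_inv, ← map_mul]
          exact Subgroup.mem_map_of_mem π (conj_mem_of_mem_normalizer hx hr)
        rintro _ ⟨x, ⟨c, rfl⟩ | ⟨c, rfl⟩, rfl⟩
        · exact ⟨hnorm (upper_le_normalizer hij (el_mem_upper
            (show i < j from Fin.lt_def.2 (by omega)) c)), hord _ _ _ _⟩
        · exact ⟨hnorm (el_mem_normalizer hij hne.symm c), hord _ _ _ _⟩
    have := mul_mem hEmem hrest
    rwa [← map_mul, mul_inv_cancel_left] at this

theorem isSimple_aux (hn : 3 ≤ n) (S : Sylow p G) (hS : (S : Subgroup G) = (upper K n).map π) :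
    (groupFusionSystem (S : Subgroup G)).IsSimple p := by
  refine isSimple_groupFusion_of_normalizer S ?_ (stronglyClosed_eq π hπ hker hn S hS) ?_
  · intro h
    let o : Fin n := ⟨0, by omega⟩
    let L : Fin n := ⟨n - 1, by omega⟩
    have hoL : o < L := Fin.lt_def.2 (show 0 < n - 1 by omega)
    have h1 : π (el hoL.ne 1) ∈ (S : Subgroup G) := hS ▸ Subgroup.mem_map_of_mem π (el_mem_upper hoL 1)
    rw [h, Subgroup.mem_bot, ← MonoidHom.mem_ker, hker] at h1
    have h2 := central_eq_one h1 ((mem_upper.1 (el_mem_upper hoL (1 : K))).pow_eq_one (p := p))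
    have h3 := congrArg (fun x : SLn => x.1 o L) h2
    simp only [el_val, val_one, transvection, Matrix.add_apply, single_apply_same,
      one_apply_ne hoL.ne, zero_add] at h3
    exact one_ne_zero h3
  · intro g hg
    obtain ⟨x, rfl⟩ := hπ g
    have htri := triangular_of_normalizer p π hker (g := x) (by rwa [hS] at hg)
    obtain ⟨D, hD, u, hu, rfl⟩ := exists_unipotent_mul htri
    rw [map_mul]
    refine mul_mem (diag_mem π hπ hker hn S hS _ D hD) (Subgroup.subset_closure ?_)
    have huS : π u ∈ (S : Subgroup G) := hS ▸ Subgroup.mem_map_of_mem π hu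
    exact ⟨Subgroup.le_normalizer huS, Or.inl huS⟩

end Simple

/-- The defining characteristic fusion system of a simple `PSL(n, K)`, `n ≥ 3`, is simple. -/
theorem isSimple_psl (hn : 3 ≤ n) (S : Sylow p (ProjectiveSpecialLinearGroup (Fin n) K)) :
    (groupFusionSystem (S : Subgroup (ProjectiveSpecialLinearGroup (Fin n) K))).IsSimple p := by
  let π₀ : SLn →* ProjectiveSpecialLinearGroup (Fin n) K :=
    QuotientGroup.mk' (Subgroup.center SLn)
  have hker₀ : π₀.ker = Subgroup.center SLn := QuotientGroup.ker_mk' _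
  have hπ₀ : Function.Surjective π₀ := QuotientGroup.mk'_surjective _
  set U := (upper K n).map π₀ with hU
  have hUp : IsPGroup p U := by
    rintro ⟨_, u, hu, rfl⟩
    exact ⟨n, Subtype.ext (by
      rw [SubgroupClass.coe_pow, ← map_pow, (mem_upper.1 hu).pow_eq_one]
      exact map_one π₀)⟩
  obtain ⟨P, hP⟩ := hUp.exists_le_sylow
  have hPU : (P : Subgroup (ProjectiveSpecialLinearGroup (Fin n) K)) = U := by
    refine le_antisymm ?_ hP
    by_contra hlt
    have h1 := lt_normalizerIn P.2 (lt_of_le_not_ge hP hlt)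
    obtain ⟨g, hgN, hgU⟩ := SetLike.exists_of_lt h1
    refine hgU ?_
    obtain ⟨x, rfl⟩ := hπ₀ g
    have htri := triangular_of_normalizer p π₀ hker₀ hgN.2
    obtain ⟨D, hD, u, hu, rfl⟩ := exists_unipotent_mul htri
    obtain ⟨k, hk⟩ := P.2 ⟨_, hgN.1⟩
    have hk' := congrArg Subtype.val hk
    rw [SubgroupClass.coe_pow, Subgroup.coe_one, ← map_pow] at hk'
    have hc := MonoidHom.mem_ker.2 hk'
    rw [hker₀] at hc
    obtain ⟨μ, -, hμ⟩ := Matrix.SpecialLinearGroup.mem_center_iff.1 hc
    have hpow : ∀ a : Fin n, ((D * u).1 a a) ^ p ^ k = μ := by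
      intro a
      have h2 : ∀ m : ℕ, (∀ x y : Fin n, y < x → ((D * u).1 ^ m) x y = 0) ∧
          ((D * u).1 ^ m) a a = ((D * u).1 a a) ^ m := by
        intro m
        induction m with
        | zero => exact ⟨fun x y h => by rw [pow_zero, one_apply_ne h.ne'],
            by rw [pow_zero, pow_zero, one_apply_eq]⟩
        | succ m ih =>
          refine ⟨fun x y h => ?_, ?_⟩
          · rw [pow_succ]; exact mul_apply_lower ih.1 htri h
          · rw [pow_succ, pow_succ, mul_apply_diag ih.1 htri, ih.2]
      rw [← (h2 _).2, ← val_pow, ← hμ, Matrix.scalar_apply, diagonal_apply_eq]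
    let o : Fin n := ⟨0, by omega⟩
    have hsame : ∀ a, (D * u).1 a a = (D * u).1 o o := by
      intro a
      refine sub_eq_zero.1 (eq_zero_of_pow_eq_zero (n := p ^ k) ?_)
      rw [sub_pow_char_pow_of_commute (p := p) (n := k) (Commute.all _ _), hpow, hpow, sub_self]
    have hDd : ∀ a, D.1 a a = (D * u).1 a a := fun a => by
      rw [val_mul, hD, diagonal_apply_eq, diagonal_mul, (mem_upper.1 hu).2, mul_one]
    have hD' : D.1 = Matrix.scalar (Fin n) ((D * u).1 o o) := by
      rw [hD, Matrix.scalar_apply]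
      exact congrArg diagonal (funext hsame)
    have hDc : D ∈ Subgroup.center SLn := by
      refine Matrix.SpecialLinearGroup.mem_center_iff.2 ⟨_, ?_, hD'.symm⟩
      have := D.2
      rw [hD', Matrix.scalar_apply, det_diagonal, Finset.prod_const, Finset.card_univ] at this
      exact this
    exact ⟨u, hu, by rw [map_mul, MonoidHom.mem_ker.1 (hker₀.ge hDc), one_mul]⟩
  obtain ⟨k, hk⟩ := MulAction.exists_smul_eq (ProjectiveSpecialLinearGroup (Fin n) K) P S
  refine isSimple_aux ((MulAut.conj k).toMonoidHom.comp π₀)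
    ((MulAut.conj k).surjective.comp hπ₀) ?_ hn S ?_
  · refine Eq.trans ?_ hker₀
    ext x
    simp [MonoidHom.mem_ker]
  · rw [← hk]
    change (P : Subgroup (ProjectiveSpecialLinearGroup (Fin n) K)).map (MulAut.conj k).toMonoidHom = _
    rw [hPU, hU, Subgroup.map_map]

end CfsgLib.Fusion.UniTri
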