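import Cfsg.Agent.Lib.Fusion.TransportProperties
import Cfsg.Agent.Lib.Fusion.GroupSystem

/-!
# Fusion in a quotient by a central subgroup of order prime to `p`
-/

set_option autoImplicit false

open Cfsg Cfsg.FusionSystem

namespace CfsgLib.Fusion

variable {G H : Type*} [Group G] [Finite G] [Group H] {p : ℕ} [Fact p.Prime]

theorem eq_one_of_central_pSub {S : Subgroup G} (hS : IsPGroup p S) {z a b : G}
    (hz : z ∈ Subgroup.center G) (hzp : (orderOf z).Coprime p) (ha : a ∈ S) (hb : b ∈ S) {g : G}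
    (h : z * b = g * a * g⁻¹) : z = 1 := by
  obtain ⟨j, hj⟩ := hS ⟨a, ha⟩
  obtain ⟨k, hk⟩ := hS ⟨b, hb⟩
  have hja : a ^ p ^ (j + k) = 1 := by
    rw [pow_add, pow_mul, show a ^ p ^ j = 1 from congrArg Subtype.val hj, one_pow]
  have hkb : b ^ p ^ (j + k) = 1 := by
    rw [pow_add, mul_comm, pow_mul, show b ^ p ^ k = 1 from congrArg Subtype.val hk, one_pow]
  have h1 := congrArg (· ^ p ^ (j + k)) h
  beta_reduce at h1
  rw [(show Commute z b from (Subgroup.mem_center_iff.1 hz b).symm).mul_pow, conj_pow, hja, hkb, mul_one, mul_one,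
    mul_inv_cancel] at h1
  exact orderOf_eq_one_iff.1
    ((Nat.Coprime.pow_right _ hzp).eq_one_of_dvd (orderOf_dvd_of_pow_eq_one h1))

/-- A quotient by a central subgroup of order prime to `p` has the same fusion system. -/
theorem transported_groupFusion_central (π : G →* H) (hπ : Function.Surjective π)
    (hc : π.ker ≤ Subgroup.center G) (hcop : ∀ z ∈ π.ker, (orderOf z).Coprime p)
    {S : Subgroup G} (hS : IsPGroup p S) {S' : Subgroup H} (hS' : S.map π = S') :
    Transported (groupFusionSystem S) (groupFusionSystem S') (π.comp S.subtype) := by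
  have hinj : Function.Injective (π.comp S.subtype) := by
    rw [injective_iff_map_eq_one]
    intro x hx
    refine Subtype.ext ?_
    have hxk : (x : G) ∈ π.ker := hx
    obtain ⟨k, hk⟩ := hS x
    exact orderOf_eq_one_iff.1 (((hcop _ hxk).pow_right k).eq_one_of_dvd
      (orderOf_dvd_of_pow_eq_one (congrArg Subtype.val hk)))
  refine ⟨hinj, by rw [MonoidHom.range_comp, Subgroup.range_subtype, hS'], fun P hP φ hφ => ?_⟩
  constructor
  · rintro ⟨-, -, g, hg⟩
    let ψ : imageAlong (π.comp S.subtype) P →* H :=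
      (MulAut.conj (π g)).toMonoidHom.comp (Subgroup.subtype _)
    have hmem : ∀ y, ψ y ∈ S' := by
      rintro ⟨_, x, hx, rfl⟩
      rw [← hS']
      refine ⟨φ ⟨x, hx⟩, hφ _, ?_⟩
      change π (φ ⟨x, hx⟩) = π g * π x * (π g)⁻¹
      simp [hg]
    refine ⟨ψ, ⟨?_, hmem, π g, fun y => rfl⟩, fun x => ?_⟩
    · rintro _ ⟨x, hx, rfl⟩
      rw [← hS']
      exact ⟨x, x.2, rfl⟩
    · change π g * π x * (π g)⁻¹ = π (φ x)
      simp [hg]
  · rintro ⟨ψ, ⟨-, -, g', hg'⟩, hψ⟩
    obtain ⟨g, rfl⟩ := hπ g'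
    refine ⟨hP, hφ, g, fun x => ?_⟩
    have h1 := hψ x
    rw [hg'] at h1
    change π g * π x * (π g)⁻¹ = π (φ x) at h1
    have hz : g * x * g⁻¹ * (φ x)⁻¹ ∈ π.ker := by
      rw [MonoidHom.mem_ker, map_mul, map_mul, map_mul, map_inv, map_inv, h1, mul_inv_cancel]
    have h2 := eq_one_of_central_pSub hS (hc hz) (hcop _ hz) (hP x.2) (hφ x)
      (inv_mul_cancel_right (g * (x : G) * g⁻¹) (φ x))
    exact (mul_inv_eq_one.1 h2).symm

theorem isCentric_of_pElement_commute {S R : Subgroup G} (hS : IsPGroup p S) (hR : R ≤ S)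
    (h : ∀ y : G, (∃ k : ℕ, y ^ p ^ k = 1) → (∀ x ∈ R, y * x = x * y) → y ∈ R) :
    (groupFusionSystem S).IsCentric R := by
  refine ⟨hR, fun Q hQ z hz => ?_⟩
  obtain ⟨-, -, g, rfl⟩ := isConj_groupFusion_iff.1 hQ
  have hp : ∃ k : ℕ, (g⁻¹ * z * g) ^ p ^ k = 1 := by
    obtain ⟨k, hk⟩ := hS ⟨z, hz.1⟩
    refine ⟨k, ?_⟩
    have := conj_pow (i := p ^ k) (a := g⁻¹) (b := z)
    rw [inv_inv] at this
    rw [this, show z ^ p ^ k = 1 from congrArg Subtype.val hk, mul_one, inv_mul_cancel]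
  have h1 : g⁻¹ * z * g ∈ R := h _ hp fun x hx => by
    have h2 : g * x * g⁻¹ * z = z * (g * x * g⁻¹) := hz.2 _ (conj_mem_conjSub hx)
    calc g⁻¹ * z * g * x = g⁻¹ * (z * (g * x * g⁻¹)) * g := by group
      _ = g⁻¹ * (g * x * g⁻¹ * z) * g := by rw [h2]
      _ = x * (g⁻¹ * z * g) := by group
  have h3 := conj_mem_conjSub (g := g) h1
  simpa [mul_assoc] using h3

end CfsgLib.Fusion
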