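import Cfsg.Agent.Lib.Golay.M24Sub

/-!
Orders of point stabilisers in the code group, as subgroups of the symmetric group.
-/

set_option autoImplicit false

namespace CfsgLib.Fusion

open Cfsg CfsgLib.Golay

open scoped Pointwise

theorem card_M23 : Nat.card Cfsg.Spor.M23 = 10200960 := by
  obtain ⟨e⟩ := stabilizer_point_equiv (none : GolayPt)
  have h : (MulAction.stabilizer M24 (none : GolayPt)).map M24.subtype = Cfsg.Spor.M23 := by
    ext x
    rw [Subgroup.mem_map, Cfsg.Spor.M23, Subgroup.mem_inf]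
    exact ⟨by rintro ⟨y, hy, rfl⟩; exact ⟨y.2, hy⟩, fun h => ⟨⟨x, h.1⟩, h.2, rfl⟩⟩
  rw [← Nat.card_congr (subEquiv _ h).toEquiv, Nat.card_congr e.toEquiv, card_stabOne]

theorem card_M22 : Nat.card Cfsg.Spor.M22 = 443520 := by
  obtain ⟨e⟩ := stabilizer_pair_equiv (p := (none : GolayPt)) (q := some 0) (by simp)
  have h : (MulAction.stabilizer M24 (none : GolayPt) ⊓
      MulAction.stabilizer M24 (some 0 : GolayPt)).map M24.subtype = Cfsg.Spor.M22 := by
    ext x
    rw [Subgroup.mem_map, Cfsg.Spor.M22, Cfsg.Spor.M23, Subgroup.mem_inf, Subgroup.mem_inf]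
    exact ⟨by rintro ⟨y, hy, rfl⟩; exact ⟨⟨y.2, hy.1⟩, hy.2⟩,
      fun h => ⟨⟨x, h.1.1⟩, ⟨h.1.2, h.2⟩, rfl⟩⟩
  rw [← Nat.card_congr (subEquiv _ h).toEquiv, Nat.card_congr e.toEquiv, card_stabTwo]

theorem toSet_one : toSet 1 = {(some 0 : GolayPt)} := by decide +kernel

theorem toSet_top_bit : toSet (2 ^ 23) = {(none : GolayPt)} := by decide +kernel

theorem smul_singleton_of_fixed {g : Equiv.Perm GolayPt} {p : GolayPt}
    (h : g • p = p) : g • ({p} : Finset GolayPt) = {p} := by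
  rw [Finset.smul_finset_singleton, h]

end CfsgLib.Fusion
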