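import Cfsg.Agent.Lib.LocalEven.Out.AutTools

/-!
Labellings of the Frattini cosets of a 2-group with eight cosets, and the action of its
automorphisms on the labels.
-/

set_option autoImplicit false

namespace CfsgLib.Fusion

/-- A labelling of a 2-group by the vectors of length three over the field with two elements, with
kernel generated by squares. -/
structure FrattiniLabelling (A : Type*) [Group A] where
  /-- The label. -/
  lb : A → ℕ
  lb_lt : ∀ a, lb a < 8
  lb_mul : ∀ a b, lb (a * b) = lb a ^^^ lb b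
  /-- A section. -/
  sec : Fin 8 → A
  lb_sec : ∀ w, lb (sec w) = w.val
  decomp : ∀ a, ∃ p q : A, a = sec ⟨lb a, lb_lt a⟩ * (p * p * (q * q))

namespace FrattiniLabelling

variable {A : Type*} [Group A] (L : FrattiniLabelling A)

/-- The label in `Fin 8`. -/
def lab (a : A) : Fin 8 := ⟨L.lb a, L.lb_lt a⟩

theorem lb_aut (β : MulAut A) (a : A) : L.lb (β a) = L.lb (β (L.sec (L.lab a))) := by
  obtain ⟨p, q, h⟩ := L.decomp a
  conv_lhs => rw [h]
  rw [map_mul, map_mul, map_mul, map_mul, L.lb_mul, L.lb_mul, L.lb_mul, L.lb_mul, Nat.xor_self,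
    Nat.xor_self, Nat.xor_self, Nat.xor_zero]
  rfl

/-- The map on labels. -/
def act (β : MulAut A) (w : Fin 8) : Fin 8 := L.lab (β (L.sec w))

theorem act_one (w : Fin 8) : L.act 1 w = w := Fin.ext (L.lb_sec w)

theorem act_mul (β γ : MulAut A) (w : Fin 8) : L.act (β * γ) w = L.act β (L.act γ w) :=
  Fin.ext (L.lb_aut β (γ (L.sec w)))

/-- The action on the labels. -/
def perm : MulAut A →* Equiv.Perm (Fin 8) where
  toFun β :=
    { toFun := L.act β
      invFun := L.act β⁻¹
      left_inv := fun w => by rw [← act_mul, inv_mul_cancel, act_one]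
      right_inv := fun w => by rw [← act_mul, mul_inv_cancel, act_one] }
  map_one' := Equiv.ext fun w => L.act_one w
  map_mul' β γ := Equiv.ext fun w => L.act_mul β γ w

theorem isPGroup_ker [Finite A] (hA : IsPGroup 2 A) : IsPGroup 2 L.perm.ker := by
  refine (CfsgLib.LocalEven.OutTools.isPGroup_ker_frattiniHom hA).to_le ?_
  intro β hβ
  rw [CfsgLib.LocalEven.OutTools.mem_ker_frattiniHom]
  intro x
  have h0 : L.lb (β x) = L.lb x := by
    rw [L.lb_aut]
    exact congrArg Fin.val (DFunLike.congr_fun (MonoidHom.mem_ker.1 hβ) (L.lab x))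
  have hsq : ∀ a : A, a * a ∈ frattini A := fun a => by
    simpa [sq] using CfsgLib.PGroup.pow_mem_frattini hA a
  obtain ⟨a, b, ha⟩ := L.decomp x
  obtain ⟨c, d, hc⟩ := L.decomp (β x)
  rw [show (⟨L.lb (β x), L.lb_lt (β x)⟩ : Fin 8) = ⟨L.lb x, L.lb_lt x⟩ from Fin.ext h0] at hc
  rw [hc]
  nth_rw 1 [ha]
  rw [mul_inv_rev, mul_assoc, inv_mul_cancel_left]
  exact mul_mem (inv_mem (mul_mem (hsq a) (hsq b))) (mul_mem (hsq c) (hsq d))

/-- The combination of the basis labels at a vector. -/
def comb3 (a b c : ℕ) (w : ℕ) : ℕ :=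
  (if w.testBit 0 then a else 0) ^^^
    ((if w.testBit 1 then b else 0) ^^^ (if w.testBit 2 then c else 0))

theorem perm_comb (β : MulAut A) (w : Fin 8) : (L.perm β w).val =
    comb3 (L.perm β 1).val (L.perm β 2).val (L.perm β 4).val w.val := by
  set h : Fin 8 → ℕ := fun v => L.lb (β (L.sec v)) with hh
  show h w = comb3 (h 1) (h 2) (h 4) w
  have hadd : ∀ (a b v : Fin 8), v.val = a.val ^^^ b.val → h v = h a ^^^ h b := fun a b v hv => by
    simp only [hh]
    rw [← L.lb_mul, ← map_mul, L.lb_aut β (L.sec a * L.sec b)]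
    congr 2
    congr 1
    refine Fin.ext ?_
    show v.val = L.lb (L.sec a * L.sec b)
    rw [L.lb_mul, L.lb_sec, L.lb_sec, hv]
  have h0 : h 0 = 0 := by
    have := hadd 0 0 0 rfl
    rwa [Nat.xor_self] at this
  fin_cases w
  · simpa [comb3] using h0
  · simp [comb3, Nat.testBit]
  · simp [comb3, Nat.testBit]
  · simpa [comb3, Nat.testBit] using hadd 1 2 3 rfl
  · simp [comb3, Nat.testBit]
  · simpa [comb3, Nat.testBit] using hadd 1 4 5 rfl
  · simpa [comb3, Nat.testBit] using hadd 2 4 6 rfl
  · have e1 := hadd 2 4 6 rfl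
    have e2 := hadd 1 6 7 rfl
    rw [e1] at e2
    simpa [comb3, Nat.testBit] using e2

/-- The labels of elements with square `u`. -/
def SqLabel (u : A) (w : Fin 8) : Prop := ∃ a, L.lb a = w.val ∧ a * a = u

theorem sqLabel_perm {u : A} {β : MulAut A} (hu : β u = u) {w : Fin 8} (h : L.SqLabel u w) :
    L.SqLabel u (L.perm β w) := by
  obtain ⟨a, ha, hau⟩ := h
  refine ⟨β a, ?_, by rw [← map_mul, hau, hu]⟩
  rw [L.lb_aut, show L.lab a = w from Fin.ext ha]
  rfl

/-- If the labels of elements with given fixed squares leave at most two possibilities, the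
automorphism group is a 2-group. -/
theorem isPGroup_mulAut [Finite A] (hA : IsPGroup 2 A) (z : A) (hz : ∀ β : MulAut A, β z = z)
    (P Q : List Bool) (hP : ∀ w : Fin 8, L.SqLabel 1 w ↔ P.getD w.val false = true)
    (hQ : ∀ w : Fin 8, L.SqLabel z w ↔ Q.getD w.val false = true) (T : List (ℕ × ℕ × ℕ))
    (hT : ∀ a b c : Fin 8,
      ((List.range 8).all fun v => (List.range 8).all fun w =>
        v.beq w || !(comb3 a b c v).beq (comb3 a b c w)) = true →
      ((List.range 8).all fun w => (!P.getD w false || P.getD (comb3 a b c w) false) &&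
        (!Q.getD w false || Q.getD (comb3 a b c w) false)) = true →
      (a.val, b.val, c.val) ∈ T)
    (hlen : T.length ≤ 2) : IsPGroup 2 (MulAut A) := by
  have : Finite (MulAut A) :=
    Finite.of_injective (fun φ : MulAut A => (φ : A → A)) DFunLike.coe_injective
  have hmem : ∀ β : MulAut A,
      ((L.perm β 1).val, (L.perm β 2).val, (L.perm β 4).val) ∈ T := by
    intro β
    refine hT _ _ _ ?_ ?_
    · simp only [List.all_eq_true, List.mem_range, Bool.or_eq_true, Bool.not_eq_true', Nat.beq_eq]
      intro v hv w hw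
      by_cases hvw : v = w
      · exact Or.inl hvw
      refine Or.inr ?_
      rw [← Bool.not_eq_true, Nat.beq_eq]
      intro h
      have h1 := (L.perm_comb β ⟨v, hv⟩).trans (h.trans (L.perm_comb β ⟨w, hw⟩).symm)
      exact hvw (congrArg Fin.val ((L.perm β).injective (Fin.ext h1)))
    · simp only [List.all_eq_true, List.mem_range, Bool.and_eq_true, Bool.or_eq_true,
        Bool.not_eq_true']
      intro w hw
      have hc := L.perm_comb β ⟨w, hw⟩
      constructor
      · by_cases hb : P.getD w false = true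
        · refine Or.inr ?_
          have := (hP _).1 (L.sqLabel_perm (map_one β) ((hP ⟨w, hw⟩).2 hb))
          rwa [hc] at this
        · exact Or.inl (by simpa using hb)
      · by_cases hb : Q.getD w false = true
        · refine Or.inr ?_
          have := (hQ _).1 (L.sqLabel_perm (hz β) ((hQ ⟨w, hw⟩).2 hb))
          rwa [hc] at this
        · exact Or.inl (by simpa using hb)
  let t : L.perm.range → {x : ℕ × ℕ × ℕ // x ∈ T} := fun σ =>
    ⟨((σ.1 1).val, (σ.1 2).val, (σ.1 4).val), by
      obtain ⟨β, hβ⟩ := σ.2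
      rw [← hβ]
      exact hmem β⟩
  have ht : Function.Injective t := by
    rintro ⟨_, β, rfl⟩ ⟨_, γ, rfl⟩ h
    have h' := congrArg Subtype.val h
    simp only [t, Prod.mk.injEq] at h'
    refine Subtype.ext (Equiv.ext fun w => Fin.ext ?_)
    rw [L.perm_comb β w, L.perm_comb γ w, h'.1, h'.2.1, h'.2.2]
  have hr : Nat.card L.perm.range ≤ 2 := by
    refine (Nat.card_le_card_of_injective t ht).trans (le_trans ?_ hlen)
    rw [Nat.card_congr (Equiv.subtypeEquivRight fun x => (List.mem_toFinset).symm),
      Nat.card_eq_fintype_card, Fintype.card_coe]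
    exact List.toFinset_card_le _
  obtain ⟨n, hn⟩ := IsPGroup.iff_card.1 (L.isPGroup_ker hA)
  have h1 : Nat.card (MulAut A) = Nat.card L.perm.range * 2 ^ n := by
    rw [← hn, ← Nat.card_congr (QuotientGroup.quotientKerEquivRange L.perm).toEquiv]
    exact Subgroup.card_eq_card_quotient_mul_card_subgroup _
  have hpos : 0 < Nat.card L.perm.range := Nat.card_pos
  rcases (show Nat.card L.perm.range = 1 ∨ Nat.card L.perm.range = 2 by omega) with h | h
  · exact IsPGroup.of_card (n := n) (by rw [h1, h, one_mul])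
  · exact IsPGroup.of_card (n := n + 1) (by rw [h1, h, pow_succ'])

end FrattiniLabelling

end CfsgLib.Fusion
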