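import Cfsg.Agent.Lib.Fusion.PermSimple

/-!
Certificate for a Sylow 2-subgroup of the Mathieu group on 22 points.
-/

set_option autoImplicit false
set_option maxRecDepth 16384

namespace CfsgLib.Fusion.M22

open CfsgLib.Golay CfsgLib.Fusion.PermCert

/-- The membership test. -/
def test (L : List ℕ) : Bool :=
  m24Test L && decide (imgMask L 8388608 = 8388608) && decide (imgMask L 1 = 1)

/-- Generators along a central series. -/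
def gens : List (List ℕ) :=
  [[0, 21, 14, 22, 19, 11, 18, 10, 8, 9, 7, 5, 12, 13, 2, 15, 16, 20, 6, 4, 17, 1, 3, 23],
   [0, 5, 6, 20, 7, 1, 2, 4, 8, 9, 19, 21, 12, 13, 18, 15, 16, 22, 14, 10, 3, 11, 17, 23],
   [0, 1, 6, 22, 10, 5, 2, 19, 16, 9, 4, 11, 15, 13, 18, 12, 8, 20, 14, 7, 17, 21, 3, 23],
   [0, 1, 14, 17, 7, 5, 18, 4, 15, 9, 19, 11, 16, 13, 2, 8, 12, 3, 6, 10, 22, 21, 20, 23],
   [0, 3, 4, 11, 18, 20, 7, 14, 15, 9, 2, 17, 16, 13, 19, 8, 12, 1, 10, 6, 21, 22, 5, 23],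
   [0, 1, 4, 20, 6, 11, 10, 14, 15, 13, 2, 5, 8, 9, 19, 16, 12, 3, 7, 18, 22, 21, 17, 23],
   [0, 2, 1, 19, 22, 6, 5, 17, 8, 9, 20, 18, 12, 13, 21, 15, 16, 7, 11, 3, 10, 14, 4, 23]]

/-- The central involution. -/
def z : List ℕ := [0, 21, 14, 22, 19, 11, 18, 10, 8, 9, 7, 5, 12, 13, 2, 15, 16, 20, 6, 4, 17, 1, 3, 23]

/-- The fusion chain. -/
def steps : List FStep :=
  [([0, 21, 18, 3, 7, 11, 14, 4, 16, 9, 19, 5, 15, 13, 6, 12, 8, 17, 2, 10, 20, 1, 22, 23], [0, 6, 16, 18, 12, 19, 1, 11, 22, 17, 5, 10, 9, 20, 8, 13, 3, 4, 21, 15, 7, 14, 2, 23], 0, 0),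
   ([0, 1, 6, 22, 10, 5, 2, 19, 16, 9, 4, 11, 15, 13, 18, 12, 8, 20, 14, 7, 17, 21, 3, 23], [], 0, 1),
   ([0, 5, 2, 17, 19, 1, 6, 10, 16, 9, 7, 21, 15, 13, 14, 12, 8, 3, 18, 4, 22, 11, 20, 23], [0, 6, 10, 5, 8, 2, 7, 15, 17, 9, 16, 14, 20, 13, 4, 22, 3, 11, 19, 12, 21, 18, 1, 23], 2, 0),
   ([0, 21, 4, 22, 2, 5, 10, 18, 16, 13, 6, 11, 12, 9, 19, 15, 8, 17, 7, 14, 20, 1, 3, 23], [0, 4, 12, 19, 9, 2, 5, 3, 21, 20, 22, 7, 16, 17, 15, 8, 1, 14, 11, 13, 10, 18, 6, 23], 3, 0),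
   ([0, 21, 10, 3, 6, 5, 4, 14, 8, 13, 2, 11, 15, 9, 7, 12, 16, 20, 19, 18, 17, 1, 22, 23], [], 2, 4),
   ([0, 22, 14, 21, 19, 20, 6, 7, 16, 13, 10, 17, 12, 9, 2, 15, 8, 11, 18, 4, 5, 3, 1, 23], [0, 22, 4, 12, 9, 10, 13, 16, 6, 17, 19, 7, 3, 11, 8, 21, 18, 20, 14, 2, 5, 1, 15, 23], 5, 0),
   ([0, 1, 7, 22, 18, 11, 19, 2, 8, 13, 14, 5, 15, 9, 10, 12, 16, 17, 4, 6, 20, 21, 3, 23], [], 1, 4),
   ([0, 7, 17, 18, 5, 4, 22, 1, 8, 9, 21, 19, 12, 13, 20, 15, 16, 2, 3, 11, 14, 10, 6, 23], [0, 16, 5, 6, 3, 17, 14, 4, 15, 19, 1, 2, 21, 11, 7, 10, 8, 13, 18, 20, 12, 9, 22, 23], 7, 0),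
   ([0, 11, 2, 22, 7, 21, 6, 4, 12, 9, 19, 1, 8, 13, 14, 16, 15, 20, 18, 10, 17, 5, 3, 23], [0, 18, 8, 10, 16, 17, 1, 12, 14, 7, 21, 20, 3, 4, 5, 22, 6, 9, 15, 11, 13, 2, 19, 23], 7, 0),
   ([0, 5, 6, 20, 7, 1, 2, 4, 8, 9, 19, 21, 12, 13, 18, 15, 16, 22, 14, 10, 3, 11, 17, 23], [], 2, 3),
   ([0, 11, 14, 20, 4, 21, 18, 7, 16, 9, 10, 1, 15, 13, 2, 12, 8, 22, 6, 19, 3, 5, 17, 23], [], 0, 3),
   ([0, 1, 14, 17, 7, 5, 18, 4, 15, 9, 19, 11, 16, 13, 2, 8, 12, 3, 6, 10, 22, 21, 20, 23], [], 11, 9),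
   ([0, 1, 19, 3, 14, 11, 7, 6, 16, 13, 18, 5, 12, 9, 4, 15, 8, 20, 10, 2, 17, 21, 22, 23], [], 0, 4),
   ([0, 5, 19, 22, 6, 21, 7, 14, 12, 13, 2, 1, 16, 9, 4, 8, 15, 17, 10, 18, 20, 11, 3, 23], [], 13, 9),
   ([0, 3, 4, 11, 18, 20, 7, 14, 15, 9, 2, 17, 16, 13, 19, 8, 12, 1, 10, 6, 21, 22, 5, 23], [], 14, 6),
   ([0, 5, 4, 17, 14, 21, 10, 6, 8, 13, 18, 1, 15, 9, 19, 12, 16, 22, 7, 2, 3, 11, 20, 23], [], 4, 3),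
   ([0, 1, 4, 20, 6, 11, 10, 14, 15, 13, 2, 5, 8, 9, 19, 16, 12, 3, 7, 18, 22, 21, 17, 23], [], 16, 9),
   ([0, 11, 18, 17, 10, 21, 14, 19, 8, 9, 4, 1, 12, 13, 6, 15, 16, 3, 2, 7, 22, 5, 20, 23], [], 1, 3),
   ([0, 5, 10, 20, 18, 21, 4, 2, 16, 13, 14, 1, 12, 9, 7, 15, 8, 3, 19, 6, 22, 11, 17, 23], [], 18, 4),
   ([0, 17, 7, 11, 6, 22, 4, 2, 8, 9, 14, 3, 12, 13, 10, 15, 16, 1, 19, 18, 21, 20, 5, 23], [], 19, 6),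
   ([0, 2, 1, 19, 22, 6, 5, 17, 8, 9, 20, 18, 12, 13, 21, 15, 16, 7, 11, 3, 10, 14, 4, 23], [], 20, 8)]

/-- Invariant masks. -/
def masks : List ℕ := [8388608, 1]

/-- The orbits. -/
def l0 : List ℕ := [0, 1, 1, 1, 1, 1, 1, 1, 8, 9, 1, 1, 8, 9, 1, 8, 8, 1, 1, 1, 1, 1, 1, 23]

/-- The levels of the lower central series. -/
def levels : List (List (List ℕ) × List ℕ × List (ℕ × ℕ)) :=
  [([[0, 21, 14, 22, 19, 11, 18, 10, 8, 9, 7, 5, 12, 13, 2, 15, 16, 20, 6, 4, 17, 1, 3, 23], [0, 5, 6, 20, 7, 1, 2, 4, 8, 9, 19, 21, 12, 13, 18, 15, 16, 22, 14, 10, 3, 11, 17, 23], [0, 1, 6, 22, 10, 5, 2, 19, 16, 9, 4, 11, 15, 13, 18, 12, 8, 20, 14, 7, 17, 21, 3, 23], [0, 3, 10, 21, 6, 20, 19, 2, 16, 9, 14, 17, 15, 13, 7, 12, 8, 5, 4, 18, 11, 22, 1, 23]],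
    [0, 1, 2, 1, 2, 1, 2, 2, 8, 9, 2, 1, 12, 13, 2, 12, 8, 1, 2, 2, 1, 1, 1, 23],
    [(1, 5), (2, 6), (5, 6), (3, 5)]),
   ([[0, 21, 14, 22, 19, 11, 18, 10, 8, 9, 7, 5, 12, 13, 2, 15, 16, 20, 6, 4, 17, 1, 3, 23], [0, 5, 6, 20, 7, 1, 2, 4, 8, 9, 19, 21, 12, 13, 18, 15, 16, 22, 14, 10, 3, 11, 17, 23]],
    [0, 1, 2, 3, 4, 1, 2, 4, 8, 9, 4, 1, 12, 13, 2, 15, 16, 3, 2, 4, 3, 1, 3, 23],
    [(1, 5), (2, 3)]),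
   ([[0, 21, 14, 22, 19, 11, 18, 10, 8, 9, 7, 5, 12, 13, 2, 15, 16, 20, 6, 4, 17, 1, 3, 23]],
    [0, 1, 2, 3, 4, 5, 6, 7, 8, 9, 7, 5, 12, 13, 2, 15, 16, 17, 6, 4, 17, 1, 3, 23],
    [(1, 5)])]

theorem cert : certOk test gens z steps masks l0 levels = true := by decide +kernel

theorem gens_length : gens.length = 7 := rfl

end CfsgLib.Fusion.M22
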