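import Cfsg.Agent.Lib.Fusion.Extender
import Cfsg.Agent.Lib.LocalEven.StronglyEmbedded
import Cfsg.Agent.Lib.Cores.Basic

/-!
# Essential subgroups and Alperin's theorem for saturated fusion systems
-/

set_option autoImplicit false

open Cfsg Cfsg.FusionSystem CfsgLib.LocalEven
open scoped Pointwise

namespace CfsgLib.Fusion

variable {Ω : Type*} [Group Ω] {S : Subgroup Ω} {F : FusionSystem S}

/-- Two fusion systems with the same maps are equal. -/
theorem ext_hom {E F : FusionSystem S} (h : ∀ P, E.Hom P = F.Hom P) : E = F := by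
  cases E
  cases F
  congr
  exact funext h

theorem innerFusionSystem_le (F : FusionSystem S) (P : Subgroup Ω) :
    (innerFusionSystem S).Hom P ⊆ F.Hom P := by
  rintro φ ⟨hP, g, hg, hφ⟩
  exact (show conjHom P g = φ from MonoidHom.ext fun x => (hφ x).symm) ▸ F.conj_mem hP hg

variable (F) in
/-- The subgroup of `Aut(P)` generated by the automorphisms extending to a map of the system on a
larger subgroup. -/
def extSubgroup (P : Subgroup Ω) : Subgroup (MulAut P) :=
  Subgroup.closure {α : MulAut P | ∃ (Q : Subgroup Ω) (hPQ : P < Q) (φ : Q →* Ω),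
    φ ∈ F.Hom Q ∧ ∀ x : P, φ (Subgroup.inclusion hPQ.le x) = α x}

theorem mem_extSubgroup {P Q : Subgroup Ω} (hPQ : P < Q) {φ : Q →* Ω} (hφ : φ ∈ F.Hom Q)
    {α : MulAut P} (h : ∀ x : P, φ (Subgroup.inclusion hPQ.le x) = α x) :
    α ∈ extSubgroup F P :=
  Subgroup.subset_closure ⟨Q, hPQ, φ, hφ, h⟩

theorem extSubgroup_le (P : Subgroup Ω) : extSubgroup F P ≤ F.autGroup P := by
  refine (Subgroup.closure_le _).2 ?_
  rintro α ⟨Q, hPQ, φ, hφ, h⟩
  exact mem_autGroup_of_mem F (res_mem F hφ hPQ.le) fun x => (h x).symm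

variable {p : ℕ} [Fact p.Prime] [Finite S]

theorem isFullyNormalized_self : F.IsFullyNormalized S := by
  refine ⟨le_rfl, fun Q hQ => ?_⟩
  have h : normalizerIn S S = S := le_antisymm (normalizerIn_le S) (le_normalizerIn le_rfl)
  have : Finite S := inferInstance
  rw [h]
  exact Subgroup.card_le_of_le (normalizerIn_le Q)

theorem eq_S_of_isConj_S {Q : Subgroup Ω} (h : F.IsConj S Q) : Q = S :=
  Subgroup.eq_of_le_of_card_ge (le_right_of_isConj h) (card_eq_of_isConj h).le

omit [Fact p.Prime] in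
/-- A fully centralized subgroup containing its centralizer in `S` is centric. -/
theorem isCentric_of_receptive {P : Subgroup Ω} (hP : F.IsReceptive P)
    (hC : centralizerIn S P ≤ P) : F.IsCentric P := by
  refine ⟨hP.1, fun Q hQ c hc => ?_⟩
  obtain ⟨e, he⟩ := isConj_iff.1 (isConj_symm hQ)
  obtain ⟨ψ, hψ, hψe⟩ := exists_extension hP he (le_sup_left (b := centralizerIn S Q))
    (sup_le (le_extender he) (centralizerIn_le_extender _ _))
  have h1 := hC (apply_mem_centralizerIn hψ le_sup_left hψe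
    (c := ⟨c, le_sup_right (a := Q) hc⟩) hc)
  have h2 := hψe (e.symm ⟨_, h1⟩)
  rw [MulEquiv.apply_symm_apply] at h2
  have h3 : ((e.symm ⟨_, h1⟩ : Q) : Ω) = c := congrArg Subtype.val (F.injective_of_mem hψ h2)
  exact h3 ▸ (e.symm _).2

/-- An element of `N_S(P)` inducing an inner automorphism of a self-centralizing `P` lies in
`P`. -/
theorem mem_of_normAut_mem_inn {P : Subgroup Ω} (hPS : P ≤ S) (hC : centralizerIn S P ≤ P)
    {g : Ω} (hgS : g ∈ S) {hg : g ∈ Subgroup.normalizer (P : Set Ω)}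
    (h : normAut g hg ∈ Cfsg.Inn P) : g ∈ P := by
  rw [inn_eq, mem_autInducedBy_iff] at h
  obtain ⟨r, hr, hre⟩ := h
  have h1 : r⁻¹ * g ∈ centralizerIn S P := by
    refine ⟨S.mul_mem (S.inv_mem (hPS hr)) hgS, fun y hy => ?_⟩
    have h2 : g * y * g⁻¹ = r * y * r⁻¹ := hre ⟨y, hy⟩
    calc y * (r⁻¹ * g) = r⁻¹ * (r * y * r⁻¹) * g := by group
      _ = r⁻¹ * (g * y * g⁻¹) * g := by rw [h2]
      _ = r⁻¹ * g * y := by group
  simpa using P.mul_mem hr (hC h1)

/-- The key extension step. -/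
theorem mem_extSubgroup_of_conj {P : Subgroup Ω} (hP : F.IsReceptive P) {β : MulAut P}
    (hβ : β ∈ F.autGroup P) {g : Ω} (hgS : g ∈ S) (hg : g ∈ Subgroup.normalizer (P : Set Ω))
    (hgP : g ∉ P) (h : β * normAut g hg * β⁻¹ ∈ autInducedBy S P) : β ∈ extSubgroup F P := by
  have hβ' : IsIso F β := (mem_autGroup_iff F hP.1).1 hβ
  have hgM : g ∈ extender S P (P.subtype.comp β.toMonoidHom) := by
    refine mem_extender_iso_iff.2 ⟨hgS, hg, ?_⟩
    convert h using 1
    exact MulEquiv.ext fun y => rfl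
  have hlt : P < extender S P (P.subtype.comp β.toMonoidHom) :=
    lt_of_le_not_ge (le_extender hβ') fun hle => hgP (hle hgM)
  obtain ⟨ψ, hψ, hψe⟩ := exists_extension hP hβ' hlt.le le_rfl
  exact mem_extSubgroup hlt hψ hψe

theorem autInducedBy_le_extSubgroup (hS : IsPGroup p S) {P : Subgroup Ω} (hPS : P < S) :
    autInducedBy S P ≤ extSubgroup F P := by
  intro α hα
  obtain ⟨g, hg, hge⟩ := mem_autInducedBy_iff.1 hα
  have hgn : g ∈ normalizerIn S P := ⟨hg, mem_normalizer_of_aut hge⟩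
  exact mem_extSubgroup (lt_normalizerIn hS hPS) (F.conj_mem (normalizerIn_le P) hg)
    fun x => (hge x).symm

theorem inn_subgroupOf_normal (F : FusionSystem S) (P : Subgroup Ω) :
    ((Cfsg.Inn P).subgroupOf (F.autGroup P)).Normal :=
  inferInstance

/-- The dichotomy for the automorphisms extending to larger subgroups. -/
theorem extSubgroup_dichotomy (hS : IsPGroup p S) (hF : F.IsSaturated p) {P : Subgroup Ω}
    (hPS : P < S) (hPn : F.IsFullyNormalized P) :
    (¬ F.IsEssential p P ∧ extSubgroup F P = F.autGroup P) ∨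
      (F.IsEssential p P ∧ ∃ _ : ((Cfsg.Inn P).subgroupOf (F.autGroup P)).Normal,
        IsStronglyPEmbedded p (((extSubgroup F P).subgroupOf (F.autGroup P)).map
          (QuotientGroup.mk' ((Cfsg.Inn P).subgroupOf (F.autGroup P))))) := by
  have := finite_of_le hPS.le
  obtain ⟨ha, hr⟩ := fullyAutomized_receptive_of_fullyNormalized hS hF hPn
  set A := F.autGroup P
  set π := QuotientGroup.mk' ((Cfsg.Inn P).subgroupOf A)
  set T := ((autInducedBy S P).subgroupOf A).map π with hTdef
  have hπ : Function.Surjective π := QuotientGroup.mk'_surjective _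
  have hTp : IsPGroup p T := (isPGroup_autInducedBy hS P).comap_subtype.map _
  have hTi : ¬ p ∣ T.index := fun h =>
    ((isFullyAutomized_iff hS).1 ha).2 (h.trans (Subgroup.index_map_dvd _ hπ))
  have hπeq : ∀ {a : A}, π a = 1 ↔ (a : MulAut P) ∈ Cfsg.Inn P := fun {a} => by
    rw [← MonoidHom.mem_ker, QuotientGroup.ker_mk', Subgroup.mem_subgroupOf]
  have hTmem : ∀ {a : A}, π a ∈ T ↔ (a : MulAut P) ∈ autInducedBy S P := fun {a} => by
    refine ⟨?_, fun h => ⟨a, h, rfl⟩⟩
    rintro ⟨b, hb, hba⟩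
    have h1 : ((b⁻¹ * a : A) : MulAut P) ∈ autInducedBy S P :=
      inn_le_autInducedBy hPS.le (hπeq.1 (by rw [map_mul, map_inv, hba, inv_mul_cancel]))
    have h2 := (autInducedBy S P).mul_mem hb h1
    simpa using h2
  -- the elements of `N_S(P)` outside `P`
  obtain ⟨g₀, hg₀, hg₀P⟩ := SetLike.exists_of_lt (lt_normalizerIn hS hPS)
  by_cases hcen : centralizerIn S P ≤ P
  · have hout : ∀ g, g ∈ S → ∀ hg : g ∈ Subgroup.normalizer (P : Set Ω), g ∉ P →
        ∀ hA : normAut g hg ∈ A, π ⟨normAut g hg, hA⟩ ≠ 1 := fun g hgS hg hgP hA h =>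
      hgP (mem_of_normAut_mem_inn hPS.le hcen hgS (hπeq.1 h))
    by_cases hH : extSubgroup F P = A
    · refine Or.inl ⟨?_, hH⟩
      rintro ⟨-, -, hN, Y, hY⟩
      obtain ⟨Q, hQ1, hQY, hQN⟩ := IsStronglyPEmbedded.exists_sylow hY
      obtain ⟨u, hu⟩ := exists_conj_mem hTp Q.2 Q.not_dvd_index
      have hsub : extSubgroup F P ≤ ((Y.map (MulAut.conj u⁻¹).toMonoidHom).comap π).map A.subtype := by
        refine (Subgroup.closure_le _).2 ?_
        rintro α ⟨R, hPR, φ, hφ, hφe⟩
        have hα : α ∈ A := mem_autGroup_of_mem F (res_mem F hφ hPR.le) fun x => (hφe x).symm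
        refine ⟨⟨α, hα⟩, ?_, rfl⟩
        -- an element of `N_R(P)` outside `P`
        have hRS : R ≤ S := le_S F hφ
        have hRp : IsPGroup p R := hS.to_le hRS
        have := finite_of_le hRS
        obtain ⟨g, hg, hgP⟩ := SetLike.exists_of_lt (lt_normalizerIn hRp hPR)
        have hgS : g ∈ S := hRS hg.1
        have hgA : normAut g hg.2 ∈ A :=
          autInducedBy_le_autGroup hPS.le (mem_autInducedBy_iff.2 ⟨g, hgS, fun x => rfl⟩)
        set a : A := ⟨α, hα⟩
        set c : A := ⟨normAut g hg.2, hgA⟩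
        have hc : π c ∈ T := hTmem.2 (mem_autInducedBy_iff.2 ⟨g, hgS, fun x => rfl⟩)
        have hac : π (a * c * a⁻¹) ∈ T := by
          refine hTmem.2 (mem_autInducedBy_iff.2 ⟨φ ⟨g, hg.1⟩, apply_mem_S F hφ _, fun x => ?_⟩)
          have h1 : Subgroup.inclusion hPR.le (normAut g hg.2 (α⁻¹ x)) =
              ⟨g, hg.1⟩ * Subgroup.inclusion hPR.le (α⁻¹ x) * (⟨g, hg.1⟩ : R)⁻¹ :=
            Subtype.ext (by simp)
          change ((α (normAut g hg.2 (α⁻¹ x)) : P) : Ω) = _
          rw [← hφe, h1, map_mul, map_mul, map_inv, hφe, MulAut.apply_inv_self]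
        obtain ⟨k, hk⟩ := (isPGroup_iff_orderOf_dvd_pow.1 Q.2) ⟨_, hu _ hc⟩
        rw [Subgroup.orderOf_mk] at hk
        obtain ⟨j, -, hj⟩ := (Nat.dvd_prime_pow Fact.out).1 hk
        have hmem : u * π a * u⁻¹ ∈ Y := by
          refine IsStronglyPEmbedded.mem_of_conj_mem hY (hQY (hu _ hc)) hj ?_ ?_
          · rw [Ne, conj_eq_one_iff]
            exact hout g hgS hg.2 hgP hgA
          · have := hQY (hu _ hac)
            rw [map_mul, map_mul, map_inv] at this
            simpa [mul_assoc] using this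
        exact ⟨_, hmem, by simp [mul_assoc]⟩
      apply hY.2.1
      rw [eq_top_iff]
      intro y _
      obtain ⟨b, hb⟩ := hπ (u⁻¹ * y * u)
      obtain ⟨b', hb', hbb⟩ := hsub (hH.ge b.2)
      obtain rfl : b' = b := Subtype.ext hbb
      obtain ⟨y', hy', hy'e⟩ := hb'
      rw [hb] at hy'e
      simp only [MulEquiv.coe_toMonoidHom, MulAut.conj_apply, inv_inv] at hy'e
      rw [mul_left_inj, mul_right_inj] at hy'e
      exact hy'e ▸ hy'
    · have hle : extSubgroup F P ≤ A := extSubgroup_le P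
      have key : IsStronglyPEmbedded p (((extSubgroup F P).subgroupOf A).map π) := by
        have hg₀A : normAut g₀ hg₀.2 ∈ A :=
          autInducedBy_le_autGroup hPS.le (mem_autInducedBy_iff.2 ⟨g₀, hg₀.1, fun x => rfl⟩)
        have hne : π ⟨_, hg₀A⟩ ≠ 1 := hout g₀ hg₀.1 hg₀.2 hg₀P hg₀A
        have hmem : π ⟨_, hg₀A⟩ ∈ T :=
          hTmem.2 (mem_autInducedBy_iff.2 ⟨g₀, hg₀.1, fun x => rfl⟩)
        refine ⟨?_, ?_, hTp.toSylow hTi, iSup_le ?_⟩
        · refine dvd_trans ?_ (orderOf_dvd_natCard (π ⟨_, hg₀A⟩))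
          have h1 := hTp.dvd_orderOf (g := ⟨_, hmem⟩) (fun h => hne (congrArg Subtype.val h))
          rwa [Subgroup.orderOf_mk] at h1
        · intro htop
          refine hH (le_antisymm hle fun α hα => ?_)
          obtain ⟨b, hb, hbe⟩ : π ⟨α, hα⟩ ∈ ((extSubgroup F P).subgroupOf A).map π := by
            rw [htop]; trivial
          have h1 : ((b⁻¹ * ⟨α, hα⟩ : A) : MulAut P) ∈ extSubgroup F P :=
            autInducedBy_le_extSubgroup hS hPS (inn_le_autInducedBy hPS.le
              (hπeq.1 (by rw [map_mul, map_inv, hbe, inv_mul_cancel])))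
          simpa using (extSubgroup F P).mul_mem hb h1
        · rintro ⟨U, hUT, hUr⟩ y hy
          rw [IsPGroup.toSylow_coe] at hUT
          have hU1 : U ≠ ⊥ := (not_pRankLE_zero_iff (hTp.to_le hUT)).1 hUr
          obtain ⟨v, hv, hv1⟩ := (Subgroup.bot_or_exists_ne_one U).resolve_left hU1
          obtain ⟨c, hc, rfl⟩ := hUT hv
          obtain ⟨g, hgS, hge⟩ := mem_autInducedBy_iff.1 hc
          obtain ⟨a, rfl⟩ := hπ y
          have hg : g ∈ Subgroup.normalizer (P : Set Ω) := mem_normalizer_of_aut hge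
          have hcg : (c : MulAut P) = normAut g hg := MulEquiv.ext fun x => Subtype.ext (hge x)
          have hgP : g ∉ P := fun hgP => hv1 (hπeq.2 (by
            rw [inn_eq, mem_autInducedBy_iff]
            exact ⟨g, hgP, hge⟩))
          refine ⟨a, mem_extSubgroup_of_conj hr a.2 hgS hg hgP ?_, rfl⟩
          rw [← hcg]
          have h1 := hUT ((Subgroup.mem_normalizer_iff.1 hy (π c)).1 hv)
          rw [← map_inv, ← map_mul, ← map_mul] at h1
          exact hTmem.1 h1
      exact Or.inr ⟨⟨isCentric_of_receptive hr hcen, hPn, inn_subgroupOf_normal F P, _, key⟩,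
        inn_subgroupOf_normal F P, key⟩
  · obtain ⟨z, hz, hzP⟩ := SetLike.not_le_iff_exists.1 hcen
    refine Or.inl ⟨fun h => hcen (h.1.2 P (isConj_refl hPS.le)),
      le_antisymm (extSubgroup_le P) fun β hβ => ?_⟩
    refine mem_extSubgroup_of_conj hr hβ hz.1 (mem_normalizer_of_forall_commute hz.2) hzP ?_
    have h1 : normAut z (mem_normalizer_of_forall_commute hz.2) = 1 :=
      MulEquiv.ext fun x => Subtype.ext (by
        rw [normAut_apply, ← hz.2 x x.2, mul_inv_cancel_right]; rfl)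
    rw [h1, mul_one, mul_inv_cancel]
    exact one_mem _

/-- Alperin's theorem: a saturated system is contained in every system containing the automorphism
groups of `S` and of the essential subgroups. -/
theorem alperin (hS : IsPGroup p S) (hF : F.IsSaturated p) (E : FusionSystem S)
    (hE : ∀ P : Subgroup Ω, (P = S ∨ F.IsEssential p P) → F.autGroup P ≤ E.autGroup P) :
    F ≤ E := by
  suffices h : ∀ (n : ℕ) (P : Subgroup Ω), Nat.card S - Nat.card P ≤ n →
      ∀ φ ∈ F.Hom P, φ ∈ E.Hom P from fun P φ hφ => h _ P le_rfl φ hφ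
  intro n
  induction n using Nat.strong_induction_on with
  | _ n ih =>
  intro P hPn φ hφ
  have hPS := le_S F hφ
  obtain ⟨e, he, hee⟩ := exists_iso_of_mem hφ
  suffices h : IsIso E e from mem_of_eq rfl h fun x => (hee x).symm
  have hbig : ∀ (Q : Subgroup Ω), P < Q → ∀ ψ ∈ F.Hom Q, ψ ∈ E.Hom Q := by
    intro Q hPQ ψ hψ
    have hQS := le_S F hψ
    have := finite_of_le hQS
    have h1 : Nat.card P < Nat.card Q :=
      lt_of_not_ge fun h => hPQ.ne (Subgroup.eq_of_le_of_card_ge hPQ.le h)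
    have h2 : Nat.card Q ≤ Nat.card S := Subgroup.card_le_of_le hQS
    exact ih (Nat.card S - Nat.card Q) (by omega) Q le_rfl ψ hψ
  rcases eq_or_lt_of_le hPS with rfl | hlt
  · have hr : φ.range = P := eq_S_of_isConj_S ⟨φ, hφ, rfl⟩
    obtain ⟨α, hα, hαe⟩ := exists_iso_of_range hφ hr
    have h1 : α ∈ E.autGroup P := hE P (Or.inl rfl) ((mem_autGroup_iff F le_rfl).2 hα)
    exact isIso_of_mem ((mem_autGroup_iff E le_rfl).1 h1) fun x => ((hαe x).trans (hee x).symm).symm
  -- maps from subgroups conjugate to `P` onto a fully normalized one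
  obtain ⟨R, hPR, hRn⟩ := exists_fullyNormalized F hPS
  have hstep : ∀ Q : Subgroup Ω, F.IsConj Q R → ∃ f : Q ≃* R, IsIso E f ∧ IsIso F f := by
    intro Q hQR
    obtain ⟨f, h, hf, ψ, hψ, hψf, -⟩ := exists_hom_normalizerIn_of_fullyNormalized hS hF hRn hQR
    refine ⟨f, ?_, hf⟩
    have hQS : Q < S := by
      refine lt_of_le_of_ne (le_left_of_isConj hQR) ?_
      rintro rfl
      have h1 := card_eq_of_isConj (isConj_trans hQR (isConj_symm hPR))
      exact hlt.ne (Subgroup.eq_of_le_of_card_ge hPS h1.le)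
    have hN := lt_normalizerIn hS hQS
    have hcard : Nat.card P = Nat.card Q := card_eq_of_isConj (isConj_trans hPR (isConj_symm hQR))
    have hψE : ψ ∈ E.Hom (normalizerIn S Q) := by
      have := finite_of_le (normalizerIn_le (S := S) Q)
      have h1 : Nat.card Q < Nat.card (normalizerIn S Q) :=
        lt_of_not_ge fun h => hN.ne (Subgroup.eq_of_le_of_card_ge hN.le h)
      have h2 : Nat.card (normalizerIn S Q) ≤ Nat.card S :=
        Subgroup.card_le_of_le (normalizerIn_le Q)
      exact ih (Nat.card S - Nat.card (normalizerIn S Q)) (by omega) _ le_rfl ψ hψ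
    exact isIso_of_mem (res_mem E hψE h) fun x => (hψf x).symm
  obtain ⟨f, hfE, hfF⟩ := hstep P hPR
  obtain ⟨f', hfE', hfF'⟩ := hstep φ.range (isConj_trans (isConj_symm ⟨φ, hφ, rfl⟩) hPR)
  set α : MulAut R := (f.symm.trans e).trans f'
  have hαF : α ∈ F.autGroup R :=
    (mem_autGroup_iff F hRn.1).2 ((hfF.symm.trans he).trans hfF')
  have hRS : R < S := by
    refine lt_of_le_of_ne hRn.1 ?_
    rintro rfl
    exact hlt.ne (Subgroup.eq_of_le_of_card_ge hPS (card_eq_of_isConj hPR).ge)
  have hαE : α ∈ E.autGroup R := by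
    rcases extSubgroup_dichotomy hS hF hRS hRn with ⟨-, h⟩ | ⟨h, -⟩
    · rw [← h] at hαF
      refine (Subgroup.closure_le _).2 ?_ hαF
      rintro β ⟨Q, hRQ, ψ, hψ, hψe⟩
      have hψE : ψ ∈ E.Hom Q := by
        have hQS := le_S F hψ
        have := finite_of_le hQS
        have h1 : Nat.card R < Nat.card Q :=
          lt_of_not_ge fun h => hRQ.ne (Subgroup.eq_of_le_of_card_ge hRQ.le h)
        have h2 : Nat.card Q ≤ Nat.card S := Subgroup.card_le_of_le hQS
        have h3 := card_eq_of_isConj hPR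
        exact ih (Nat.card S - Nat.card Q) (by omega) Q le_rfl ψ hψ
      exact mem_autGroup_of_mem E (res_mem E hψE hRQ.le) fun x => (hψe x).symm
    · exact hE R (Or.inr h) hαF
  have hfin := (hfE.trans ((mem_autGroup_iff E hRn.1).1 hαE)).trans hfE'.symm
  refine hfin.congr fun x => ?_
  simp [α]

/-- An essential subgroup is radical. -/
theorem isRadical_of_isEssential (hS : IsPGroup p S) {P : Subgroup Ω} (hP : F.IsEssential p P) : F.IsRadical p P := by
  have hPS := hP.1.1
  obtain ⟨-, -, hN, Y, hY⟩ := hP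
  have := finite_of_le hPS
  refine ⟨hPS, le_antisymm ?_ ?_⟩
  · obtain ⟨Q, hQ1, hQY, hQN⟩ := IsStronglyPEmbedded.exists_sylow hY
    set π := QuotientGroup.mk' ((Cfsg.Inn P).subgroupOf (F.autGroup P))
    have hD : (pCore p (F.autGroup P)).Normal := by
      have := Cores.pCore_characteristic (G := F.autGroup P) p
      infer_instance
    have hDn := hD.map π (QuotientGroup.mk'_surjective _)
    have hDp : IsPGroup p ((pCore p (F.autGroup P)).map π) := (Cores.isPGroup_pCore p).map _
    have h : (pCore p (F.autGroup P)).map π = ⊥ := by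
      by_contra hne
      refine hY.2.1 (eq_top_iff.2 ?_)
      have hle : (pCore p (F.autGroup P)).map π ≤ (Q : Subgroup _) :=
        (Cores.le_pCore hDp).trans (Cores.pCore_le_sylow Q)
      exact (Subgroup.normalizer_eq_top ((pCore p (F.autGroup P)).map π)).ge.trans (hQN _ hle hne)
    rintro _ ⟨a, ha, rfl⟩
    have h1 : π a = 1 := by
      rw [← Subgroup.mem_bot, ← h]
      exact ⟨a, ha, rfl⟩
    rwa [← MonoidHom.mem_ker, QuotientGroup.ker_mk', Subgroup.mem_subgroupOf] at h1
  · intro α hα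
    have hP' : IsPGroup p ((Cfsg.Inn P).subgroupOf (F.autGroup P)) :=
      (((isPGroup_autInducedBy hS P).to_le (inn_le_autInducedBy hPS))).comap_subtype
    exact ⟨⟨α, inn_le_autGroup hPS hα⟩, Cores.le_pCore hP' hα, rfl⟩

end CfsgLib.Fusion
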