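import Mathlib

/-!
# Automorphisms stabilizing a series of a p-group
-/

set_option autoImplicit false

namespace CfsgLib.Fusion

variable {P : Type*} [Group P] {p : ℕ} [Fact p.Prime]

/-- An automorphism of prime order `q ≠ p` of a `p`-group moving `x` by a fixed element fixes
`x`. -/
theorem eq_one_of_fixed_translate (hP : IsPGroup p P) {α : MulAut P} {q : ℕ} (hq : q.Prime)
    (hqp : q ≠ p) (hα : α ^ q = 1) {x d : P} (hd : α d = d) (hx : α x = x * d) : d = 1 := by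
  have h : ∀ k : ℕ, (α ^ k) x = x * d ^ k := by
    intro k
    induction k with
    | zero => simp
    | succ k ih => rw [pow_succ', MulAut.mul_apply, ih, map_mul, map_pow, hd, hx, pow_succ',
        mul_assoc]
  have h1 : d ^ q = 1 := by simpa [hα] using h q
  obtain ⟨k, hk⟩ := hP d
  have h3 : orderOf d ∣ Nat.gcd q (p ^ k) :=
    Nat.dvd_gcd (orderOf_dvd_of_pow_eq_one h1) (orderOf_dvd_of_pow_eq_one hk)
  rw [Nat.Coprime.gcd_eq_one
    (((Nat.coprime_primes hq Fact.out).2 hqp).pow_right k)] at h3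
  exact orderOf_eq_one_iff.1 (Nat.dvd_one.1 h3)

/-- Criterion for a group of automorphisms of a finite `p`-group stabilizing a series to be a
`p`-group: the automorphisms of prime order other than `p` must fix the bottom term. -/
theorem isPGroup_of_stabilizes [Finite P] (hP : IsPGroup p P) (K : Subgroup (MulAut P))
    (C : ℕ → Subgroup P) (n : ℕ) (htop : ∀ x, x ∈ C n)
    (h0 : ∀ α ∈ K, (orderOf α).Prime → orderOf α ≠ p → ∀ x ∈ C 0, α x = x)
    (hstep : ∀ α ∈ K, ∀ i < n, ∀ x ∈ C (i + 1), x⁻¹ * α x ∈ C i) : IsPGroup p K := by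
  refine IsPGroup.of_card (n := (Nat.card K).primeFactorsList.length)
    (Nat.eq_prime_pow_of_unique_prime_dvd Nat.card_pos.ne' fun {q} hq hdvd => ?_)
  by_contra hqp
  have := Fact.mk hq
  obtain ⟨⟨α, hαK⟩, hα⟩ := exists_prime_orderOf_dvd_card' q hdvd
  rw [Subgroup.orderOf_mk] at hα
  have hfix : ∀ i ≤ n, ∀ x ∈ C i, α x = x := by
    intro i
    induction i with
    | zero => exact fun _ => h0 α hαK (hα ▸ hq) (hα ▸ hqp)
    | succ i ih =>
      intro hi x hx
      have hd := ih (by omega) _ (hstep α hαK i (by omega) x hx)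
      have h1 : x⁻¹ * α x = 1 :=
        eq_one_of_fixed_translate hP hq hqp (hα ▸ pow_orderOf_eq_one α) (x := x) hd (by group)
      exact (inv_mul_eq_one.1 h1).symm
  have h1 : α = 1 := MulEquiv.ext fun x => hfix n le_rfl x (htop x)
  rw [h1, orderOf_one] at hα
  exact hq.ne_one hα.symm

/-- The automorphisms in `A` that stabilize the series `C 0, …, C n`, inducing the identity on the
successive sections. -/
def stabSeries (A : Subgroup (MulAut P)) (C : ℕ → Subgroup P) (n : ℕ) : Subgroup (MulAut P) where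
  carrier := {α | α ∈ A ∧ (∀ i ≤ n, ∀ x, x ∈ C i ↔ α x ∈ C i) ∧
    ∀ i < n, ∀ x ∈ C (i + 1), x⁻¹ * α x ∈ C i}
  one_mem' := ⟨one_mem _, fun _ _ _ => Iff.rfl, fun _ _ _ _ => by simp⟩
  mul_mem' := by
    rintro a b ⟨ha, ha1, ha2⟩ ⟨hb, hb1, hb2⟩
    refine ⟨mul_mem ha hb, fun i hi x => (hb1 i hi x).trans (ha1 i hi (b x)), fun i hi x hx => ?_⟩
    have h := (C i).mul_mem (ha2 i hi x hx) ((ha1 i (by omega) _).1 (hb2 i hi x hx))
    simpa using h
  inv_mem' := by
    rintro a ⟨ha, ha1, ha2⟩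
    have h1 : ∀ i ≤ n, ∀ x, x ∈ C i ↔ a⁻¹ x ∈ C i := fun i hi x => by
      conv_lhs => rw [← MulAut.apply_inv_self P a x]
      exact (ha1 i hi _).symm
    refine ⟨inv_mem ha, h1, fun i hi x hx => ?_⟩
    have h := (C i).inv_mem (ha2 i hi _ ((h1 (i + 1) (by omega) x).1 hx))
    rwa [mul_inv_rev, inv_inv, MulAut.apply_inv_self] at h

theorem mem_stabSeries {A : Subgroup (MulAut P)} {C : ℕ → Subgroup P} {n : ℕ} {α : MulAut P} :
    α ∈ stabSeries A C n ↔ α ∈ A ∧ (∀ i ≤ n, ∀ x, x ∈ C i ↔ α x ∈ C i) ∧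
      ∀ i < n, ∀ x ∈ C (i + 1), x⁻¹ * α x ∈ C i := Iff.rfl

/-- When `A` preserves every term, the stabilizer of the series is normal in `A`. -/
theorem conj_mem_stabSeries {A : Subgroup (MulAut P)} {C : ℕ → Subgroup P} {n : ℕ}
    (hinv : ∀ β ∈ A, ∀ i ≤ n, ∀ x ∈ C i, β x ∈ C i) {α β : MulAut P}
    (hα : α ∈ stabSeries A C n) (hβ : β ∈ A) : β * α * β⁻¹ ∈ stabSeries A C n := by
  obtain ⟨ha, ha1, ha2⟩ := hα
  have hiff : ∀ β ∈ A, ∀ i ≤ n, ∀ x, x ∈ C i ↔ β x ∈ C i := fun β hβ i hi x =>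
    ⟨hinv β hβ i hi x, fun h => by simpa using hinv β⁻¹ (inv_mem hβ) i hi _ h⟩
  refine ⟨mul_mem (mul_mem hβ ha) (inv_mem hβ), fun i hi x =>
    ((hiff β⁻¹ (inv_mem hβ) i hi x).trans (ha1 i hi _)).trans (hiff β hβ i hi _),
    fun i hi x hx => ?_⟩
  have h := hinv β hβ i (by omega) _
    (ha2 i hi _ (hinv β⁻¹ (inv_mem hβ) (i + 1) (by omega) x hx))
  simpa using h

theorem normal_stabSeries_subgroupOf {A : Subgroup (MulAut P)} {C : ℕ → Subgroup P} {n : ℕ}
    (hinv : ∀ β ∈ A, ∀ i ≤ n, ∀ x ∈ C i, β x ∈ C i) :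
    ((stabSeries A C n).subgroupOf A).Normal :=
  ⟨fun _ ha b => conj_mem_stabSeries hinv ha b.2⟩

end CfsgLib.Fusion
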