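import Cfsg.Agent.Lib.Fusion.NormSys
import Cfsg.Agent.Lib.Fusion.Stabilizer
import Cfsg.Agent.Lib.Fusion.Alperin

/-!
# Criteria for a subgroup to be normal in a saturated fusion system
-/

set_option autoImplicit false

open Cfsg Cfsg.FusionSystem
open scoped commutatorElement

namespace CfsgLib.Fusion

variable {Ω : Type*} [Group Ω] {S : Subgroup Ω} {F : FusionSystem S}

theorem stronglyClosed_of_isNormal {Q : Subgroup Ω} (hQ : F.IsNormal Q) : F.StronglyClosed Q := by
  refine ⟨hQ.1, fun R hR φ hφ x => ?_⟩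
  obtain ⟨ψ, -, hψe, hψQ⟩ := hQ.2 R φ hφ
  rw [← hψe]
  exact (show img ψ Q = Q from hψQ).le (apply_mem_img ψ (hR x.2))

theorem autGroup_apply_mem {Q P : Subgroup Ω} (hQ : F.StronglyClosed Q) {α : MulAut P}
    (hα : α ∈ F.autGroup P) {x : P} (hx : (x : Ω) ∈ Q) : ((α x : P) : Ω) ∈ Q := by
  by_cases hP : P ≤ S
  · have h1 := res_mem F ((mem_autGroup_iff F hP).1 hα) (inf_le_left : P ⊓ Q ≤ P)
    exact hQ.2 (P ⊓ Q) inf_le_right _ h1 ⟨x, x.2, hx⟩
  · rw [autGroup_eq_bot F hP, Subgroup.mem_bot] at hα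
    simpa [hα] using hx

theorem mem_normalizer_of_stronglyClosed [Finite S] {Q : Subgroup Ω} (hQ : F.StronglyClosed Q)
    {s : Ω} (hs : s ∈ S) : s ∈ Subgroup.normalizer (Q : Set Ω) := by
  have := finite_of_le hQ.1
  exact mem_normalizer_of_forall fun x hx =>
    hQ.2 Q le_rfl _ (F.conj_mem hQ.1 hs) ⟨x, hx⟩

theorem le_normalizer_of_stronglyClosed [Finite S] {Q : Subgroup Ω} (hQ : F.StronglyClosed Q) :
    S ≤ Subgroup.normalizer (Q : Set Ω) := fun _ hs => mem_normalizer_of_stronglyClosed hQ hs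

theorem weaklyClosed_of_stronglyClosed [Finite S] {Q : Subgroup Ω} (hQ : F.StronglyClosed Q) :
    F.WeaklyClosed Q := by
  refine ⟨hQ.1, fun φ hφ => ?_⟩
  have := finite_of_le hQ.1
  refine Subgroup.eq_of_le_of_card_ge (fun y hy => ?_)
    (Nat.card_congr (MonoidHom.ofInjective (F.injective_of_mem hφ)).toEquiv).le
  obtain ⟨x, rfl⟩ := hy
  exact hQ.2 Q le_rfl φ hφ x

theorem le_normalizer_of_weaklyClosed {Q : Subgroup Ω} (hQ : F.WeaklyClosed Q) :
    S ≤ Subgroup.normalizer (Q : Set Ω) := fun s hs => by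
  rw [← conjSub_eq_iff_mem_normalizer, ← range_conjHom]
  exact hQ.2 _ (F.conj_mem hQ.1 hs)

variable {p : ℕ} [Fact p.Prime] [Finite S]

omit [Fact p.Prime] in
/-- A `p`-subgroup of `Aut_F(P)` normalized by it consists of inner automorphisms, for `P`
radical. -/
theorem le_inn_of_normal_pgroup {P : Subgroup Ω} (hr : F.IsRadical p P)
    {K : Subgroup (MulAut P)} (hKA : K ≤ F.autGroup P)
    (hn : (K.subgroupOf (F.autGroup P)).Normal) (hK : IsPGroup p K) : K ≤ Cfsg.Inn P := by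
  intro α hα
  rw [← hr.2]
  exact ⟨⟨α, hKA hα⟩, (show K.subgroupOf (F.autGroup P) ≤ pCore p (F.autGroup P) from
    le_sSup ⟨hn, hK.comap_subtype⟩) hα, rfl⟩

/-- A `p`-subgroup of `Aut_F(P)` normalized by it lies in `Aut_S(P)`, for `P` fully automized. -/
theorem le_autInducedBy_of_normal_pgroup {P : Subgroup Ω}
    (ha : F.IsFullyAutomized p P) {K : Subgroup (MulAut P)} (hKA : K ≤ F.autGroup P)
    (hn : (K.subgroupOf (F.autGroup P)).Normal) (hK : IsPGroup p K) :
    K ≤ autInducedBy S P := by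
  have := finite_of_le ha.1
  obtain ⟨hPS, R, hR⟩ := ha
  intro α hα
  have hle : K.subgroupOf (F.autGroup P) ≤ pCore p (F.autGroup P) :=
    Cores.le_pCore (hn := hn) hK.comap_subtype
  have h1 := Cores.pCore_le_sylow R (hle (show (⟨α, hKA hα⟩ : F.autGroup P) ∈ K.subgroupOf (F.autGroup P) from hα))
  rw [hR] at h1
  exact h1

/-- If `N_Q(P) ≤ P` for a `Q` normalized by the `p`-group `S`, then `Q ≤ P`. -/
theorem le_of_normalizer_inter_le (hS : IsPGroup p S) {P Q : Subgroup Ω} (hPS : P ≤ S)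
    (hQS : Q ≤ S) (hQn : S ≤ Subgroup.normalizer (Q : Set Ω))
    (h : ∀ x ∈ Q, x ∈ Subgroup.normalizer (P : Set Ω) → x ∈ P) : Q ≤ P := by
  by_contra hne
  have hlt : P < P ⊔ Q := lt_of_le_not_ge le_sup_left fun h' => hne (le_sup_right.trans h')
  have hMS : P ⊔ Q ≤ S := sup_le hPS hQS
  have := finite_of_le hMS
  obtain ⟨y, ⟨hy, hyn⟩, hyP⟩ := SetLike.exists_of_lt (lt_normalizerIn (hS.to_le hMS) hlt)
  have hy' : y ∈ ((P ⊔ Q : Subgroup Ω) : Set Ω) := hy
  rw [Subgroup.coe_mul_of_left_le_normalizer_right P Q (hPS.trans hQn)] at hy'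
  obtain ⟨a, ha, b, hb, rfl⟩ := hy'
  have hbn : b ∈ Subgroup.normalizer (P : Set Ω) := by
    simpa using mul_mem (inv_mem (Subgroup.le_normalizer ha)) hyn
  exact hyP (P.mul_mem ha (h b hb hbn))

/-- If the automorphisms induced by `N_Q(P)` lie in a normal `p`-subgroup of `Aut_F(P)` and `P` is
centric radical, then `Q ≤ P`. -/
theorem le_of_centric_radical (hS : IsPGroup p S) {P Q : Subgroup Ω} (hc : F.IsCentric P)
    (hr : F.IsRadical p P) (hQS : Q ≤ S) (hQn : S ≤ Subgroup.normalizer (Q : Set Ω))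
    (K : Subgroup (MulAut P)) (hKA : K ≤ F.autGroup P)
    (hn : (K.subgroupOf (F.autGroup P)).Normal) (hK : IsPGroup p K)
    (hQK : ∀ x ∈ Q, ∀ hx : x ∈ Subgroup.normalizer (P : Set Ω), normAut x hx ∈ K) : Q ≤ P :=
  le_of_normalizer_inter_le hS hc.1 hQS hQn fun x hx hxn =>
    mem_of_normAut_mem_inn hc.1 (hc.2 P (isConj_refl hc.1)) (hQS hx)
      (le_inn_of_normal_pgroup hr hKA hn hK (hQK x hx hxn))

/-- A subgroup normal in the system lies in every centric radical subgroup. -/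
theorem le_of_isNormal (hS : IsPGroup p S) {P Q : Subgroup Ω} (hQ : F.IsNormal Q)
    (hc : F.IsCentric P) (hr : F.IsRadical p P) : Q ≤ P := by
  have hPS := hc.1
  have := finite_of_le hPS
  refine le_of_centric_radical hS hc hr hQ.1
    (le_normalizer_of_stronglyClosed (stronglyClosed_of_isNormal hQ))
    (autInducedBy Q P) ((autInducedBy_mono hQ.1).trans (autInducedBy_le_autGroup hPS)) ?_
    ((isPGroup_autInducedBy hS P).to_le (autInducedBy_mono hQ.1))
    (fun x hx hxn => mem_autInducedBy_iff.2 ⟨x, hx, fun _ => rfl⟩)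
  refine ⟨fun a ha b => ?_⟩
  rw [Subgroup.mem_subgroupOf] at ha ⊢
  obtain ⟨x, hx, hxe⟩ := mem_autInducedBy_iff.1 ha
  obtain ⟨ψ, hψ, hψe, hψQ⟩ := hQ.2 P _ ((mem_autGroup_iff F hPS).1 b.2)
  let z : ↥(P ⊔ Q) := ⟨x, le_sup_right (a := P) hx⟩
  refine mem_autInducedBy_iff.2 ⟨ψ z, ?_, fun y => ?_⟩
  · exact (show img ψ Q = Q from hψQ).le (apply_mem_img ψ (x := z) hx)
  have h2 : ∀ w : P, ((b : MulAut P) w : Ω) = ψ (Subgroup.inclusion le_sup_left w) := fun w =>
    (hψe w).symm
  have h3 : Subgroup.inclusion le_sup_left ((a : MulAut P) ((b : MulAut P)⁻¹ y)) =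
      z * Subgroup.inclusion le_sup_left ((b : MulAut P)⁻¹ y) * z⁻¹ := Subtype.ext (hxe _)
  change (((b : MulAut P) ((a : MulAut P) ((b : MulAut P)⁻¹ y)) : P) : Ω) = _
  rw [h2, h3, map_mul, map_mul, map_inv, ← h2, MulAut.apply_inv_self]

/-- The main criterion: `Q` is normal when it lies in `S` and every essential subgroup and is
invariant under their automorphism groups. -/
theorem isNormal_of_autGroup_invariant (hS : IsPGroup p S) (hF : F.IsSaturated p)
    {Q : Subgroup Ω} (h : ∀ P : Subgroup Ω, (P = S ∨ F.IsEssential p P) →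
      Q ≤ P ∧ ∀ α ∈ F.autGroup P, ∀ x : P, (x : Ω) ∈ Q → ((α x : P) : Ω) ∈ Q) :
    F.IsNormal Q := by
  obtain ⟨hQS, hinv⟩ := h S (Or.inl rfl)
  have := finite_of_le hQS
  have hn : S = normalizerIn S Q := le_antisymm (le_inf le_rfl fun s hs =>
    mem_normalizer_of_forall fun x hx => by
      have hc : normAut s (Subgroup.le_normalizer hs) ∈ F.autGroup S :=
        autInducedBy_le_autGroup le_rfl (mem_autInducedBy_iff.2 ⟨s, hs, fun _ => rfl⟩)
      exact hinv _ hc ⟨x, hQS hx⟩ hx) inf_le_left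
  have hle : F ≤ normSys F Q hn hQS := by
    refine alperin hS hF _ ?_
    intro P hP α hα
    obtain ⟨hQP, hPinv⟩ := h P hP
    have hPS : P ≤ S := by
      rcases hP with rfl | hP
      · exact le_rfl
      · exact hP.1.1
    have hαi := (mem_autGroup_iff F hPS).1 hα
    obtain ⟨ψ, hψ, hψe⟩ := mem_of_eq_sup (sup_eq_left.2 hQP).symm hαi
    refine Subgroup.subset_closure ⟨hαi, hPS.trans hn.le, fun x => hn.le (hPS (α x).2), ψ, hψ,
      fun x => hψe _, ?_⟩
    refine Subgroup.eq_of_le_of_card_ge ?_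
      (card_img (F.injective_of_mem hψ) le_sup_right).ge
    intro y hy
    obtain ⟨x, hx, rfl⟩ := mem_img.1 hy
    rw [hψe]
    exact hPinv α hα ⟨x, (sup_eq_left.2 hQP).le x.2⟩ hx
  exact ⟨hQS, fun P φ hφ => (hle P hφ).2.2.2⟩

theorem isNormal_of_stronglyClosed (hS : IsPGroup p S) (hF : F.IsSaturated p) {Q : Subgroup Ω}
    (hQ : F.StronglyClosed Q) (h : ∀ P : Subgroup Ω, F.IsEssential p P → Q ≤ P) :
    F.IsNormal Q := by
  refine isNormal_of_autGroup_invariant hS hF fun P hP => ?_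
  refine ⟨?_, fun α hα x hx => autGroup_apply_mem hQ hα hx⟩
  rcases hP with rfl | hP
  · exact hQ.1
  · exact h P hP

theorem isCentricRadical_self (hS : IsPGroup p S) (hF : F.IsSaturated p) :
    F.IsCentric S := by
  refine isCentric_of_receptive
    (fullyAutomized_receptive_of_fullyNormalized hS hF isFullyNormalized_self).2 ?_
  exact centralizerIn_le S

/-- A strongly closed subgroup with a central series of strongly closed subgroups is normal. -/
theorem isNormal_of_series (hS : IsPGroup p S) (hF : F.IsSaturated p) {Q : Subgroup Ω}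
    (hQ : F.StronglyClosed Q) (C : ℕ → Subgroup Ω) (n : ℕ) (hC0 : C 0 = ⊥) (hCn : C n = Q)
    (hCQ : ∀ i ≤ n, C i ≤ Q) (hC : ∀ i ≤ n, F.StronglyClosed (C i))
    (hcomm : ∀ i < n, ⁅Q, C (i + 1)⁆ ≤ C i) : F.IsNormal Q := by
  refine isNormal_of_stronglyClosed hS hF hQ fun P hP => ?_
  have hPS := hP.1.1
  have := finite_of_le hPS
  let D : ℕ → Subgroup P := fun i => if i ≤ n then (C i).subgroupOf P else ⊤
  have hD : ∀ i ≤ n, D i = (C i).subgroupOf P := fun i hi => if_pos hi
  have hDtop : D (n + 1) = ⊤ := if_neg (by omega)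
  have hinv : ∀ β ∈ F.autGroup P, ∀ i ≤ n + 1, ∀ x ∈ D i, β x ∈ D i := by
    intro β hβ i hi x hx
    rcases Nat.le_succ_iff.1 hi with h | h
    · rw [hD i h] at hx ⊢
      exact autGroup_apply_mem (hC i h) hβ hx
    · subst h
      simp [hDtop]
  refine le_of_centric_radical hS hP.1 (isRadical_of_isEssential hS hP) hQ.1
    (le_normalizer_of_stronglyClosed hQ) (stabSeries (F.autGroup P) D (n + 1))
    (fun α hα => hα.1) (normal_stabSeries_subgroupOf hinv) ?_ fun x hx hxn => ?_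
  · refine isPGroup_of_stabilizes (hS.to_le hPS) _ D (n + 1) (fun x => by simp [hDtop]) ?_
      fun α hα => hα.2.2
    intro α _ _ _ x hx
    rw [hD 0 (Nat.zero_le n), hC0, Subgroup.mem_subgroupOf, Subgroup.mem_bot] at hx
    rw [show x = 1 from Subtype.ext hx, map_one]
  · have hA : normAut x hxn ∈ F.autGroup P :=
      autInducedBy_le_autGroup hPS (mem_autInducedBy_iff.2 ⟨x, hQ.1 hx, fun _ => rfl⟩)
    have hAiff : ∀ i ≤ n + 1, ∀ y, y ∈ D i ↔ normAut x hxn y ∈ D i := fun i hi y =>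
      ⟨hinv _ hA i hi y, fun h => by simpa using hinv _ (inv_mem hA) i hi _ h⟩
    refine ⟨hA, hAiff, fun i hi y hy => ?_⟩
    rcases Nat.lt_succ_iff_lt_or_eq.1 hi with h | h
    · rw [hD i h.le, Subgroup.mem_subgroupOf]
      rw [hD (i + 1) h, Subgroup.mem_subgroupOf] at hy
      have h1 := hcomm i h (Subgroup.commutator_mem_commutator hx ((C (i + 1)).inv_mem hy))
      have h2 := mem_normalizer_of_stronglyClosed (hC i h.le) (hQ.1 (hCQ (i + 1) h hy))
      -- `y⁻¹ x y x⁻¹` is the inverse of the conjugate of that commutator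
      have h3 : ((y⁻¹ * normAut x hxn y : P) : Ω) =
          (⁅x, (y : Ω)⁻¹⁆)⁻¹ := by simp [commutatorElement_def, mul_assoc]
      rw [h3]
      exact (C i).inv_mem h1
    · subst h
      rw [hD i le_rfl, Subgroup.mem_subgroupOf, hCn]
      have h1 : (y : Ω)⁻¹ * x * (y : Ω)⁻¹⁻¹ ∈ Q :=
        conj_mem_of_mem_normalizer (mem_normalizer_of_stronglyClosed hQ
          (S.inv_mem (hPS y.2))) hx
      have h2 := Q.mul_mem h1 (Q.inv_mem hx)
      simpa [mul_assoc] using h2

/-- The lower central series of a normal subgroup: a central series of normal subgroups. -/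
theorem exists_series_of_isNormal (hS : IsPGroup p S) {Q : Subgroup Ω} (hQ : F.IsNormal Q) :
    ∃ n, Q.lowerCentralSeries n = ⊥ ∧ ∀ i, F.IsNormal (Q.lowerCentralSeries i) := by
  have := finite_of_le hQ.1
  obtain ⟨n, hn⟩ := (Subgroup.isNilpotent_iff_lowerCentralSeries Q).1 (hS.to_le hQ.1).isNilpotent
  refine ⟨n, hn, fun i => isNormal_of_characteristic hQ (Q.lowerCentralSeries_le_self i) ?_⟩
  rw [← Subgroup.top_subtype_lowerCentralSeries, Subgroup.subgroupOf,
    Subgroup.comap_map_eq_self_of_injective Q.subtype_injective]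
  infer_instance

/-- A strongly closed abelian subgroup is normal. -/
theorem isNormal_of_commutative (hS : IsPGroup p S) (hF : F.IsSaturated p) {Q : Subgroup Ω}
    (hQ : F.StronglyClosed Q) (hab : ⁅Q, Q⁆ = ⊥) : F.IsNormal Q := by
  refine isNormal_of_series hS hF hQ (fun i => if i = 0 then ⊥ else Q) 1 rfl rfl
    (fun i _ => by split_ifs <;> simp) (fun i _ => ?_) ?_
  · split_ifs
    · exact stronglyClosed_of_isNormal isNormal_bot
    · exact hQ
  · intro i hi
    obtain rfl : i = 0 := by omega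
    simpa using hab.le

end CfsgLib.Fusion
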