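import Mathlib
import Cfsg.Agent.Lib.Fusion.Normal
import Cfsg.Agent.Lib.Transfer.Basic

/-!
# Hyperfocal and focal subgroups

Every map is a conjugation by an element of `S` modulo the hyperfocal subgroup; the focal subgroup
is the hyperfocal subgroup times the derived subgroup; maps are trivial modulo a strongly closed
subgroup with abelian quotient when the automorphisms of `S` are.
-/

set_option autoImplicit false

open Cfsg Cfsg.FusionSystem
open scoped commutatorElement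

namespace CfsgLib.Fusion

variable {Ω : Type*} [Group Ω] {S : Subgroup Ω} {F : FusionSystem S}

theorem conj_mem_iff_of_le_normalizer {T : Subgroup Ω} (hT : S ≤ Subgroup.normalizer (T : Set Ω))
    {g x : Ω} (hg : g ∈ S) : g * x * g⁻¹ ∈ T ↔ x ∈ T :=
  (Subgroup.mem_normalizer_iff.1 (hT hg) x).symm

variable (F) in
/-- The maps that are conjugations by elements of `S` modulo `T`. -/
def modSys (T : Subgroup Ω) (hT : S ≤ Subgroup.normalizer (T : Set Ω)) : FusionSystem S where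
  Hom P := {φ | φ ∈ F.Hom P ∧ ∃ g ∈ S, ∀ x : P, (g * (x : Ω) * g⁻¹)⁻¹ * φ x ∈ T}
  le_of_mem h := F.le_of_mem h.1
  injective_of_mem h := F.injective_of_mem h.1
  conj_mem {P g} hP hg := ⟨F.conj_mem hP hg, g, hg, fun x => by simp [mul_assoc]⟩
  comp_mem := by
    rintro P Q φ ψ ⟨hφ, g, hg, hφg⟩ ⟨hψ, k, hk, hψk⟩ h
    refine ⟨F.comp_mem hφ hψ h, k * g, S.mul_mem hk hg, fun x => ?_⟩
    have h1 : k * ((g * (x : Ω) * g⁻¹)⁻¹ * φ x) * k⁻¹ ∈ T :=
      (conj_mem_iff_of_le_normalizer hT hk).2 (hφg x)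
    have h2 : (k * φ x * k⁻¹)⁻¹ * ψ ⟨φ x, h x⟩ ∈ T := hψk ⟨φ x, h x⟩
    have h3 := T.mul_mem h1 h2
    change (k * g * (x : Ω) * (k * g)⁻¹)⁻¹ * ψ ⟨φ x, h x⟩ ∈ T
    convert h3 using 1
    group
  inv_mem := by
    rintro P φ ⟨hφ, g, hg, hφg⟩
    obtain ⟨ψ, hψ, hψe⟩ := F.inv_mem hφ
    refine ⟨ψ, ⟨hψ, g⁻¹, S.inv_mem hg, ?_⟩, hψe⟩
    rintro ⟨_, x, rfl⟩
    rw [hψe, ← conj_mem_iff_of_le_normalizer hT hg]
    convert T.inv_mem (hφg x) using 1
    group

theorem mem_modSys {T : Subgroup Ω} {hT : S ≤ Subgroup.normalizer (T : Set Ω)} {P : Subgroup Ω}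
    {φ : P →* Ω} : φ ∈ (modSys F T hT).Hom P ↔
      φ ∈ F.Hom P ∧ ∃ g ∈ S, ∀ x : P, (g * (x : Ω) * g⁻¹)⁻¹ * φ x ∈ T := Iff.rfl

theorem hyperfocalSubgroup_le (p : ℕ) : F.hyperfocalSubgroup p ≤ S := by
  refine (Subgroup.closure_le S).2 ?_
  rintro _ ⟨P, α, x, hP, -, rfl⟩
  exact S.mul_mem (S.inv_mem (hP x.2)) (hP ((α : MulAut P) x).2)

theorem focalSubgroup_le : F.focalSubgroup ≤ S := by
  refine (Subgroup.closure_le S).2 ?_
  rintro _ ⟨P, φ, x, hφ, rfl⟩
  exact S.mul_mem (S.inv_mem (le_S F hφ x.2)) (apply_mem_S F hφ x)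

theorem hyperfocalSubgroup_le_focalSubgroup (p : ℕ) :
    F.hyperfocalSubgroup p ≤ F.focalSubgroup := by
  refine Subgroup.closure_mono ?_
  rintro _ ⟨P, α, x, hP, -, rfl⟩
  exact ⟨P, _, x, (mem_autGroup_iff F hP).1 α.2, rfl⟩

theorem commutator_le_focalSubgroup : ⁅S, S⁆ ≤ F.focalSubgroup := by
  refine Subgroup.commutator_le.2 fun a ha b hb => ?_
  refine Subgroup.subset_closure ⟨S, _, ⟨a⁻¹, S.inv_mem ha⟩, F.conj_mem le_rfl hb, ?_⟩
  simp [commutatorElement_def, mul_assoc]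

theorem le_normalizer_hyperfocalSubgroup [Finite S] (p : ℕ) :
    S ≤ Subgroup.normalizer (F.hyperfocalSubgroup p : Set Ω) := by
  intro s hs
  have := finite_of_le (hyperfocalSubgroup_le (F := F) p)
  refine mem_normalizer_of_forall fun y hy => ?_
  suffices h : F.hyperfocalSubgroup p ≤
      (F.hyperfocalSubgroup p).comap (MulAut.conj s).toMonoidHom from h hy
  refine (Subgroup.closure_le _).2 ?_
  rintro _ ⟨P, α, x, hP, hα, rfl⟩
  obtain ⟨e, he, hee⟩ := exists_iso_of_range (F.conj_mem hP hs) (range_conjHom P s)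
  refine Subgroup.subset_closure ⟨conjSub s P, autEquiv he α, e x, he.le_right,
    Transfer.map_pResidual_le (autEquiv he).toMonoidHom ⟨α, hα, rfl⟩, ?_⟩
  rw [autEquiv_apply, MulEquiv.symm_apply_apply, hee, hee]
  simp [mul_assoc]

theorem hyperfocalSubgroup_mono {H : FusionSystem S} (h : H.IsSubsystemOf F) (p : ℕ) :
    H.hyperfocalSubgroup p ≤ F.hyperfocalSubgroup p := by
  refine Subgroup.closure_mono ?_
  rintro _ ⟨P, α, x, hP, hα, rfl⟩
  have hle : H.autGroup P ≤ F.autGroup P := fun β hβ =>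
    mem_autGroup_of_mem F (h P ((mem_autGroup_iff H hP).1 hβ)) fun _ => rfl
  exact ⟨P, Subgroup.inclusion hle α, x, hP,
    Transfer.map_pResidual_le _ ⟨α, hα, rfl⟩, rfl⟩

theorem focalSubgroup_mono {H : FusionSystem S} (h : H.IsSubsystemOf F) :
    H.focalSubgroup ≤ F.focalSubgroup := by
  refine Subgroup.closure_mono ?_
  rintro _ ⟨P, φ, x, hφ, rfl⟩
  exact ⟨P, φ, x, h P hφ, rfl⟩

variable {p : ℕ} [Fact p.Prime] [Finite S]

/-- An automorphism of a fully automized subgroup is a conjugation by an element of `S` modulo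
the hyperfocal subgroup. -/
theorem exists_conj_mod_hyperfocal_of_fullyAutomized {P : Subgroup Ω}
    (hP : F.IsFullyAutomized p P) {α : MulAut P} (hα : α ∈ F.autGroup P) :
    ∃ g ∈ S, ∀ x : P, (g * (x : Ω) * g⁻¹)⁻¹ * (α x : Ω) ∈ F.hyperfocalSubgroup p := by
  obtain ⟨hPS, R, hR⟩ := hP
  have := finite_of_le hPS
  have h1 : (⟨α, hα⟩ : F.autGroup P) ∈ pResidual p (F.autGroup P) ⊔ (R : Subgroup (F.autGroup P)) :=
    Transfer.pResidual_sup_sylow R ▸ Subgroup.mem_top _
  obtain ⟨β, hβ, γ, hγ, hβγ⟩ := Subgroup.mem_sup_of_normal_left.1 h1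
  rw [hR, Subgroup.mem_subgroupOf, mem_autInducedBy_iff] at hγ
  obtain ⟨g, hg, hge⟩ := hγ
  refine ⟨g, hg, fun x => ?_⟩
  have h2 : α = (β : MulAut P) * (γ : MulAut P) := (congrArg Subtype.val hβγ).symm
  rw [← hge x, h2, MulAut.mul_apply]
  exact Subgroup.subset_closure ⟨P, β, (γ : MulAut P) x, hPS, hβ, rfl⟩

/-- Every map is a conjugation by an element of `S` modulo the hyperfocal subgroup. -/
theorem exists_conj_mod_hyperfocal (hS : IsPGroup p S) (hF : F.IsSaturated p) {P : Subgroup Ω}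
    {φ : P →* Ω} (hφ : φ ∈ F.Hom P) :
    ∃ g ∈ S, ∀ x : P, (g * (x : Ω) * g⁻¹)⁻¹ * φ x ∈ F.hyperfocalSubgroup p := by
  refine (mem_modSys.1 (alperin hS hF (modSys F _ (le_normalizer_hyperfocalSubgroup p)) ?_ P hφ)).2
  intro Q hQ α hα
  have hn : F.IsFullyNormalized Q := by
    rcases hQ with rfl | hQ
    · exact isFullyNormalized_self
    · exact hQ.2.1
  refine mem_autGroup_of_mem (φ := Q.subtype.comp α.toMonoidHom) _
    ⟨(mem_autGroup_iff F hn.1).1 hα, ?_⟩ fun _ => rfl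
  exact exists_conj_mod_hyperfocal_of_fullyAutomized
    (fullyAutomized_receptive_of_fullyNormalized hS hF hn).1 hα

/-- The focal subgroup is the hyperfocal subgroup times the derived subgroup. -/
theorem focalSubgroup_eq (hS : IsPGroup p S) (hF : F.IsSaturated p) :
    F.focalSubgroup = F.hyperfocalSubgroup p ⊔ ⁅S, S⁆ := by
  refine le_antisymm ((Subgroup.closure_le _).2 ?_)
    (sup_le (hyperfocalSubgroup_le_focalSubgroup p) commutator_le_focalSubgroup)
  rintro _ ⟨P, φ, x, hφ, rfl⟩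
  obtain ⟨g, hg, h⟩ := exists_conj_mod_hyperfocal hS hF hφ
  have h1 : (x : Ω)⁻¹ * (g * (x : Ω) * g⁻¹) ∈ ⁅S, S⁆ := by
    convert Subgroup.commutator_mem_commutator (S.inv_mem (le_S F hφ x.2)) hg using 1
    simp [commutatorElement_def, mul_assoc]
  have h2 := mul_mem (Subgroup.mem_sup_right (S := F.hyperfocalSubgroup p) h1)
    (Subgroup.mem_sup_left (T := ⁅S, S⁆) (h x))
  rwa [mul_assoc (x : Ω)⁻¹, mul_inv_cancel_left] at h2

/-- A form of Alperin's theorem by descending induction on the order of the subgroups. -/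
theorem alperin_induction (hS : IsPGroup p S) (hF : F.IsSaturated p) (E : FusionSystem S)
    (hES : F.autGroup S ≤ E.autGroup S)
    (hE : ∀ R : Subgroup Ω, R < S → F.IsFullyNormalized R →
      (∀ Q : Subgroup Ω, Nat.card R < Nat.card Q → F.Hom Q ⊆ E.Hom Q) →
      F.autGroup R ≤ E.autGroup R) : F ≤ E := by
  suffices h : ∀ (n : ℕ) (P : Subgroup Ω), Nat.card S - Nat.card P ≤ n →
      ∀ φ ∈ F.Hom P, φ ∈ E.Hom P from fun P φ hφ => h _ P le_rfl φ hφ
  intro n
  induction n using Nat.strong_induction_on with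
  | _ n ih =>
  intro P hPn φ hφ
  have hPS := le_S F hφ
  obtain ⟨e, he, hee⟩ := exists_iso_of_mem hφ
  suffices h : IsIso E e from mem_of_eq rfl h fun x => (hee x).symm
  have hbig : ∀ Q : Subgroup Ω, Nat.card P < Nat.card Q → F.Hom Q ⊆ E.Hom Q := by
    intro Q h1 ψ hψ
    have h2 : Nat.card Q ≤ Nat.card S := Subgroup.card_le_of_le (le_S F hψ)
    exact ih (Nat.card S - Nat.card Q) (by omega) Q le_rfl ψ hψ
  rcases eq_or_lt_of_le hPS with rfl | hlt
  · have hr : φ.range = P := eq_S_of_isConj_S ⟨φ, hφ, rfl⟩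
    obtain ⟨α, hα, hαe⟩ := exists_iso_of_range hφ hr
    have h1 : α ∈ E.autGroup P := hES ((mem_autGroup_iff F le_rfl).2 hα)
    exact isIso_of_mem ((mem_autGroup_iff E le_rfl).1 h1) fun x => ((hαe x).trans (hee x).symm).symm
  obtain ⟨R, hPR, hRn⟩ := exists_fullyNormalized F hPS
  have hstep : ∀ Q : Subgroup Ω, F.IsConj Q R → ∃ f : Q ≃* R, IsIso E f ∧ IsIso F f := by
    intro Q hQR
    obtain ⟨f, h, hf, ψ, hψ, hψf, -⟩ := exists_hom_normalizerIn_of_fullyNormalized hS hF hRn hQR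
    refine ⟨f, ?_, hf⟩
    have hcard : Nat.card P = Nat.card Q := card_eq_of_isConj (isConj_trans hPR (isConj_symm hQR))
    have hQS : Q < S := by
      refine lt_of_le_of_ne (le_left_of_isConj hQR) ?_
      rintro rfl
      exact hlt.ne (Subgroup.eq_of_le_of_card_ge hPS hcard.ge)
    have hN := lt_normalizerIn hS hQS
    have := finite_of_le (normalizerIn_le (S := S) Q)
    have h1 : Nat.card Q < Nat.card (normalizerIn S Q) :=
      lt_of_not_ge fun h => hN.ne (Subgroup.eq_of_le_of_card_ge hN.le h)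
    exact isIso_of_mem (res_mem E (hbig _ (hcard ▸ h1) hψ) h) fun x => (hψf x).symm
  obtain ⟨f, hfE, hfF⟩ := hstep P hPR
  obtain ⟨f', hfE', hfF'⟩ := hstep φ.range (isConj_trans (isConj_symm ⟨φ, hφ, rfl⟩) hPR)
  set α : MulAut R := (f.symm.trans e).trans f'
  have hαF : α ∈ F.autGroup R :=
    (mem_autGroup_iff F hRn.1).2 ((hfF.symm.trans he).trans hfF')
  have hRS : R < S := by
    refine lt_of_le_of_ne hRn.1 ?_
    rintro rfl
    exact hlt.ne (Subgroup.eq_of_le_of_card_ge hPS (card_eq_of_isConj hPR).ge)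
  have hαE : α ∈ E.autGroup R :=
    hE R hRS hRn (fun Q hQ => hbig Q (card_eq_of_isConj hPR ▸ hQ)) hαF
  have hfin := (hfE.trans ((mem_autGroup_iff E hRn.1).1 hαE)).trans hfE'.symm
  refine hfin.congr fun x => ?_
  simp [α]

omit [Finite S] in
theorem inv_mul_conj_mem_commutator {g x : Ω} (hx : x ∈ S) (hg : g ∈ S) :
    x⁻¹ * (g * x * g⁻¹) ∈ ⁅S, S⁆ := by
  convert Subgroup.commutator_mem_commutator (S.inv_mem hx) hg using 1
  simp [commutatorElement_def, mul_assoc]

/-- If `T` is strongly closed with `S' ≤ T` and `Aut_F(S)` is trivial modulo `T`, then every map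
is trivial modulo `T`. -/
theorem focalSubgroup_le_of_stronglyClosed (hS : IsPGroup p S) (hF : F.IsSaturated p)
    {T : Subgroup Ω} (hT : F.StronglyClosed T) (hST : ⁅S, S⁆ ≤ T)
    (hA : ∀ α ∈ F.autGroup S, ∀ x : S, (x : Ω)⁻¹ * (α x : Ω) ∈ T) : F.focalSubgroup ≤ T := by
  have hTn := le_normalizer_of_stronglyClosed hT
  have htriv : ∀ {g x : Ω}, g ∈ S → x ∈ S → ∀ {y : Ω},
      ((g * x * g⁻¹)⁻¹ * y ∈ T ↔ x⁻¹ * y ∈ T) := by
    intro g x hg hx y
    have h1 := hST (inv_mul_conj_mem_commutator hx hg)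
    constructor
    · intro h
      have := T.mul_mem h1 h
      rwa [mul_assoc x⁻¹, mul_inv_cancel_left] at this
    · intro h
      have := T.mul_mem (T.inv_mem h1) h
      rwa [mul_inv_rev, inv_inv, mul_assoc, mul_inv_cancel_left] at this
  suffices hle : F ≤ modSys F T hTn by
    refine (Subgroup.closure_le _).2 ?_
    rintro _ ⟨P, φ, x, hφ, rfl⟩
    obtain ⟨g, hg, h⟩ := (mem_modSys.1 (hle P hφ)).2
    exact (htriv hg (le_S F hφ x.2)).1 (h x)
  refine alperin_induction hS hF _ ?_ ?_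
  · intro α hα
    refine mem_autGroup_of_mem (φ := S.subtype.comp α.toMonoidHom) _
      ⟨(mem_autGroup_iff F le_rfl).1 hα, 1, S.one_mem, fun x => ?_⟩ fun _ => rfl
    rw [one_mul, inv_one, mul_one]
    exact hA α hα x
  intro R hRS hRn hind α hα
  have hRfin := finite_of_le hRS.le
  obtain ⟨hRa, hRr⟩ := fullyAutomized_receptive_of_fullyNormalized hS hF hRn
  obtain ⟨-, Y, hY⟩ := hRa
  let K : Subgroup (F.autGroup R) :=
    { carrier := {β | ∀ x : R, (x : Ω)⁻¹ * ((β : MulAut R) x : Ω) ∈ T}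
      one_mem' := fun x => by simp
      mul_mem' := fun {a b} ha hb x => by
        have := T.mul_mem (hb x) (ha ((b : MulAut R) x))
        rwa [mul_assoc, mul_inv_cancel_left] at this
      inv_mem' := fun {a} ha x => by
        have := T.inv_mem (ha ((a : MulAut R)⁻¹ x))
        rwa [MulAut.apply_inv_self, mul_inv_rev, inv_inv] at this }
  have hKn : K.Normal := ⟨fun a ha b x => by
    have h1 := ha ((b : MulAut R)⁻¹ x)
    have h2 := autGroup_apply_mem hT b.2
      (x := ((b : MulAut R)⁻¹ x)⁻¹ * (a : MulAut R) ((b : MulAut R)⁻¹ x)) h1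
    rw [map_mul, map_inv, MulAut.apply_inv_self] at h2
    exact h2⟩
  have hYK : (Y : Subgroup (F.autGroup R)) ≤ K := by
    intro β hβ x
    rw [hY, Subgroup.mem_subgroupOf, mem_autInducedBy_iff] at hβ
    obtain ⟨g, hg, hge⟩ := hβ
    rw [hge]
    exact hST (inv_mul_conj_mem_commutator (hRS.le x.2) hg)
  have hNK : Subgroup.normalizer (Y : Set (F.autGroup R)) ≤ K := by
    intro β hβ
    have hβ' : IsIso F (β : MulAut R) := (mem_autGroup_iff F hRS.le).1 β.2
    have hM : normalizerIn S R ≤ extender S R (R.subtype.comp (β : MulAut R).toMonoidHom) := by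
      intro g hg
      refine mem_extender_iso_iff.2 ⟨hg.1, hg.2, ?_⟩
      have h1 : normAut g hg.2 ∈ autInducedBy S R := mem_autInducedBy_iff.2 ⟨g, hg.1, fun _ => rfl⟩
      have h2 := (Subgroup.mem_normalizer_iff.1 hβ
        ⟨normAut g hg.2, autInducedBy_le_autGroup hRS.le h1⟩).1 (by rwa [hY, Subgroup.mem_subgroupOf])
      rw [hY, Subgroup.mem_subgroupOf] at h2
      convert h2 using 1
      exact MulEquiv.ext fun y => rfl
    obtain ⟨ψ, hψ, hψe⟩ := exists_extension hRr hβ' (le_normalizerIn hRS.le) hM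
    have hN := lt_normalizerIn hS hRS
    have := finite_of_le (normalizerIn_le (S := S) R)
    obtain ⟨g, hg, hge⟩ := (mem_modSys.1 (hind _
      (lt_of_not_ge fun h => hN.ne (Subgroup.eq_of_le_of_card_ge hN.le h)) hψ)).2
    intro x
    have := hge (Subgroup.inclusion (le_normalizerIn hRS.le) x)
    rw [hψe] at this
    exact (htriv hg (hRS.le x.2)).1 this
  have htop : K = ⊤ := by
    have h := Sylow.normalizer_sup_eq_top' Y hYK
    rw [sup_eq_right.2 hNK] at h
    exact h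
  refine mem_autGroup_of_mem (φ := R.subtype.comp α.toMonoidHom) _
    ⟨(mem_autGroup_iff F hRS.le).1 hα, 1, S.one_mem, fun x => ?_⟩ fun _ => rfl
  rw [one_mul, inv_one, mul_one]
  exact (show (⟨α, hα⟩ : F.autGroup R) ∈ K from htop ▸ Subgroup.mem_top _) x

/-- The system is the inner one when its hyperfocal subgroup is trivial. -/
theorem hom_eq_inner_of_hyperfocal_eq_bot (hS : IsPGroup p S) (hF : F.IsSaturated p)
    (h : F.hyperfocalSubgroup p = ⊥) (P : Subgroup Ω) :
    F.Hom P = (innerFusionSystem S).Hom P := by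
  refine Set.Subset.antisymm (fun φ hφ => ?_) (innerFusionSystem_le F P)
  obtain ⟨g, hg, hge⟩ := exists_conj_mod_hyperfocal hS hF hφ
  refine ⟨le_S F hφ, g, hg, fun x => ?_⟩
  have := hge x
  rw [h, Subgroup.mem_bot, inv_mul_eq_one] at this
  exact this.symm

end CfsgLib.Fusion
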