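import Mathlib
import Cfsg.Agent.Lib.Fusion.HypFocal
import Cfsg.Agent.Lib.Fusion.GroupSystem
import Cfsg.Agent.Lib.Transfer.Abelian

/-!
# Puig's hyperfocal subgroup theorem
-/

set_option autoImplicit false

open Cfsg Cfsg.FusionSystem
open scoped commutatorElement

namespace CfsgLib.Fusion

/-- In a nilpotent group `N ≤ M [N, G]` forces `N ≤ M`. -/
theorem le_of_le_sup_commutator {P : Type*} [Group P] [Group.IsNilpotent P] (M N : Subgroup P)
    [M.Normal] (h : N ≤ M ⊔ ⁅N, (⊤ : Subgroup P)⁆) : N ≤ M := by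
  set π := QuotientGroup.mk' M
  have h1 : N.map π ≤ ⁅N.map π, (⊤ : Subgroup (P ⧸ M))⁆ := by
    refine (Subgroup.map_mono h).trans ?_
    rw [Subgroup.map_sup, QuotientGroup.map_mk'_self, bot_sup_eq, Subgroup.map_commutator,
      Subgroup.map_top_of_surjective π (QuotientGroup.mk'_surjective M)]
  have h2 : ∀ n, N.map π ≤ (⊤ : Subgroup (P ⧸ M)).lowerCentralSeries n := by
    intro n
    induction n with
    | zero => exact le_top
    | succ n ih => exact h1.trans (Subgroup.commutator_mono ih le_rfl)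
  obtain ⟨n, hn⟩ := Subgroup.nilpotent_iff_lowerCentralSeries.1 (inferInstance : Group.IsNilpotent (P ⧸ M))
  have h3 := h2 n
  rw [hn, Subgroup.map_le_iff_le_comap, MonoidHom.comap_bot, QuotientGroup.ker_mk'] at h3
  exact h3

variable {G : Type*} [Group G] [Finite G] {p : ℕ} [Fact p.Prime] (S : Sylow p G)

theorem hyperfocal_le_pResidual :
    (groupFusionSystem (S : Subgroup G)).hyperfocalSubgroup p ≤ pResidual p G := by
  classical
  refine (Subgroup.closure_le _).2 ?_
  rintro _ ⟨P, α, x, hP, hα, rfl⟩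
  induction hα using Subgroup.closure_induction generalizing x with
  | mem α hα =>
    have h1 := α.2
    have h2 := (mem_autGroup_iff _ hP).1 h1
    obtain ⟨-, -, g, hg⟩ := IsIso.mem h2
    have hpow : ∀ (i : ℕ) (y : P),
        ((((α : MulAut P) ^ i) y : P) : G) = g ^ i * (y : G) * (g ^ i)⁻¹ := by
      intro i
      induction i with
      | zero => intro y; simp
      | succ i ih =>
        intro y
        rw [pow_succ', MulAut.mul_apply, pow_succ']
        refine (hg _).trans ?_
        rw [ih]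
        group
    obtain ⟨a, r, hr, hgo⟩ := Nat.exists_eq_pow_mul_and_not_dvd (orderOf_pos g).ne' p
      (Fact.out : p.Prime).ne_one
    have hcop : Nat.Coprime (p ^ a) (orderOf α) := (Nat.Coprime.pow_left a hα.symm)
    obtain ⟨j, hj⟩ : ∃ j, α ^ (p ^ a * j) = α := by
      obtain ⟨j, hj⟩ := exists_pow_eq_self_of_coprime hcop (x := α)
      exact ⟨j, by rwa [pow_mul]⟩
    have hg' : g ^ (p ^ a * j) ∈ pResidual p G := by
      refine Transfer.mem_pResidual_of_coprime (Nat.Coprime.coprime_dvd_left ?_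
        (Transfer.coprime_of_not_dvd hr))
      refine orderOf_dvd_of_pow_eq_one ?_
      rw [← pow_mul, mul_right_comm, ← hgo, pow_mul, pow_orderOf_eq_one, one_pow]
    have h3 := hpow (p ^ a * j) x
    rw [← SubmonoidClass.coe_pow, hj] at h3
    rw [h3, ← mul_assoc, ← mul_assoc]
    exact (pResidual p G).mul_mem
      (Transfer.pResidual_normal_inst.conj_mem' _ hg' _) ((pResidual p G).inv_mem hg')
  | one => simp
  | mul a b _ _ iha ihb =>
    have := (pResidual p G).mul_mem (ihb x) (iha ((b : MulAut P) x))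
    rwa [mul_assoc, mul_inv_cancel_left] at this
  | inv a _ ih =>
    have := (pResidual p G).inv_mem (ih ((a : MulAut P)⁻¹ x))
    rwa [MulAut.apply_inv_self, mul_inv_rev, inv_inv] at this

/-- **Puig's hyperfocal subgroup theorem.** -/
theorem hyperfocal_groupFusion :
    (groupFusionSystem (S : Subgroup G)).hyperfocalSubgroup p =
      (S : Subgroup G) ⊓ pResidual p G := by
  set F := groupFusionSystem (S : Subgroup G)
  refine le_antisymm (le_inf (hyperfocalSubgroup_le p) (hyperfocal_le_pResidual S)) ?_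
  set H := F.hyperfocalSubgroup p
  set K := pResidual p G
  have hHn : (H.subgroupOf (S : Subgroup G)).Normal := ⟨fun a ha g => Subgroup.mem_subgroupOf.2
    ((conj_mem_iff_of_le_normalizer (le_normalizer_hyperfocalSubgroup p) g.2).2 ha)⟩
  have hnil : Group.IsNilpotent (S : Subgroup G) := S.2.isNilpotent
  have key := le_of_le_sup_commutator (H.subgroupOf (S : Subgroup G))
    (K.subgroupOf (S : Subgroup G)) ?_
  · rintro x ⟨hxS, hxK⟩
    exact key (show (⟨x, hxS⟩ : (S : Subgroup G)) ∈ K.subgroupOf _ from hxK)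
  have hKK : pResidual p K = ⊤ := by
    rw [eq_top_iff]
    rintro ⟨x, hx⟩ -
    induction hx using Subgroup.closure_induction with
    | mem g hg =>
      refine Transfer.mem_pResidual_of_coprime ?_
      rw [← Subgroup.orderOf_coe]
      exact hg
    | one => exact one_mem _
    | mul a b ha hb iha ihb => exact mul_mem iha ihb
    | inv a ha iha => exact inv_mem iha
  -- the Sylow subgroup of `K` inside `S`
  obtain ⟨Q⟩ : Nonempty (Sylow p K) := inferInstance
  have hQ : IsPGroup p ((Q : Subgroup K).map K.subtype) := Q.2.map _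
  obtain ⟨c, hc⟩ := exists_conj_mem hQ S.2 S.not_dvd_index
  have hKn : K.Normal := inferInstance
  let Q' : Sylow p K := Q.mapSurjective (f := (MulAut.conjNormal c : MulAut K).toMonoidHom)
    (MulAut.conjNormal c : MulAut K).surjective
  have hQ'S : ∀ q ∈ (Q' : Subgroup K), (q : G) ∈ (S : Subgroup G) := by
    intro q hq
    simp only [Q', Sylow.coe_mapSurjective] at hq
    obtain ⟨y, hy, rfl⟩ := hq
    exact hc _ ⟨y, hy, rfl⟩
  have hQ'eq : (Q' : Subgroup K) = (S : Subgroup G).subgroupOf K :=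
    (Q'.3 (S.2.comap_subtype) fun q hq => hQ'S q hq).symm
  have hfoc := Transfer.inf_pResidual_le_focalSubgroup Q'
  rw [hKK, inf_top_eq, hQ'eq] at hfoc
  intro x hx
  have h1 := hfoc (show (⟨(x : G), hx⟩ : K) ∈ (S : Subgroup G).subgroupOf K from x.2)
  suffices h : ((S : Subgroup G).subgroupOf K).focalSubgroup.map K.subtype ≤
      (H.subgroupOf (S : Subgroup G) ⊔ ⁅K.subgroupOf (S : Subgroup G), ⊤⁆).map (S : Subgroup G).subtype by
    obtain ⟨y, hy, hyx⟩ := h ⟨_, h1, rfl⟩
    rwa [show y = x from Subtype.ext hyx] at hy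
  rw [Subgroup.focalSubgroup_def, MonoidHom.map_closure, Subgroup.closure_le]
  rintro _ ⟨_, ⟨hg, a, ha, u, rfl⟩, rfl⟩
  let a' : (S : Subgroup G) := ⟨a, ha⟩
  have hb : (u : G) * a * (u : G)⁻¹ ∈ (S : Subgroup G) := by
    have h2 := (S : Subgroup G).mul_mem ((S : Subgroup G).inv_mem ha) hg
    have h3 := (S : Subgroup G).inv_mem h2
    simpa [commutatorElement_def, mul_assoc] using h3
  have hφ : conjHom (Subgroup.zpowers (a : G)) (u : G) ∈ F.Hom (Subgroup.zpowers (a : G)) := by
    refine ⟨Subgroup.zpowers_le.2 ha, ?_, u, fun y => rfl⟩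
    rintro ⟨_, i, rfl⟩
    change (u : G) * (a : G) ^ i * (u : G)⁻¹ ∈ (S : Subgroup G)
    rw [← conj_zpow]
    exact zpow_mem hb i
  obtain ⟨g, hgS, hge⟩ := exists_conj_mod_hyperfocal S.2 (isSaturated_groupFusion S) hφ
  have h4 := hge ⟨a, Subgroup.mem_zpowers _⟩
  rw [conjHom_apply] at h4
  let g' : (S : Subgroup G) := ⟨g, hgS⟩
  let b' : (S : Subgroup G) := ⟨_, hb⟩
  refine ⟨a' * b'⁻¹, ?_, by simp [a', b', commutatorElement_def, mul_assoc]⟩
  have e : a' * b'⁻¹ = a' * (((g' * a' * g'⁻¹)⁻¹ * b')⁻¹) * a'⁻¹ * ⁅a', g'⁆ := by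
    rw [commutatorElement_def]
    group
  rw [e]
  refine mul_mem (Subgroup.mem_sup_left (hHn.conj_mem _ (inv_mem (Subgroup.mem_subgroupOf.2 h4)) _))
    (Subgroup.mem_sup_right (Subgroup.commutator_mem_commutator ?_ (Subgroup.mem_top _)))
  exact a.2

end CfsgLib.Fusion
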