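import Cfsg.Agent.Lib.Fusion.Alperin

/-!
# Criteria for a saturated system to be the inner system
-/

set_option autoImplicit false

open Cfsg Cfsg.FusionSystem CfsgLib.LocalEven

namespace CfsgLib.Fusion

variable {Ω : Type*} [Group Ω] {S : Subgroup Ω} {F : FusionSystem S}
variable {p : ℕ} [Fact p.Prime] [Finite S]

/-- A subgroup whose automorphism group in the system is a `p`-group is not essential. -/
theorem not_isEssential_of_isPGroup {P : Subgroup Ω} (h : IsPGroup p (F.autGroup P)) :
    ¬ F.IsEssential p P := by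
  rintro ⟨hc, -, hN, Y, hY⟩
  have := finite_of_le hc.1
  obtain ⟨Q, hQ1, hQY, -⟩ := IsStronglyPEmbedded.exists_sylow hY
  apply hY.2.1
  rw [eq_top_iff]
  have hQ := Q.is_maximal' (Q := ⊤)
    ((h.to_quotient _).of_equiv Subgroup.topEquiv.symm) le_top
  exact hQ.le.trans hQY

theorem autInducedBy_self (P : Subgroup Ω) : autInducedBy P P = Cfsg.Inn P := (inn_eq P).symm

/-- `Aut_F(S) = Inn(S)` when it is a `p`-group. -/
theorem autGroup_self_eq_inn (hS : IsPGroup p S) (hF : F.IsSaturated p)
    (h : IsPGroup p (F.autGroup S)) : F.autGroup S = Cfsg.Inn S := by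
  have := finite_of_le (le_refl S)
  obtain ⟨-, hi⟩ := (isFullyAutomized_iff hS).1
    (fullyAutomized_receptive_of_fullyNormalized hS hF (F := F) isFullyNormalized_self).1
  rw [← autInducedBy_self S]
  exact (eq_of_le_of_not_dvd h (autInducedBy_le_autGroup le_rfl) le_rfl hi).symm

/-- A saturated system is the inner one once all its automorphism groups are `p`-groups. -/
theorem hom_eq_inner_of_isPGroup (hS : IsPGroup p S) (hF : F.IsSaturated p)
    (hT : IsPGroup p (F.autGroup S))
    (h : ∀ P : Subgroup Ω, F.IsEssential p P → IsPGroup p (F.autGroup P)) (P : Subgroup Ω) :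
    F.Hom P = (innerFusionSystem S).Hom P := by
  refine Set.Subset.antisymm (alperin hS hF _ ?_ P) (innerFusionSystem_le F P)
  rintro Q (rfl | hQ)
  · rw [autGroup_self_eq_inn hS hF hT, ← autInducedBy_self Q]
    exact autInducedBy_le_autGroup le_rfl
  · exact absurd hQ (not_isEssential_of_isPGroup (h Q hQ))

theorem eq_inner_of_isPGroup (hS : IsPGroup p S) (hF : F.IsSaturated p)
    (h : ∀ P : Subgroup Ω, P ≤ S → IsPGroup p (F.autGroup P)) : F = innerFusionSystem S :=
  ext_hom (hom_eq_inner_of_isPGroup hS hF (h S le_rfl) fun P hP => h P hP.1.1)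

end CfsgLib.Fusion
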