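import Cfsg.Agent.Lib.Fusion.HypFocal
import Cfsg.Agent.Lib.Fusion.Normal
import Cfsg.Agent.Lib.Fusion.Inner
import Cfsg.Agent.Lib.FGS.SmallElements

/-!
# Control by the elements of order `p` or `4`
-/

set_option autoImplicit false

open Cfsg Cfsg.FusionSystem CfsgLib.FGS
open scoped commutatorElement

namespace CfsgLib.Fusion

/-- A characteristic subgroup of small exponent detecting coprime automorphisms. -/
theorem exists_small_detect {p : ℕ} [hp : Fact p.Prime] {G : Type*} [Group G] [Finite G]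
    (hG : IsPGroup p G) : ∃ U : Subgroup G, U.Characteristic ∧ (∀ x ∈ U, IsSmall p x) ∧
      ∀ a : MulAut G, (orderOf a).Coprime p → (∀ x ∈ U, a x = x) → a = 1 := by
  obtain ⟨H, hHc, hpow, hcomm, hC⟩ := CfsgLib.Transfer.exists_critical hG
  haveI := hHc
  haveI : H.Normal := inferInstance
  have hcenH : ∀ u v : H, ⁅u, v⁆ ∈ Subgroup.center H := fun u v => by
    rw [Subgroup.mem_center_iff]
    intro w
    refine Subtype.ext ?_
    exact Subgroup.mem_centralizer_iff.1
      (hcomm (Subgroup.commutator_mem_commutator u.2 (Subgroup.mem_top (v : G)))).2 w w.2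
  have hcp : ∀ u v : H, ⁅u, v⁆ ^ p = 1 := fun u v => by
    rw [← PGroup.comm_pow_left (hcenH u v), commutatorElement_eq_one_iff_mul_comm]
    exact Subtype.ext (Subgroup.mem_centralizer_iff.1 (hpow u u.2).2 v v.2).symm
  set e := if p = 2 then 4 else p with he
  have hmul : ∀ u v : H, (u * v) ^ e = u ^ e * v ^ e := fun u v => by
    rw [PGroup.mul_pow_of_comm_mem_center (hcenH _ _)]
    have hdvd : p ∣ e.choose 2 := by
      rw [he]
      split_ifs with h
      · subst h; decide
      · exact hp.out.dvd_choose_self (by norm_num) (lt_of_le_of_ne hp.out.two_le (Ne.symm h))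
    obtain ⟨j, hj⟩ := hdvd
    rw [hj, pow_mul, hcp, one_pow, mul_one]
  let U₀ : Subgroup H :=
    { carrier := {x | x ^ e = 1}
      one_mem' := one_pow e
      mul_mem' := fun {u v} (hu : u ^ e = 1) (hv : v ^ e = 1) => by
        show (u * v) ^ e = 1
        rw [hmul, hu, hv, mul_one]
      inv_mem' := fun {u} (hu : u ^ e = 1) => by
        show u⁻¹ ^ e = 1
        rw [inv_pow, hu, inv_one] }
  refine ⟨U₀.map H.subtype, ?_, ?_, fun a ha hfix => ?_⟩
  · rw [Subgroup.characteristic_iff_map_le]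
    rintro φ _ ⟨_, ⟨x, hx, rfl⟩, rfl⟩
    refine ⟨⟨φ x, Subgroup.characteristic_iff_map_le.1 hHc φ ⟨x, x.2, rfl⟩⟩, ?_, rfl⟩
    show (⟨φ x, _⟩ : H) ^ e = 1
    refine Subtype.ext ?_
    rw [Subgroup.coe_pow]
    change φ x ^ e = 1
    rw [← map_pow, show (x : G) ^ e = 1 from congrArg Subtype.val hx, map_one]
  · rintro _ ⟨x, hx, rfl⟩
    have h1 : (x : G) ^ e = 1 := congrArg Subtype.val hx
    rw [he] at h1
    split_ifs at h1 with h
    · exact Or.inr ⟨h, h1⟩
    · exact Or.inl h1
  · refine CfsgLib.Transfer.aut_eq_one_of_fix_normal hG H hC a ha fun x hx => ?_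
    have hmem : ∀ y : H, a y ∈ H := fun y =>
      Subgroup.characteristic_iff_map_le.1 hHc a ⟨y, y.2, rfl⟩
    let f : H →* H := (a.toMonoidHom.comp H.subtype).codRestrict H hmem
    have hfi : Function.Injective f := fun y z h => Subtype.ext (a.injective (congrArg Subtype.val h))
    let b : MulAut H := MulEquiv.ofBijective f ⟨hfi, Finite.injective_iff_surjective.1 hfi⟩
    have hbpow : ∀ (n : ℕ) (y : H), ((b ^ n) y : G) = (a ^ n) y := by
      intro n
      induction n with
      | zero => intro y; simp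
      | succ n ih =>
        intro y
        rw [pow_succ', MulAut.mul_apply, pow_succ', MulAut.mul_apply, ← ih]
        rfl
    have hb1 : b ^ orderOf a = 1 := MulEquiv.ext fun y => Subtype.ext (by
      rw [hbpow, pow_orderOf_eq_one]; rfl)
    have hb : b = 1 := aut_eq_one_of_fix_small (hG.to_subgroup H) b
      (ha.coprime_dvd_left (orderOf_dvd_of_pow_eq_one hb1)) fun y hy => by
        refine Subtype.ext (hfix _ ⟨y, ?_, rfl⟩)
        show y ^ e = 1
        rw [he]
        rcases hy with hy | ⟨h2, hy⟩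
        · split_ifs with h
          · subst h
            rw [show (4 : ℕ) = 2 * 2 from rfl, pow_mul, hy, one_pow]
          · exact hy
        · rwa [if_pos h2]
    exact congrArg Subtype.val (DFunLike.congr_fun hb ⟨x, hx⟩)

variable {Ω : Type*} [Group Ω] {S : Subgroup Ω} {F : FusionSystem S} {p : ℕ} [Fact p.Prime]
  [Finite S]

/-- The hyperfocal subgroup is strongly closed. -/
theorem apply_mem_hyperfocal (hS : IsPGroup p S) (hF : F.IsSaturated p) {P : Subgroup Ω}
    {φ : P →* Ω} (hφ : φ ∈ F.Hom P) {x : P} (hx : (x : Ω) ∈ F.hyperfocalSubgroup p) :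
    φ x ∈ F.hyperfocalSubgroup p := by
  obtain ⟨g, hg, h⟩ := exists_conj_mod_hyperfocal hS hF hφ
  have h1 := (F.hyperfocalSubgroup p).mul_mem
    (conj_mem_of_mem_normalizer (le_normalizer_hyperfocalSubgroup p hg) hx) (h x)
  rwa [mul_inv_cancel_left] at h1

omit [Fact p.Prime] [Finite S] in
/-- The focal subgroup contains the images of its elements. -/
theorem apply_mem_focal {P : Subgroup Ω} {φ : P →* Ω} (hφ : φ ∈ F.Hom P) {x : P}
    (hx : (x : Ω) ∈ F.focalSubgroup) : φ x ∈ F.focalSubgroup := by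
  have h := F.focalSubgroup.mul_mem hx (Subgroup.subset_closure ⟨P, φ, x, hφ, rfl⟩)
  rwa [mul_inv_cancel_left] at h

/-- The data: a strongly closed subgroup containing the hyperfocal part of every coprime
automorphism, with a central series through its small elements respected by the maps. -/
structure SmallSeries (F : FusionSystem S) (p : ℕ) (D : Subgroup Ω) (C : ℕ → Subgroup Ω) (n : ℕ) :
    Prop where
  bot : C 0 = ⊥
  closed : ∀ (P : Subgroup Ω) (φ : P →* Ω), φ ∈ F.Hom P → ∀ x : P, (x : Ω) ∈ D → φ x ∈ D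
  hyp : F.hyperfocalSubgroup p ≤ D
  top : ∀ x ∈ D, IsSmall p x → x ∈ C n
  comm : ∀ i < n, ⁅C (i + 1), S⁆ ≤ C i
  inv : ∀ i ≤ n, ∀ (P : Subgroup Ω) (φ : P →* Ω), φ ∈ F.Hom P → ∀ x : P, (x : Ω) ∈ D →
    IsSmall p (x : Ω) → (x : Ω) ∈ C i → φ x ∈ C i

/-- A coprime automorphism fixing `w⁻¹ a(w)` fixes `w`. -/
theorem apply_eq_of_diff_fixed {G : Type*} [Group G] (hG : IsPGroup p G) {a : MulAut G}
    (ha : (orderOf a).Coprime p) {w : G} (h : a (w⁻¹ * a w) = w⁻¹ * a w) : a w = w := by
  have hn : ∀ n : ℕ, (a ^ n) w = w * (w⁻¹ * a w) ^ n := by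
    intro n
    induction n with
    | zero => simp
    | succ n ihn =>
      rw [pow_succ', MulAut.mul_apply, ihn, map_mul a w _, map_pow, h]
      nth_rw 1 [show a w = w * (w⁻¹ * a w) by rw [mul_inv_cancel_left]]
      rw [mul_assoc, ← pow_succ']
  have h2 : (w⁻¹ * a w) ^ orderOf a = 1 := by
    have := hn (orderOf a)
    rw [pow_orderOf_eq_one, MulAut.one_apply] at this
    exact left_eq_mul.1 this
  have h3 : w⁻¹ * a w = 1 := (hG.powEquiv ha.symm).injective
    (show (w⁻¹ * a w) ^ orderOf a = 1 ^ orderOf a by rw [one_pow, h2])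
  exact (inv_mul_eq_one.1 h3).symm

/-- The restriction to `D ∩ P` of an element of `Aut_F(P)`. -/
theorem SmallSeries.exists_restrict {D : Subgroup Ω} {C : ℕ → Subgroup Ω} {n : ℕ}
    (h : SmallSeries F p D C n) {P : Subgroup Ω} (hPS : P ≤ S) {α : MulAut P}
    (hα : α ∈ F.autGroup P) : ∃ b : MulAut (D.subgroupOf P), ∀ y, (b y : P) = α y := by
  have := finite_of_le hPS
  have hmem : ∀ y : D.subgroupOf P, α y ∈ D.subgroupOf P := fun y =>
    h.closed P _ ((mem_autGroup_iff F hPS).1 hα) y y.2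
  let f : D.subgroupOf P →* D.subgroupOf P :=
    (α.toMonoidHom.comp (D.subgroupOf P).subtype).codRestrict _ hmem
  have hfi : Function.Injective f := fun y z e => Subtype.ext (α.injective (congrArg Subtype.val e))
  exact ⟨MulEquiv.ofBijective f ⟨hfi, Finite.injective_iff_surjective.1 hfi⟩, fun _ => rfl⟩

omit [Fact p.Prime] [Finite S] in
theorem isSmall_coe {P : Subgroup Ω} {E : Subgroup P} {y : E} (hy : IsSmall p y) :
    IsSmall p ((y : P) : Ω) := by
  rcases hy with hy | ⟨e, hy⟩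
  · exact Or.inl (by simpa using congrArg (fun z : E => ((z : P) : Ω)) hy)
  · exact Or.inr ⟨e, by simpa using congrArg (fun z : E => ((z : P) : Ω)) hy⟩

/-- Coprime automorphisms moving a detecting subgroup down the series are trivial. -/
theorem SmallSeries.eq_one_of_detect {D : Subgroup Ω} {C : ℕ → Subgroup Ω} {n : ℕ}
    (h : SmallSeries F p D C n) (hS : IsPGroup p S) {P : Subgroup Ω} (hPS : P ≤ S)
    {U : Subgroup (D.subgroupOf P)} (hUc : U.Characteristic) (hUs : ∀ x ∈ U, IsSmall p x)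
    (hdet : ∀ a : MulAut (D.subgroupOf P), (orderOf a).Coprime p → (∀ x ∈ U, a x = x) → a = 1)
    {β : MulAut P} (hβ : β ∈ F.autGroup P) (hβp : (orderOf β).Coprime p)
    (hstep : ∀ i < n, ∀ y ∈ U, ((y : P) : Ω) ∈ C (i + 1) →
      ((y : P) : Ω)⁻¹ * (β y : Ω) ∈ C i) : β = 1 := by
  have := finite_of_le hPS
  have hP : IsPGroup p P := hS.to_le hPS
  obtain ⟨b, hb⟩ := h.exists_restrict hPS hβ
  have hbpow : ∀ (m : ℕ) (y : D.subgroupOf P), ((b ^ m) y : P) = (β ^ m) y := by
    intro m
    induction m with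
    | zero => intro y; simp
    | succ m ih =>
      intro y
      rw [pow_succ', MulAut.mul_apply, pow_succ', MulAut.mul_apply, ← ih, hb]
  have hb1 : b ^ orderOf β = 1 := MulEquiv.ext fun y => Subtype.ext (by
    rw [hbpow, pow_orderOf_eq_one]; rfl)
  have hbp : (orderOf b).Coprime p := hβp.coprime_dvd_left (orderOf_dvd_of_pow_eq_one hb1)
  have hUfix : ∀ i ≤ n, ∀ y ∈ U, ((y : P) : Ω) ∈ C i → b y = y := by
    intro i
    induction i with
    | zero =>
      intro _ y _ hy
      rw [h.bot, Subgroup.mem_bot] at hy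
      rw [show y = 1 from Subtype.ext (Subtype.ext hy), map_one]
    | succ i ih =>
      intro hi y hyU hy
      refine apply_eq_of_diff_fixed (hP.to_subgroup _) hbp (ih (by omega) _
        (U.mul_mem (U.inv_mem hyU) (Subgroup.characteristic_iff_map_le.1 hUc b ⟨y, hyU, rfl⟩)) ?_)
      rw [Subgroup.coe_mul, Subgroup.coe_inv, hb, Subgroup.coe_mul, Subgroup.coe_inv]
      exact hstep i (by omega) y hyU hy
  have hb' : b = 1 := hdet b hbp fun y hy => hUfix n le_rfl y hy (h.top _ y.2 (isSmall_coe (hUs y hy)))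
  refine MulEquiv.ext fun x => ?_
  rw [MulAut.one_apply]
  have hx : x⁻¹ * β x ∈ D.subgroupOf P := by
    refine h.hyp (Subgroup.subset_closure ⟨P, ⟨β, hβ⟩, x, hPS,
      CfsgLib.Transfer.mem_pResidual_of_coprime ?_, rfl⟩)
    rwa [Subgroup.orderOf_mk]
  refine apply_eq_of_diff_fixed hP hβp ?_
  have h1 := congrArg Subtype.val (DFunLike.congr_fun hb' ⟨_, hx⟩)
  rwa [hb] at h1

/-- Coprime automorphisms moving all small elements down the series are trivial. -/
theorem SmallSeries.eq_one {D : Subgroup Ω} {C : ℕ → Subgroup Ω} {n : ℕ}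
    (h : SmallSeries F p D C n) (hS : IsPGroup p S) {P : Subgroup Ω} (hPS : P ≤ S) {β : MulAut P}
    (hβ : β ∈ F.autGroup P) (hβp : (orderOf β).Coprime p)
    (hstep : ∀ i < n, ∀ x : P, (x : Ω) ∈ D → IsSmall p (x : Ω) → (x : Ω) ∈ C (i + 1) →
      (x : Ω)⁻¹ * (β x : Ω) ∈ C i) : β = 1 := by
  have := finite_of_le hPS
  obtain ⟨U, hUc, hUs, hdet⟩ := exists_small_detect ((hS.to_le hPS).to_subgroup (D.subgroupOf P))
  exact h.eq_one_of_detect hS hPS hUc hUs hdet hβ hβp fun i hi y hy hyC =>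
    hstep i hi y y.2 (isSmall_coe (hUs y hy)) hyC

/-- A small series makes `S` normal. -/
theorem SmallSeries.isNormal {D : Subgroup Ω} {C : ℕ → Subgroup Ω} {n : ℕ}
    (h : SmallSeries F p D C n) (hS : IsPGroup p S) (hF : F.IsSaturated p) : F.IsNormal S := by
  refine isNormal_of_stronglyClosed hS hF ⟨le_rfl, fun R _ φ hφ x => apply_mem_S F hφ x⟩
    fun P hP => ?_
  have hPS := hP.1.1
  have := finite_of_le hPS
  obtain ⟨U, hUc, hUs, hdet⟩ := exists_small_detect ((hS.to_le hPS).to_subgroup (D.subgroupOf P))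
  -- the image of `U` in `P`
  set W : Subgroup P := U.map (D.subgroupOf P).subtype with hW
  have hWinv : ∀ α ∈ F.autGroup P, ∀ y ∈ W, α y ∈ W := by
    rintro α hα _ ⟨y, hy, rfl⟩
    obtain ⟨b, hb⟩ := h.exists_restrict hPS hα
    exact ⟨b y, Subgroup.characteristic_iff_map_le.1 hUc b ⟨y, hy, rfl⟩, hb y⟩
  have hWC : ∀ α ∈ F.autGroup P, ∀ j ≤ n, ∀ y ∈ W, (y : Ω) ∈ C j → (α y : Ω) ∈ C j := by
    rintro α hα j hj _ ⟨y, hy, rfl⟩ hyC
    exact h.inv j hj P _ ((mem_autGroup_iff F hPS).1 hα) (y : P) y.2 (isSmall_coe (hUs y hy)) hyC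
  let K : Subgroup (MulAut P) :=
    { carrier := {α | α ∈ F.autGroup P ∧ ∀ i < n, ∀ y ∈ W, (y : Ω) ∈ C (i + 1) →
        (y : Ω)⁻¹ * (α y : Ω) ∈ C i}
      one_mem' := ⟨one_mem _, fun i _ y _ _ => by simp⟩
      mul_mem' := by
        rintro a b ⟨ha, ha1⟩ ⟨hb, hb1⟩
        refine ⟨mul_mem ha hb, fun i hi y hy hyC => ?_⟩
        have h2 := ha1 i hi (b y) (hWinv b hb y hy) (hWC b hb (i + 1) hi y hy hyC)
        have h3 := (C i).mul_mem (hb1 i hi y hy hyC) h2
        rwa [mul_assoc (y : Ω)⁻¹, mul_inv_cancel_left] at h3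
      inv_mem' := by
        rintro a ⟨ha, ha1⟩
        refine ⟨inv_mem ha, fun i hi y hy hyC => ?_⟩
        have h2 := (C i).inv_mem (ha1 i hi (a⁻¹ y) (hWinv _ (inv_mem ha) y hy)
          (hWC _ (inv_mem ha) (i + 1) hi y hy hyC))
        rw [MulAut.apply_inv_self, mul_inv_rev, inv_inv] at h2
        exact h2 }
  have hKA : K ≤ F.autGroup P := fun α hα => hα.1
  refine le_of_centric_radical hS hP.1 (isRadical_of_isEssential hS hP) le_rfl
    Subgroup.le_normalizer K hKA ?_ ?_ fun s hs hsn => ?_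
  · refine ⟨fun a ha b => ?_⟩
    rw [Subgroup.mem_subgroupOf] at ha ⊢
    refine ⟨mul_mem (mul_mem b.2 ha.1) (inv_mem b.2), fun i hi y hy hyC => ?_⟩
    set z : P := (b : MulAut P)⁻¹ y with hz
    have hzW : z ∈ W := hWinv _ (inv_mem b.2) y hy
    have hzC : (z : Ω) ∈ C (i + 1) := hWC _ (inv_mem b.2) (i + 1) hi y hy hyC
    have h4 := hWC _ b.2 i hi.le (z⁻¹ * (a : MulAut P) z)
      (W.mul_mem (W.inv_mem hzW) (hWinv _ ha.1 z hzW)) (ha.2 i hi z hzW hzC)
    rw [map_mul, map_inv, hz, MulAut.apply_inv_self] at h4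
    exact h4
  · intro α
    obtain ⟨k, m, hm, hn⟩ := Nat.exists_eq_pow_mul_and_not_dvd (orderOf_pos (α : MulAut P)).ne' p
      (Fact.out : p.Prime).ne_one
    have hpow : ((α : MulAut P) ^ p ^ k) ^ m = 1 := by
      rw [← pow_mul, ← hn, pow_orderOf_eq_one]
    have hco : (orderOf ((α : MulAut P) ^ p ^ k)).Coprime p :=
      (((Fact.out : p.Prime).coprime_iff_not_dvd.2 hm).symm).coprime_dvd_left
        (orderOf_dvd_of_pow_eq_one hpow)
    have hK : (α : MulAut P) ^ p ^ k ∈ K := K.pow_mem α.2 _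
    refine ⟨k, Subtype.ext ?_⟩
    rw [Subgroup.coe_pow, Subgroup.coe_one]
    exact h.eq_one_of_detect hS hPS hUc hUs hdet hK.1 hco fun i hi y hy hyC =>
      hK.2 i hi (y : P) ⟨y, hy, rfl⟩ hyC
  · refine ⟨autInducedBy_le_autGroup hPS (mem_autInducedBy_iff.2 ⟨s, hs, fun _ => rfl⟩),
      fun i hi y _ hyC => ?_⟩
    have h2 := h.comm i hi (Subgroup.commutator_mem_commutator ((C (i + 1)).inv_mem hyC) hs)
    change (y : Ω)⁻¹ * (s * (y : Ω) * s⁻¹) ∈ C i
    simpa [commutatorElement_def, mul_assoc] using h2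

/-- The upper central series, inside the ambient group. -/
def upperSeries (S : Subgroup Ω) (i : ℕ) : Subgroup Ω :=
  (Subgroup.upperCentralSeries ↥S i).map S.subtype

omit [Fact p.Prime] [Finite S] in
theorem commutator_upperSeries_le (i : ℕ) : ⁅upperSeries S (i + 1), S⁆ ≤ upperSeries S i := by
  refine Subgroup.commutator_le.2 ?_
  rintro _ ⟨a, ha, rfl⟩ b hb
  exact ⟨_, (Subgroup.mem_upperCentralSeries_succ_iff.1 ha) ⟨b, hb⟩, by
    simp [commutatorElement_def]⟩

theorem exists_upperSeries_eq (hS : IsPGroup p S) : ∃ n, upperSeries S n = S := by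
  obtain ⟨n, hn⟩ := (hS.isNilpotent).nilpotent
  exact ⟨n, by rw [upperSeries, hn, ← MonoidHom.range_eq_map, Subgroup.range_subtype]⟩

omit [Fact p.Prime] in
theorem apply_mem_upperSeries {φ : S →* Ω} (hφ : φ ∈ F.Hom S) (i : ℕ) {x : S}
    (hx : (x : Ω) ∈ upperSeries S i) : φ x ∈ upperSeries S i := by
  have hφS := apply_mem_S F hφ
  let f : S →* S := φ.codRestrict S hφS
  have hfi : Function.Injective f := fun a b h => F.injective_of_mem hφ (congrArg Subtype.val h)
  obtain ⟨w, hw, hwx⟩ := hx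
  have hc : (Subgroup.upperCentralSeries ↥S i).Characteristic := inferInstance
  let e : ↥S ≃* ↥S := MulEquiv.ofBijective f ⟨hfi, Finite.injective_iff_surjective.1 hfi⟩
  exact ⟨e w, Subgroup.characteristic_iff_map_le.1 hc e ⟨w, hw, rfl⟩,
    congrArg φ (Subtype.ext hwx)⟩

/-- The small series given by maps of small cyclic subgroups extending to `S`. -/
theorem smallSeries_upper (hS : IsPGroup p S) (hF : F.IsSaturated p)
    (h : ∀ A B : Subgroup Ω, A ≤ F.hyperfocalSubgroup p → B ≤ F.hyperfocalSubgroup p → IsCyclic ↥A →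
      (Nat.card ↥A = p ∨ Nat.card ↥A = 4) → IsCyclic ↥B → (Nat.card ↥B = p ∨ Nat.card ↥B = 4) →
      F.homSet A B ⊆ F.normalizerHom S A) :
    ∃ n, SmallSeries F p (F.hyperfocalSubgroup p) (upperSeries S) n := by
  obtain ⟨n, hn⟩ := exists_upperSeries_eq hS
  refine ⟨n, by simp [upperSeries], fun P φ hφ x hx => apply_mem_hyperfocal hS hF hφ hx, le_rfl,
    fun x hx _ => hn.ge (hyperfocalSubgroup_le p hx), fun i _ => commutator_upperSeries_le i,
    fun i _ P φ hφ x hxD hxs hxi => ?_⟩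
  by_cases hx1 : x = 1
  · rw [hx1, map_one]
    exact one_mem _
  set A := Subgroup.zpowers (x : Ω) with hAdef
  have hAP : A ≤ P := Subgroup.zpowers_le.2 x.2
  set ψ := φ.comp (Subgroup.inclusion hAP) with hψdef
  have hψ : ψ ∈ F.Hom A := res_mem F hφ hAP
  have hcard : Nat.card A = p ∨ Nat.card A = 4 := by
    rw [Nat.card_zpowers]
    have hx1' : orderOf (x : Ω) ≠ 1 := fun e => hx1 (Subtype.ext (orderOf_eq_one_iff.1 e))
    rcases hxs with hxs | ⟨e, hxs⟩
    · rcases (Nat.dvd_prime (Fact.out : p.Prime)).1 (orderOf_dvd_of_pow_eq_one hxs) with h1 | h1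
      · exact absurd h1 hx1'
      · exact Or.inl h1
    · obtain ⟨k, hk, hk'⟩ := (Nat.dvd_prime_pow Nat.prime_two).1
        (orderOf_dvd_of_pow_eq_one (show (x : Ω) ^ (2 ^ 2) = 1 by simpa using hxs))
      interval_cases k
      · exact absurd hk' hx1'
      · exact Or.inl (by rw [hk', e]; rfl)
      · exact Or.inr (by rw [hk']; rfl)
  have hB : ψ.range ≤ F.hyperfocalSubgroup p := by
    rintro _ ⟨y, rfl⟩
    exact apply_mem_hyperfocal hS hF hψ (show (y : Ω) ∈ F.hyperfocalSubgroup p from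
      Subgroup.zpowers_le.2 hxD y.2)
  have hBcard : Nat.card ψ.range = p ∨ Nat.card ψ.range = 4 := by
    have := finite_of_le (le_S F hψ)
    rw [← Nat.card_congr (MonoidHom.ofInjective (F.injective_of_mem hψ)).toEquiv]
    exact hcard
  obtain ⟨-, -, -, ω, hω, hωe, hωS⟩ := h A ψ.range (Subgroup.zpowers_le.2 hxD) hB inferInstance
    hcard (isCyclic_of_surjective ψ.rangeRestrict ψ.rangeRestrict_surjective) hBcard
    ⟨hψ, fun y => ⟨y, rfl⟩⟩
  obtain ⟨χ, hχ, hχe⟩ := mem_of_eq_sup (sup_eq_right.2 (hAP.trans (le_S F hφ))) hω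
  have h1 := apply_mem_upperSeries hχ i (x := ⟨x, le_S F hφ x.2⟩) hxi
  rw [hχe] at h1
  have h2 : φ x = ω (Subgroup.inclusion le_sup_left ⟨(x : Ω), Subgroup.mem_zpowers _⟩) := by
    rw [hωe]
    rfl
  rw [h2]
  exact h1

/-- A small series makes `S` normal; if in addition it is respected by `Aut_F(S)`, the system is
inner. -/
theorem SmallSeries.hom_eq_inner {D : Subgroup Ω} {C : ℕ → Subgroup Ω} {n : ℕ}
    (h : SmallSeries F p D C n) (hS : IsPGroup p S) (hF : F.IsSaturated p)
    (hfix : ∀ β ∈ F.autGroup S, ∀ x : S, (x : Ω) ∈ D → IsSmall p (x : Ω) →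
      ∃ g ∈ S, (β x : Ω) = g * (x : Ω) * g⁻¹) (P : Subgroup Ω) :
    F.Hom P = (innerFusionSystem S).Hom P := by
  have hN := h.isNormal hS hF
  have haut : IsPGroup p (F.autGroup S) := by
    intro α
    obtain ⟨k, m, hm, hn⟩ := Nat.exists_eq_pow_mul_and_not_dvd (orderOf_pos (α : MulAut S)).ne' p
      (Fact.out : p.Prime).ne_one
    have hpow : ((α : MulAut S) ^ p ^ k) ^ m = 1 := by
      rw [← pow_mul, ← hn, pow_orderOf_eq_one]
    have hco : (orderOf ((α : MulAut S) ^ p ^ k)).Coprime p :=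
      (((Fact.out : p.Prime).coprime_iff_not_dvd.2 hm).symm).coprime_dvd_left
        (orderOf_dvd_of_pow_eq_one hpow)
    have hmem : (α : MulAut S) ^ p ^ k ∈ F.autGroup S := (F.autGroup S).pow_mem α.2 _
    refine ⟨k, Subtype.ext ?_⟩
    rw [Subgroup.coe_pow, Subgroup.coe_one]
    refine h.eq_one hS le_rfl hmem hco fun i hi x hxD hxs hx => ?_
    obtain ⟨g, hg, hge⟩ := hfix _ hmem x hxD hxs
    rw [hge]
    have h2 := h.comm i hi (Subgroup.commutator_mem_commutator ((C (i + 1)).inv_mem hx) hg)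
    simpa [commutatorElement_def, mul_assoc] using h2
  refine hom_eq_inner_of_isPGroup hS hF haut (fun Q hQ => ?_) P
  have hQS : Q = S :=
    le_antisymm hQ.1.1 (le_of_isNormal hS hN hQ.1 (isRadical_of_isEssential hS hQ))
  rw [hQS]
  exact haut

/-- The series for a focal subgroup whose small elements generate normal subgroups of `S`. -/
theorem smallSeries_focal (hS : IsPGroup p S)
    (hnorm : ∀ x ∈ F.focalSubgroup, IsSmall p x → ∀ s ∈ S, s * x * s⁻¹ ∈ Subgroup.zpowers x) :
    ∃ (C : ℕ → Subgroup Ω) (n : ℕ), SmallSeries F p F.focalSubgroup C n := by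
  have hfocS := focalSubgroup_le (F := F)
  have hcen : ∀ x ∈ F.focalSubgroup, x ^ p = 1 → ∀ s ∈ S, s * x = x * s := by
    intro x hx hxp s hs
    by_cases hx1 : x = 1
    · simp [hx1]
    have hord : orderOf x = p := orderOf_eq_prime hxp hx1
    set N : Subgroup S := (Subgroup.zpowers x).subgroupOf S
    have hNn : N.Normal := ⟨fun y hy g => by
      obtain ⟨k, hk⟩ := Subgroup.mem_zpowers_iff.1 (Subgroup.mem_subgroupOf.1 hy)
      refine Subgroup.mem_subgroupOf.2 ?_
      change (g : Ω) * y * (g : Ω)⁻¹ ∈ _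
      rw [← hk, ← conj_zpow]
      exact Subgroup.zpow_mem _ (hnorm x hx (Or.inl hxp) g g.2) k⟩
    have hNcard : Nat.card N = p := by
      rw [Nat.card_congr (Subgroup.subgroupOfEquivOfLe (Subgroup.zpowers_le.2 (hfocS hx))).toEquiv,
        Nat.card_zpowers, hord]
    have h1 : N ⊓ Subgroup.center S ≠ ⊥ := CfsgLib.PGroup.inf_center_ne_bot hS N fun e => by
      have := hNcard.symm.trans ((Subgroup.eq_bot_iff_card N).1 e)
      exact (Fact.out : p.Prime).ne_one this
    have : Finite N := inferInstance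
    have h2 : N ≤ Subgroup.center S := by
      have h3 : N ⊓ Subgroup.center S = N := by
        rcases (Nat.dvd_prime (Fact.out : p.Prime)).1
          (hNcard ▸ Subgroup.card_dvd_of_le (inf_le_left : N ⊓ Subgroup.center S ≤ N)) with h3 | h3
        · exact absurd (Subgroup.eq_bot_of_card_eq _ h3) h1
        · exact Subgroup.eq_of_le_of_card_ge inf_le_left (by rw [h3, hNcard])
      exact h3.ge.trans inf_le_right
    exact congrArg Subtype.val (Subgroup.mem_center_iff.1
      (h2 (show (⟨x, hfocS hx⟩ : S) ∈ N from Subgroup.mem_zpowers x)) ⟨s, hs⟩)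
  set C₁ : Subgroup Ω := Subgroup.closure {x | x ∈ F.focalSubgroup ∧ x ^ p = 1} with hC₁
  set C₂ : Subgroup Ω := Subgroup.closure {x | x ∈ F.focalSubgroup ∧ IsSmall p x} with hC₂
  have hC₁S : C₁ ≤ S := (Subgroup.closure_le _).2 fun x hx => hfocS hx.1
  have hC₁Z : ∀ x ∈ C₁, ∀ s ∈ S, s * x = x * s := by
    intro x hx s hs
    induction hx using Subgroup.closure_induction with
    | mem y hy => exact hcen y hy.1 hy.2 s hs
    | one => simp
    | mul a b _ _ ha hb => exact (show Commute s a from ha).mul_right hb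
    | inv a _ ha => exact (show Commute s a from ha).inv_right
  have hC₁p : ∀ x ∈ C₁, x ^ p = 1 := by
    intro x hx
    induction hx using Subgroup.closure_induction with
    | mem y hy => exact hy.2
    | one => exact one_pow p
    | mul a b ha' hb' ha hb =>
      rw [(show Commute a b from hC₁Z b hb' a (hC₁S ha')).mul_pow, ha, hb, one_mul]
    | inv a _ ha => rw [inv_pow, ha, inv_one]
  refine ⟨fun i => if i = 0 then ⊥ else if i = 1 then C₁ else C₂, 2, ⟨rfl,
    fun P φ hφ x hx => apply_mem_focal hφ hx, hyperfocalSubgroup_le_focalSubgroup p,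
    fun x hx hxs => Subgroup.subset_closure ⟨hx, hxs⟩, ?_, ?_⟩⟩
  · intro i hi
    interval_cases i
    · simp only [if_true, Nat.reduceAdd, one_ne_zero, if_false]
      refine Subgroup.commutator_le.2 fun a ha b hb => ?_
      rw [Subgroup.mem_bot, commutatorElement_eq_one_iff_mul_comm]
      exact (hC₁Z a ha b hb).symm
    · simp only [if_true, Nat.reduceAdd, one_ne_zero, if_false, OfNat.ofNat_ne_zero,
        OfNat.ofNat_ne_one]
      refine Subgroup.commutator_le.2 fun a ha => ?_
      induction ha using Subgroup.closure_induction with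
      | mem x hx =>
        obtain ⟨hxf, hxs⟩ := hx
        intro s hs
        rcases hxs with hxp | ⟨h2, hx4⟩
        · rw [commutatorElement_eq_one_iff_mul_comm.2 (hcen x hxf hxp s hs).symm]
          exact one_mem _
        · obtain ⟨k, hk⟩ := Subgroup.mem_zpowers_iff.1 (hnorm x hxf (Or.inr ⟨h2, hx4⟩) s hs)
          have hcomm : ⁅x, s⁆ = x ^ (1 - k : ℤ) := by
            rw [commutatorElement_def, show x * s * x⁻¹ * s⁻¹ = x * (s * x * s⁻¹)⁻¹ by group, ← hk,
              zpow_sub, zpow_one]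
          refine Subgroup.subset_closure ⟨?_, ?_⟩
          · rw [hcomm]
            exact Subgroup.zpow_mem _ hxf _
          · have hx2 : s * x ^ p * s⁻¹ = x ^ p := by
              rw [hcen (x ^ p) (Subgroup.pow_mem _ hxf p)
                (by rw [h2, ← pow_mul]; exact hx4) s hs, mul_inv_cancel_right]
            rw [← conj_pow, ← hk] at hx2
            rw [hcomm, zpow_sub, zpow_one, ((Commute.refl x).zpow_right k).inv_right.mul_pow,
              inv_pow, hx2, mul_inv_cancel]
      | one => intro s _; simp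
      | mul a b _ _ ha hb =>
        intro s hs
        have h1 := hb s hs
        have h2 : ⁅a * b, s⁆ = a * ⁅b, s⁆ * a⁻¹ * ⁅a, s⁆ := by
          simp only [commutatorElement_def]; group
        rw [h2]
        refine C₁.mul_mem ?_ (ha s hs)
        have haS : a ∈ S := (Subgroup.closure_le _).2 (fun x (hx : x ∈ F.focalSubgroup ∧ IsSmall p x) => hfocS hx.1) (by assumption)
        rw [hC₁Z _ h1 a haS, mul_inv_cancel_right]
        exact h1
      | inv a ha' ha =>
        intro s hs
        have h2 : ⁅a⁻¹, s⁆ = a⁻¹ * ⁅a, s⁆⁻¹ * a := by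
          simp only [commutatorElement_def]; group
        have haS : a ∈ S := (Subgroup.closure_le _).2 (fun x (hx : x ∈ F.focalSubgroup ∧ IsSmall p x) => hfocS hx.1) ha'
        rw [h2, hC₁Z _ (C₁.inv_mem (ha s hs)) a⁻¹ (S.inv_mem haS), inv_mul_cancel_right]
        exact C₁.inv_mem (ha s hs)
  · intro i hi P φ hφ x hx hxs hxi
    interval_cases i
    · rw [if_pos rfl, Subgroup.mem_bot] at hxi
      rw [show x = 1 from Subtype.ext hxi, map_one]
      exact one_mem _
    · rw [if_neg one_ne_zero, if_pos rfl] at hxi ⊢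
      refine Subgroup.subset_closure ⟨apply_mem_focal hφ hx, ?_⟩
      rw [← map_pow, show x ^ p = 1 from Subtype.ext (by
        rw [Subgroup.coe_pow]; exact hC₁p _ hxi), map_one]
    · rw [if_neg (by norm_num), if_neg (by norm_num)]
      refine Subgroup.subset_closure ⟨apply_mem_focal hφ hx, ?_⟩
      rcases hxs with hp | ⟨h2, h4⟩
      · exact Or.inl (by rw [← map_pow, show x ^ p = 1 from Subtype.ext (by
          rw [Subgroup.coe_pow]; exact hp), map_one])
      · exact Or.inr ⟨h2, by rw [← map_pow, show x ^ 4 = 1 from Subtype.ext (by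
          rw [Subgroup.coe_pow]; exact h4), map_one]⟩

end CfsgLib.Fusion
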