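import Cfsg.Agent.Lib.Fusion.Omit
import Cfsg.Agent.Lib.Fusion.Normal
import Cfsg.Agent.Lib.Fusion.SmallControl
import Cfsg.Agent.Lib.Spectrum.SL2

/-!
# Essential subgroups of order `p ^ 2`
-/

set_option autoImplicit false

open Cfsg Cfsg.FusionSystem
open Matrix (SpecialLinearGroup det_fin_two det_fin_two_of eta_fin_two)
open scoped Matrix

namespace CfsgLib.Fusion

section SL2

variable {p : ℕ} [Fact p.Prime]

/-- The upper shear. -/
def upShear (c : ZMod p) : SpecialLinearGroup (Fin 2) (ZMod p) :=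
  ⟨!![1, c; 0, 1], by simp [det_fin_two]⟩

/-- The lower shear. -/
def lowShear (c : ZMod p) : SpecialLinearGroup (Fin 2) (ZMod p) :=
  ⟨!![1, 0; c, 1], by simp [det_fin_two]⟩

theorem coe_upShear (c : ZMod p) :
    (↑(upShear c) : Matrix (Fin 2) (Fin 2) (ZMod p)) = !![1, c; 0, 1] := rfl

theorem coe_lowShear (c : ZMod p) :
    (↑(lowShear c) : Matrix (Fin 2) (Fin 2) (ZMod p)) = !![1, 0; c, 1] := rfl

theorem upShear_pow (k : ZMod p) (n : ℕ) : upShear k ^ n = upShear ((n : ZMod p) * k) := by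
  induction n with
  | zero =>
    ext i j; fin_cases i <;> fin_cases j <;> simp [coe_upShear]
  | succ n ih =>
    rw [pow_succ, ih]
    ext i j
    simp only [Matrix.SpecialLinearGroup.coe_mul, coe_upShear]
    fin_cases i <;> fin_cases j <;> simp [Matrix.mul_apply, Fin.sum_univ_two, add_mul, add_comm]

theorem lowShear_pow (k : ZMod p) (n : ℕ) : lowShear k ^ n = lowShear ((n : ZMod p) * k) := by
  induction n with
  | zero =>
    ext i j; fin_cases i <;> fin_cases j <;> simp [coe_lowShear]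
  | succ n ih =>
    rw [pow_succ, ih]
    ext i j
    simp only [Matrix.SpecialLinearGroup.coe_mul, coe_lowShear]
    fin_cases i <;> fin_cases j <;> simp [Matrix.mul_apply, Fin.sum_univ_two, add_mul, add_comm]

/-- Two nontrivial opposite shears generate `SL₂(p)`. -/
theorem shears_generate (H : Subgroup (SpecialLinearGroup (Fin 2) (ZMod p))) {k m : ZMod p}
    (hk : k ≠ 0) (hm : m ≠ 0) (hu : upShear k ∈ H) (hl : lowShear m ∈ H) : H = ⊤ := by
  have hU : ∀ c, upShear c ∈ H := fun c => by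
    have h := H.pow_mem hu (c / k).val
    rwa [upShear_pow, ZMod.natCast_zmod_val, div_mul_cancel₀ c hk] at h
  have hL : ∀ c, lowShear c ∈ H := fun c => by
    have h := H.pow_mem hl (c / m).val
    rwa [lowShear_pow, ZMod.natCast_zmod_val, div_mul_cancel₀ c hm] at h
  have key : ∀ M : SpecialLinearGroup (Fin 2) (ZMod p),
      (M : Matrix (Fin 2) (Fin 2) (ZMod p)) 1 0 ≠ 0 → M ∈ H := by
    intro M hc
    obtain ⟨a, b, c, d, hM⟩ : ∃ a b c d, (M : Matrix (Fin 2) (Fin 2) (ZMod p)) = !![a, b; c, d] :=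
      ⟨_, _, _, _, eta_fin_two _⟩
    have hdet : a * d - b * c = 1 := by
      have h := M.2
      rwa [hM, det_fin_two_of] at h
    rw [hM] at hc
    simp at hc
    have heq : M = upShear ((a - 1) / c) * lowShear c * upShear ((d - 1) / c) := by
      ext i j
      simp only [hM, Matrix.SpecialLinearGroup.coe_mul, coe_upShear, coe_lowShear]
      fin_cases i <;> fin_cases j <;> simp [Matrix.mul_apply, Fin.sum_univ_two] <;> field_simp <;>
        first | linear_combination -hdet | linear_combination hdet | ring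
    rw [heq]
    exact H.mul_mem (H.mul_mem (hU _) (hL _)) (hU _)
  refine eq_top_iff.2 fun M _ => ?_
  by_cases hc : (M : Matrix (Fin 2) (Fin 2) (ZMod p)) 1 0 = 0
  · have h := key (lowShear 1 * M) (by
      simp only [Matrix.SpecialLinearGroup.coe_mul, coe_lowShear]
      simp [Matrix.mul_apply, Fin.sum_univ_two, hc]
      intro ha
      have hd := M.2
      rw [det_fin_two, ha, hc] at hd
      simp at hd)
    simpa using H.mul_mem (H.inv_mem (hL 1)) h
  · exact key M hc

end SL2

section Elem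

variable {G : Type*} [Group G] [Finite G] {p : ℕ} [hp : Fact p.Prime]

/-- A `p`-automorphism of a nontrivial `p`-group fixes a nontrivial element. -/
theorem exists_fixed_ne_one (hG : IsPGroup p G) {s : MulAut G} {k : ℕ} (hsk : s ^ p ^ k = 1)
    {y : G} (hy : y ≠ 1) : ∃ a : G, s a = a ∧ a ≠ 1 := by
  have hP : IsPGroup p (Subgroup.zpowers s) := by
    obtain ⟨j, -, hj⟩ := (Nat.dvd_prime_pow hp.out).1 (orderOf_dvd_of_pow_eq_one hsk)
    exact IsPGroup.of_card (n := j) (by rw [Nat.card_zpowers, hj])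
  have : Nontrivial G := ⟨⟨y, 1, hy⟩⟩
  obtain ⟨j, hj0, hj⟩ := hG.nontrivial_iff_card.1 this
  have hd : p ∣ Nat.card G := hj ▸ dvd_pow_self p hj0.ne'
  obtain ⟨a, ha, hne⟩ := hP.exists_fixed_point_of_prime_dvd_card_of_fixed_point G hd
    (a := (1 : G)) (fun g => map_one (g : MulAut G))
  exact ⟨a, ha ⟨s, Subgroup.mem_zpowers s⟩, hne.symm⟩

/-- A nontrivial `p`-automorphism of an elementary abelian group of order `p ^ 2` is a transvection. -/
theorem exists_axis (hG : IsPGroup p G) (hc : ∀ x y : G, x * y = y * x) (hexp : ∀ x : G, x ^ p = 1)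
    (hcard : Nat.card G = p ^ 2) {s : MulAut G} (hs : s ≠ 1) {k : ℕ} (hsk : s ^ p ^ k = 1) :
    ∃ a : G, a ≠ 1 ∧ s a = a ∧ ∀ x, x⁻¹ * s x ∈ Subgroup.zpowers a := by
  let f : G →* G := MonoidHom.mk' (fun x => x⁻¹ * s x) fun x y => by
    rw [map_mul, _root_.mul_inv_rev]
    calc y⁻¹ * x⁻¹ * (s x * s y) = x⁻¹ * y⁻¹ * (s x * s y) := by rw [hc y⁻¹ x⁻¹]
      _ = x⁻¹ * (y⁻¹ * s x) * s y := by group
      _ = x⁻¹ * (s x * y⁻¹) * s y := by rw [hc y⁻¹ (s x)]
      _ = x⁻¹ * s x * (y⁻¹ * s y) := by group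
  have hcardz : ∀ b : G, b ≠ 1 → Nat.card (Subgroup.zpowers b) = p := fun b hb => by
    rw [Nat.card_zpowers]
    exact orderOf_eq_prime (hexp b) hb
  obtain ⟨y, hy⟩ : ∃ y, f y ≠ 1 := by
    by_contra h
    push Not at h
    exact hs (MulEquiv.ext fun x => (inv_mul_eq_one.1 (h x)).symm)
  -- `f` lowers every nontrivial element below it
  have hne : Subgroup.zpowers (f y) ≠ ⊤ → ∀ x, f x ∈ Subgroup.zpowers (f y) := by
    intro _ x
    by_contra hx
    have hr : f.range = ⊤ := by
      refine Subgroup.eq_top_of_card_eq _ (le_antisymm (Subgroup.card_le_card_group _) ?_)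
      rw [hcard]
      have hle : Subgroup.zpowers (f y) < f.range :=
        lt_of_le_not_ge (Subgroup.zpowers_le.2 ⟨y, rfl⟩) fun h => hx (h ⟨x, rfl⟩)
      obtain ⟨j, hj⟩ := IsPGroup.iff_card.1 (hG.to_subgroup f.range)
      have h1 : p ^ 1 < p ^ j := by
        have h0 : Nat.card (Subgroup.zpowers (f y)) < Nat.card f.range :=
          lt_of_not_ge fun h => hle.ne (Subgroup.eq_of_le_of_card_ge hle.le h)
        rw [hcardz _ hy, hj] at h0
        rwa [pow_one]
      rw [hj]
      exact Nat.pow_le_pow_right hp.out.pos ((Nat.pow_lt_pow_iff_right hp.out.one_lt).1 h1)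
    -- then `f` is injective, but `s` fixes a nontrivial element
    have hinj : Function.Injective f :=
      Finite.injective_iff_surjective.2 (MonoidHom.range_eq_top.1 hr)
    obtain ⟨a, ha, ha1⟩ := exists_fixed_ne_one hG hsk (y := f y) hy
    exact ha1 (hinj ((show f a = 1 by change a⁻¹ * s a = 1; rw [ha, inv_mul_cancel]).trans
      (map_one f).symm))
  have hproper : Subgroup.zpowers (f y) ≠ ⊤ := fun h => by
    have h1 := hcardz _ hy
    rw [h, Subgroup.card_top, hcard] at h1
    exact absurd ((Nat.pow_right_injective hp.out.two_le) (h1.trans (pow_one p).symm)) (by norm_num)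
  have hmem := hne hproper
  refine ⟨f y, hy, ?_, hmem⟩
  -- the image is fixed
  obtain ⟨a, ha, ha1⟩ := exists_fixed_ne_one hG hsk (y := f y) hy
  by_contra hfy
  have hfa : f a = 1 := by change a⁻¹ * s a = 1; rw [ha, inv_mul_cancel]
  obtain ⟨n, hn⟩ := Subgroup.mem_zpowers_iff.1 (hmem (f y))
  have hfy' : f (f y) = f y ^ n := hn.symm
  -- `f` acts on its image by a scalar `n`, nilpotently
  have hit : ∀ i : ℕ, (s ^ i) (f y) = f y ^ ((1 + n) ^ i) := by
    intro i
    induction i with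
    | zero => simp
    | succ i ih =>
      rw [pow_succ', MulAut.mul_apply, ih, map_zpow,
        show s (f y) = f y * f (f y) from (mul_inv_cancel_left _ _).symm, hfy',
        ← zpow_one_add, ← zpow_mul, pow_succ']
  have h1 := hit (p ^ k)
  rw [hsk, MulAut.one_apply] at h1
  have hord : orderOf (f y) = p := orderOf_eq_prime (hexp _) hy
  have h2 : ((1 + n) ^ (p ^ k) : ZMod p) = 1 := by
    have h3 : f y ^ ((1 + n) ^ p ^ k - 1) = 1 := by
      rw [zpow_sub_one, ← h1, mul_inv_cancel]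
    have h4 := (orderOf_dvd_iff_zpow_eq_one).2 h3
    rw [hord] at h4
    have h5 := (ZMod.intCast_zmod_eq_zero_iff_dvd _ p).2 h4
    push_cast at h5
    exact sub_eq_zero.1 h5
  rw [ZMod.pow_card_pow] at h2
  have h6 : ((n : ℤ) : ZMod p) = 0 := by linear_combination h2
  rw [ZMod.intCast_zmod_eq_zero_iff_dvd] at h6
  have h7 : f y ^ n = 1 := orderOf_dvd_iff_zpow_eq_one.1 (hord.symm ▸ h6)
  exact hfy (inv_mul_eq_one.1 (hfy'.trans h7)).symm

end Elem

variable {Ω : Type*} [Group Ω] {S : Subgroup Ω} [Finite S] {F : FusionSystem S} {p : ℕ}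
  [Fact p.Prime]

/-- An essential subgroup of order `p ^ 2` is elementary abelian, with an automorphism group
containing `SL₂(p)`. -/
theorem essential_card_sq (hS : IsPGroup p S) (hF : F.IsSaturated p) {H : Subgroup Ω}
    (hH : F.IsEssential p H) (hcard : Nat.card H = p ^ 2) :
    Cfsg.IsElementaryAbelian p H ∧
      ∃ K : Subgroup ↥(F.autGroup H), Nonempty (↥K ≃* SpecialLinearGroup (Fin 2) (ZMod p)) := by
  have hp : p.Prime := Fact.out
  have : NeZero p := ⟨hp.ne_zero⟩
  have hHS := hH.1.1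
  have := finite_of_le hHS
  have hHp : IsPGroup p H := hS.to_le hHS
  have hlt := essential_lt hS hF hH
  have hr := isRadical_of_isEssential hS hH
  have hcomm : ∀ x y : H, x * y = y * x :=
    (IsPGroup.commGroupOfCardEqPrimeSq hcard).mul_comm
  have hinn : Cfsg.Inn H = ⊥ := eq_bot_iff.2 fun a ha => by
    obtain ⟨x, rfl⟩ := ha
    exact Subgroup.mem_bot.2 (MulEquiv.ext fun y => by
      rw [MulAut.conj_apply, hcomm x y, mul_inv_cancel_right]; rfl)
  -- a `p`-subgroup normal in `Aut_F(H)` is trivial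
  have hnop : ∀ K : Subgroup (MulAut H), K ≤ F.autGroup H →
      (K.subgroupOf (F.autGroup H)).Normal → IsPGroup p K → K = ⊥ := fun K hK hKn hKp =>
    le_bot_iff.1 (hinn ▸ le_inn_of_normal_pgroup hr hK hKn hKp)
  obtain ⟨g, hg, hgH⟩ := SetLike.exists_of_lt (lt_normalizerIn hS hlt)
  set s := normAut g hg.2 with hsdef
  have hsA : s ∈ autInducedBy S H := mem_autInducedBy_iff.2 ⟨g, hg.1, fun _ => rfl⟩
  have hs1 : s ≠ 1 := fun h => hgH (mem_of_normAut_mem_inn hHS (hH.1.2 H (isConj_refl hHS)) hg.1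
    (hg := hg.2) (by rw [← hsdef, h]; exact one_mem _))
  obtain ⟨k, hk⟩ := isPGroup_autInducedBy hS H ⟨s, hsA⟩
  have hsk : s ^ p ^ k = 1 := congrArg Subtype.val hk
  have hsF : s ∈ F.autGroup H := autInducedBy_le_autGroup hHS hsA
  -- elementary abelian
  have hexp : ∀ x : H, x ^ p = 1 := by
    by_contra hne
    push Not at hne
    obtain ⟨x, hx⟩ := hne
    have hord : orderOf x = p ^ 2 := by
      obtain ⟨j, hj, hje⟩ := (Nat.dvd_prime_pow hp).1 (hcard ▸ orderOf_dvd_natCard x)
      interval_cases j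
      · rw [pow_zero] at hje
        exact absurd (by rw [orderOf_eq_one_iff.1 hje, one_pow]) hx
      · rw [pow_one] at hje
        exact absurd (by rw [← hje, pow_orderOf_eq_one]) hx
      · exact hje
    have : IsCyclic H := isCyclic_of_orderOf_eq_card x (hord.trans hcard.symm)
    have hAcomm : ∀ a b : MulAut H, a * b = b * a := fun a b => by
      obtain ⟨gen, hgen⟩ := IsCyclic.exists_generator (α := H)
      obtain ⟨i, hi⟩ := hgen (a gen)
      obtain ⟨j, hj⟩ := hgen (b gen)
      change gen ^ i = a gen at hi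
      change gen ^ j = b gen at hj
      refine MulEquiv.ext fun y => ?_
      obtain ⟨n, rfl⟩ := hgen y
      simp only [MulAut.mul_apply, map_zpow]
      rw [← hi, ← hj]
      simp only [map_zpow]
      rw [← hi, ← hj, ← zpow_mul gen i j, ← zpow_mul gen j i, mul_comm i j]
    have hnz := hnop (autInducedBy S H) (autInducedBy_le_autGroup hHS) ⟨fun a ha b => by
      rw [Subgroup.mem_subgroupOf] at ha ⊢
      simp only [Subgroup.coe_mul, Subgroup.coe_inv]
      rw [hAcomm (b : MulAut H) a, mul_inv_cancel_right]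
      exact ha⟩ (isPGroup_autInducedBy hS H)
    exact hs1 (Subgroup.mem_bot.1 (hnz ▸ hsA))
  refine ⟨⟨⟨⟨hcomm⟩⟩, fun a ha => congrArg Subtype.val (hexp ⟨a, ha⟩)⟩, ?_⟩
  obtain ⟨a, ha1, hsa, hsmem⟩ := exists_axis hHp hcomm hexp hcard hs1 hsk
  -- some automorphism moves the axis
  obtain ⟨β, hβ, hβa⟩ : ∃ β ∈ F.autGroup H, β a ∉ Subgroup.zpowers a := by
    by_contra hne
    push Not at hne
    have hinv : ∀ α ∈ F.autGroup H, ∀ x ∈ Subgroup.zpowers a, α x ∈ Subgroup.zpowers a := by
      intro α hα x hx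
      obtain ⟨n, rfl⟩ := Subgroup.mem_zpowers_iff.1 hx
      rw [map_zpow]
      exact Subgroup.zpow_mem _ (hne α hα) n
    let K : Subgroup (MulAut H) :=
      { carrier := {α | α ∈ F.autGroup H ∧ α a = a ∧ ∀ x, x⁻¹ * α x ∈ Subgroup.zpowers a}
        one_mem' := ⟨one_mem _, rfl, fun x => by simp⟩
        mul_mem' := by
          rintro u v ⟨hu, hu1, hu2⟩ ⟨hv, hv1, hv2⟩
          refine ⟨mul_mem hu hv, by rw [MulAut.mul_apply, hv1, hu1], fun x => ?_⟩
          have h := Subgroup.mul_mem _ (hv2 x) (hu2 (v x))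
          rwa [mul_assoc, mul_inv_cancel_left] at h
        inv_mem' := by
          rintro u ⟨hu, hu1, hu2⟩
          refine ⟨inv_mem hu, by conv_lhs => rw [← hu1]; exact MulAut.inv_apply_self H u a, fun x => ?_⟩
          have h := Subgroup.inv_mem _ (hu2 (u⁻¹ x))
          rwa [MulAut.apply_inv_self, _root_.mul_inv_rev, inv_inv] at h }
    have hKn : (K.subgroupOf (F.autGroup H)).Normal := ⟨fun u hu b => by
      rw [Subgroup.mem_subgroupOf] at hu ⊢
      obtain ⟨hu0, hu1, hu2⟩ := hu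
      have hfix : ∀ x ∈ Subgroup.zpowers a, (u : MulAut H) x = x := fun x hx => by
        obtain ⟨n, rfl⟩ := Subgroup.mem_zpowers_iff.1 hx
        rw [map_zpow, hu1]
      refine ⟨mul_mem (mul_mem b.2 hu0) (inv_mem b.2), ?_, fun x => ?_⟩
      · simp only [Subgroup.coe_mul, Subgroup.coe_inv, MulAut.mul_apply]
        rw [hfix _ (hinv _ (inv_mem b.2) a (Subgroup.mem_zpowers a)), MulAut.apply_inv_self]
      · simp only [Subgroup.coe_mul, Subgroup.coe_inv, MulAut.mul_apply]
        have h := hinv _ b.2 _ (hu2 ((b : MulAut H)⁻¹ x))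
        rwa [map_mul, map_inv, MulAut.apply_inv_self] at h⟩
    have hKp : IsPGroup p K := by
      rintro ⟨u, hu0, hu1, hu2⟩
      refine ⟨1, Subtype.ext (MulEquiv.ext fun x => ?_)⟩
      have hit : ∀ i : ℕ, (u ^ i) x = x * (x⁻¹ * u x) ^ i := by
        intro i
        induction i with
        | zero => simp
        | succ i ih =>
          obtain ⟨n, hn⟩ := Subgroup.mem_zpowers_iff.1 (hu2 x)
          have hfix : u (x⁻¹ * u x) = x⁻¹ * u x := by rw [← hn, map_zpow, hu1]
          rw [pow_succ', MulAut.mul_apply, ih, map_mul, map_pow, hfix, pow_succ', ← mul_assoc,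
            mul_inv_cancel_left]
      rw [pow_one]
      change ((u ^ p : MulAut H)) x = x
      rw [hit, hexp, mul_one]
    have hsK : s ∈ K := ⟨hsF, hsa, hsmem⟩
    exact hs1 (Subgroup.mem_bot.1 (hnop K (fun u hu => hu.1) hKn hKp ▸ hsK))
  set c := β a
  set t := β * s * β⁻¹
  have htF : t ∈ F.autGroup H := mul_mem (mul_mem hβ hsF) (inv_mem hβ)
  have htc : t c = c := by simp [t, c, hsa]
  -- coordinates
  let e : Multiplicative (Fin 2 → ZMod p) →* H := MonoidHom.mk'
    (fun v => a ^ (v.toAdd 0).val * c ^ (v.toAdd 1).val) fun v w => by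
      have h1 : ∀ (b : H) (i j : ZMod p), b ^ (i + j).val = b ^ i.val * b ^ j.val := fun b i j => by
        rw [← pow_add, ZMod.val_add, ← pow_eq_pow_mod _ (hexp b)]
      simp only [toAdd_mul, Pi.add_apply, h1]
      rw [mul_assoc, mul_assoc]
      congr 1
      rw [← mul_assoc, hcomm _ (c ^ (v.toAdd 1).val), mul_assoc]
  have hinj : Function.Injective e := by
    rw [injective_iff_map_eq_one]
    intro v hv
    change a ^ (v.toAdd 0).val * c ^ (v.toAdd 1).val = 1 at hv
    have h1 : v.toAdd 1 = 0 := by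
      by_contra h1
      refine hβa ?_
      have hcm : c ^ (v.toAdd 1).val ∈ Subgroup.zpowers a := by
        rw [eq_inv_of_mul_eq_one_right hv]
        exact Subgroup.inv_mem _ (Subgroup.pow_mem _ (Subgroup.mem_zpowers a) _)
      have hco : (v.toAdd 1).val.Coprime (orderOf c) :=
        Nat.Coprime.coprime_dvd_right (orderOf_dvd_of_pow_eq_one (hexp c))
          (((hp.coprime_iff_not_dvd).2 fun hd => h1 ((ZMod.val_eq_zero _).1
            (Nat.eq_zero_of_dvd_of_lt hd (ZMod.val_lt _)))).symm)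
      obtain ⟨j, hj⟩ := exists_pow_eq_self_of_coprime hco
      rw [← hj]
      exact Subgroup.pow_mem _ hcm j
    have h0 : v.toAdd 0 = 0 := by
      rw [h1, ZMod.val_zero, pow_zero, mul_one] at hv
      by_contra h0
      refine ha1 ?_
      have hco : (v.toAdd 0).val.Coprime (orderOf a) :=
        Nat.Coprime.coprime_dvd_right (orderOf_dvd_of_pow_eq_one (hexp a))
          (((hp.coprime_iff_not_dvd).2 fun hd => h0 ((ZMod.val_eq_zero _).1
            (Nat.eq_zero_of_dvd_of_lt hd (ZMod.val_lt _)))).symm)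
      obtain ⟨j, hj⟩ := exists_pow_eq_self_of_coprime hco
      rw [← hj, hv, one_pow]
    apply Multiplicative.toAdd.injective
    funext i
    fin_cases i <;> simp [h0, h1]
  have hbij : Function.Bijective e := (Nat.bijective_iff_injective_and_card e).2 ⟨hinj, by
    simp [Nat.card_pi, hcard]⟩
  let E := MulEquiv.ofBijective e hbij
  let φ : SpecialLinearGroup (Fin 2) (ZMod p) →* MulAut H :=
    (MulAut.congr E).toMonoidHom.comp (Spectrum.slVecAct (Fin 2) (ZMod p))
  have hφe : ∀ M v, φ M (e v) = e (Multiplicative.ofAdd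
      ((M : Matrix (Fin 2) (Fin 2) (ZMod p)) *ᵥ v.toAdd)) := fun M v => by
    change E (Spectrum.slVecAct (Fin 2) (ZMod p) M (E.symm (E v))) = _
    rw [E.symm_apply_apply]
    change e _ = _
    refine congrArg e (Multiplicative.toAdd.injective ?_)
    rw [Spectrum.slVecAct_apply]
    rfl
  have hφinj : Function.Injective φ := fun M M' h => by
    refine Subtype.ext (Matrix.ext_of_mulVec_single fun i => ?_)
    have h1 := DFunLike.congr_fun h (e (Multiplicative.ofAdd (Pi.single i 1)))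
    rw [hφe, hφe] at h1
    simpa using congrArg Multiplicative.toAdd (hinj h1)
  -- both transvections are shears
  obtain ⟨u, hu⟩ := hbij.2 (c⁻¹ * s c)
  have hsc : ∃ k : ZMod p, k ≠ 0 ∧ s c = c * a ^ k.val := by
    obtain ⟨n, hn⟩ := Subgroup.mem_zpowers_iff.1 (hsmem c)
    refine ⟨(n : ZMod p), fun hn0 => ?_, ?_⟩
    · refine hs1 (MulEquiv.ext fun x => ?_)
      obtain ⟨v, rfl⟩ := hbij.2 x
      have hn1 : a ^ n = 1 := by
        refine orderOf_dvd_iff_zpow_eq_one.1 (dvd_trans ?_ ((ZMod.intCast_zmod_eq_zero_iff_dvd _ p).1 hn0))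
        exact_mod_cast orderOf_dvd_of_pow_eq_one (hexp a)
      rw [hn1] at hn
      change s (a ^ _ * c ^ _) = _
      rw [map_mul, map_pow, map_pow, hsa, ← inv_mul_eq_one.1 hn.symm]
      rfl
    · rw [← zpow_natCast a, ZMod.val_intCast, ← zpow_eq_zpow_emod' n (hexp a), hn,
        mul_inv_cancel_left]
  have hta : ∃ m : ZMod p, m ≠ 0 ∧ t a = a * c ^ m.val := by
    have hmem : a⁻¹ * t a ∈ Subgroup.zpowers c := by
      obtain ⟨n, hn⟩ := Subgroup.mem_zpowers_iff.1 (hsmem (β⁻¹ a))
      refine Subgroup.mem_zpowers_iff.2 ⟨n, ?_⟩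
      have h := congrArg β hn
      rw [map_zpow, map_mul, map_inv, MulAut.apply_inv_self] at h
      exact h
    obtain ⟨n, hn⟩ := Subgroup.mem_zpowers_iff.1 hmem
    refine ⟨(n : ZMod p), fun hn0 => ?_, ?_⟩
    · have hn1 : c ^ n = 1 := by
        refine orderOf_dvd_iff_zpow_eq_one.1 (dvd_trans ?_ ((ZMod.intCast_zmod_eq_zero_iff_dvd _ p).1 hn0))
        exact_mod_cast orderOf_dvd_of_pow_eq_one (hexp c)
      rw [hn1] at hn
      have hta : t a = a := (inv_mul_eq_one.1 hn.symm).symm
      have ht1 : t = 1 := MulEquiv.ext fun x => by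
        obtain ⟨v, rfl⟩ := hbij.2 x
        change t (a ^ _ * c ^ _) = _
        rw [map_mul, map_pow, map_pow, htc, hta]
        rfl
      exact hs1 (by simpa [t] using ht1)
    · rw [← zpow_natCast c, ZMod.val_intCast, ← zpow_eq_zpow_emod' n (hexp c), hn,
        mul_inv_cancel_left]
  obtain ⟨k', hk', hsc⟩ := hsc
  obtain ⟨m', hm', hta⟩ := hta
  have hval : ∀ (b : H) (i j : ZMod p), b ^ (i + j * 1).val = b ^ i.val * b ^ j.val := fun b i j => by
    rw [mul_one, ← pow_add, ZMod.val_add, ← pow_eq_pow_mod _ (hexp b)]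
  have hmulv : ∀ (b : H) (i j : ZMod p), b ^ (i * j).val = (b ^ i.val) ^ j.val := fun b i j => by
    rw [← pow_mul, ZMod.val_mul, ← pow_eq_pow_mod _ (hexp b)]
  have hup : φ (upShear k') = s := MulEquiv.ext fun x => by
    obtain ⟨v, rfl⟩ := hbij.2 x
    rw [hφe]
    change a ^ _ * c ^ _ = s (a ^ _ * c ^ _)
    rw [map_mul, map_pow, map_pow, hsa, hsc, (Commute.pow_right (hcomm c a) k'.val).mul_pow]
    simp only [upShear, Matrix.mulVec, Matrix.of_apply, toAdd_ofAdd, dotProduct, Fin.sum_univ_two]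
    simp only [Matrix.cons_val_zero, Matrix.cons_val_one, one_mul, zero_mul, zero_add]
    rw [← hmulv, show v.toAdd 0 + k' * v.toAdd 1 = v.toAdd 0 + (k' * v.toAdd 1) * 1 by ring, hval,
      hcomm (c ^ _) (a ^ (k' * _).val), mul_assoc]
  have hlow : φ (lowShear m') = t := MulEquiv.ext fun x => by
    obtain ⟨v, rfl⟩ := hbij.2 x
    rw [hφe]
    change a ^ _ * c ^ _ = t (a ^ _ * c ^ _)
    rw [map_mul, map_pow, map_pow, htc, hta, (Commute.pow_right (hcomm a c) m'.val).mul_pow]
    simp only [lowShear, Matrix.mulVec, Matrix.of_apply, toAdd_ofAdd, dotProduct, Fin.sum_univ_two]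
    simp only [Matrix.cons_val_zero, Matrix.cons_val_one, one_mul, zero_mul, add_zero]
    rw [← hmulv, show m' * v.toAdd 0 + v.toAdd 1 = v.toAdd 1 + (m' * v.toAdd 0) * 1 by ring, hval,
      hcomm (c ^ (v.toAdd 1).val) (c ^ _), mul_assoc]
  have htop := shears_generate ((F.autGroup H).comap φ) hk' hm'
    (Subgroup.mem_comap.2 (hup.symm ▸ hsF)) (Subgroup.mem_comap.2 (hlow.symm ▸ htF))
  let ψ : SpecialLinearGroup (Fin 2) (ZMod p) →* F.autGroup H :=
    φ.codRestrict (F.autGroup H) fun M => Subgroup.mem_comap.1 (htop.ge (Subgroup.mem_top M))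
  exact ⟨ψ.range, ⟨(MonoidHom.ofInjective (f := ψ) fun M M' h =>
    hφinj (congrArg Subtype.val h)).symm⟩⟩

end CfsgLib.Fusion
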