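import Cfsg.Agent.Lib.Fusion.RepeatedInvariant
import Cfsg.Agent.Lib.Fusion.EssentialPSq
import Cfsg.Agent.Lib.PGroup.Basic
import Cfsg.Agent.Lib.Solvable.UniqueSubgroup

/-!
# Essential subgroups with a fine invariant series, of order `p ^ 3`, or abelian of rank two
-/

set_option autoImplicit false

open Cfsg Cfsg.FusionSystem
open scoped commutatorElement

namespace CfsgLib.Fusion

variable {Ω : Type*} [Group Ω] {S : Subgroup Ω} [Finite S] {F : FusionSystem S} {p : ℕ}
  [Fact p.Prime] {H : Subgroup Ω}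

/-- An essential subgroup has a `p`-automorphism induced by `S` that is not inner. -/
theorem exists_outer_of_isEssential (hS : IsPGroup p S) (hF : F.IsSaturated p)
    (hH : F.IsEssential p H) :
    ∃ s ∈ autInducedBy S H, s ∉ Inn H := by
  have hHS := hH.1.1
  obtain ⟨g, hg, hgH⟩ := SetLike.exists_of_lt (lt_normalizerIn hS (essential_lt hS hF hH))
  exact ⟨normAut g hg.2, mem_autInducedBy_iff.2 ⟨g, hg.1, fun _ => rfl⟩,
    fun h => hgH (mem_of_normAut_mem_inn hHS (hH.1.2 H (isConj_refl hHS)) hg.1 (hg := hg.2) h)⟩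

/-- An automorphism of an essential subgroup stabilizing an invariant series is inner. -/
theorem mem_inn_of_stabilizes (hS : IsPGroup p S) (hH : F.IsEssential p H)
    (D : ℕ → Subgroup H) (n : ℕ) (h0 : D 0 = ⊥) (hn : D n = ⊤)
    (hinv : ∀ α ∈ F.autGroup H, ∀ i ≤ n, ∀ x ∈ D i, α x ∈ D i) {s : MulAut H}
    (hs : s ∈ F.autGroup H) (hst : ∀ i < n, ∀ x ∈ D (i + 1), x⁻¹ * s x ∈ D i) : s ∈ Inn H := by
  have := finite_of_le hH.1.1
  refine le_inn_of_normal_pgroup (isRadical_of_isEssential hS hH)
    (K := stabSeries (F.autGroup H) D n) (fun α hα => hα.1) (normal_stabSeries_subgroupOf hinv) ?_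
    ⟨hs, fun i hi x => ⟨hinv s hs i hi x, fun h => ?_⟩, hst⟩
  · refine isPGroup_of_stabilizes (hS.to_le hH.1.1) _ D n (fun x => by simp [hn]) ?_
      fun α hα => hα.2.2
    intro α _ _ _ x hx
    rw [h0, Subgroup.mem_bot] at hx
    rw [hx, map_one]
  · simpa using hinv s⁻¹ (inv_mem hs) i hi _ h

/-- An essential subgroup has no invariant series with steps of index at most `p`. -/
theorem false_of_fine_series (hS : IsPGroup p S) (hF : F.IsSaturated p)
    (hH : F.IsEssential p H) (D : ℕ → Subgroup H) (n : ℕ) (h0 : D 0 = ⊥) (hn : D n = ⊤)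
    (hinv : ∀ α ∈ F.autGroup H, ∀ i ≤ n, ∀ x ∈ D i, α x ∈ D i)
    (hidx : ∀ i < n, D i ≤ D (i + 1) ∧ (D i).relIndex (D (i + 1)) ≤ p) : False := by
  have hHS := hH.1.1
  have := finite_of_le hHS
  obtain ⟨s, hsA, hsI⟩ := exists_outer_of_isEssential hS hF hH
  have hs : s ∈ F.autGroup H := autInducedBy_le_autGroup hHS hsA
  refine hsI (mem_inn_of_stabilizes hS hH D n h0 hn hinv hs fun i hi x hx => ?_)
  have hnorm : (D i).Normal := ⟨fun y hy g =>
    hinv (MulAut.conj g) (autInducedBy_le_autGroup hHS
      (mem_autInducedBy_iff.2 ⟨g, hHS g.2, fun _ => rfl⟩)) i hi.le y hy⟩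
  obtain ⟨hle, hk⟩ := hidx i hi
  obtain ⟨e, he⟩ := (hS.to_le hHS).to_subgroup (D (i + 1)) |>.exists_card_eq
  have hd := Subgroup.relIndex_dvd_card (D i) (D (i + 1))
  rw [he, Nat.dvd_prime_pow Fact.out] at hd
  obtain ⟨j, -, hj⟩ := hd
  rw [hj] at hk
  have hj1 : j ≤ 1 := (Nat.pow_le_pow_iff_right (Fact.out : p.Prime).one_lt).1
    (hk.trans (pow_one p).ge)
  rcases Nat.le_one_iff_eq_zero_or_eq_one.1 hj1 with rfl | rfl
  · rw [pow_zero, Subgroup.relIndex_eq_one] at hj
    exact mul_mem (inv_mem (hj hx)) (hinv s hs i hi.le x (hj hx))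
  rw [pow_one] at hj
  have hstep := (step_aut (F.autGroup H) (D i) (D (i + 1)) hj
    (fun α hα => hinv α hα i hi.le) (fun α hα => hinv α hα (i + 1) hi)).2
  let T : Subgroup (MulAut H) := stabSeries (F.autGroup H)
    (fun l => if l = 0 then D i else D (i + 1)) 1
  have hsT : s ^ (p - 1) ∈ T := by
    refine ⟨pow_mem hs _, fun l hl y => ?_, fun l hl y hy => ?_⟩
    · dsimp only
      split_ifs
      · exact ⟨hinv _ (pow_mem hs _) i hi.le y, fun h => by
          simpa using hinv _ (inv_mem (pow_mem hs (p - 1))) i hi.le _ h⟩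
      · exact ⟨hinv _ (pow_mem hs _) (i + 1) hi y, fun h => by
          simpa using hinv _ (inv_mem (pow_mem hs (p - 1))) (i + 1) hi _ h⟩
    · obtain rfl : l = 0 := by omega
      exact hstep s hs y hy
  obtain ⟨k, hk'⟩ := isPGroup_autInducedBy hS H ⟨s, hsA⟩
  have hsk : s ^ p ^ k = 1 := congrArg Subtype.val hk'
  have hco : (p - 1).Coprime (orderOf s) := by
    refine Nat.Coprime.coprime_dvd_right (orderOf_dvd_of_pow_eq_one hsk) (Nat.Coprime.pow_right k ?_)
    rw [Nat.coprime_comm, (Fact.out : p.Prime).coprime_iff_not_dvd]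
    exact Nat.not_dvd_of_pos_of_lt (by have := (Fact.out : p.Prime).two_le; omega)
      (by have := (Fact.out : p.Prime).two_le; omega)
  obtain ⟨m, hm⟩ := exists_pow_eq_self_of_coprime hco
  exact (hm ▸ pow_mem hsT m : s ∈ T).2.2 0 (Nat.lt_succ_self 0) x hx

/-- A nonabelian group of order eight with two cyclic subgroups of order four is quaternion. -/
theorem quaternion_of_two_cyclic {G : Type*} [Group G] [Finite G] (hG : Nat.card G = 2 ^ 3)
    (hna : ¬ ∀ a b : G, a * b = b * a) {x y : G} (hx : x ^ 2 ≠ 1) (hy : y ^ 2 ≠ 1)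
    (hxy : y ∉ Subgroup.zpowers x) : Nonempty (G ≃* QuaternionGroup 2) := by
  have hp : IsPGroup 2 G := IsPGroup.of_card hG
  have h4 : ∀ g : G, g ^ 4 = 1 := fun g => by
    obtain ⟨j, hj, hje⟩ := (Nat.dvd_prime_pow Nat.prime_two).1 (hG ▸ orderOf_dvd_natCard g)
    rcases Nat.lt_or_ge j 3 with h | h
    · exact orderOf_dvd_iff_pow_eq_one.1 (hje ▸ Nat.pow_dvd_pow 2 (show j ≤ 2 by omega))
    · exfalso
      have : IsCyclic G := isCyclic_of_orderOf_eq_card g
        (hje.trans (by rw [show j = 3 by omega, hG]))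
      exact hna (fun a b => IsCyclic.commGroup.mul_comm a b)
  have ho : ∀ g : G, g ^ 2 ≠ 1 → orderOf g = 2 ^ 2 := fun g hg =>
    orderOf_eq_prime_pow (by simpa using hg) (h4 g)
  set C := Subgroup.zpowers x
  have hC : Nat.card C = 4 := by rw [Nat.card_zpowers, ho x hx]; rfl
  have hCi : C.index = 2 := by
    have := C.card_mul_index
    rw [hC, hG] at this
    omega
  -- every element outside `C` is of order four
  have hcase : ∀ g : G, g ∈ C ∨ y⁻¹ * g ∈ C := fun g => by
    by_cases hg : g ∈ C
    · exact Or.inl hg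
    · refine Or.inr ((Subgroup.mul_mem_iff_of_index_two hCi).2 ?_)
      exact ⟨fun h => absurd (by simpa using C.inv_mem h) hxy, fun h => absurd h hg⟩
  have hCn : C.Normal := Subgroup.normal_of_index_eq_two hCi
  have hxc : y * x * y⁻¹ ≠ x := fun hc => hna (by
    have hcy : Commute y x := by
      change y * x = x * y
      conv_rhs => rw [← hc, inv_mul_cancel_right]
    have key : ∀ g : G, ∃ i j : ℤ, g = y ^ i * x ^ j := fun g => by
      rcases hcase g with ⟨j, hj⟩ | ⟨j, hj⟩
      · exact ⟨0, j, by simpa using hj.symm⟩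
      · exact ⟨1, j, by simp only [zpow_one]; change x ^ j = _ at hj; rw [hj, mul_inv_cancel_left]⟩
    intro a b
    obtain ⟨i, j, rfl⟩ := key a
    obtain ⟨k, l, rfl⟩ := key b
    exact ((Commute.mul_left (((Commute.refl y).zpow_zpow i k).mul_right (hcy.zpow_zpow i l))
      ((hcy.symm.zpow_zpow j k).mul_right ((Commute.refl x).zpow_zpow j l))) : Commute _ _))
  -- the two squares agree
  have hy2 : y ^ 2 = x ^ 2 := by
    obtain ⟨j, hj⟩ : y ^ 2 ∈ C := Subgroup.sq_mem_of_index_two hCi y
    change x ^ j = y ^ 2 at hj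
    have h1 : (y ^ 2) ^ 2 = 1 := by rw [← pow_mul]; exact h4 y
    rw [← hj, ← zpow_natCast, ← zpow_mul, ← orderOf_dvd_iff_zpow_eq_one, ho x hx] at h1
    obtain ⟨c, hc⟩ : (2 : ℤ) ∣ j := by push_cast at h1; omega
    rcases Int.even_or_odd c with ⟨d, hd⟩ | ⟨d, hd⟩
    · exfalso
      refine hy ?_
      rw [← hj, hc, hd, show (2 : ℤ) * (d + d) = ((2 ^ 2 : ℕ) : ℤ) * d by push_cast; ring, zpow_mul,
        zpow_natCast, ← ho x hx, pow_orderOf_eq_one, one_zpow]
    · rw [← hj, hc, hd, show (2 : ℤ) * (2 * d + 1) = ((2 ^ 2 : ℕ) : ℤ) * d + 2 by push_cast; ring,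
        zpow_add, zpow_mul, zpow_natCast, ← ho x hx, pow_orderOf_eq_one, one_zpow, one_mul]
      exact zpow_natCast x 2
  have hconj : y * x * y⁻¹ = x⁻¹ := by
    obtain ⟨j, hj⟩ : y * x * y⁻¹ ∈ C := hCn.conj_mem x (Subgroup.mem_zpowers x) y
    change x ^ j = _ at hj
    have hord : orderOf (x ^ j) = 2 ^ 2 := by
      rw [hj, show y * x * y⁻¹ = MulAut.conj y x from rfl, MulEquiv.orderOf_eq, ho x hx]
    rcases Int.even_or_odd j with ⟨c, hc⟩ | ⟨c, hc⟩
    · exfalso
      have h1 : (x ^ j) ^ 2 = 1 := by
        rw [hc, ← zpow_natCast, ← zpow_mul,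
          show (c + c) * ((2 : ℕ) : ℤ) = ((2 ^ 2 : ℕ) : ℤ) * c by push_cast; ring, zpow_mul,
          zpow_natCast, ← ho x hx, pow_orderOf_eq_one, one_zpow]
      have := orderOf_dvd_of_pow_eq_one h1
      rw [hord] at this
      norm_num at this
    rcases Int.even_or_odd c with ⟨d, hd⟩ | ⟨d, hd⟩
    · exfalso
      refine hxc ?_
      rw [← hj, hc, hd, show 2 * (d + d) + 1 = ((2 ^ 2 : ℕ) : ℤ) * d + 1 by push_cast; ring,
        zpow_add, zpow_mul, zpow_natCast, ← ho x hx, pow_orderOf_eq_one, one_zpow, one_mul, zpow_one]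
    · rw [← hj, hc, hd, show 2 * (2 * d + 1) + 1 = ((2 ^ 2 : ℕ) : ℤ) * (d + 1) + (-1) by
        push_cast; ring, zpow_add, zpow_mul, zpow_natCast, ← ho x hx, pow_orderOf_eq_one, one_zpow,
        one_mul, zpow_neg_one]
  have hu : ∀ u v : G, orderOf u = 2 → orderOf v = 2 → u ∈ Subgroup.zpowers v := by
    have h2 : ∀ u : G, orderOf u = 2 → u = x ^ 2 := fun u hu => by
      rcases hcase u with ⟨j, hj⟩ | ⟨j, hj⟩
      · change x ^ j = u at hj
        rcases Int.even_or_odd j with ⟨c, hc⟩ | ⟨c, hc⟩
        · rcases Int.even_or_odd c with ⟨d, hd⟩ | ⟨d, hd⟩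
          · exfalso
            have h1 : u = 1 := by
              rw [← hj, hc, hd, show d + d + (d + d) = ((2 ^ 2 : ℕ) : ℤ) * d by push_cast; ring,
                zpow_mul, zpow_natCast, ← ho x hx, pow_orderOf_eq_one, one_zpow]
            rw [h1, orderOf_one] at hu
            norm_num at hu
          · rw [← hj, hc, hd, show 2 * d + 1 + (2 * d + 1) = ((2 ^ 2 : ℕ) : ℤ) * d + 2 by
              push_cast; ring, zpow_add, zpow_mul, zpow_natCast, ← ho x hx, pow_orderOf_eq_one,
              one_zpow, one_mul]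
            exact zpow_natCast x 2
        · exfalso
          have h1 : (x ^ j) ^ 2 = 1 := by rw [hj, ← hu, pow_orderOf_eq_one]
          rw [← zpow_natCast, ← zpow_mul, ← orderOf_dvd_iff_zpow_eq_one, ho x hx, hc] at h1
          push_cast at h1
          omega
      · exfalso
        change x ^ j = y⁻¹ * u at hj
        have h1 : u * u = 1 := by rw [← pow_two, ← hu, pow_orderOf_eq_one]
        rw [show u = y * x ^ j by rw [hj, mul_inv_cancel_left]] at h1
        have h2 : y * x ^ j * y⁻¹ = x ^ (-j) := by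
          rw [show y * x ^ j * y⁻¹ = MulAut.conj y (x ^ j) from rfl, map_zpow, MulAut.conj_apply,
            hconj, inv_zpow, zpow_neg]
        rw [show y * x ^ j * (y * x ^ j) = (y * x ^ j * y⁻¹) * (y ^ 2 * x ^ j) by
          rw [pow_two]; group, h2, hy2] at h1
        refine hx ?_
        rw [← h1]
        rw [← zpow_natCast, ← zpow_add, ← zpow_add, neg_add_cancel_comm_assoc] at *
    exact fun u v hu hv => by rw [h2 u hu, ← h2 v hv]; exact Subgroup.mem_zpowers v
  rcases CfsgLib.Solvable.isCyclic_or_quaternion hp hu with h | ⟨-, n, ⟨e⟩⟩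
  · exact absurd (fun a b => IsCyclic.commGroup.mul_comm a b) hna
  · have h1 := Nat.card_congr e.toEquiv
    rw [hG, Nat.card_eq_fintype_card, QuaternionGroup.card] at h1
    obtain rfl : n = 1 := by
      have h2 : 2 ^ n = 2 ^ 1 := by norm_num at h1 ⊢; omega
      exact Nat.pow_right_injective le_rfl h2
    exact ⟨e⟩

/-- An abelian essential subgroup is elementary or has a homocyclic structure of rank at least
two: not all steps of a characteristic series can be small. -/
theorem not_distinct_of_isEssential (hS : IsPGroup p S) (hF : F.IsSaturated p)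
    (hH : F.IsEssential p H) [hab : IsMulCommutative H] {ι : Type*} [Finite ι] (a : ι → ℕ)
    (e : H ≃* ((i : ι) → Multiplicative (ZMod (p ^ a i)))) : ¬ Function.Injective a := by
  intro ha
  have := finite_of_le hH.1.1
  let _ : CommGroup H := { (inferInstance : Group H) with mul_comm := hab.is_comm.comm }
  obtain ⟨n, L, h0, hl, hinv, hstep⟩ := exists_char_chain (hS.to_le hH.1.1) a ha e
  exact false_of_fine_series hS hF hH L n h0 hl
    (fun α _ i _ x hx => hinv i α.toMonoidHom x hx) hstep

/-- The types of essential subgroups of order `p ^ 3`. -/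
theorem essential_card_cube (hS : IsPGroup p S) (hF : F.IsSaturated p)
    (hH : F.IsEssential p H) (hcard : Nat.card H = p ^ 3) :
    Cfsg.IsElementaryAbelian p H ∨ (Odd p ∧ Cfsg.IsExtraspecial p ↥H ∧ ∀ x ∈ H, x ^ p = 1) ∨
      (p = 2 ∧ Nonempty (↥H ≃* QuaternionGroup 2)) := by
  classical
  have hp : p.Prime := Fact.out
  have := finite_of_le hH.1.1
  have hP := hS.to_le hH.1.1
  have := Finite.one_lt_card_iff_nontrivial.1
    (hcard ▸ Nat.one_lt_pow three_ne_zero hp.one_lt)
  by_cases hab : ∀ x y : H, x * y = y * x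
  · refine Or.inl ?_
    have hcomm : IsMulCommutative H := ⟨⟨hab⟩⟩
    let _ : CommGroup H := { (inferInstance : Group H) with mul_comm := hab }
    by_contra hne
    obtain ⟨x, hx⟩ : ∃ x : H, x ^ p ≠ 1 := by
      by_contra h
      push Not at h
      exact hne ⟨hcomm, fun g hg => congrArg Subtype.val (h ⟨g, hg⟩)⟩
    let f : H →* H := powMonoidHom p
    have hmul : Nat.card f.range * Nat.card f.ker = p ^ 3 := by
      rw [← hcard, ← Subgroup.index_ker, mul_comm, Subgroup.card_mul_index]
    have hr1 : 1 < Nat.card f.range := by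
      rw [Finite.one_lt_card_iff_nontrivial, Subgroup.nontrivial_iff_ne_bot]
      exact fun h => hx (Subgroup.mem_bot.1 (h.le ⟨x, rfl⟩))
    obtain ⟨r, hr, hre⟩ := (Nat.dvd_prime_pow hp).1 (Dvd.intro _ hmul)
    obtain ⟨k, hk, hke⟩ := (Nat.dvd_prime_pow hp).1 (Dvd.intro_left _ hmul)
    rw [hre, hke, ← pow_add] at hmul
    have hrk := Nat.pow_right_injective hp.two_le hmul
    have hr0 : r ≠ 0 := fun h => by rw [hre, h, pow_zero] at hr1; exact lt_irrefl _ hr1
    have hk0 : k ≠ 0 := fun h => by
      obtain ⟨z, hz⟩ := exists_prime_orderOf_dvd_card' (G := H) p (hcard ▸ dvd_pow_self p three_ne_zero)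
      have : Subgroup.zpowers z ≤ f.ker := Subgroup.zpowers_le.2
        (show z ^ p = 1 by rw [← hz, pow_orderOf_eq_one])
      have h1 := Subgroup.card_le_of_le this
      rw [Nat.card_zpowers, hz, hke, h, pow_zero] at h1
      exact (hp.one_lt.trans_le h1).false
    -- nested image and kernel
    obtain ⟨A, B, hAB, hA, hB, hinvA, hinvB⟩ : ∃ A B : Subgroup H, A ≤ B ∧ Nat.card A = p ∧
        Nat.card B = p ^ 2 ∧ (∀ α : MulAut H, ∀ x ∈ A, α x ∈ A) ∧ ∀ α : MulAut H, ∀ x ∈ B, α x ∈ B := by
      have hir : ∀ α : MulAut H, ∀ x ∈ f.range, α x ∈ f.range := by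
        rintro α _ ⟨y, rfl⟩; exact ⟨α y, (map_pow α y p).symm⟩
      have hik : ∀ α : MulAut H, ∀ x ∈ f.ker, α x ∈ f.ker := fun α y hy => by
        have hy' : y ^ p = 1 := hy
        change α y ^ p = 1
        rw [← map_pow, hy', map_one]
      rcases Nat.lt_or_ge r 2 with h | h
      · obtain rfl : r = 1 := by omega
        obtain rfl : k = 2 := by omega
        refine ⟨f.range, f.ker, ?_, by rw [hre, pow_one], hke, hir, hik⟩
        rintro _ ⟨y, rfl⟩
        have : (f y) ^ Nat.card f.range = 1 :=
          congrArg Subtype.val (pow_card_eq_one' (x := (⟨f y, y, rfl⟩ : f.range)))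
        rwa [hre, pow_one] at this
      · obtain rfl : r = 2 := by omega
        obtain rfl : k = 1 := by omega
        refine ⟨f.ker, f.range, ?_, by rw [hke, pow_one], hre, hik, hir⟩
        by_contra hle
        -- then the product is everything, killed by `p ^ 2`, and of exponent `p`
        have hbot : f.ker ⊓ f.range = ⊥ := by
          have hd := Subgroup.card_dvd_of_le (inf_le_left : f.ker ⊓ f.range ≤ f.ker)
          rw [hke, pow_one, Nat.dvd_prime hp] at hd
          rcases hd with hd | hd
          · exact Subgroup.card_eq_one.1 hd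
          · exact absurd (inf_eq_left.1 (Subgroup.eq_of_le_of_card_ge inf_le_left
              (by rw [hd, hke, pow_one]))) hle
        obtain ⟨z, hz⟩ := exists_prime_orderOf_dvd_card' (G := f.range) p
          (hre ▸ dvd_pow_self p two_ne_zero)
        have : (z : H) ∈ f.ker ⊓ f.range := ⟨by
          change (z : H) ^ p = 1
          rw [← hz, ← SubgroupClass.coe_pow, pow_orderOf_eq_one]; rfl, z.2⟩
        rw [hbot, Subgroup.mem_bot] at this
        rw [show z = 1 from Subtype.ext this, orderOf_one] at hz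
        exact hp.one_lt.ne hz
    refine false_of_fine_series hS hF hH
      (fun i => if i = 0 then ⊥ else if i = 1 then A else if i = 2 then B else ⊤) 3 rfl rfl
      (fun α _ i _ y hy => ?_) fun i hi => ?_
    · split_ifs at hy ⊢
      · rw [Subgroup.mem_bot] at hy ⊢; rw [hy, map_one]
      · exact hinvA α y hy
      · exact hinvB α y hy
      · exact Subgroup.mem_top _
    · interval_cases i <;> simp only [Nat.reduceEqDiff, if_true, if_false]
      · exact ⟨bot_le, (Subgroup.relIndex_bot_left A).trans_le hA.le⟩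
      · refine ⟨hAB, ?_⟩
        have := Subgroup.relIndex_mul_relIndex ⊥ A B bot_le hAB
        rw [Subgroup.relIndex_bot_left, Subgroup.relIndex_bot_left, hA, hB, pow_two] at this
        exact (Nat.eq_of_mul_eq_mul_left hp.pos this).le
      · refine ⟨le_top, ?_⟩
        have := B.card_mul_index
        rw [hB, hcard, pow_succ p 2] at this
        rw [Subgroup.relIndex_top_right]
        exact (Nat.eq_of_mul_eq_mul_left (pow_pos hp.pos 2) this).le
  -- nonabelian
  refine Or.inr ?_
  set Z := Subgroup.center H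
  have hnc : ¬ IsCyclic (H ⧸ Z) := fun h => hab fun x y =>
    commutative_of_cyclic_center_quotient (QuotientGroup.mk' Z) (QuotientGroup.ker_mk' Z).le x y
  have hZ : Nat.card Z = p := by
    obtain ⟨j, hj, hje⟩ := (Nat.dvd_prime_pow hp).1 (hcard ▸ Z.card_subgroup_dvd_card)
    have hmul := Z.card_mul_index
    rw [hje, hcard] at hmul
    have := hP.center_nontrivial
    rcases Nat.lt_or_ge j 2 with h | h
    · obtain rfl : j = 1 := by
        by_contra h1
        obtain rfl : j = 0 := by omega
        exact (Finite.one_lt_card_iff_nontrivial.2 ‹_›).ne' (hje.trans (pow_zero p))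
      rw [hje, pow_one]
    · exfalso
      obtain ⟨l, -, hl⟩ := (Nat.dvd_prime_pow hp).1 (hcard ▸ Z.index_dvd_card)
      rw [hl, ← pow_add] at hmul
      have := Nat.pow_right_injective hp.two_le hmul
      refine hnc ?_
      have hl' : Nat.card (H ⧸ Z) = p ^ l := hl
      rcases Nat.lt_or_ge l 1 with h1 | h1
      · obtain rfl : l = 0 := by omega
        have : Subsingleton (H ⧸ Z) := (Nat.card_eq_one_iff_unique.1 (hl'.trans (pow_zero p))).1
        exact isCyclic_of_subsingleton
      · obtain rfl : l = 1 := by omega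
        exact isCyclic_of_prime_card (hl'.trans (pow_one p))
  have hi : Z.index = p ^ 2 := by
    have := Z.card_mul_index
    rw [hZ, hcard, pow_succ' p 2] at this
    exact Nat.eq_of_mul_eq_mul_left hp.pos this
  have hcl : commutator H ≤ Z := by
    let _ := IsPGroup.commGroupOfCardEqPrimeSq (G := H ⧸ Z) hi
    exact Abelianization.commutator_subset_ker (QuotientGroup.mk' Z) |>.trans
      (QuotientGroup.ker_mk' Z).le
  have hinvZ : ∀ α : MulAut H, ∀ x ∈ Z, α x ∈ Z := fun α x hx => by
    rw [Subgroup.mem_center_iff]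
    intro g
    rw [← MulAut.apply_inv_self H α g, ← map_mul, ← map_mul]
    exact congrArg α (Subgroup.mem_center_iff.1 hx _)
  -- no characteristic subgroup of order `p ^ 2` above the centre
  have hno : ∀ C : Subgroup H, (∀ α : MulAut H, ∀ x ∈ C, α x ∈ C) → Z ≤ C →
      Nat.card C = p ^ 2 → False := by
    intro C hC hZC hCc
    refine false_of_fine_series hS hF hH
      (fun i => if i = 0 then ⊥ else if i = 1 then Z else if i = 2 then C else ⊤) 3 rfl rfl
      (fun α _ i _ y hy => ?_) fun i hi => ?_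
    · split_ifs at hy ⊢
      · rw [Subgroup.mem_bot] at hy ⊢; rw [hy, map_one]
      · exact hinvZ α y hy
      · exact hC α y hy
      · exact Subgroup.mem_top _
    · interval_cases i <;> simp only [Nat.reduceEqDiff, if_true, if_false]
      · exact ⟨bot_le, (Subgroup.relIndex_bot_left Z).trans_le hZ.le⟩
      · refine ⟨hZC, ?_⟩
        have := Subgroup.relIndex_mul_relIndex ⊥ Z C bot_le hZC
        rw [Subgroup.relIndex_bot_left, Subgroup.relIndex_bot_left, hZ, hCc, pow_two] at this
        exact (Nat.eq_of_mul_eq_mul_left hp.pos this).le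
      · refine ⟨le_top, ?_⟩
        have := C.card_mul_index
        rw [hCc, hcard, pow_succ p 2] at this
        rw [Subgroup.relIndex_top_right]
        exact (Nat.eq_of_mul_eq_mul_left (pow_pos hp.pos 2) this).le
  rcases hp.eq_two_or_odd' with rfl | hodd
  · refine Or.inr ⟨rfl, ?_⟩
    obtain ⟨x, hx⟩ : ∃ x : H, x ^ 2 ≠ 1 := by
      by_contra h
      push Not at h
      refine hab fun a b => ?_
      have hinv : ∀ g : H, g⁻¹ = g := fun g =>
        inv_eq_of_mul_eq_one_right (by rw [← pow_two]; exact h g)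
      rw [← hinv (a * b), mul_inv_rev, hinv, hinv]
    by_cases hy : ∃ y : H, y ^ 2 ≠ 1 ∧ y ∉ Subgroup.zpowers x
    · obtain ⟨y, hy, hyx⟩ := hy
      exact quaternion_of_two_cyclic hcard hab hx hy hyx
    push Not at hy
    exfalso
    have hxo : orderOf x = 2 ^ 2 := by
      obtain ⟨j, hj, hje⟩ := (Nat.dvd_prime_pow hp).1 (hcard ▸ orderOf_dvd_natCard x)
      rcases Nat.lt_or_ge j 2 with h | h
      · exact absurd (orderOf_dvd_iff_pow_eq_one.1 (hje ▸ (Nat.pow_dvd_pow 2
          (show j ≤ 1 by omega)).trans (pow_one 2).dvd)) hx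
      · rcases Nat.lt_or_ge j 3 with h' | h'
        · rw [hje, show j = 2 by omega]
        · have : IsCyclic H := isCyclic_of_orderOf_eq_card x
            (hje.trans (by rw [show j = 3 by omega, hcard]))
          exact absurd (fun a b => IsCyclic.commGroup.mul_comm a b) hab
    refine hno (Subgroup.zpowers x) (fun α g hg => ?_) ?_ (by rw [Nat.card_zpowers, hxo])
    · obtain ⟨j, rfl⟩ := hg
      rw [map_zpow]
      refine zpow_mem (hy (α x) ?_) j
      rw [← map_pow]
      exact fun h => hx (α.injective (h.trans (map_one α).symm))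
    · intro z hz
      by_contra hzC
      have hzi : (Subgroup.zpowers x).index = 2 := by
        have := (Subgroup.zpowers x).card_mul_index
        rw [Nat.card_zpowers, hxo, hcard] at this
        omega
      refine hab fun a b => ?_
      have key : ∀ g : H, ∃ (i : ℤ) (w : H), w ∈ Z ∧ g = x ^ i * w := fun g => by
        by_cases hg : g ∈ Subgroup.zpowers x
        · obtain ⟨i, rfl⟩ := hg
          exact ⟨i, 1, one_mem _, (mul_one _).symm⟩
        · obtain ⟨i, hi'⟩ : g * z⁻¹ ∈ Subgroup.zpowers x :=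
            (Subgroup.mul_mem_iff_of_index_two hzi).2
              ⟨fun h => absurd h hg, fun h => absurd (by simpa using inv_mem h) hzC⟩
          exact ⟨i, z, hz, by change x ^ i = _ at hi'; rw [hi', inv_mul_cancel_right]⟩
      obtain ⟨i, u, hu, rfl⟩ := key a
      obtain ⟨j, v, hv, rfl⟩ := key b
      have h1 : ∀ w ∈ Z, ∀ g : H, Commute g w := fun w hw g => Subgroup.mem_center_iff.1 hw g
      exact (Commute.mul_left (((Commute.refl x).zpow_zpow i j).mul_right (h1 v hv _))
        ((h1 u hu _).symm.mul_right (h1 v hv _)) : Commute _ _)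
  · refine Or.inl ⟨hodd, ?_, ?_⟩
    · have hne : commutator H ≠ ⊥ := fun h => hab fun a b =>
        commutatorElement_eq_one_iff_mul_comm.1 (Subgroup.mem_bot.1
          (h ▸ Subgroup.commutator_mem_commutator (Subgroup.mem_top a) (Subgroup.mem_top b)))
      have hc : commutator H = Z := by
        have hd := Subgroup.card_dvd_of_le hcl
        rw [hZ, Nat.dvd_prime hp] at hd
        exact Subgroup.eq_of_le_of_card_ge hcl
          (by rw [hd.resolve_left fun h => hne (Subgroup.card_eq_one.1 h), hZ])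
      refine ⟨⟨hP, ?_, hc⟩, hZ⟩
      have hle : Z ≤ frattini H := hc ▸ CfsgLib.PGroup.commutator_le_frattini hP
      refine (Subgroup.eq_of_le_of_card_ge hle ?_).symm
      obtain ⟨j, hj, hje⟩ := (Nat.dvd_prime_pow hp).1 (hcard ▸ (frattini H).card_subgroup_dvd_card)
      rw [hje, hZ]
      rcases Nat.lt_or_ge j 2 with h | h
      · exact (Nat.pow_le_pow_right hp.pos (show j ≤ 1 by omega)).trans (pow_one p).le
      · exfalso
        have : Finite H := ‹_›
        have hmul := (frattini H).card_mul_index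
        rw [hje, hcard] at hmul
        obtain ⟨l, -, hl⟩ := (Nat.dvd_prime_pow hp).1 (hcard ▸ (frattini H).index_dvd_card)
        rw [hl, ← pow_add] at hmul
        have := Nat.pow_right_injective hp.two_le hmul
        refine hab fun a b => ?_
        have hcy : IsCyclic (H ⧸ frattini H) := by
          have hl' : Nat.card (H ⧸ frattini H) = p ^ l := hl
          rcases Nat.lt_or_ge l 1 with h1 | h1
          · obtain rfl : l = 0 := by omega
            have : Subsingleton (H ⧸ frattini H) :=
              (Nat.card_eq_one_iff_unique.1 (hl'.trans (pow_zero p))).1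
            exact isCyclic_of_subsingleton
          · obtain rfl : l = 1 := by omega
            exact isCyclic_of_prime_card (hl'.trans (pow_one p))
        have := CfsgLib.PGroup.isCyclic_of_frattini_quotient hcy
        exact IsCyclic.commGroup.mul_comm a b
    · intro g hg
      by_contra hgp
      let f : H →* H := MonoidHom.mk' (fun u => u ^ p) fun u v => by
        rw [CfsgLib.PGroup.mul_pow_of_comm_mem_center (hcl (Subgroup.commutator_mem_commutator
          (Subgroup.mem_top v) (Subgroup.mem_top u)))]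
        have hd : p ∣ p.choose 2 := hp.dvd_choose_self two_ne_zero (by
          rcases hodd with ⟨c, hc⟩; have := hp.two_le; omega)
        obtain ⟨c, hc⟩ := hd
        have h1 : ⁅v, u⁆ ^ p = 1 := by
          rw [← hZ]
          exact congrArg Subtype.val (pow_card_eq_one' (x := (⟨⁅v, u⁆, hcl
            (Subgroup.commutator_mem_commutator (Subgroup.mem_top v) (Subgroup.mem_top u))⟩ : Z)))
        rw [hc, pow_mul, h1, one_pow, mul_one]
      have hrange : f.range ≤ Z := by
        rintro _ ⟨u, rfl⟩
        have h1 : (QuotientGroup.mk' Z u) ^ p = 1 := by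
          by_contra h1
          refine hnc (isCyclic_of_orderOf_eq_card (QuotientGroup.mk' Z u) ?_)
          obtain ⟨j, hj, hje⟩ := (Nat.dvd_prime_pow hp).1
            ((orderOf_dvd_natCard (QuotientGroup.mk' Z u)).trans (dvd_of_eq hi))
          rw [show Nat.card (H ⧸ Z) = p ^ 2 from hi, hje]
          rcases Nat.lt_or_ge j 2 with h | h
          · exact absurd (orderOf_dvd_iff_pow_eq_one.1 (hje ▸ (Nat.pow_dvd_pow p
              (show j ≤ 1 by omega)).trans (pow_one p).dvd)) h1
          · rw [show j = 2 by omega]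
        rw [← map_pow] at h1
        exact (QuotientGroup.eq_one_iff _).1 h1
      have hker : Nat.card f.ker = p ^ 2 := by
        have hne : f.range ≠ ⊥ := fun h => by
          have h2 : f ⟨g, hg⟩ = 1 :=
            Subgroup.mem_bot.1 (h.le (⟨⟨g, hg⟩, rfl⟩ : f ⟨g, hg⟩ ∈ f.range))
          exact hgp (congrArg (fun w : H => (w : Ω)) h2)
        have hd := Subgroup.card_dvd_of_le hrange
        rw [hZ, Nat.dvd_prime hp] at hd
        have hm := f.ker.card_mul_index
        rw [Subgroup.index_ker, hd.resolve_left fun h => hne (Subgroup.card_eq_one.1 h), hcard,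
          pow_succ p 2] at hm
        exact Nat.eq_of_mul_eq_mul_right hp.pos hm
      refine hno f.ker (fun α u hu => ?_) (fun z hz => ?_) hker
      · have hu' : u ^ p = 1 := hu
        change α u ^ p = 1
        rw [← map_pow, hu', map_one]
      · change z ^ p = 1
        rw [← hZ]
        exact congrArg Subtype.val (pow_card_eq_one' (x := (⟨z, hz⟩ : Z)))

end CfsgLib.Fusion
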