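import Cfsg.Agent.Lib.Fusion.CentralElements
import Cfsg.Agent.Lib.Fusion.GroupSystem

/-!
A finite group in which every `2`-element centralises a Sylow `2`-subgroup has abelian Sylow
`2`-subgroups.
-/

set_option autoImplicit false

open Cfsg Cfsg.FusionSystem

namespace CfsgLib.Fusion.CentralElements

variable {G : Type*} [Group G] [Finite G]

theorem sylow_two_abelian (P : Sylow 2 G)
    (h : ∀ x ∈ (P : Subgroup G), ∃ Q : Sylow 2 G, (Q : Subgroup G) ≤ Subgroup.centralizer ({x} : Set G)) :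
    IsMulCommutative (P : Subgroup G) := by
  haveI : Fact (Nat.Prime 2) := ⟨Nat.prime_two⟩
  have key := commute_all (F := groupFusionSystem (P : Subgroup G)) P.2 (isSaturated_groupFusion P) ?_
  · exact ⟨⟨fun a b => Subtype.ext (key a a.2 b b.2)⟩⟩
  intro x hx
  obtain ⟨Q, hQ⟩ := h x hx
  obtain ⟨g, hg⟩ := MulAction.exists_smul_eq G P Q
  have hmem : ∀ y ∈ (P : Subgroup G), g * y * g⁻¹ ∈ (Q : Subgroup G) := by
    intro y hy
    rw [← hg, Sylow.coe_subgroup_smul]
    exact ⟨y, hy, rfl⟩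
  set z := g⁻¹ * x * g with hz
  have hzc : z ∈ Subgroup.centralizer ((P : Subgroup G) : Set G) := by
    refine Subgroup.mem_centralizer_iff.2 fun y hy => ?_
    have := Subgroup.mem_centralizer_singleton_iff.1 (hQ (hmem y hy))
    calc y * z = g⁻¹ * (g * y * g⁻¹ * x) * g := by rw [hz]; group
      _ = g⁻¹ * (x * (g * y * g⁻¹)) * g := by rw [this]
      _ = z * y := by rw [hz]; group
  have hzP : z ∈ (P : Subgroup G) := by
    have hp : IsPGroup 2 (Subgroup.zpowers z : Subgroup G) := by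
      obtain ⟨k, hk⟩ := P.2 ⟨x, hx⟩
      have hk' : x ^ 2 ^ k = 1 := congrArg Subtype.val hk
      have hzk : z ^ 2 ^ k = 1 := by
        have e : z = MulAut.conj g⁻¹ x := by simp [hz]
        rw [e, ← map_pow, hk', map_one]
      rintro ⟨_, n, rfl⟩
      refine ⟨k, Subtype.ext ?_⟩
      show (z ^ n) ^ 2 ^ k = 1
      rw [← zpow_natCast, ← zpow_mul, mul_comm, zpow_mul, zpow_natCast, hzk, one_zpow]
    have hsup : IsPGroup 2 ((P : Subgroup G) ⊔ Subgroup.zpowers z : Subgroup G) := by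
      refine IsPGroup.to_sup_of_normal_left' P.2 hp ?_
      exact Subgroup.zpowers_le.2 (Subgroup.centralizer_le_normalizer _ hzc)
    rw [← P.3 hsup le_sup_left]
    exact Subgroup.mem_sup_right (Subgroup.mem_zpowers z)
  refine ⟨z, ⟨hzP, hzc⟩, conjHom (Subgroup.zpowers x) g⁻¹, ⟨Subgroup.zpowers_le.2 hx, ?_, g⁻¹, fun _ => rfl⟩,
    by show g⁻¹ * x * g⁻¹⁻¹ = z; rw [inv_inv]⟩
  rintro ⟨_, n, rfl⟩
  show g⁻¹ * x ^ n * g⁻¹⁻¹ ∈ (P : Subgroup G)
  rw [← conj_zpow, inv_inv]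
  exact Subgroup.zpow_mem _ hzP n

end CfsgLib.Fusion.CentralElements
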