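import Mathlib

/-!
# A criterion for the automorphism group of a 2-group to be a 2-group
-/

set_option autoImplicit false

namespace CfsgLib.Fusion

/-- If `P` has a characteristic abelian subgroup `A` of index two whose elements of order two are
fixed by squares of automorphisms, then the automorphisms of `P` have 2-power order. -/
theorem aut_pow_of_abelian_index_two {P : Type*} [Group P] [Finite P] (hP : IsPGroup 2 P)
    {A : Subgroup P} (hchar : ∀ (α : MulAut P) (x : P), x ∈ A → α x ∈ A)
    (hab : ∀ x ∈ A, ∀ y ∈ A, x * y = y * x) {t : P} (ht : ∀ x : P, x ∈ A ∨ t⁻¹ * x ∈ A)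
    (hE : ∀ (α : MulAut P), ∀ e ∈ A, e * e = 1 → α (α e) = e) (α : MulAut P) :
    ∃ k : ℕ, α ^ 2 ^ k = 1 := by
  classical
  have hfo : IsOfFinOrder α := isOfFinOrder_of_finite α
  obtain ⟨s, o, ho, hso⟩ := Nat.exists_eq_two_pow_mul_odd (n := orderOf α)
    (orderOf_pos_iff.2 hfo).ne'
  refine ⟨s, ?_⟩
  set β := α ^ 2 ^ s
  have hβo : β ^ o = 1 := by rw [← pow_mul, ← hso, pow_orderOf_eq_one]
  -- `β` fixes the elements of order two of `A`
  have hβE : ∀ e ∈ A, e * e = 1 → β e = e := by
    obtain ⟨r, hr⟩ := ho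
    intro e he he2
    have h1 : ∀ m : ℕ, ((β * β) ^ m) e = e := by
      intro m
      induction m with
      | zero => simp
      | succ m ih => rw [pow_succ, MulAut.mul_apply, MulAut.mul_apply, hE β e he he2, ih]
    have h2 : β = (β * β) ^ (r + 1) := by
      rw [← pow_two, ← pow_mul, show 2 * (r + 1) = o + 1 by omega, pow_succ, hβo, one_mul]
    rw [h2]
    exact h1 _
  -- a fixed square forces a fixed element
  have hfix : ∀ x ∈ A, ∀ e ∈ A, β x = x * e → β e = e → e ^ o = 1 := by
    intro x _ e _ hx he
    have h1 : ∀ m : ℕ, (β ^ m) x = x * e ^ m ∧ (β ^ m) e = e := by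
      intro m
      induction m with
      | zero => simp
      | succ m ih =>
        rw [pow_succ, MulAut.mul_apply, MulAut.mul_apply, hx, map_mul, ih.1, ih.2, he, ih.2,
          pow_succ, mul_assoc]
        exact ⟨rfl, rfl⟩
    have h2 := (h1 o).1
    rw [hβo, MulAut.one_apply] at h2
    exact left_eq_mul.1 h2
  -- `β` fixes `A`
  have hA : ∀ x ∈ A, β x = x := by
    suffices H : ∀ (m : ℕ) (x : P), x ∈ A → x ^ 2 ^ m = 1 → β x = x by
      intro x hx
      obtain ⟨m, hm⟩ := hP x
      exact H m x hx hm
    intro m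
    induction m with
    | zero => intro x _ h; rw [pow_zero, pow_one] at h; rw [h, map_one]
    | succ m ih =>
      intro x hx h
      have h2 : β (x * x) = x * x :=
        ih _ (mul_mem hx hx) (by rwa [← pow_two, ← pow_mul, ← pow_succ'])
      set e := x⁻¹ * β x with he
      have heA : e ∈ A := mul_mem (inv_mem hx) (hchar β x hx)
      have hcomm : Commute x⁻¹ (β x) := hab _ (inv_mem hx) _ (hchar β x hx)
      have he2 : e * e = 1 := by
        rw [← pow_two, he, hcomm.mul_pow, pow_two (β x), ← map_mul, h2, inv_pow, pow_two,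
          inv_mul_cancel]
      have he1 := hfix x hx e heA (mul_inv_cancel_left x (β x)).symm (hβE e heA he2)
      obtain ⟨r, hr⟩ := ho
      rw [hr, pow_succ, pow_mul, pow_two, he2, one_pow, one_mul] at he1
      rw [he1] at he
      exact (inv_mul_eq_one.1 he.symm).symm
  -- `β` fixes `t`
  refine MulEquiv.ext fun x => ?_
  rw [MulAut.one_apply]
  rcases ht x with hx | hx
  · exact hA x hx
  rcases ht (β t) with hbt | hbt
  · have h1 : β t = β (β t) := (hA _ hbt).symm
    have h2 : t ∈ A := (β.injective h1).symm ▸ hbt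
    exact hA x (by simpa using mul_mem h2 hx)
  · set e := t⁻¹ * β t with he
    have hpow : ∀ m : ℕ, (β ^ m) t = t * e ^ m ∧ (β ^ m) e = e := by
      intro m
      induction m with
      | zero => simp
      | succ m ih =>
        refine ⟨?_, ?_⟩
        · rw [pow_succ, MulAut.mul_apply, show β t = t * e from (mul_inv_cancel_left t (β t)).symm,
            map_mul, ih.1, ih.2, mul_assoc, ← pow_succ]
        · rw [pow_succ, MulAut.mul_apply, hA e hbt, ih.2]
    have heo : e ^ o = 1 := by
      have h2 := (hpow o).1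
      rw [hβo, MulAut.one_apply] at h2
      exact left_eq_mul.1 h2
    obtain ⟨m, hm⟩ := hP e
    have he1 : e = 1 := by
      have h3 : orderOf e ∣ Nat.gcd (2 ^ m) o :=
        Nat.dvd_gcd (orderOf_dvd_of_pow_eq_one hm) (orderOf_dvd_of_pow_eq_one heo)
      rw [Nat.Coprime.pow_left m (Nat.coprime_two_left.2 ho), Nat.dvd_one,
        orderOf_eq_one_iff] at h3
      exact h3
    have hbt' : β t = t := by
      rw [show β t = t * e from (mul_inv_cancel_left t (β t)).symm, he1, mul_one]
    calc β x = β (t * (t⁻¹ * x)) := by rw [mul_inv_cancel_left]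
      _ = x := by rw [map_mul, hbt', hA _ hx, mul_inv_cancel_left]

/-- The centralizer of all commutators. -/
def commutatorsCentralizer (P : Type*) [Group P] : Subgroup P where
  carrier := {x | ∀ a b : P, x * (a * b * a⁻¹ * b⁻¹) = a * b * a⁻¹ * b⁻¹ * x}
  one_mem' := by simp
  mul_mem' := fun {x y} hx hy a b => by
    rw [mul_assoc, hy a b, ← mul_assoc, hx a b, mul_assoc]
  inv_mem' := fun {x} hx a b => by
    rw [inv_mul_eq_iff_eq_mul, ← mul_assoc, hx a b, mul_inv_cancel_right]

theorem commutatorsCentralizer_char {P : Type*} [Group P] (α : MulAut P) (x : P)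
    (hx : x ∈ commutatorsCentralizer P) : α x ∈ commutatorsCentralizer P := by
  intro a b
  have h := congrArg α (hx (α⁻¹ a) (α⁻¹ b))
  simpa [MulAut.apply_inv_self] using h

end CfsgLib.Fusion
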