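import Mathlib
import Cfsg.Agent.Lib.Fusion.AutTwoGroup

set_option autoImplicit false

namespace CfsgLib.Fusion

/-- A 2-group with a cyclic subgroup of index two containing all elements of its order has a
2-group of automorphisms. -/
theorem aut_pow_of_cyclic_index_two {P : Type*} [Group P] [Finite P] (hP : IsPGroup 2 P)
    {a t : P} (ht : ∀ x : P, x ∈ Subgroup.zpowers a ∨ t⁻¹ * x ∈ Subgroup.zpowers a)
    {M : ℕ} (hM : orderOf a = 2 * M)
    (hmax : ∀ x : P, orderOf x = orderOf a → x ∈ Subgroup.zpowers a) (α : MulAut P) :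
    ∃ k : ℕ, α ^ 2 ^ k = 1 := by
  have hchar : ∀ (β : MulAut P) (x : P), x ∈ Subgroup.zpowers a → β x ∈ Subgroup.zpowers a := by
    rintro β _ ⟨i, rfl⟩
    change β (a ^ i) ∈ _
    rw [map_zpow]
    exact Subgroup.zpow_mem _ (hmax _ (MulEquiv.orderOf_eq β a)) i
  have htwo : ∀ e ∈ Subgroup.zpowers a, e * e = 1 → e = 1 ∨ e = a ^ M := by
    rintro _ ⟨i, rfl⟩ h
    change a ^ i * a ^ i = 1 at h
    rw [← zpow_add, ← orderOf_dvd_iff_zpow_eq_one, hM, ← two_mul] at h
    push_cast at h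
    obtain ⟨k, rfl⟩ := (mul_dvd_mul_iff_left (by norm_num : (2 : ℤ) ≠ 0)).1 h
    change a ^ ((M : ℤ) * k) = 1 ∨ a ^ ((M : ℤ) * k) = a ^ M
    rw [zpow_mul, zpow_natCast]
    have h2 : (a ^ M) ^ (2 : ℤ) = 1 := by
      rw [zpow_ofNat, ← pow_mul, mul_comm, ← hM, pow_orderOf_eq_one]
    rcases Int.even_or_odd' k with ⟨j, rfl | rfl⟩
    · left
      rw [zpow_mul, h2, one_zpow]
    · right
      rw [zpow_add, zpow_mul, h2, one_zpow, one_mul, zpow_one]
  refine aut_pow_of_abelian_index_two hP (A := Subgroup.zpowers a) hchar ?_ ht ?_ α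
  · rintro _ ⟨i, rfl⟩ _ ⟨j, rfl⟩
    exact (Commute.refl a).zpow_zpow i j
  · intro β e he he2
    rcases htwo e he he2 with rfl | rfl
    · simp
    · have hone : ∀ γ : MulAut P, a ^ M ≠ 1 → γ (a ^ M) = a ^ M := by
        intro γ hne
        refine ((htwo _ (hchar γ _ (Subgroup.pow_mem _ (Subgroup.mem_zpowers a) M)) ?_).resolve_left
          fun h => hne (γ.map_eq_one_iff.1 h))
        rw [← map_mul, he2, map_one]
      by_cases hne : a ^ M = 1
      · simp [hne]
      · rw [hone β hne, hone β hne]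

theorem aut_pow_dihedral {k : ℕ} (hk : 2 ≤ k) (hP : IsPGroup 2 (DihedralGroup (2 ^ k)))
    (α : MulAut (DihedralGroup (2 ^ k))) : ∃ j : ℕ, α ^ 2 ^ j = 1 := by
  refine aut_pow_of_cyclic_index_two hP (a := DihedralGroup.r 1) (t := DihedralGroup.sr 0)
    (M := 2 ^ (k - 1)) ?_ ?_ ?_ α
  · rintro (i | i)
    · exact .inl ⟨(ZMod.cast i : ℤ), by simp⟩
    · exact .inr ⟨(ZMod.cast i : ℤ), by simp⟩
  · rw [DihedralGroup.orderOf_r_one, ← pow_succ', Nat.sub_add_cancel (by omega)]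
  · rintro (i | i) h
    · exact ⟨(ZMod.cast i : ℤ), by simp⟩
    · exfalso
      rw [DihedralGroup.orderOf_sr, DihedralGroup.orderOf_r_one] at h
      have : 2 ^ 2 ≤ 2 ^ k := Nat.pow_le_pow_right (by norm_num) hk
      omega

theorem aut_pow_quaternion {k : ℕ} (hk : 2 ≤ k) (hP : IsPGroup 2 (QuaternionGroup (2 ^ k)))
    (α : MulAut (QuaternionGroup (2 ^ k))) : ∃ j : ℕ, α ^ 2 ^ j = 1 := by
  have ha : ∀ i : ZMod (2 * 2 ^ k),
      QuaternionGroup.a i ∈ Subgroup.zpowers (QuaternionGroup.a (1 : ZMod (2 * 2 ^ k))) := by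
    intro i
    rw [← ZMod.natCast_zmod_val i, ← QuaternionGroup.a_one_pow]
    exact Subgroup.pow_mem _ (Subgroup.mem_zpowers _) _
  refine aut_pow_of_cyclic_index_two hP (a := QuaternionGroup.a 1) (t := QuaternionGroup.xa 0)
    (M := 2 ^ k) ?_ ?_ ?_ α
  · rintro (i | i)
    · exact .inl (ha i)
    · right
      rw [show ((QuaternionGroup.xa 0)⁻¹ * QuaternionGroup.xa i : QuaternionGroup (2 ^ k)) =
        QuaternionGroup.a i from inv_mul_eq_iff_eq_mul.2 (by simp [QuaternionGroup.xa_mul_a])]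
      exact ha i
  · rw [QuaternionGroup.orderOf_a_one]
  · rintro (i | i) h
    · exact ha i
    · exfalso
      rw [QuaternionGroup.orderOf_xa, QuaternionGroup.orderOf_a_one] at h
      have : 2 ^ 2 ≤ 2 ^ k := Nat.pow_le_pow_right (by norm_num) hk
      omega

end CfsgLib.Fusion
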