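import Mathlib

/-!
# Small Sylow tools used by the fusion-system files
-/

set_option autoImplicit false

open scoped Pointwise

namespace CfsgLib.Fusion

variable {G : Type*} [Group G] [Finite G] {p : ℕ} [Fact p.Prime]

/-- A `p`-subgroup is conjugate into any `p`-subgroup of index prime to `p`. -/
theorem exists_conj_mem {U T : Subgroup G} (hU : IsPGroup p U) (hT : IsPGroup p T)
    (hi : ¬ p ∣ T.index) : ∃ g : G, ∀ u ∈ U, g * u * g⁻¹ ∈ T := by
  obtain ⟨Q, hQ⟩ := hU.exists_le_sylow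
  obtain ⟨g, hg⟩ := MulAction.exists_smul_eq G Q (hT.toSylow hi)
  refine ⟨g, fun u hu => ?_⟩
  have : MulAut.conj g • (Q : Subgroup G) = T := by
    rw [← Sylow.coe_subgroup_smul, hg, IsPGroup.toSylow_coe]
  rw [← this]
  exact ⟨u, hQ hu, by simp⟩

/-- A Sylow subgroup containing a given `p`-subgroup `R`, conjugated by an element: if `T` is a
`p`-subgroup of index prime to `p` of a subgroup `N`, every `p`-subgroup of `N` is conjugate
inside `N` into `T`. -/
theorem exists_conj_mem_of_le {U T N : Subgroup G} (hU : IsPGroup p U) (hT : IsPGroup p T)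
    (hUN : U ≤ N) (hTN : T ≤ N) (hi : ¬ p ∣ T.relIndex N) :
    ∃ g ∈ N, ∀ u ∈ U, g * u * g⁻¹ ∈ T := by
  obtain ⟨g, hg⟩ := exists_conj_mem (U := U.subgroupOf N) (T := T.subgroupOf N)
    hU.comap_subtype hT.comap_subtype hi
  exact ⟨g, g.2, fun u hu => hg ⟨u, hUN hu⟩ hu⟩

/-- Image of a subgroup of index prime to `p` under a homomorphism. -/
theorem not_dvd_relIndex_map {H : Type*} [Group H] (f : G →* H) {T N : Subgroup G} (hTN : T ≤ N)
    (hi : ¬ p ∣ T.relIndex N) : ¬ p ∣ (T.map f).relIndex (N.map f) := by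
  intro h
  refine hi (h.trans ?_)
  have h1 : (T.subgroupOf N).map (f.subgroupMap N) = (T.map f).subgroupOf (N.map f) := by
    ext ⟨y, hy⟩
    rw [Subgroup.mem_subgroupOf]
    constructor
    · rintro ⟨x, hx, hxy⟩
      exact ⟨x, hx, congrArg Subtype.val hxy⟩
    · rintro ⟨x, hx, hxy⟩
      exact ⟨⟨x, hTN hx⟩, hx, Subtype.ext hxy⟩
  rw [Subgroup.relIndex, Subgroup.relIndex, ← h1]
  exact Subgroup.index_map_dvd _ (f.subgroupMap_surjective N)

/-- A `p`-subgroup of index prime to `p` contained in a larger `p`-subgroup is equal to it. -/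
theorem eq_of_le_of_not_dvd {T R N : Subgroup G} (hR : IsPGroup p R) (hTR : T ≤ R) (hRN : R ≤ N)
    (hi : ¬ p ∣ T.relIndex N) : T = R := by
  refine le_antisymm hTR ?_
  rw [← Subgroup.relIndex_eq_one]
  obtain ⟨n, hn⟩ := hR.index (T.subgroupOf R)
  rcases Nat.eq_zero_or_pos n with hz | hpos
  · rw [Subgroup.relIndex, hn, hz, pow_zero]
  · exfalso
    apply hi
    rw [← Subgroup.relIndex_mul_relIndex T R N hTR hRN]
    exact dvd_mul_of_dvd_left (by rw [Subgroup.relIndex, hn]; exact dvd_pow_self p hpos.ne') _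

end CfsgLib.Fusion
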