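import Cfsg.Agent.Lib.Fusion.Basic

/-!
# Normalizer and centralizer systems, products of normal subgroups
-/

set_option autoImplicit false

open Cfsg Cfsg.FusionSystem

namespace CfsgLib.Fusion

variable {Ω : Type*} [Group Ω] {S : Subgroup Ω} {F : FusionSystem S}

theorem img_sup {M A B : Subgroup Ω} (ψ : M →* Ω) (hA : A ≤ M) (hB : B ≤ M) :
    img ψ (A ⊔ B) = img ψ A ⊔ img ψ B := by
  rw [img, img, img, Subgroup.subgroupOf_sup hA hB, Subgroup.map_sup]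

theorem img_congr {M A : Subgroup Ω} {φ : A →* Ω} {ψ : M →* Ω} (hA : A ≤ M)
    (h : ∀ x : A, ψ (Subgroup.inclusion hA x) = φ x) : img ψ A = φ.range := by
  rw [← range_comp_inclusion ψ hA]
  exact congrArg MonoidHom.range (MonoidHom.ext h)

theorem range_ext_eq {P Q : Subgroup Ω} {φ : P →* Ω} {ψ : ↥(P ⊔ Q) →* Ω}
    (h : ∀ x : P, ψ (Subgroup.inclusion le_sup_left x) = φ x) :
    ψ.range = φ.range ⊔ img ψ Q := by
  rw [← img_self, img_sup ψ le_sup_left le_sup_right, img_congr le_sup_left h]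

theorem apply_mem_sup {P Q R : Subgroup Ω} {φ : P →* Ω} {ψ : ↥(P ⊔ Q) →* Ω}
    (h : ∀ x : P, ψ (Subgroup.inclusion le_sup_left x) = φ x) (hφ : ∀ x, φ x ∈ R)
    (hQ : img ψ Q ≤ Q) (z : ↥(P ⊔ Q)) : ψ z ∈ R ⊔ Q := by
  have h1 : ψ.range ≤ R ⊔ Q := by
    rw [range_ext_eq h]
    exact sup_le_sup (by rintro _ ⟨x, rfl⟩; exact hφ x) hQ
  exact h1 ⟨z, rfl⟩

theorem img_eq_of_forall_fixed {M Q : Subgroup Ω} {ψ : M →* Ω} (hQM : Q ≤ M)
    (h : ∀ x : Q, ψ (Subgroup.inclusion hQM x) = x) : img ψ Q = Q := by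
  rw [img_congr (φ := Q.subtype) hQM h, Subgroup.range_subtype]

theorem img_comp {M N A : Subgroup Ω} {ψ : M →* Ω} {χ : N →* Ω} (h : ∀ x, ψ x ∈ N) :
    img (χ.comp (ψ.codRestrict N h)) A = img χ (img ψ A) := by
  ext y
  rw [mem_img, mem_img]
  constructor
  · rintro ⟨x, hx, rfl⟩
    exact ⟨⟨ψ x, h x⟩, apply_mem_img ψ hx, rfl⟩
  · rintro ⟨z, hz, rfl⟩
    obtain ⟨x, hx, hxz⟩ := mem_img.1 hz
    exact ⟨x, hx, congrArg χ (Subtype.ext hxz)⟩

theorem conj_img_eq {P Q : Subgroup Ω} {g : Ω} (hg : g ∈ Subgroup.normalizer (Q : Set Ω))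
    (h : Q ≤ P) : img (conjHom P g) Q = Q := by
  ext y
  rw [mem_img]
  constructor
  · rintro ⟨x, hx, rfl⟩
    exact conj_mem_of_mem_normalizer hg hx
  · intro hy
    have h1 : g⁻¹ * y * g ∈ Q := (Subgroup.mem_normalizer_iff''.1 hg y).1 hy
    exact ⟨⟨_, h h1⟩, h1, by simp [mul_assoc]⟩

variable (F)

/-- The normalizer system of `Q`, on a subgroup `T` equal to `N_S(Q)`. -/
def normSys (Q : Subgroup Ω) {T : Subgroup Ω} (hT : T = normalizerIn S Q) (hQ : Q ≤ S) :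
    FusionSystem T where
  Hom P := F.normalizerHom Q P
  le_of_mem h := by
    subst hT
    exact ⟨h.2.1, h.2.2.1⟩
  injective_of_mem h := F.injective_of_mem h.1
  conj_mem := by
    subst hT
    intro P g hP hg
    refine ⟨F.conj_mem (hP.trans (normalizerIn_le Q)) hg.1, hP, fun x => ?_,
      conjHom (P ⊔ Q) g, F.conj_mem (sup_le (hP.trans (normalizerIn_le Q)) hQ) hg.1,
      fun x => rfl, conj_img_eq hg.2 le_sup_right⟩
    exact (normalizerIn S Q).mul_mem ((normalizerIn S Q).mul_mem hg (hP x.2))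
      ((normalizerIn S Q).inv_mem hg)
  comp_mem := by
    rintro P R φ χ ⟨hφ, hP, hφN, ψ₁, hψ₁, hψ₁e, hψ₁Q⟩ ⟨hχ, hR, hχN, ψ₂, hψ₂, hψ₂e, hψ₂Q⟩ h
    have hmem : ∀ z, ψ₁ z ∈ R ⊔ Q := apply_mem_sup hψ₁e h hψ₁Q.le
    refine ⟨F.comp_mem hφ hχ h, hP, fun x => hχN _, _, F.comp_mem hψ₁ hψ₂ hmem, fun x => ?_, ?_⟩
    · change ψ₂ ⟨ψ₁ (Subgroup.inclusion le_sup_left x), hmem _⟩ = χ ⟨φ x, h x⟩
      rw [← hψ₂e]
      exact congrArg ψ₂ (Subtype.ext (hψ₁e x))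
    · change img (ψ₂.comp (ψ₁.codRestrict _ hmem)) Q = Q
      rw [img_comp, show img ψ₁ Q = Q from hψ₁Q]
      exact hψ₂Q
  inv_mem := by
    subst hT
    rintro P φ ⟨hφ, hP, hφN, ψ, hψ, hψe, hψQ⟩
    obtain ⟨χ, hχ, hχe⟩ := F.inv_mem hφ
    obtain ⟨e, he, hee⟩ := exists_iso_of_range hψ (Q := φ.range ⊔ Q)
      ((range_ext_eq hψe).trans (by rw [show img ψ Q = Q from hψQ]))
    refine ⟨χ, ⟨hχ, fun y hy => ?_, fun y => ?_, _, he.symm, fun y => ?_, ?_⟩, hχe⟩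
    · obtain ⟨x, rfl⟩ := hy
      exact hφN x
    · obtain ⟨_, x, rfl⟩ := y
      rw [hχe]
      exact hP x.2
    · obtain ⟨_, x, rfl⟩ := y
      rw [hχe]
      change (e.symm (Subgroup.inclusion le_sup_left (⟨φ x, x, rfl⟩ : φ.range)) : Ω) = x
      have h1 : e (Subgroup.inclusion le_sup_left x) =
          Subgroup.inclusion le_sup_left (⟨φ x, x, rfl⟩ : φ.range) := Subtype.ext ((hee _).trans (hψe x))
      rw [← h1, MulEquiv.symm_apply_apply]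
      rfl
    · change img _ Q = Q
      ext y
      rw [mem_img]
      constructor
      · rintro ⟨z, hz, rfl⟩
        change (e.symm z : Ω) ∈ Q
        obtain ⟨x, hx, hxz⟩ := mem_img.1 ((show img ψ Q = Q from hψQ).ge hz)
        have h1 : e x = z := Subtype.ext ((hee x).trans hxz)
        rw [← h1, MulEquiv.symm_apply_apply]
        exact hx
      · intro hy
        let x : ↥(P ⊔ Q) := ⟨y, le_sup_right (a := P) hy⟩
        refine ⟨e x, ?_, by simp [x]⟩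
        rw [hee]
        exact (show img ψ Q = Q from hψQ).le (apply_mem_img ψ (x := x) hy)

/-- The centralizer system of `Q`, on a subgroup `T` equal to `C_S(Q)`. -/
def centSys (Q : Subgroup Ω) {T : Subgroup Ω} (hT : T = centralizerIn S Q) (hQ : Q ≤ S) :
    FusionSystem T where
  Hom P := F.centralizerHom Q P
  le_of_mem h := by
    subst hT
    exact ⟨h.2.1, h.2.2.1⟩
  injective_of_mem h := F.injective_of_mem h.1
  conj_mem := by
    subst hT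
    intro P g hP hg
    refine ⟨F.conj_mem (hP.trans (centralizerIn_le Q)) hg.1, hP, fun x => ?_,
      conjHom (P ⊔ Q) g, F.conj_mem (sup_le (hP.trans (centralizerIn_le Q)) hQ) hg.1,
      fun x => rfl, fun x => ?_⟩
    · exact (centralizerIn S Q).mul_mem ((centralizerIn S Q).mul_mem hg (hP x.2))
        ((centralizerIn S Q).inv_mem hg)
    · change g * (x : Ω) * g⁻¹ = x
      rw [← hg.2 x x.2, mul_inv_cancel_right]
  comp_mem := by
    rintro P R φ χ ⟨hφ, hP, hφN, ψ₁, hψ₁, hψ₁e, hψ₁Q⟩ ⟨hχ, hR, hχN, ψ₂, hψ₂, hψ₂e, hψ₂Q⟩ h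
    have hmem : ∀ z, ψ₁ z ∈ R ⊔ Q :=
      apply_mem_sup hψ₁e h (img_eq_of_forall_fixed le_sup_right hψ₁Q).le
    refine ⟨F.comp_mem hφ hχ h, hP, fun x => hχN _, _, F.comp_mem hψ₁ hψ₂ hmem, fun x => ?_,
      fun x => ?_⟩
    · change ψ₂ ⟨ψ₁ (Subgroup.inclusion le_sup_left x), hmem _⟩ = χ ⟨φ x, h x⟩
      rw [← hψ₂e]
      exact congrArg ψ₂ (Subtype.ext (hψ₁e x))
    · change ψ₂ ⟨ψ₁ (Subgroup.inclusion le_sup_right x), hmem _⟩ = x
      rw [← hψ₂Q]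
      exact congrArg ψ₂ (Subtype.ext (hψ₁Q x))
  inv_mem := by
    subst hT
    rintro P φ ⟨hφ, hP, hφN, ψ, hψ, hψe, hψQ⟩
    obtain ⟨χ, hχ, hχe⟩ := F.inv_mem hφ
    obtain ⟨e, he, hee⟩ := exists_iso_of_range hψ (Q := φ.range ⊔ Q)
      ((range_ext_eq hψe).trans (by rw [img_eq_of_forall_fixed le_sup_right hψQ]))
    refine ⟨χ, ⟨hχ, fun y hy => ?_, fun y => ?_, _, he.symm, fun y => ?_, fun y => ?_⟩, hχe⟩
    · obtain ⟨x, rfl⟩ := hy
      exact hφN x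
    · obtain ⟨_, x, rfl⟩ := y
      rw [hχe]
      exact hP x.2
    · obtain ⟨_, x, rfl⟩ := y
      rw [hχe]
      change (e.symm (Subgroup.inclusion le_sup_left (⟨φ x, x, rfl⟩ : φ.range)) : Ω) = x
      have h1 : e (Subgroup.inclusion le_sup_left x) =
          Subgroup.inclusion le_sup_left (⟨φ x, x, rfl⟩ : φ.range) := Subtype.ext ((hee _).trans (hψe x))
      rw [← h1, MulEquiv.symm_apply_apply]
      rfl
    · change (e.symm (Subgroup.inclusion le_sup_right y) : Ω) = y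
      have h1 : e (Subgroup.inclusion le_sup_right y) = Subgroup.inclusion le_sup_right y :=
        Subtype.ext ((hee _).trans (hψQ y))
      nth_rw 1 [← h1]
      rw [MulEquiv.symm_apply_apply]
      rfl

variable {F}

theorem mem_of_eq_sup {A B : Subgroup Ω} (h : A = B) {ψ : A →* Ω} (hψ : ψ ∈ F.Hom A) :
    ∃ ψ' ∈ F.Hom B, ∀ x : B, ψ' x = ψ ⟨x, h ▸ x.2⟩ := by
  subst h
  exact ⟨ψ, hψ, fun _ => rfl⟩

theorem isNormal_bot : F.IsNormal ⊥ := by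
  refine ⟨bot_le, fun P φ hφ => ?_⟩
  obtain ⟨ψ, hψ, hψe⟩ := mem_of_eq_sup (sup_bot_eq P).symm hφ
  refine ⟨ψ, hψ, fun x => hψe _, ?_⟩
  rw [eq_bot_iff]
  rintro _ ⟨x, hx, rfl⟩
  rw [SetLike.mem_coe, Subgroup.mem_subgroupOf, Subgroup.mem_bot] at hx
  rw [Subgroup.mem_bot, show x = 1 from Subtype.ext hx, map_one]

theorem isCentral_bot : F.IsCentral ⊥ := by
  refine ⟨bot_le, fun P φ hφ => ?_⟩
  obtain ⟨ψ, hψ, hψe⟩ := mem_of_eq_sup (sup_bot_eq P).symm hφ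
  refine ⟨ψ, hψ, fun x => hψe _, fun x => ?_⟩
  rw [show x = 1 from Subtype.ext (Subgroup.mem_bot.1 x.2), map_one, map_one]
  rfl

theorem isNormal_sup {A B : Subgroup Ω} (hA : F.IsNormal A) (hB : F.IsNormal B) :
    F.IsNormal (A ⊔ B) := by
  refine ⟨sup_le hA.1 hB.1, fun P φ hφ => ?_⟩
  obtain ⟨ψ₁, hψ₁, hψ₁e, hψ₁A⟩ := hA.2 P φ hφ
  obtain ⟨ψ₂, hψ₂, hψ₂e, hψ₂B⟩ := hB.2 _ ψ₁ hψ₁
  obtain ⟨ψ, hψ, hψe⟩ := mem_of_eq_sup (sup_assoc P A B) hψ₂
  refine ⟨ψ, hψ, fun x => ?_, ?_⟩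
  · rw [hψe, ← hψ₁e, ← hψ₂e]
    rfl
  · change img ψ (A ⊔ B) = A ⊔ B
    have h1 : A ≤ P ⊔ (A ⊔ B) := le_sup_left.trans le_sup_right
    have h2 : B ≤ P ⊔ (A ⊔ B) := le_sup_right.trans le_sup_right
    rw [img_sup ψ h1 h2]
    congr 1
    · conv_rhs => rw [← show img ψ₁ A = A from hψ₁A]
      rw [← range_comp_inclusion ψ h1, ← range_comp_inclusion ψ₁ (le_sup_right : A ≤ P ⊔ A)]
      refine congrArg MonoidHom.range (MonoidHom.ext fun x => ?_)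
      simp only [MonoidHom.comp_apply]
      rw [hψe, ← hψ₂e]
      rfl
    · conv_rhs => rw [← show img ψ₂ B = B from hψ₂B]
      rw [← range_comp_inclusion ψ h2, ← range_comp_inclusion ψ₂ (le_sup_right : B ≤ P ⊔ A ⊔ B)]
      refine congrArg MonoidHom.range (MonoidHom.ext fun x => ?_)
      simp only [MonoidHom.comp_apply]
      rw [hψe]
      rfl

theorem isCentral_sup {A B : Subgroup Ω} (hA : F.IsCentral A) (hB : F.IsCentral B) :
    F.IsCentral (A ⊔ B) := by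
  refine ⟨sup_le hA.1 hB.1, fun P φ hφ => ?_⟩
  obtain ⟨ψ₁, hψ₁, hψ₁e, hψ₁A⟩ := hA.2 P φ hφ
  obtain ⟨ψ₂, hψ₂, hψ₂e, hψ₂B⟩ := hB.2 _ ψ₁ hψ₁
  obtain ⟨ψ, hψ, hψe⟩ := mem_of_eq_sup (sup_assoc P A B) hψ₂
  refine ⟨ψ, hψ, fun x => ?_, fun x => ?_⟩
  · rw [hψe, ← hψ₁e, ← hψ₂e]
    rfl
  · let ι : ↥(A ⊔ B) →* ↥(P ⊔ (A ⊔ B)) := Subgroup.inclusion le_sup_right
    suffices h : ((⊤ : Subgroup ↥(A ⊔ B))) ≤ (ψ.comp ι).eqLocus (A ⊔ B).subtype from
      h (Subgroup.mem_top x)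
    have h3 : (⊤ : Subgroup ↥(A ⊔ B)) = A.subgroupOf (A ⊔ B) ⊔ B.subgroupOf (A ⊔ B) := by
      rw [← Subgroup.subgroupOf_sup le_sup_left le_sup_right, Subgroup.subgroupOf_self]
    rw [h3]
    refine sup_le (fun a ha => ?_) (fun b hb => ?_)
    · change ψ (ι a) = (a : Ω)
      rw [hψe, ← hψ₁A ⟨a, ha⟩, ← hψ₂e]
      rfl
    · change ψ (ι b) = (b : Ω)
      rw [hψe, ← hψ₂B ⟨b, hb⟩]
      rfl

theorem isNormal_core [Finite S] : F.IsNormal F.core := by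
  obtain ⟨Q, hQ, hmax⟩ := exists_max_card (S := S) (fun Q => F.IsNormal Q)
    (fun Q => Nat.card Q) (fun Q h => h.1) ⟨⊥, isNormal_bot⟩
  have h : F.core = Q := by
    refine le_antisymm (sSup_le fun R hR => ?_) (le_sSup hQ)
    have := finite_of_le (isNormal_sup hQ hR).1
    exact (Subgroup.eq_of_le_of_card_ge le_sup_left (hmax _ (isNormal_sup hQ hR))) ▸ le_sup_right
  exact h ▸ hQ

theorem isCentral_center [Finite S] : F.IsCentral F.center := by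
  obtain ⟨Q, hQ, hmax⟩ := exists_max_card (S := S) (fun Q => F.IsCentral Q)
    (fun Q => Nat.card Q) (fun Q h => h.1) ⟨⊥, isCentral_bot⟩
  have h : F.center = Q := by
    refine le_antisymm (sSup_le fun R hR => ?_) (le_sSup hQ)
    have := finite_of_le (isCentral_sup hQ hR).1
    exact (Subgroup.eq_of_le_of_card_ge le_sup_left (hmax _ (isCentral_sup hQ hR))) ▸ le_sup_right
  exact h ▸ hQ

/-- A characteristic subgroup of a normal subgroup is normal. -/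
theorem isNormal_of_characteristic {Q U : Subgroup Ω} (hQ : F.IsNormal Q) (hUQ : U ≤ Q)
    (hU : (U.subgroupOf Q).Characteristic) : F.IsNormal U := by
  refine ⟨hUQ.trans hQ.1, fun P φ hφ => ?_⟩
  obtain ⟨ψ, hψ, hψe, hψQ⟩ := hQ.2 P φ hφ
  have hle : P ⊔ U ≤ P ⊔ Q := sup_le_sup_left hUQ P
  refine ⟨_, res_mem F hψ hle, fun x => hψe x, ?_⟩
  obtain ⟨e, -, hee⟩ := exists_iso_of_range (res_mem F hψ (le_sup_right : Q ≤ P ⊔ Q))
    ((range_comp_inclusion ψ le_sup_right).trans hψQ)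
  have hfix := Subgroup.characteristic_iff_map_eq.1 hU e
  ext y
  constructor
  · rintro ⟨x, hx, rfl⟩
    have h1 : e ⟨x, hUQ hx⟩ ∈ U.subgroupOf Q := hfix.le ⟨⟨x, hUQ hx⟩, hx, rfl⟩
    rw [Subgroup.mem_subgroupOf, hee] at h1
    exact h1
  · intro hy
    obtain ⟨x, hx, hxy⟩ := hfix.ge (show (⟨y, hUQ hy⟩ : Q) ∈ U.subgroupOf Q from hy)
    refine ⟨⟨x, le_sup_right (a := P) hx⟩, hx, ?_⟩
    have h1 : (e x : Ω) = y := congrArg Subtype.val hxy
    rw [hee] at h1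
    exact h1

end CfsgLib.Fusion
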