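import Mathlib
import Cfsg.Agent.Lib.Invol.ZStarFinal
import Cfsg.Agent.Lib.Fusion.GroupSystem
import Cfsg.Agent.Lib.Fusion.NormSys

/-!
# Glauberman's Z*-theorem in fusion language
-/

set_option autoImplicit false

universe u

open Cfsg Cfsg.FusionSystem

namespace CfsgLib.Fusion

theorem exists_oddCore_conj {G : Type*} [Group G] [Finite G] (S : Sylow 2 G) {R : Subgroup G}
    (hR : IsPGroup 2 R) (hRM : R ≤ (S : Subgroup G) ⊔ oddCore G) :
    ∃ w ∈ oddCore G, ∀ r ∈ R, w * r * w⁻¹ ∈ (S : Subgroup G) := by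
  have : (oddCore G).Normal := by
    have := CfsgLib.Cores.pPrimeCore_characteristic (G := G) 2
    infer_instance
  obtain ⟨m, hm, hmR⟩ := exists_conj_mem_of_le hR S.2 hRM le_sup_left (by
    intro h
    refine S.not_dvd_index ?_
    rw [← Subgroup.relIndex_top_right (S : Subgroup G),
      ← Subgroup.relIndex_mul_relIndex (S : Subgroup G) _ _ le_sup_left le_top]
    exact dvd_mul_of_dvd_left h _)
  obtain ⟨s, hs, w, hw, rfl⟩ := Subgroup.mem_sup_of_normal_right.mp hm
  refine ⟨w, hw, fun r hr => ?_⟩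
  have h1 := (S : Subgroup G).mul_mem ((S : Subgroup G).mul_mem
    ((S : Subgroup G).inv_mem hs) (hmR r hr)) hs
  rwa [show s⁻¹ * (s * w * r * (s * w)⁻¹) * s = w * r * w⁻¹ by group] at h1

theorem eq_of_oddCore_of_mem {G : Type*} [Group G] [Finite G] (S : Sylow 2 G) {x y : G}
    (hx : x ∈ (S : Subgroup G)) (hy : y ∈ (S : Subgroup G)) (h : x⁻¹ * y ∈ oddCore G) : x = y :=
  inv_mul_eq_one.mp <| CfsgLib.Invol.eq_one_of_odd_of_mem S.2
    ((S : Subgroup G).mul_mem ((S : Subgroup G).inv_mem hx) hy)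
    (CfsgLib.Cores.odd_card_oddCore.of_dvd_nat (Subgroup.orderOf_dvd_natCard _ h))

/-- A subgroup of a Sylow `2`-subgroup all of whose elements are isolated in it is central,
if the odd core is trivial. -/
theorem le_center_of_isolated_aux : ∀ (n : ℕ) (G : Type u) [Group G] [Finite G], Nat.card G ≤ n →
    oddCore G = ⊥ → ∀ (T : Sylow 2 G) (Z : Subgroup G), Z ≤ (T : Subgroup G) →
    (∀ x ∈ Z, ∀ g : G, g * x * g⁻¹ ∈ (T : Subgroup G) → g * x * g⁻¹ = x) →
    Z ≤ Subgroup.center G := by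
  intro n
  induction n with
  | zero =>
    intro G _ _ h
    have := Nat.card_pos (α := G)
    omega
  | succ n ih =>
    intro G _ _ hn hO T Z hZT hiso z hz
    by_cases hz1 : z = 1
    · exact hz1 ▸ one_mem _
    have h2 : IsPGroup 2 (Subgroup.zpowers z) :=
      T.2.to_le (Subgroup.zpowers_le.mpr (hZT hz))
    obtain ⟨t, ht⟩ : ∃ t : Subgroup.zpowers z, orderOf t = 2 := by
      obtain ⟨m, hm⟩ := h2.exists_card_eq
      refine exists_prime_orderOf_dvd_card' 2 ?_
      rcases Nat.eq_zero_or_pos m with h0 | h0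
      · rw [Nat.card_zpowers, h0, pow_zero, orderOf_eq_one_iff] at hm
        exact absurd hm hz1
      · rw [hm]
        exact dvd_pow_self 2 h0.ne'
    have htZ : (t : G) ∈ Z := Subgroup.zpowers_le.mpr hz t.2
    have hto : orderOf (t : G) = 2 := (Subgroup.orderOf_coe t).trans ht
    have htc : (t : G) ∈ Subgroup.center G := CfsgLib.Invol.zstar_center
      (CfsgLib.Invol.isolated_of_sylow T hto (hZT htZ) (hiso _ htZ)) hO
    set N := Subgroup.zpowers (t : G) with hN
    have hNc : N ≤ Subgroup.center G := Subgroup.zpowers_le.mpr htc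
    have hNn : N.Normal := ⟨fun x hx g => by
      rwa [Subgroup.mem_center_iff.mp (hNc hx) g, mul_inv_cancel_right]⟩
    have hN2 : Nat.card N = 2 := by rw [hN, Nat.card_zpowers, hto]
    have hNT : N ≤ (T : Subgroup G) := Subgroup.zpowers_le.mpr (hZT htZ)
    set π := QuotientGroup.mk' N with hπ
    have hcard : Nat.card (G ⧸ N) ≤ n := by
      have h1 := N.card_eq_card_quotient_mul_card_subgroup
      rw [hN2] at h1
      have := Nat.card_pos (α := G ⧸ N)
      omega
    have hmem : ∀ y : G, π y ∈ (T : Subgroup G).map π → y ∈ (T : Subgroup G) := by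
      rintro y ⟨s, hs, hsy⟩
      have := (T : Subgroup G).mul_mem hs (hNT (QuotientGroup.eq.mp hsy))
      rwa [mul_inv_cancel_left] at this
    have hq := ih (G ⧸ N) hcard (CfsgLib.Invol.oddCore_quotient_two hO N hN2 hNc)
      (T.mapSurjective (QuotientGroup.mk'_surjective N)) (Z.map π) (by
        rw [Sylow.coe_mapSurjective]
        exact Subgroup.map_mono hZT) (by
        rintro _ ⟨x, hx, rfl⟩ g hg
        obtain ⟨k, rfl⟩ := QuotientGroup.mk'_surjective N g
        rw [Sylow.coe_mapSurjective, ← map_inv, ← map_mul, ← map_mul] at hg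
        rw [← map_inv, ← map_mul, ← map_mul, hiso x hx k (hmem _ hg)])
    rw [Subgroup.mem_center_iff]
    intro g
    have h1 : π (g * z * g⁻¹) = π z := by
      rw [map_mul, map_mul, Subgroup.mem_center_iff.mp (hq (Subgroup.mem_map_of_mem π hz)) (π g),
        map_inv, mul_inv_cancel_right]
    have h2 : g * z * g⁻¹ ∈ (T : Subgroup G) :=
      hmem _ (h1 ▸ Subgroup.mem_map_of_mem π (hZT hz))
    exact mul_inv_eq_iff_eq_mul.mp (hiso z hz g h2)

/-- **Z*-theorem in fusion language.** -/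
theorem center_eq_comap_center {G : Type u} [Group G] [Finite G] (S : Sylow 2 G) :
    (groupFusionSystem (S : Subgroup G)).center = (S : Subgroup G) ⊓
      (Subgroup.center (G ⧸ oddCore G)).comap (QuotientGroup.mk' (oddCore G)) := by
  have hOn : (oddCore G).Normal := by
    have := CfsgLib.Cores.pPrimeCore_characteristic (G := G) 2
    infer_instance
  set F := groupFusionSystem (S : Subgroup G) with hF
  set π := QuotientGroup.mk' (oddCore G) with hπ
  refine le_antisymm ?_ ?_
  · have hZ := isCentral_center (F := F)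
    have hiso : ∀ x ∈ F.center, ∀ g : G, g * x * g⁻¹ ∈ (S : Subgroup G) → g * x * g⁻¹ = x := by
      intro x hx g hg
      obtain ⟨ψ, -, hψ, hfix⟩ := hZ.2 (Subgroup.zpowers x) (conjHom _ g)
        ⟨Subgroup.zpowers_le.mpr (hZ.1 hx), by
          rintro ⟨_, k, rfl⟩
          show g * x ^ k * g⁻¹ ∈ (S : Subgroup G)
          rw [← conj_zpow]
          exact zpow_mem hg k, g, fun y => rfl⟩
      exact ((hψ ⟨x, Subgroup.mem_zpowers x⟩).symm.trans (hfix ⟨x, hx⟩))
    refine le_inf hZ.1 ?_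
    rw [← Subgroup.map_le_iff_le_comap]
    refine le_center_of_isolated_aux _ _ le_rfl (CfsgLib.Cores.pPrimeCore_quotient_self 2)
      (S.mapSurjective (QuotientGroup.mk'_surjective _)) _ (by
        rw [Sylow.coe_mapSurjective]
        exact Subgroup.map_mono hZ.1) ?_
    rintro _ ⟨x, hx, rfl⟩ g hg
    obtain ⟨k, rfl⟩ := QuotientGroup.mk'_surjective (oddCore G) g
    rw [Sylow.coe_mapSurjective, ← map_inv, ← map_mul, ← map_mul] at hg
    obtain ⟨s, hs, hsy⟩ := hg
    have hxy : k * x * k⁻¹ ∈ (S : Subgroup G) ⊔ oddCore G := by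
      rw [← mul_inv_cancel_left s (k * x * k⁻¹)]
      exact Subgroup.mul_mem_sup hs (QuotientGroup.eq.mp hsy)
    obtain ⟨w, hw, hwR⟩ := exists_oddCore_conj S
      (R := Subgroup.zpowers (k * x * k⁻¹)) (by
        refine ((S.2.to_le (Subgroup.zpowers_le.mpr (hZ.1 hx))).map (MulAut.conj k).toMonoidHom).to_le ?_
        rw [Subgroup.zpowers_le]
        exact ⟨x, Subgroup.mem_zpowers x, rfl⟩) (Subgroup.zpowers_le.mpr hxy)
    have h1 := hiso x hx (w * k) (by
      have := hwR _ (Subgroup.mem_zpowers _)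
      rwa [show w * (k * x * k⁻¹) * w⁻¹ = w * k * x * (w * k)⁻¹ by group] at this)
    rw [← map_inv, ← map_mul, ← map_mul]
    have hπw : π w = 1 := (QuotientGroup.eq_one_iff w).mpr hw
    conv_rhs => rw [← h1]
    simp only [map_mul, map_inv, ← hπ, hπw, one_mul, mul_inv_rev, inv_one, mul_one, mul_assoc]
  · refine le_sSup ⟨inf_le_left, ?_⟩
    rintro P φ ⟨hPS, hφS, g, hg⟩
    set Q := (S : Subgroup G) ⊓ (Subgroup.center (G ⧸ oddCore G)).comap π
    have hQ : ∀ q ∈ Q, q⁻¹ * (g * q * g⁻¹) ∈ oddCore G := by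
      intro q hq
      rw [← QuotientGroup.eq_one_iff]
      show π (q⁻¹ * (g * q * g⁻¹)) = 1
      rw [map_mul, map_inv, map_mul, map_mul, Subgroup.mem_center_iff.mp hq.2 (π g), map_inv,
        mul_inv_cancel_right, inv_mul_cancel]
    have hPQ : P ⊔ Q ≤ (S : Subgroup G) := sup_le hPS inf_le_left
    have hR : (P ⊔ Q).map (MulAut.conj g).toMonoidHom ≤ (S : Subgroup G) ⊔ oddCore G := by
      rw [Subgroup.map_le_iff_le_comap]
      refine sup_le (fun x hx => ?_) (fun q hq => ?_)
      · show g * x * g⁻¹ ∈ (S : Subgroup G) ⊔ oddCore G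
        rw [← hg ⟨x, hx⟩]
        exact Subgroup.mem_sup_left (hφS _)
      · show g * q * g⁻¹ ∈ (S : Subgroup G) ⊔ oddCore G
        rw [← mul_inv_cancel_left q (g * q * g⁻¹)]
        exact Subgroup.mul_mem_sup hq.1 (hQ q hq)
    obtain ⟨w, hw, hwR⟩ := exists_oddCore_conj S ((S.2.to_le hPQ).map _) hR
    have hS' : ∀ x ∈ P ⊔ Q, w * g * x * (w * g)⁻¹ ∈ (S : Subgroup G) := by
      intro x hx
      have := hwR (g * x * g⁻¹) ⟨x, hx, rfl⟩
      rwa [show w * (g * x * g⁻¹) * w⁻¹ = w * g * x * (w * g)⁻¹ by group] at this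
    have key : ∀ {a b : G}, π a = π b → a⁻¹ * b ∈ oddCore G := fun h => QuotientGroup.eq.mp h
    have hπw : π w = 1 := (QuotientGroup.eq_one_iff w).mpr hw
    refine ⟨conjHom (P ⊔ Q) (w * g), ⟨hPQ, fun x => hS' x x.2, w * g, fun x => rfl⟩,
      fun x => ?_, fun q => ?_⟩
    · refine eq_of_oddCore_of_mem S (hS' x (Subgroup.mem_sup_left x.2)) (hφS x) (key ?_)
      rw [hg]
      rw [conjHom_apply]
      simp only [map_mul, map_inv, hπw, one_mul, Subgroup.coe_inclusion]
    · refine eq_of_oddCore_of_mem S (hS' q (Subgroup.mem_sup_right q.2)) q.2.1 (key ?_)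
      rw [conjHom_apply]
      simp only [map_mul, map_inv, hπw, one_mul, Subgroup.coe_inclusion]
      rw [Subgroup.mem_center_iff.mp q.2.2 (π g), mul_inv_cancel_right]

end CfsgLib.Fusion
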