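import Cfsg.Agent.Lib.Transfer.FusionThompson

/-!
# An axiomatic Glauberman-Thompson criterion
-/

set_option autoImplicit false

open Cfsg Cfsg.FusionSystem
open scoped commutatorElement

namespace CfsgLib.Fusion.AxGT

open CfsgLib.PStab CfsgLib.Transfer

universe u

variable {Ω : Type u} [Group Ω]

/-- The intersection of the members inside `Q`. -/
def meet (𝒜 : Set (Subgroup Ω)) (Q : Subgroup Ω) : Subgroup Ω :=
  ⨅ A ∈ {A : Subgroup Ω | A ∈ 𝒜 ∧ A ≤ Q}, A

theorem meet_le {𝒜 : Set (Subgroup Ω)} {Q A : Subgroup Ω} (hA : A ∈ 𝒜) (hAQ : A ≤ Q) :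
    meet 𝒜 Q ≤ A := iInf₂_le A ⟨hA, hAQ⟩

theorem meet_le_self {𝒜 : Set (Subgroup Ω)} {Q : Subgroup Ω} (h : ∃ A ∈ 𝒜, A ≤ Q) :
    meet 𝒜 Q ≤ Q := by
  obtain ⟨A, hA, hAQ⟩ := h
  exact (meet_le hA hAQ).trans hAQ

theorem le_meet {𝒜 : Set (Subgroup Ω)} {Q X : Subgroup Ω}
    (h : ∀ A ∈ 𝒜, A ≤ Q → X ≤ A) : X ≤ meet 𝒜 Q :=
  le_iInf₂ fun A hA => h A hA.1 hA.2

theorem meet_anti {𝒜 : Set (Subgroup Ω)} {Q Q' : Subgroup Ω} (h : Q ≤ Q') :
    meet 𝒜 Q' ≤ meet 𝒜 Q := le_meet fun _ hA hAQ => meet_le hA (hAQ.trans h)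

/-- The family: abelian subgroups of `S` with the replacement property. -/
structure Family (S : Subgroup Ω) (𝒜 : Set (Subgroup Ω)) : Prop where
  sub : ∀ A ∈ 𝒜, A ≤ S ∧ IsMulCommutative ↥A
  nonempty : 𝒜.Nonempty
  replace_ : ∀ B : Subgroup Ω, B ≤ S → ⁅⁅B, B⁆, B⁆ = ⊥ → (∃ A ∈ 𝒜, ⁅B, B⁆ ≤ A ∧ ¬ B ≤ A) →
    ∃ A ∈ 𝒜, ⁅B, B⁆ ≤ A ∧ ¬ B ≤ A ∧ B ≤ Subgroup.normalizer (A : Set Ω)

variable {S : Subgroup Ω} {𝒜 : Set (Subgroup Ω)}

theorem Family.exists_mem (h : Family S 𝒜) : ∃ A ∈ 𝒜, A ≤ S :=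
  ⟨_, h.nonempty.choose_spec, (h.sub _ h.nonempty.choose_spec).1⟩

theorem Family.comm (h : Family S 𝒜) {A : Subgroup Ω} (hA : A ∈ 𝒜) {x y : Ω} (hx : x ∈ A)
    (hy : y ∈ A) : x * y = y * x :=
  congrArg Subtype.val ((h.sub A hA).2.is_comm.comm (⟨x, hx⟩ : A) ⟨y, hy⟩)

section Image

variable {G : Type*} [Group G] (ι : S →* G)

/-- The image of a subgroup of `S`. -/
abbrev im (Q : Subgroup Ω) : Subgroup G := (Q.subgroupOf S).map ι

theorem im_le (Q : Subgroup Ω) : im ι Q ≤ ι.range := Subgroup.map_le_range _ _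

theorem im_self : im ι S = ι.range := by
  rw [im, Subgroup.subgroupOf_self, ← MonoidHom.range_eq_map]

theorem im_mono {Q Q' : Subgroup Ω} (h : Q ≤ Q') : im ι Q ≤ im ι Q' :=
  Subgroup.map_mono fun _ hx => h hx

theorem mem_im_iff {ι : S →* G} (hinj : Function.Injective ι) {Q : Subgroup Ω} {s : S} :
    ι s ∈ im ι Q ↔ (s : Ω) ∈ Q :=
  ⟨fun ⟨_, ht, hts⟩ => hinj hts ▸ ht, fun h => ⟨s, h, rfl⟩⟩

/-- The members' intersections are respected by the normalisers. -/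
def Invariant (𝒜 : Set (Subgroup Ω)) : Prop :=
  ∀ Q : Subgroup Ω, Q ≤ S → (∃ A ∈ 𝒜, A ≤ Q) → ∀ g ∈ Subgroup.normalizer (im ι Q : Set G),
    ∀ y ∈ im ι (meet 𝒜 Q), g * y * g⁻¹ ∈ im ι (meet 𝒜 Q)

end Image

section GroupTheorem

variable {p : ℕ} [hp : Fact p.Prime] {G : Type*} [Group G] [Finite G] {ι : S →* G}

/-- In a `p`-stable group the intersection of the family meets every normal `p`-subgroup in a
normal subgroup. -/
theorem inf_normal (h : Family S 𝒜) (hinj : Function.Injective ι) (P : Sylow p G)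
    (hP : (P : Subgroup G) = ι.range) (hinv : Invariant ι 𝒜)
    (hst : ∀ (Q : Subgroup G) [Q.Normal], IsPGroup p Q → IsPStableOn p Q)
    (B : Subgroup G) [B.Normal] (hB : IsPGroup p B) :
    (B ⊓ im ι (meet 𝒜 S)).Normal := by
  suffices hh : ∀ (n : ℕ) (B : Subgroup G), B.Normal → IsPGroup p B → Nat.card B = n →
      (B ⊓ im ι (meet 𝒜 S)).Normal from hh _ B inferInstance hB rfl
  clear! B
  intro n
  induction n using Nat.strong_induction_on with
  | _ n ih =>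
  intro B hBn hB hn
  set Z := im ι (meet 𝒜 S) with hZdef
  have ihB : ∀ B' : Subgroup G, B'.Normal → B' < B → (B' ⊓ Z).Normal := fun B' h1 h2 =>
    ih _ (hn ▸ lt_of_not_ge fun hle => h2.ne (Subgroup.eq_of_le_of_card_ge h2.le hle))
      B' h1 (hB.to_le h2.le) rfl
  set U := B ⊓ Z with hU
  by_cases hne : B = ⊥
  · have : U = ⊥ := le_bot_iff.1 (inf_le_left.trans hne.le)
    rw [this]; infer_instance
  have hBS : B ≤ (P : Subgroup G) :=
    (CfsgLib.Cores.le_pCore hB).trans (CfsgLib.Cores.pCore_le_sylow P)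
  have hPn : ∀ s ∈ (P : Subgroup G), s ∈ Subgroup.normalizer (im ι S : Set G) := fun s hs => by
    rw [im_self]; exact Subgroup.le_normalizer (hP ▸ hs)
  have hSU : ∀ s ∈ (P : Subgroup G), ∀ u ∈ U, s * u * s⁻¹ ∈ U := fun s hs u hu =>
    ⟨hBn.conj_mem u hu.1 s, hinv S le_rfl h.exists_mem s (hPn s hs) u hu.2⟩
  have hZc : ∀ x ∈ Z, ∀ y ∈ Z, x * y = y * x := by
    obtain ⟨A, hA, hAS⟩ := h.exists_mem
    rintro _ ⟨x, hx, rfl⟩ _ ⟨y, hy, rfl⟩
    rw [← map_mul, ← map_mul]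
    exact congrArg ι (Subtype.ext (h.comm hA (meet_le hA hAS hx) (meet_le hA hAS hy)))
  set B0 := Subgroup.normalClosure (U : Set G) with hB0
  have hUB0 : U ≤ B0 := Subgroup.subset_normalClosure
  have hB0B : B0 ≤ B := Subgroup.normalClosure_le_normal inf_le_left
  rcases hB0B.lt_or_eq with hlt | heq
  · have h' := ihB B0 inferInstance hlt
    have e1 : B0 ⊓ Z = U := le_antisymm (inf_le_inf_right _ hB0B) (le_inf hUB0 inf_le_right)
    rwa [e1] at h'
  -- the derived subgroup lies in `Z`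
  have hM : (⁅B, B⁆ ⊓ Z).Normal := ihB _ inferInstance (commutator_lt_self hB hne)
  have hBB : ⁅B, B⁆ ≤ Z := by
    let T : Subgroup G :=
      { carrier := {u | u ∈ B ∧ ∀ b ∈ B, ⁅b, u⁆ ∈ ⁅B, B⁆ ⊓ Z}
        one_mem' := ⟨one_mem _, fun b _ => by simp⟩
        mul_mem' := by
          rintro u v ⟨hu, hu'⟩ ⟨hv, hv'⟩
          refine ⟨mul_mem hu hv, fun b hb => ?_⟩
          rw [show ⁅b, u * v⁆ = ⁅b, u⁆ * (u * ⁅b, v⁆ * u⁻¹) by simp only [commutatorElement_def]; group]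
          exact mul_mem (hu' b hb) (hM.conj_mem _ (hv' b hb) u)
        inv_mem' := by
          rintro u ⟨hu, hu'⟩
          refine ⟨inv_mem hu, fun b hb => ?_⟩
          rw [show ⁅b, u⁻¹⁆ = u⁻¹ * ⁅b, u⁆⁻¹ * u⁻¹⁻¹ by simp only [commutatorElement_def]; group]
          exact hM.conj_mem _ (inv_mem (hu' b hb)) u⁻¹ }
    have hTn : T.Normal := ⟨fun u hu g => ⟨hBn.conj_mem u hu.1 g, fun b hb => by
      rw [show ⁅b, g * u * g⁻¹⁆ = g * ⁅g⁻¹ * b * g⁻¹⁻¹, u⁆ * g⁻¹ by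
        simp only [commutatorElement_def]; group]
      exact hM.conj_mem _ (hu.2 _ (hBn.conj_mem b hb g⁻¹)) g⟩⟩
    have hBT : B ≤ T := by
      rw [← heq, hB0]
      refine Subgroup.normalClosure_le_normal fun u hu => ⟨hu.1, fun b hb => ⟨?_, ?_⟩⟩
      · exact Subgroup.commutator_mem_commutator hb hu.1
      · show ⁅b, u⁆ ∈ Z
        rw [commutatorElement_def]
        exact Z.mul_mem (hSU b (hBS hb) u hu).2 (Z.inv_mem hu.2)
    exact Subgroup.commutator_le.2 fun b hb v hv => ((hBT hv).2 b hb).2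
  have hcent : ∀ x ∈ B, ∀ y ∈ ⁅B, B⁆, x * y = y * x := by
    intro x hx y hy
    have : B ≤ Subgroup.centralizer ((⁅B, B⁆ : Subgroup G) : Set G) := by
      rw [← heq]
      refine Subgroup.normalClosure_le_normal fun u hu => Subgroup.mem_centralizer_iff.2 fun y hy => ?_
      exact hZc y (hBB (by rw [← heq]; exact hy)) u hu.2
    exact (Subgroup.mem_centralizer_iff.1 (this hx) y hy).symm
  -- the preimage of `B`
  set B' := (B.comap ι).map S.subtype with hB'def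
  have hB'S : B' ≤ S := Subgroup.map_subtype_le _
  have hB'mem : ∀ {s : S}, (s : Ω) ∈ B' ↔ ι s ∈ B := fun {s} =>
    ⟨fun ⟨t, ht, hts⟩ => Subtype.ext hts ▸ ht, fun hs => ⟨s, hs, rfl⟩⟩
  have hBim : B ≤ im ι B' := fun b hb => by
    obtain ⟨s, rfl⟩ : b ∈ ι.range := hP ▸ hBS hb
    exact ⟨s, hB'mem.2 hb, rfl⟩
  have hB'B : ∀ x ∈ B', ∀ hx : x ∈ S, ι ⟨x, hx⟩ ∈ B := fun x hx hxS =>
    (hB'mem (s := ⟨x, hxS⟩)).1 hx
  have hB'B' : ⁅B', B'⁆ ≤ meet 𝒜 S := by
    refine Subgroup.commutator_le.2 fun x hx y hy => ?_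
    have h1 : ι ⁅(⟨x, hB'S hx⟩ : S), ⟨y, hB'S hy⟩⁆ ∈ Z := by
      rw [map_commutatorElement]
      exact hBB (Subgroup.commutator_mem_commutator (hB'B x hx _) (hB'B y hy _))
    exact (mem_im_iff hinj).1 h1
  have hclass : ⁅⁅B', B'⁆, B'⁆ = ⊥ := by
    rw [Subgroup.commutator_eq_bot_iff_le_centralizer]
    refine Subgroup.commutator_le.2 fun x hx y hy => Subgroup.mem_centralizer_iff.2 fun w hw => ?_
    have h1 := hcent _ (hB'B w hw (hB'S hw)) _
      (Subgroup.commutator_mem_commutator (hB'B x hx (hB'S hx)) (hB'B y hy (hB'S hy)))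
    rw [← map_commutatorElement, ← map_mul, ← map_mul] at h1
    exact congrArg Subtype.val (hinj h1)
  by_cases hall : ∀ A ∈ 𝒜, B' ≤ A
  · have hle : B ≤ Z := hBim.trans (im_mono ι (le_meet fun A hA _ => hall A hA))
    rw [show U = B from inf_eq_left.2 hle]
    exact hBn
  push Not at hall
  obtain ⟨A₀, hA₀, hA₀'⟩ := hall
  obtain ⟨A, hA, -, hAB, hAn⟩ := h.replace_ B' hB'S hclass
    ⟨A₀, hA₀, hB'B'.trans (meet_le hA₀ (h.sub A₀ hA₀).1), hA₀'⟩
  have hAS := (h.sub A hA).1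
  -- the kernel of the action on the cosets of `N(U)`
  set L := (Subgroup.normalizer (U : Set G)).normalCore with hL
  have hC : Subgroup.centralizer (B : Set G) ≤ Subgroup.normalizer (U : Set G) := fun c hc =>
    CfsgLib.Solvable.mem_normalizer_of_conj_mem fun u hu => by
      rw [← Subgroup.mem_centralizer_iff.1 hc u hu.1, mul_inv_cancel_right]; exact hu
  have hSnU : (P : Subgroup G) ≤ Subgroup.normalizer (U : Set G) := fun s hs =>
    CfsgLib.Solvable.mem_normalizer_of_conj_mem fun u hu => hSU s hs u hu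
  have hAL : im ι A ≤ L := by
    rintro _ ⟨a, ha, rfl⟩
    have hq : IsQuad B (ι a) := by
      intro b hb
      obtain ⟨s, hs, rfl⟩ := hBim hb
      rw [← map_commutatorElement, ← map_commutatorElement, ← map_one ι]
      refine congrArg ι (Subtype.ext ?_)
      have h1 : ⁅(s : Ω), (a : Ω)⁆ ∈ A := by
        rw [commutatorElement_def]
        exact A.mul_mem ((Subgroup.mem_normalizer_iff.1 (hAn hs) _).1 ha) (A.inv_mem ha)
      exact commutatorElement_eq_one_iff_mul_comm.2 (h.comm hA h1 ha)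
    have hmk := hst B hB (ι a)
      ((isQuad_iff (by rw [Subgroup.normalizer_eq_top B]; trivial)).1 hq)
    set K := (pCore p (G ⧸ Subgroup.centralizer (B : Set G))).comap
      (QuotientGroup.mk' (Subgroup.centralizer (B : Set G))) with hKdef
    have hK : ∀ k ∈ K, ∃ n : ℕ, k ^ p ^ n ∈ Subgroup.centralizer (B : Set G) := by
      intro k hk
      obtain ⟨n, hn⟩ := CfsgLib.Cores.isPGroup_pCore p ⟨_, hk⟩
      refine ⟨n, ?_⟩
      rw [← QuotientGroup.eq_one_iff]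
      simpa using congrArg Subtype.val hn
    have hKn : K.Normal :=
      (inferInstance : (pCore p (G ⧸ Subgroup.centralizer (B : Set G))).Normal).comap _
    have hKU : K ≤ Subgroup.normalizer (U : Set G) :=
      le_of_pow_mem P hC (inf_le_left.trans hSnU) hK
    exact Subgroup.normal_le_normalCore.2 hKU hmk
  obtain ⟨T, hT⟩ := CfsgLib.Transfer.exists_sylow_map_eq_inf L P
  set Q := (L.comap ι).map S.subtype with hQdef
  have hQS : Q ≤ S := Subgroup.map_subtype_le _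
  have hQim : im ι Q = (P : Subgroup G) ⊓ L := by
    ext y
    constructor
    · rintro ⟨s, hs, rfl⟩
      obtain ⟨t, ht, hts⟩ := hs
      exact ⟨hP.symm ▸ ⟨s, rfl⟩, Subtype.ext hts ▸ ht⟩
    · rintro ⟨hy, hyL⟩
      obtain ⟨s, rfl⟩ : y ∈ ι.range := hP ▸ hy
      exact ⟨s, ⟨s, hyL, rfl⟩, rfl⟩
  have hAQ : A ≤ Q := fun a ha => ⟨⟨a, hAS ha⟩, hAL ⟨⟨a, hAS ha⟩, ha, rfl⟩, rfl⟩
  have hZQ : Z ≤ im ι (meet 𝒜 Q) := im_mono ι (meet_anti hQS)
  refine absurd ?_ hAB
  have hBQ : B ≤ im ι (meet 𝒜 Q) := by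
    rw [← heq, hB0]
    refine (Subgroup.closure_le _).2 fun y hy => ?_
    rw [Group.mem_conjugatesOfSet_iff] at hy
    obtain ⟨u, hu, hc⟩ := hy
    obtain ⟨g, rfl⟩ := _root_.isConj_iff.1 hc
    have htop := Sylow.normalizer_sup_eq_top T
    rw [hT] at htop
    have hg : g⁻¹ ∈ L ⊔ Subgroup.normalizer (((P : Subgroup G) ⊓ L : Subgroup G) : Set G) := by
      rw [sup_comm, htop]; trivial
    obtain ⟨l, hl, m, hm, e1⟩ := CfsgLib.Solvable.exists_mul_of_mem_sup
      (by rw [Subgroup.normalizer_eq_top L]; exact le_top) hg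
    have e2 : g = m⁻¹ * l⁻¹ := by rw [← inv_inv g, e1, mul_inv_rev]
    have hlu : l⁻¹ * u * l⁻¹⁻¹ ∈ U :=
      (Subgroup.mem_normalizer_iff.1 (Subgroup.normalCore_le _ (inv_mem hl)) u).1 hu
    rw [e2, show m⁻¹ * l⁻¹ * u * (m⁻¹ * l⁻¹)⁻¹ = m⁻¹ * (l⁻¹ * u * l⁻¹⁻¹) * m⁻¹⁻¹ by group]
    exact hinv Q hQS ⟨A, hA, hAQ⟩ m⁻¹ (by rw [hQim]; exact inv_mem hm) _ (hZQ hlu.2)
  intro x hx
  exact meet_le hA hAQ ((mem_im_iff hinj (s := ⟨x, hB'S hx⟩)).1 (hBQ (hB'B x hx _)))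

/-- The group version of the criterion. -/
theorem hasNormalPComplement_of_family (hp2 : p ≠ 2) (h : Family S 𝒜) :
    ∀ (n : ℕ) {G : Type u} [Group G] [Finite G] (ι : S →* G), Nat.card G = n →
      Function.Injective ι → (∃ P : Sylow p G, (P : Subgroup G) = ι.range) →
      Subgroup.centralizer (pCore p G : Set G) ≤ pCore p G → Invariant ι 𝒜 →
      HasNormalPComplement p (Subgroup.normalizer (im ι (meet 𝒜 S) : Set G)) →
      HasNormalPComplement p G := by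
  intro n
  induction n using Nat.strong_induction_on with
  | _ n ih =>
  intro G _ _ ι hn hinj hsyl hc hinv hW
  obtain ⟨P, hP⟩ := hsyl
  by_contra hG
  set H := pCore p G with hH
  have hHp := CfsgLib.Cores.isPGroup_pCore p (G := G)
  have hprop : ∀ M : Subgroup G, M ≠ ⊤ → (P : Subgroup G) ≤ M → HasNormalPComplement p M := by
    intro M hM hPM
    have hιM : ∀ s, ι s ∈ M := fun s => hPM (hP.symm ▸ ⟨s, rfl⟩)
    set κ := ι.codRestrict M hιM with hκ
    have hlt : Nat.card M < n := hn ▸ lt_of_le_of_ne (Subgroup.card_le_card_group M)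
      fun e => hM (Subgroup.eq_top_of_card_eq M e)
    have hmap : ∀ Q : Subgroup Ω, (im κ Q).map M.subtype = im ι Q := fun Q => by
      rw [Subgroup.map_map]; rfl
    have hHM : H ≤ M := (CfsgLib.Cores.pCore_le_sylow P).trans hPM
    have hHle : H.subgroupOf M ≤ pCore p M :=
      CfsgLib.Cores.le_pCore (hHp.comap_subtype (K := M))
    refine ih _ hlt κ rfl (fun a b hab => hinj (congrArg Subtype.val hab)) ⟨P.subtype hPM, ?_⟩
      ?_ ?_ (npc_congr_subgroupOf (hmap _) hW)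
    · ext y
      rw [Sylow.coe_subtype, Subgroup.mem_subgroupOf, hP]
      constructor
      · rintro ⟨s, hs⟩; exact ⟨s, Subtype.ext hs⟩
      · rintro ⟨s, rfl⟩; exact ⟨s, rfl⟩
    · intro c hcc
      refine hHle (show (c : G) ∈ H from hc (Subgroup.mem_centralizer_iff.2 fun y hy => ?_))
      exact congrArg Subtype.val
        (Subgroup.mem_centralizer_iff.1 hcc ⟨y, hHM hy⟩ (hHle (show y ∈ H from hy)))
    · intro Q hQ hA g hg y hy
      have h1 : (g : G) ∈ Subgroup.normalizer (im ι Q : Set G) := by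
        rw [← hmap Q]
        exact Subgroup.le_normalizer_map M.subtype ⟨g, hg, rfl⟩
      obtain ⟨w, hw, hwe⟩ := (hmap (meet 𝒜 Q)).ge
        (hinv Q hQ hA g h1 y ((hmap _).le ⟨y, hy, rfl⟩))
      rwa [show g * y * g⁻¹ = w from Subtype.ext hwe.symm]
  have hO : pPrimeCore p G = ⊥ := by
    set N := pPrimeCore p G
    have hNc := CfsgLib.Cores.coprime_card_pPrimeCore (G := G) p
    have hdisj : Disjoint N H := by
      rw [disjoint_iff, ← Subgroup.card_eq_one]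
      obtain ⟨j, hj⟩ := (IsPGroup.iff_card).1 hHp
      have h2 := Subgroup.card_dvd_of_le (inf_le_right : N ⊓ H ≤ H)
      rw [hj] at h2
      exact Nat.eq_one_of_dvd_coprimes (hNc.pow_right j) (Subgroup.card_dvd_of_le inf_le_left) h2
    refine disjoint_self.1 (hdisj.mono_right fun x hx => hc (Subgroup.mem_centralizer_iff.2 fun y hy => ?_))
    exact (Subgroup.commute_of_normal_of_disjoint N H inferInstance inferInstance hdisj x y hx hy).symm
  set π := QuotientGroup.mk' H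
  have hπ : Function.Surjective π := QuotientGroup.mk'_surjective H
  have hquot : HasNormalPComplement p (G ⧸ H) := by
    set D := (P : Subgroup G).map π with hDdef
    by_cases hPH : (P : Subgroup G) ≤ H
    · exfalso
      have hHP : H = (P : Subgroup G) := le_antisymm (CfsgLib.Cores.pCore_le_sylow P) hPH
      refine hG ((npc_top_iff (eq_top_iff.2 fun g _ =>
        CfsgLib.Solvable.mem_normalizer_of_conj_mem fun y hy =>
          hinv S le_rfl h.exists_mem g ?_ y hy)).1 hW)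
      rw [im_self, ← hP, ← hHP, Subgroup.normalizer_eq_top H]
      trivial
    have hDp : IsPGroup p D := P.2.map π
    have hDne : D ≠ ⊥ := fun e0 => hPH fun x hx =>
      (QuotientGroup.eq_one_iff x).1 (Subgroup.mem_bot.1 (e0.le ⟨x, hx, rfl⟩))
    set K := (zjGen 0 D).comap π with hKdef
    have hKp : IsPGroup p K := (hDp.to_le (zjGen_le 0 D)).comap_of_ker_isPGroup π
      (by rw [QuotientGroup.ker_mk']; exact hHp)
    have hNK : Subgroup.normalizer (K : Set G) =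
        (Subgroup.normalizer (zjGen 0 D : Set (G ⧸ H))).comap π :=
      (Subgroup.comap_normalizer_eq_of_surjective _ hπ).symm
    have hPK : (P : Subgroup G) ≤ Subgroup.normalizer (K : Set G) := by
      rw [hNK]
      intro x hx
      exact normalizer_le_normalizer_zjGen 0 _ (Subgroup.le_normalizer ⟨x, hx, rfl⟩)
    have hKn : Subgroup.normalizer (K : Set G) ≠ ⊤ := by
      intro e
      have : K.Normal := Subgroup.normalizer_eq_top_iff.1 e
      refine zjGen_ne_bot (Or.inl rfl) hDp hDne (le_bot_iff.1 fun y hy => ?_)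
      obtain ⟨x, rfl⟩ := hπ y
      exact Subgroup.mem_bot.2 ((QuotientGroup.eq_one_iff x).2 (CfsgLib.Cores.le_pCore hKp hy))
    refine hasNormalPComplement_of_normalizer_zjGen hp2 (Or.inl rfl) (P.mapSurjective hπ)
      (D := D) ⟨le_rfl, fun _ _ _ h => h⟩ (npc_of_le_map π ?_ (hprop _ hKn hPK))
    rw [hNK, Subgroup.map_comap_eq_self_of_surjective hπ]
  obtain ⟨-, hst, -, -⟩ := final_structure hp2 P hG hO hquot hprop
  have hst' : ∀ (Q : Subgroup G) [Q.Normal], IsPGroup p Q → IsPStableOn p Q :=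
    fun Q _ hQ => hst.isPStableOn Q hQ
  set Z := im ι (meet 𝒜 S) with hZdef
  have hle : Z ≤ H := by
    intro z hz
    have hPn : ∀ x ∈ H, ∀ y ∈ Z, x * y * x⁻¹ ∈ Z := fun x hx => hinv S le_rfl h.exists_mem x (by
      rw [im_self]; exact Subgroup.le_normalizer (hP ▸ CfsgLib.Cores.pCore_le_sylow P hx))
    have hq : IsQuad H z := by
      intro x hx
      have h1 : ⁅x, z⁆ ∈ Z := by
        rw [commutatorElement_def]
        exact mul_mem (hPn x hx z hz) (inv_mem hz)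
      obtain ⟨A, hA, hAS⟩ := h.exists_mem
      obtain ⟨s, hs, hse⟩ := h1
      obtain ⟨t, ht, rfl⟩ := hz
      rw [← hse, ← map_commutatorElement, ← map_one ι]
      exact congrArg ι (Subtype.ext (commutatorElement_eq_one_iff_mul_comm.2
        (h.comm hA (meet_le hA hAS hs) (meet_le hA hAS ht))))
    have hmk := hst' H hHp z
      ((isQuad_iff (by rw [Subgroup.normalizer_eq_top]; trivial)).1 hq)
    set K := (pCore p (G ⧸ Subgroup.centralizer (H : Set G))).comap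
      (QuotientGroup.mk' (Subgroup.centralizer (H : Set G))) with hKdef
    have hKn : K.Normal :=
      (inferInstance : (pCore p (G ⧸ Subgroup.centralizer (H : Set G))).Normal).comap _
    refine CfsgLib.Cores.le_pCore (N := K) ?_ hmk
    rintro ⟨k, hk⟩
    obtain ⟨i, hi⟩ := CfsgLib.Cores.isPGroup_pCore p ⟨_, hk⟩
    have h1 : k ^ p ^ i ∈ H := hc <| by
      rw [← QuotientGroup.eq_one_iff]
      simpa using congrArg Subtype.val hi
    obtain ⟨m, hm⟩ := hHp ⟨_, h1⟩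
    refine ⟨i + m, Subtype.ext ?_⟩
    have := congrArg Subtype.val hm
    simp only [SubmonoidClass.coe_pow, Subgroup.coe_one] at this ⊢
    rw [pow_add, pow_mul, this]
  have hN := inf_normal h hinj P hP hinv hst' H hHp
  rw [inf_eq_right.2 hle] at hN
  exact hG ((npc_top_iff (Subgroup.normalizer_eq_top Z)).1 hW)

end GroupTheorem

section Fusion

variable {p : ℕ} [hp : Fact p.Prime]

/-- The axioms for a system. -/
def Good (p : ℕ) (Ω : Type u) [Group Ω] (S : Subgroup Ω) (F : FusionSystem S) : Prop :=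
  ∃ 𝒜 : Set (Subgroup Ω), Family S 𝒜 ∧
    (∀ Q : Subgroup Ω, Q ≤ S → (∃ A ∈ 𝒜, A ≤ Q) → ∀ α ∈ F.autGroup Q, ∀ x : Q,
      (x : Ω) ∈ meet 𝒜 Q → ((α x : Q) : Ω) ∈ meet 𝒜 Q) ∧
    PLocal p F (meet 𝒜 S)

theorem le_normalizer_meet [Finite S] {F : FusionSystem S} (h : Family S 𝒜)
    (hinv : ∀ Q : Subgroup Ω, Q ≤ S → (∃ A ∈ 𝒜, A ≤ Q) → ∀ α ∈ F.autGroup Q, ∀ x : Q,
      (x : Ω) ∈ meet 𝒜 Q → ((α x : Q) : Ω) ∈ meet 𝒜 Q) :
    S ≤ Subgroup.normalizer (meet 𝒜 S : Set Ω) := by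
  intro s hs
  have := finite_of_le (meet_le_self h.exists_mem)
  refine mem_normalizer_of_forall fun x hx => ?_
  exact hinv S le_rfl h.exists_mem _
    (autInducedBy_le_autGroup le_rfl (mem_autInducedBy_iff.2 ⟨s, hs, fun _ => rfl⟩) :
      normAut s (Subgroup.le_normalizer hs) ∈ F.autGroup S) ⟨x, meet_le_self h.exists_mem hx⟩ hx

theorem innerCriterion (hp2 : p ≠ 2) :
    InnerCriterion.{u} p (fun _ _ _ _ => True)
      (fun Ω _ S F => ZJGood p Ω S F ∨ Good p Ω S F) where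
  ambNormalizer := fun _ _ _ _ _ _ _ _ _ => trivial
  ambFactor := fun _ _ _ _ _ _ _ _ _ _ _ _ _ => trivial
  sub := by
    intro Ω _ S _ E F hEF hgood
    refine hgood.imp ((innerCriterion_zjGood hp2).sub E F hEF) ?_
    rintro ⟨𝒜, hfam, hinv, hloc⟩
    exact ⟨𝒜, hfam, fun Q hQ hA α hα => hinv Q hQ hA α (autGroup_mono hEF Q hα),
      hloc.mono le_rfl hEF⟩
  ofLocal := fun F h1 h2 h3 h4 => Or.inl ((innerCriterion_zjGood hp2).ofLocal F h1 h2 h3 h4)
  constrained := by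
    intro Ω _ S _ F hS hF ha hgood
    rcases hgood with hz | ⟨𝒜, hfam, hinv, hloc⟩
    · exact (innerCriterion_zjGood hp2).constrained F hS hF ha hz
    obtain ⟨G, _, ι, hM⟩ := exists_model hS hF
    obtain ⟨hG, ⟨hinj, hreal⟩, ⟨T, hT⟩, hC⟩ := id hM
    refine pAut_of_isModel_of_npc hM ?_
    have hinv' : Invariant ι 𝒜 := by
      intro Q hQ hA g hg y hy
      obtain ⟨s, hs, rfl⟩ := hy
      obtain ⟨β, hβ, hβe⟩ := exists_aut_of_conj ⟨hinj, hreal⟩ hQ hg
      have hsQ : (s : Ω) ∈ Q := meet_le_self hA hs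
      refine ⟨⟨(β ⟨s, hsQ⟩ : Q), hQ (β ⟨s, hsQ⟩).2⟩, hinv Q hQ hA β hβ ⟨s, hsQ⟩ hs, ?_⟩
      exact hβe ⟨s, hsQ⟩
    refine hasNormalPComplement_of_family hp2 hfam _ ι rfl hinj ⟨T, hT⟩ hC hinv' ?_
    have hle : meet 𝒜 S ≤ S := meet_le_self hfam.exists_mem
    have hn := le_normalizer_meet hfam hinv
    refine hasNormalPComplement_of_realized ⟨hinj, hreal⟩ T hT ?_ hle le_rfl
      fun M hXM hMS g hg β hβ hβe => ?_
    · intro y hy
      refine CfsgLib.Solvable.mem_normalizer_of_conj_mem fun x hx => ?_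
      refine hinv' S le_rfl hfam.exists_mem y ?_ x hx
      rw [im_self]
      exact Subgroup.le_normalizer hy
    · refine hloc M hXM hMS (fun y hy => hn (hMS hy)) β hβ fun x hx => ?_
      have h1 : ι ⟨(β x : M), hMS (β x).2⟩ ∈ im ι (meet 𝒜 S) := by
        rw [hβe]
        exact (Subgroup.mem_normalizer_iff.1 hg _).1 ⟨_, hx, rfl⟩
      exact (mem_im_iff hinj).1 h1

/-- The axiomatic criterion. -/
theorem hom_eq_inner_iff [Finite S] (hS : IsPGroup p S) {F : FusionSystem S}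
    (hF : F.IsSaturated p) (hp2 : p ≠ 2) (h : Family S 𝒜)
    (hinv : ∀ Q : Subgroup Ω, Q ≤ S → (∃ A ∈ 𝒜, A ≤ Q) → ∀ α ∈ F.autGroup Q, ∀ x : Q,
      (x : Ω) ∈ meet 𝒜 Q → ((α x : Q) : Ω) ∈ meet 𝒜 Q) :
    (∀ P : Subgroup Ω, F.Hom P = (innerFusionSystem S).Hom P) ↔
      ∀ N : FusionSystem (normalizerIn S (⨅ A ∈ 𝒜, A)),
        F.IsNormalizerSystem (⨅ A ∈ 𝒜, A) N →
          ∀ P : Subgroup Ω, N.Hom P = (innerFusionSystem (normalizerIn S (⨅ A ∈ 𝒜, A))).Hom P := by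
  rw [show (⨅ A ∈ 𝒜, A) = meet 𝒜 S from le_antisymm
    (le_meet fun A hA _ => iInf₂_le A hA) (le_iInf₂ fun A hA => meet_le hA (h.sub A hA).1)]
  set Z := meet 𝒜 S with hZdef
  have hZS : Z ≤ S := meet_le_self h.exists_mem
  have hn : S ≤ Subgroup.normalizer (Z : Set Ω) := le_normalizer_meet h hinv
  have hT : normalizerIn S Z = S := (normalizerIn_normal hn).symm
  constructor
  · intro h' N hN P
    refine Set.Subset.antisymm (fun φ hφ => ?_) ?_
    · rw [hN P] at hφ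
      obtain ⟨hP, g, hg, hge⟩ := (h' P).le hφ.1
      exact ⟨hφ.2.1, g, hT.symm ▸ hg, hge⟩
    · rintro φ ⟨hP, g, hg, hge⟩
      rw [show φ = conjHom P g from MonoidHom.ext hge]
      exact N.conj_mem hP hg
  · intro h' P
    have h1 := h' (normSys F Z rfl hZS) fun _ => rfl
    have := finite_of_le (S := S) (normalizerIn_le Z)
    have h2 : PAut p (normSys F Z rfl hZS) :=
      pAut_of_hom_subset_inner (hS.to_le (normalizerIn_le _)) fun P => (h1 P).le
    exact hom_eq_inner_of_pAut hS hF ((innerCriterion hp2).pAut hS hF trivial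
      (Or.inr ⟨𝒜, h, hinv, pLocal_of_pAut rfl hZS h2⟩)) P

end Fusion

end CfsgLib.Fusion.AxGT
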