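import Cfsg.Agent.Lib.Fusion.Basic
import Cfsg.Agent.Lib.Fusion.SylowTools

/-!
# Extenders, receptive and fully automized subgroups
-/

set_option autoImplicit false

open Cfsg Cfsg.FusionSystem

namespace CfsgLib.Fusion

variable {Ω : Type*} [Group Ω] {S : Subgroup Ω} {F : FusionSystem S}

theorem mem_extender_iff {P : Subgroup Ω} {φ : P →* Ω} {g : Ω} :
    g ∈ extender S P φ ↔ g ∈ S ∧ ∃ hg : g ∈ Subgroup.normalizer (P : Set Ω),
      ∃ h ∈ S, ∀ x : P, φ (normAut g hg x) = h * φ x * h⁻¹ := by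
  constructor
  · intro hgm
    let A : Subgroup Ω :=
      { carrier := {g | g ∈ S ∧ ∃ hg : g ∈ Subgroup.normalizer (P : Set Ω),
          ∃ h ∈ S, ∀ x : P, φ (normAut g hg x) = h * φ x * h⁻¹}
        one_mem' := ⟨S.one_mem, one_mem _, 1, S.one_mem, fun x => by
          rw [show normAut 1 (one_mem _) x = x from Subtype.ext (by simp)]
          simp⟩
        mul_mem' := by
          rintro a b ⟨haS, ha, h, hh, e⟩ ⟨hbS, hb, k, hk, f⟩
          refine ⟨S.mul_mem haS hbS, mul_mem ha hb, h * k, S.mul_mem hh hk, fun x => ?_⟩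
          rw [show normAut (a * b) (mul_mem ha hb) x = normAut a ha (normAut b hb x) from
            Subtype.ext (by simp [mul_assoc]), e, f]
          simp [mul_assoc]
        inv_mem' := by
          rintro a ⟨haS, ha, h, hh, e⟩
          refine ⟨S.inv_mem haS, inv_mem ha, h⁻¹, S.inv_mem hh, fun x => ?_⟩
          have h2 := e (normAut a⁻¹ (inv_mem ha) x)
          rw [show normAut a ha (normAut a⁻¹ (inv_mem ha) x) = x from
            Subtype.ext (by simp [mul_assoc])] at h2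
          rw [h2]
          simp [mul_assoc] }
    refine (Subgroup.closure_le A).2 ?_ hgm
    rintro a ⟨haS, ha, h, hh, e⟩
    exact ⟨haS, ha, h, hh, fun x => e x _⟩
  · rintro ⟨hgS, hg, h, hh, e⟩
    exact Subgroup.subset_closure ⟨hgS, hg, h, hh, fun x hx => e x⟩

theorem extender_le_normalizerIn (P : Subgroup Ω) (φ : P →* Ω) :
    extender S P φ ≤ normalizerIn S P := fun g hg => by
  obtain ⟨hgS, hgn, -⟩ := mem_extender_iff.1 hg
  exact ⟨hgS, hgn⟩

theorem le_extender {P : Subgroup Ω} {φ : P →* Ω} (hφ : φ ∈ F.Hom P) : P ≤ extender S P φ := by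
  intro g hg
  refine mem_extender_iff.2 ⟨le_S F hφ hg, Subgroup.le_normalizer hg, φ ⟨g, hg⟩,
    apply_mem_S F hφ _, fun x => ?_⟩
  rw [show normAut g (Subgroup.le_normalizer hg) x = ⟨g, hg⟩ * x * (⟨g, hg⟩ : P)⁻¹ from
    Subtype.ext (by simp)]
  simp

theorem centralizerIn_le_extender (P : Subgroup Ω) (φ : P →* Ω) :
    centralizerIn S P ≤ extender S P φ := by
  intro g hg
  refine mem_extender_iff.2 ⟨hg.1, mem_normalizer_of_forall_commute hg.2, 1, S.one_mem,
    fun x => ?_⟩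
  rw [show normAut g (mem_normalizer_of_forall_commute hg.2) x = x from
    Subtype.ext (by rw [normAut_apply, ← hg.2 x x.2, mul_inv_cancel_right])]
  simp

/-- The extender of an isomorphism, in terms of automorphisms. -/
theorem mem_extender_iso_iff {P Q : Subgroup Ω} {e : P ≃* Q} {g : Ω} :
    g ∈ extender S P (Q.subtype.comp e.toMonoidHom) ↔
      g ∈ S ∧ ∃ hg : g ∈ Subgroup.normalizer (P : Set Ω),
        MulAut.congr e (normAut g hg) ∈ autInducedBy S Q := by
  rw [mem_extender_iff]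
  refine and_congr_right fun _ => exists_congr fun hg => ?_
  rw [mem_autInducedBy_iff]
  refine exists_congr fun h => and_congr_right fun _ => ⟨fun e2 y => ?_, fun e2 x => ?_⟩
  · simpa using e2 (e.symm y)
  · simpa using e2 (e x)

/-- A map on an overgroup of `P` inside `N_S(P)` that carries `P` onto `Q` takes values in
`N_S(Q)`. -/
theorem apply_mem_normalizerIn {P Q M : Subgroup Ω} {e : P ≃* Q} {ψ : M →* Ω}
    (hψ : ψ ∈ F.Hom M) (hPM : P ≤ M) (he : ∀ x : P, ψ (Subgroup.inclusion hPM x) = e x)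
    (hM : M ≤ Subgroup.normalizer (P : Set Ω)) (g : M) : ψ g ∈ normalizerIn S Q := by
  refine ⟨apply_mem_S F hψ g, ?_⟩
  refine mem_normalizer_of_aut (α := MulAut.congr e (normAut (g : Ω) (hM g.2))) fun y => ?_
  have h1 : Subgroup.inclusion hPM (normAut (g : Ω) (hM g.2) (e.symm y)) =
      g * Subgroup.inclusion hPM (e.symm y) * g⁻¹ := Subtype.ext (by simp)
  change ((e (normAut (g : Ω) (hM g.2) (e.symm y)) : Q) : Ω) = _
  rw [← he, h1, map_mul, map_mul, map_inv, he, MulEquiv.apply_symm_apply]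

theorem apply_mem_centralizerIn {P Q M : Subgroup Ω} {e : P ≃* Q} {ψ : M →* Ω}
    (hψ : ψ ∈ F.Hom M) (hPM : P ≤ M) (he : ∀ x : P, ψ (Subgroup.inclusion hPM x) = e x)
    {c : M} (hc : (c : Ω) ∈ centralizerIn S P) : ψ c ∈ centralizerIn S Q := by
  refine ⟨apply_mem_S F hψ c, fun y hy => ?_⟩
  have h1 : c * Subgroup.inclusion hPM (e.symm ⟨y, hy⟩) =
      Subgroup.inclusion hPM (e.symm ⟨y, hy⟩) * c :=
    Subtype.ext (hc.2 _ (e.symm ⟨y, hy⟩).2).symm
  have h2 := congrArg ψ h1
  rw [map_mul, map_mul, he, MulEquiv.apply_symm_apply] at h2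
  exact h2.symm

/-- Receptiveness, in terms of isomorphisms. -/
theorem exists_extension {P Q M : Subgroup Ω} {e : P ≃* Q} (hQ : F.IsReceptive Q)
    (he : IsIso F e) (hPM : P ≤ M) (hM : M ≤ extender S P (Q.subtype.comp e.toMonoidHom)) :
    ∃ ψ ∈ F.Hom M, ∀ x : P, ψ (Subgroup.inclusion hPM x) = e x := by
  obtain ⟨ψ, hψ, h⟩ := hQ.2 P _ he (range_subtype_comp e)
  exact ⟨_, res_mem F hψ hM, fun x => h x x.2 (hM (hPM x.2))⟩

theorem le_of_isReceptive {Q : Subgroup Ω} (h : F.IsReceptive Q) : Q ≤ S := h.1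

/-- A receptive subgroup is fully centralized. -/
theorem isFullyCentralized_of_isReceptive [Finite S] {P : Subgroup Ω} (hP : F.IsReceptive P) :
    F.IsFullyCentralized P := by
  refine ⟨hP.1, fun Q hQ => ?_⟩
  obtain ⟨e, he⟩ := isConj_iff.1 (isConj_symm hQ)
  let M := Q ⊔ centralizerIn S Q
  have hM : M ≤ extender S Q (P.subtype.comp e.toMonoidHom) :=
    sup_le (le_extender he) (centralizerIn_le_extender _ _)
  obtain ⟨ψ, hψ, hψe⟩ := exists_extension hP he le_sup_left hM
  have : Finite (centralizerIn S P) := finite_of_le (centralizerIn_le P)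
  refine Nat.card_le_card_of_injective
    (fun c : centralizerIn S Q => (⟨ψ ⟨c, le_sup_right (a := Q) c.2⟩,
      apply_mem_centralizerIn hψ le_sup_left hψe c.2⟩ : centralizerIn S P)) ?_
  intro a b hab
  have := F.injective_of_mem hψ (congrArg Subtype.val hab)
  exact Subtype.ext (congrArg Subtype.val this :)

variable (F) in
/-- Every subgroup of `S` is conjugate to a fully normalized one. -/
theorem exists_fullyNormalized [Finite S] {P : Subgroup Ω} (hP : P ≤ S) :
    ∃ Q, F.IsConj P Q ∧ F.IsFullyNormalized Q := by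
  obtain ⟨Q, hQ, hmax⟩ := exists_max_card (S := S) (fun Q => F.IsConj P Q)
    (fun Q => Nat.card (normalizerIn S Q)) (fun Q h => le_right_of_isConj h) ⟨P, isConj_refl hP⟩
  exact ⟨Q, hQ, le_right_of_isConj hQ, fun R hR => hmax R (isConj_trans hQ hR)⟩

/-! ### Fully automized subgroups -/

variable {p : ℕ} [Fact p.Prime]

theorem isFullyAutomized_iff [Finite S] (hS : IsPGroup p S) {P : Subgroup Ω} :
    F.IsFullyAutomized p P ↔
      P ≤ S ∧ ¬ p ∣ (autInducedBy S P).relIndex (F.autGroup P) := by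
  constructor
  · rintro ⟨hP, R, hR⟩
    have := finite_of_le hP
    refine ⟨hP, ?_⟩
    rw [Subgroup.relIndex, ← hR]
    exact R.not_dvd_index
  · rintro ⟨hP, h⟩
    have := finite_of_le hP
    exact ⟨hP, ((isPGroup_autInducedBy hS P).comap_subtype).toSylow h,
      IsPGroup.toSylow_coe _ _⟩

/-- A map between conjugate subgroups, the target being fully automized and receptive, can be
adjusted so as to extend to the whole normalizer (the form with the adjustment made explicit). -/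
theorem exists_extension_normalizerIn [Finite S] (hS : IsPGroup p S) {P Q : Subgroup Ω}
    {e : Q ≃* P} (he : IsIso F e) (h₁ : F.IsFullyAutomized p P) (h₂ : F.IsReceptive P) :
    ∃ β ∈ F.autGroup P, ∃ (h : Q ≤ normalizerIn S Q), ∃ ψ ∈ F.Hom (normalizerIn S Q),
      (∀ x : Q, ψ (Subgroup.inclusion h x) = β (e x)) ∧
      (∀ g, ψ g ∈ normalizerIn S P) := by
  have := finite_of_le h₂.1
  have := finite_of_le he.le_left
  obtain ⟨hPS, hidx⟩ := (isFullyAutomized_iff hS).1 h₁
  obtain ⟨β, hβ, hconj⟩ := exists_conj_mem_of_le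
    (U := (autInducedBy S Q).map (MulAut.congr e).toMonoidHom) (T := autInducedBy S P)
    (N := F.autGroup P) ((isPGroup_autInducedBy hS Q).map _) (isPGroup_autInducedBy hS P)
    ((Subgroup.map_mono (autInducedBy_le_autGroup he.le_left)).trans
      (autGroup_map_congr he).le)
    (autInducedBy_le_autGroup hPS) hidx
  have heβ : IsIso F (e.trans β) := he.trans ((mem_autGroup_iff F hPS).1 hβ)
  have hM : normalizerIn S Q ≤ extender S Q (P.subtype.comp (e.trans β).toMonoidHom) := by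
    intro g hg
    refine mem_extender_iso_iff.2 ⟨hg.1, hg.2, ?_⟩
    have h1 := hconj _ ⟨normAut g hg.2, mem_autInducedBy_iff.2 ⟨g, hg.1, fun x => rfl⟩, rfl⟩
    convert h1 using 1
    exact MulEquiv.ext fun y => rfl
  obtain ⟨ψ, hψ, hψe⟩ := exists_extension h₂ heβ (le_normalizerIn he.le_left) hM
  exact ⟨β, hβ, le_normalizerIn he.le_left, ψ, hψ, hψe,
    fun g => apply_mem_normalizerIn hψ _ hψe inf_le_right g⟩

/-- Variant of `exists_extension_normalizerIn` forgetting the adjustment. -/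
theorem exists_hom_normalizerIn [Finite S] (hS : IsPGroup p S) {P Q : Subgroup Ω}
    (hQ : F.IsConj Q P) (h₁ : F.IsFullyAutomized p P) (h₂ : F.IsReceptive P) :
    ∃ (e : Q ≃* P) (h : Q ≤ normalizerIn S Q), IsIso F e ∧ ∃ ψ ∈ F.Hom (normalizerIn S Q),
      (∀ x : Q, ψ (Subgroup.inclusion h x) = e x) ∧ (∀ g, ψ g ∈ normalizerIn S P) := by
  obtain ⟨e, he⟩ := isConj_iff.1 hQ
  obtain ⟨β, hβ, h, ψ, hψ, hψe, hψN⟩ := exists_extension_normalizerIn hS he h₁ h₂
  exact ⟨e.trans β, h, he.trans ((mem_autGroup_iff F h₂.1).1 hβ), ψ, hψ, hψe, hψN⟩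

omit [Fact p.Prime] in
/-- Receptiveness passes from `Q` to `P` along a map of `N_S(P)` whose image contains
`C_S(Q)`. -/
theorem isReceptive_of_extension [Finite S] {P Q : Subgroup Ω} {e : P ≃* Q}
    (he : IsIso F e) (hQ : F.IsReceptive Q) (h : P ≤ normalizerIn S P)
    {ψ : normalizerIn S P →* Ω} (hψ : ψ ∈ F.Hom (normalizerIn S P))
    (hψe : ∀ x : P, ψ (Subgroup.inclusion h x) = e x)
    (hC : centralizerIn S Q ≤ ψ.range) : F.IsReceptive P := by
  refine ⟨he.le_left, fun R φ hφ hR => ?_⟩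
  obtain ⟨f, hf, hfφ⟩ := exists_iso_of_range hφ hR
  have hφf : φ = P.subtype.comp f.toMonoidHom := MonoidHom.ext fun x => (hfφ x).symm
  subst hφf
  have := finite_of_le he.le_left
  obtain ⟨ψn, hψn, hψne⟩ := exists_iso_of_mem hψ
  let N := extender S R (P.subtype.comp f.toMonoidHom)
  have hNN : ∀ g ∈ N, ∃ hg : g ∈ Subgroup.normalizer (R : Set Ω), g ∈ S ∧
      ∃ k ∈ normalizerIn S P, ∀ x : R, (f (normAut g hg x) : Ω) = k * f x * k⁻¹ := by
    intro g hg
    obtain ⟨hgS, hgn, k, hk, hke⟩ := mem_extender_iff.1 hg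
    refine ⟨hgn, hgS, k, ⟨hk, mem_normalizer_of_forall fun y hy => ?_⟩, fun x => hke x⟩
    have h2 : (f (normAut g hgn (f.symm ⟨y, hy⟩)) : Ω) = k * y * k⁻¹ := by
      simpa using hke (f.symm ⟨y, hy⟩)
    exact h2 ▸ (f _).2
  have hN2 : N ≤ extender S R (Q.subtype.comp (f.trans e).toMonoidHom) := by
    intro g hg
    obtain ⟨hgn, hgS, k, hk, hke⟩ := hNN g hg
    refine mem_extender_iff.2 ⟨hgS, hgn, ψ ⟨k, hk⟩, apply_mem_S F hψ _, fun x => ?_⟩
    change (e (f (normAut g hgn x)) : Ω) = ψ ⟨k, hk⟩ * e (f x) * (ψ ⟨k, hk⟩)⁻¹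
    rw [← hψe, ← hψe, ← map_inv, ← map_mul, ← map_mul]
    exact congrArg ψ (Subtype.ext (hke x))
  have hRN : R ≤ N := le_extender hf
  obtain ⟨χ, hχ, hχe⟩ := exists_extension hQ (hf.trans he) hRN hN2
  have hχr : ∀ g : N, χ g ∈ ψ.range := by
    intro g
    obtain ⟨hgn, hgS, k, hk, hke⟩ := hNN g g.2
    have hc : (ψ ⟨k, hk⟩)⁻¹ * χ g ∈ centralizerIn S Q := by
      refine ⟨S.mul_mem (S.inv_mem (apply_mem_S F hψ _)) (apply_mem_S F hχ _), fun y hy => ?_⟩
      obtain ⟨x, hx⟩ := (f.trans e).surjective ⟨y, hy⟩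
      have hy' : y = χ (Subgroup.inclusion hRN x) := by rw [hχe, hx]
      have h1 : χ g * y * (χ g)⁻¹ = χ (Subgroup.inclusion hRN (normAut (g : Ω) hgn x)) := by
        rw [hy', ← map_inv, ← map_mul, ← map_mul]
        exact congrArg χ (Subtype.ext (by simp))
      have h2 : χ g * y * (χ g)⁻¹ = ψ ⟨k, hk⟩ * y * (ψ ⟨k, hk⟩)⁻¹ := by
        rw [h1, hχe, hy', hχe]
        change (e (f (normAut (g : Ω) hgn x)) : Ω) = ψ ⟨k, hk⟩ * e (f x) * (ψ ⟨k, hk⟩)⁻¹
        rw [← hψe, ← hψe, ← map_inv, ← map_mul, ← map_mul]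
        exact congrArg ψ (Subtype.ext (hke x))
      calc y * ((ψ ⟨k, hk⟩)⁻¹ * χ g)
          = (ψ ⟨k, hk⟩)⁻¹ * (ψ ⟨k, hk⟩ * y * (ψ ⟨k, hk⟩)⁻¹) * χ g := by group
        _ = (ψ ⟨k, hk⟩)⁻¹ * (χ g * y * (χ g)⁻¹) * χ g := by rw [h2]
        _ = (ψ ⟨k, hk⟩)⁻¹ * χ g * y := by group
    have h3 := ψ.range.mul_mem ⟨⟨k, hk⟩, rfl⟩ (hC hc)
    simpa using h3
  refine ⟨_, F.comp_mem hχ hψn.symm hχr, fun x hxR hxN => ?_⟩
  change (ψn.symm ⟨χ ⟨x, hxN⟩, hχr _⟩ : Ω) = f ⟨x, hxR⟩
  have h4 : (⟨χ ⟨x, hxN⟩, hχr _⟩ : ψ.range) = ψn (Subgroup.inclusion h (f ⟨x, hxR⟩)) := by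
    refine Subtype.ext ?_
    rw [hψne, hψe]
    exact hχe ⟨x, hxR⟩
  rw [h4, MulEquiv.symm_apply_apply]
  rfl

/-- Full automization passes along an isomorphism whose extension to `N_S(P)` is onto
`N_S(Q)`. -/
theorem isFullyAutomized_of_extension [Finite S] (hS : IsPGroup p S) {P Q : Subgroup Ω}
    {e : P ≃* Q} (he : IsIso F e) (hQ : F.IsFullyAutomized p Q) (h : P ≤ normalizerIn S P)
    {ψ : normalizerIn S P →* Ω}
    (hψe : ∀ x : P, ψ (Subgroup.inclusion h x) = e x)
    (hN : normalizerIn S Q ≤ ψ.range) : F.IsFullyAutomized p P := by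
  have := finite_of_le he.le_left
  have := finite_of_le he.le_right
  obtain ⟨hQS, hidx⟩ := (isFullyAutomized_iff hS).1 hQ
  refine (isFullyAutomized_iff hS).2 ⟨he.le_left, fun hd => hidx ?_⟩
  have hle : autInducedBy S Q ≤ (autInducedBy S P).map (MulAut.congr e).toMonoidHom := by
    intro α hα
    obtain ⟨g, hg, hα⟩ := mem_autInducedBy_iff.1 hα
    obtain ⟨k, rfl⟩ := hN ⟨hg, mem_normalizer_of_aut hα⟩
    refine ⟨normAut (k : Ω) k.2.2, mem_autInducedBy_iff.2 ⟨k, k.2.1, fun x => rfl⟩, ?_⟩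
    refine MulEquiv.ext fun y => Subtype.ext ?_
    change (e (normAut (k : Ω) k.2.2 (e.symm y)) : Ω) = _
    rw [hα, ← hψe]
    have h1 : Subgroup.inclusion h (normAut (k : Ω) k.2.2 (e.symm y)) =
        k * Subgroup.inclusion h (e.symm y) * k⁻¹ := Subtype.ext (by simp)
    rw [h1, map_mul, map_mul, map_inv, hψe, MulEquiv.apply_symm_apply]
  have h1 := Subgroup.relIndex_map_map_of_injective (autInducedBy S P) (F.autGroup P)
    (MulAut.congr e).injective (f := (MulAut.congr e).toMonoidHom)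
  rw [autGroup_map_congr he] at h1
  rw [← h1] at hd
  exact hd.trans (Subgroup.relIndex_dvd_of_le_left _ hle)

section Saturated

variable [Finite S]

/-- In a saturated system fully normalized subgroups are fully automized and receptive. -/
theorem fullyAutomized_receptive_of_fullyNormalized (hS : IsPGroup p S) (hF : F.IsSaturated p)
    {P : Subgroup Ω} (hP : F.IsFullyNormalized P) :
    F.IsFullyAutomized p P ∧ F.IsReceptive P := by
  obtain ⟨Q, hPQ, h₁, h₂⟩ := hF P hP.1
  obtain ⟨e, h, he, ψ, hψ, hψe, hψN⟩ := exists_hom_normalizerIn hS hPQ h₁ h₂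
  have : Finite (normalizerIn S Q) := finite_of_le (normalizerIn_le Q)
  have hr : ψ.range = normalizerIn S Q := by
    refine Subgroup.eq_of_le_of_card_ge ?_ ?_
    · rintro _ ⟨g, rfl⟩
      exact hψN g
    · rw [← Nat.card_congr (MonoidHom.ofInjective (F.injective_of_mem hψ)).toEquiv]
      exact hP.2 Q hPQ
  exact ⟨isFullyAutomized_of_extension hS he h₁ h hψe hr.ge,
    isReceptive_of_extension he h₂ h hψ hψe ((centralizerIn_le_normalizerIn Q).trans hr.ge)⟩

/-- In a saturated system fully normalized subgroups are fully centralized. -/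
theorem fullyCentralized_of_fullyNormalized (hS : IsPGroup p S) (hF : F.IsSaturated p)
    {P : Subgroup Ω} (hP : F.IsFullyNormalized P) : F.IsFullyCentralized P :=
  isFullyCentralized_of_isReceptive (fullyAutomized_receptive_of_fullyNormalized hS hF hP).2

/-- In a saturated system fully centralized subgroups are receptive. -/
theorem receptive_of_fullyCentralized (hS : IsPGroup p S) (hF : F.IsSaturated p)
    {P : Subgroup Ω} (hP : F.IsFullyCentralized P) : F.IsReceptive P := by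
  obtain ⟨Q, hPQ, h₁, h₂⟩ := hF P hP.1
  obtain ⟨e, h, he, ψ, hψ, hψe, hψN⟩ := exists_hom_normalizerIn hS hPQ h₁ h₂
  refine isReceptive_of_extension he h₂ h hψ hψe ?_
  let C' := img ψ (centralizerIn S P)
  have hC' : C' ≤ centralizerIn S Q := by
    intro y hy
    obtain ⟨c, hc, rfl⟩ := mem_img.1 hy
    exact apply_mem_centralizerIn hψ h hψe hc
  have : Finite (centralizerIn S Q) := finite_of_le (centralizerIn_le Q)
  have heq : C' = centralizerIn S Q := by
    refine Subgroup.eq_of_le_of_card_ge hC' ?_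
    rw [card_img (F.injective_of_mem hψ) (centralizerIn_le_normalizerIn P)]
    exact hP.2 Q hPQ
  exact heq.symm.le.trans (img_le_range _ _)

/-- A form of saturation suited for use: extension to the normalizer. -/
theorem exists_hom_normalizerIn_of_fullyNormalized (hS : IsPGroup p S) (hF : F.IsSaturated p)
    {P Q : Subgroup Ω} (hP : F.IsFullyNormalized P) (hQ : F.IsConj Q P) :
    ∃ (e : Q ≃* P) (h : Q ≤ normalizerIn S Q), IsIso F e ∧ ∃ ψ ∈ F.Hom (normalizerIn S Q),
      (∀ x : Q, ψ (Subgroup.inclusion h x) = e x) ∧ (∀ g, ψ g ∈ normalizerIn S P) :=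
  exists_hom_normalizerIn hS hQ (fullyAutomized_receptive_of_fullyNormalized hS hF hP).1
    (fullyAutomized_receptive_of_fullyNormalized hS hF hP).2

end Saturated

end CfsgLib.Fusion
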