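import Mathlib

/-!
# Finite sets with a group action: fixed points, marks, congruences
-/

set_option autoImplicit false

namespace CfsgLib.Fusion

universe v w

open MulAction

variable {G : Type*} [Group G]

/-- The number of fixed points of a subgroup. -/
noncomputable def fixCard (X : Type*) [MulAction G X] (H : Subgroup G) : ℕ :=
  Nat.card {x : X // H ≤ stabilizer G x}

theorem fixCard_congr {X Y : Type*} [MulAction G X] [MulAction G Y] (e : X ≃ Y)
    (he : ∀ (g : G) x, e (g • x) = g • e x) (H : Subgroup G) : fixCard X H = fixCard Y H := by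
  refine Nat.card_congr (e.subtypeEquiv fun x => forall_congr' fun g => imp_congr_right fun _ => ?_)
  rw [mem_stabilizer_iff, mem_stabilizer_iff, ← he, e.injective.eq_iff]

theorem fixCard_eq_zero {X : Type*} [MulAction G X] {H : Subgroup G}
    (h : ∀ x : X, ¬ H ≤ stabilizer G x) : fixCard X H = 0 := by
  have : IsEmpty {x : X // H ≤ stabilizer G x} := ⟨fun x => h x.1 x.2⟩
  exact Nat.card_of_isEmpty

theorem fixCard_pos {X : Type*} [MulAction G X] [Finite X] {H : Subgroup G} (x : X)
    (h : H ≤ stabilizer G x) : 0 < fixCard X H := by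
  have : Nonempty {x : X // H ≤ stabilizer G x} := ⟨⟨x, h⟩⟩
  exact Nat.card_pos

theorem fixCard_sigma {ι : Type*} [Fintype ι] (X : ι → Type*) [∀ i, MulAction G (X i)]
    [∀ i, Finite (X i)] (H : Subgroup G) :
    fixCard (Σ i, X i) H = ∑ i, fixCard (X i) H := by
  unfold fixCard
  rw [← Nat.card_sigma]
  refine Nat.card_congr
    { toFun := fun x => ⟨x.1.1, x.1.2, fun g hg => ?_⟩
      invFun := fun x => ⟨⟨x.1, x.2.1⟩, fun g hg => ?_⟩
      left_inv := fun x => rfl
      right_inv := fun x => rfl }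
  · have h := x.2 hg
    rw [mem_stabilizer_iff] at h ⊢
    obtain ⟨⟨i, y⟩, hy⟩ := x
    change (⟨i, g • y⟩ : Σ i, X i) = ⟨i, y⟩ at h
    exact eq_of_heq (Sigma.mk.inj_iff.1 h).2
  · rw [mem_stabilizer_iff, Sigma.smul_mk, mem_stabilizer_iff.1 (x.2.2 hg)]

theorem le_stabilizer_quotient_iff {K H : Subgroup G} {d : G} :
    K ≤ stabilizer G (d : G ⧸ H) ↔ ∀ k ∈ K, d⁻¹ * k * d ∈ H := by
  refine forall_congr' fun k => imp_congr_right fun _ => ?_
  rw [mem_stabilizer_iff, Quotient.smul_coe, QuotientGroup.eq, smul_eq_mul]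
  have : (k * d)⁻¹ * d = (d⁻¹ * k * d)⁻¹ := by group
  rw [this, inv_mem_iff]

theorem exists_conj_le_of_fixCard_ne_zero {K H : Subgroup G} (h : fixCard (G ⧸ H) K ≠ 0) :
    ∃ d : G, ∀ k ∈ K, d⁻¹ * k * d ∈ H := by
  by_contra hne
  refine h (fixCard_eq_zero fun x hx => hne ?_)
  induction x using QuotientGroup.induction_on with
  | H d => exact ⟨d, le_stabilizer_quotient_iff.1 hx⟩

theorem fixCard_quotient_self [Finite G] (H : Subgroup G) :
    fixCard (G ⧸ H) H = H.relIndex (Subgroup.normalizer (H : Set G)) := by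
  let N := Subgroup.normalizer (H : Set G)
  have hiff : ∀ d : G, H ≤ stabilizer G (d : G ⧸ H) ↔ d ∈ N := by
    intro d
    rw [le_stabilizer_quotient_iff]
    constructor
    · intro h
      have hd : d⁻¹ ∈ N := by
        rw [Subgroup.mem_normalizer_iff_map_conj_eq]
        refine Subgroup.eq_of_le_of_card_ge ?_
          (Subgroup.card_map_of_injective (MulAut.conj d⁻¹).injective).ge
        rintro _ ⟨k, hk, rfl⟩
        simpa using h k hk
      simpa using N.inv_mem hd
    · exact fun hd k hk => (Subgroup.mem_normalizer_iff''.1 hd k).1 hk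
  unfold fixCard
  rw [Subgroup.relIndex, Subgroup.index]
  refine (Nat.card_congr (Equiv.ofBijective
    (fun q : N ⧸ H.subgroupOf N => Quotient.liftOn' q
      (fun d => (⟨((d : G) : G ⧸ H), (hiff _).2 d.2⟩ : {x : G ⧸ H // H ≤ stabilizer G x}))
      (fun a b hab => Subtype.ext (QuotientGroup.eq.2
        (show (a : G)⁻¹ * b ∈ H from Subgroup.mem_subgroupOf.1
          ((QuotientGroup.leftRel_apply (s := H.subgroupOf N) (x := a) (y := b)).1 hab)))))
    ⟨?_, ?_⟩)).symm
  · intro a b
    induction a using QuotientGroup.induction_on with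
    | H a => induction b using QuotientGroup.induction_on with
      | H b =>
        intro hab
        exact QuotientGroup.eq.2 (Subgroup.mem_subgroupOf.2 (show (a : G)⁻¹ * b ∈ H from
          QuotientGroup.eq.1 (show ((a : G) : G ⧸ H) = (b : G) from congrArg Subtype.val hab)))
  · rintro ⟨x, hx⟩
    induction x using QuotientGroup.induction_on with
    | H d => exact ⟨((⟨d, (hiff d).1 hx⟩ : N) : N ⧸ H.subgroupOf N), rfl⟩

theorem fixCard_conj {X : Type*} [MulAction G X] (d : G) (K : Subgroup G) :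
    fixCard X (K.map (MulAut.conj d).toMonoidHom) = fixCard X K := by
  refine Nat.card_congr ((MulAction.toPerm d⁻¹).subtypeEquiv fun x => ?_)
  rw [Subgroup.map_le_iff_le_comap]
  refine forall_congr' fun k => imp_congr_right fun _ => ?_
  rw [Subgroup.mem_comap, mem_stabilizer_iff, mem_stabilizer_iff, toPerm_apply, smul_smul]
  change (d * k * d⁻¹) • x = x ↔ _
  rw [mul_assoc, mul_smul, smul_eq_iff_eq_inv_smul]

/-- Burnside counting on the fixed points of a normalized subgroup. -/
theorem dvd_sum_fixCard [Finite G] (X : Type*) [MulAction G X] [Finite X] {K M : Subgroup G}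
    (hM : M ≤ Subgroup.normalizer (K : Set G)) [Fintype M] :
    Nat.card M ∣ ∑ g : M, fixCard X (K ⊔ Subgroup.zpowers (g : G)) := by
  classical
  let Y := {x : X // K ≤ stabilizer G x}
  have hmem : ∀ (g : M) (y : Y), K ≤ stabilizer G ((g : G) • y.1) := by
    intro g y k hk
    rw [mem_stabilizer_iff]
    have h1 := mem_stabilizer_iff.1
      (y.2 ((Subgroup.mem_normalizer_iff''.1 (hM g.2) k).1 hk))
    calc k • (g : G) • y.1 = (g : G) • ((g : G)⁻¹ * k * g) • y.1 := by
          rw [smul_smul, smul_smul, ← mul_assoc, mul_inv_cancel_left]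
      _ = (g : G) • y.1 := by rw [h1]
  let _ : MulAction M Y :=
    { smul := fun g y => ⟨(g : G) • y.1, hmem g y⟩
      one_smul := fun y => Subtype.ext (one_smul G y.1)
      mul_smul := fun a b y => Subtype.ext (mul_smul (a : G) (b : G) y.1) }
  have := Fintype.ofFinite Y
  have := Fintype.ofFinite (Quotient (orbitRel M Y))
  have hb := sum_card_fixedBy_eq_card_orbits_mul_card_group M Y
  refine ⟨Fintype.card (Quotient (orbitRel M Y)), ?_⟩
  rw [mul_comm (Nat.card M), Nat.card_eq_fintype_card, ← hb]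
  refine Finset.sum_congr rfl fun g _ => ?_
  rw [← Nat.card_eq_fintype_card]
  refine Nat.card_congr
    { toFun := fun x => ⟨⟨x.1, le_sup_left.trans x.2⟩,
        Subtype.ext (mem_stabilizer_iff.1 (x.2 (Subgroup.mem_sup_right (Subgroup.mem_zpowers _))))⟩
      invFun := fun y => ⟨y.1.1, sup_le y.1.2 (Subgroup.zpowers_le.2
        (mem_stabilizer_iff.2 (congrArg Subtype.val (mem_fixedBy.1 y.2))))⟩
      left_inv := fun x => rfl
      right_inv := fun y => rfl }

/-- A map commuting with the action exists as soon as every stabilizer fixes a point. -/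
theorem exists_equivariant (X Y : Type*) [MulAction G X] [MulAction G Y]
    (h : ∀ x : X, ∃ y : Y, stabilizer G x ≤ stabilizer G y) :
    ∃ f : X → Y, ∀ (g : G) x, f (g • x) = g • f x := by
  classical
  choose y hy using h
  let r : X → X := fun x => (Quotient.mk (orbitRel G X) x).out
  have hr : ∀ x, x ∈ orbit G (r x) := fun x => by
    have := Quotient.exact (Quotient.out_eq (Quotient.mk (orbitRel G X) x))
    exact mem_orbit_symm.1 this
  choose c hc using fun x => mem_orbit_iff.1 (hr x)
  refine ⟨fun x => c x • y (r x), fun g x => ?_⟩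
  have hrr : r (g • x) = r x :=
    congrArg Quotient.out (Quotient.sound ((mem_orbit_iff).2 ⟨g, rfl⟩ : g • x ∈ orbit G x))
  have h1 : ((g * c x)⁻¹ * c (g • x)) ∈ stabilizer G (r x) := by
    rw [mem_stabilizer_iff, mul_smul, inv_smul_eq_iff, mul_smul, hc, ← hrr, hc]
  have h2 := mem_stabilizer_iff.1 (hy _ h1)
  rw [mul_smul, inv_smul_eq_iff] at h2
  change c (g • x) • y (r (g • x)) = g • c x • y (r x)
  rw [hrr, h2, mul_smul]

theorem fixCard_orbit_add_compl {Z : Type*} [MulAction G Z] [Finite Z] (z₀ : Z)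
    (c : SubMulAction G Z) (hc : (c : Set Z) = (orbit G z₀)ᶜ) (K : Subgroup G) :
    fixCard Z K = fixCard (G := G) (orbit G z₀) K + fixCard (G := G) c K := by
  unfold fixCard
  rw [← Nat.card_sum]
  refine (Nat.card_congr (Equiv.ofBijective
    (fun t => Sum.elim
      (fun x : {x : orbit G z₀ // K ≤ stabilizer G x} => (⟨x.1.1, fun g hg =>
        mem_stabilizer_iff.2 (congrArg Subtype.val (mem_stabilizer_iff.1 (x.2 hg)))⟩ :
        {x : Z // K ≤ stabilizer G x}))
      (fun x : {x : c // K ≤ stabilizer G x} => (⟨x.1.1, fun g hg =>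
        mem_stabilizer_iff.2 (congrArg Subtype.val (mem_stabilizer_iff.1 (x.2 hg)))⟩ :
        {x : Z // K ≤ stabilizer G x})) t) ⟨?_, ?_⟩)).symm
  · rintro (a | a) (b | b) hab <;> have hab' := congrArg Subtype.val hab <;>
      simp only [Sum.elim_inl, Sum.elim_inr] at hab'
    · exact congrArg Sum.inl (Subtype.ext (Subtype.ext hab'))
    · exact absurd (hab' ▸ a.1.2) (by
        have := b.1.2
        rw [← SetLike.mem_coe, hc] at this
        exact this)
    · exact absurd (hab'.symm ▸ b.1.2) (by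
        have := a.1.2
        rw [← SetLike.mem_coe, hc] at this
        exact this)
    · exact congrArg Sum.inr (Subtype.ext (Subtype.ext hab'))
  · rintro ⟨z, hz⟩
    by_cases hzo : z ∈ orbit G z₀
    · exact ⟨Sum.inl ⟨⟨z, hzo⟩, fun g hg => mem_stabilizer_iff.2
        (Subtype.ext (mem_stabilizer_iff.1 (hz hg)))⟩, rfl⟩
    · exact ⟨Sum.inr ⟨⟨z, show z ∈ (c : Set Z) from hc ▸ hzo⟩, fun g hg => mem_stabilizer_iff.2
        (Subtype.ext (mem_stabilizer_iff.1 (hz hg)))⟩, rfl⟩

/-- A finite action is determined by its numbers of fixed points. -/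
theorem exists_equiv_of_fixCard_eq [Finite G] {X : Type v} {Y : Type w} [MulAction G X]
    [MulAction G Y] [Finite X] [Finite Y]
    (h : ∀ H : Subgroup G, fixCard X H = fixCard Y H) :
    ∃ e : X ≃ Y, ∀ (g : G) x, e (g • x) = g • e x := by
  suffices key : ∀ (n : ℕ) (X : Type v) (Y : Type w) [MulAction G X] [MulAction G Y] [Finite X]
      [Finite Y], Nat.card X ≤ n → (∀ H : Subgroup G, fixCard X H = fixCard Y H) →
      ∃ e : X ≃ Y, ∀ (g : G) x, e (g • x) = g • e x from key _ X Y le_rfl h
  intro n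
  induction n with
  | zero =>
    intro X Y _ _ _ _ hn h
    have hX : IsEmpty X := Finite.card_eq_zero_iff.1 (by omega)
    have hY : IsEmpty Y := ⟨fun y => (fixCard_pos (H := (⊥ : Subgroup G)) y bot_le).ne'
      ((h ⊥).symm.trans (fixCard_eq_zero fun x => isEmptyElim x))⟩
    exact ⟨Equiv.equivOfIsEmpty X Y, fun g x => isEmptyElim x⟩
  | succ n ih =>
    intro X Y _ _ _ _ hn h
    classical
    rcases isEmpty_or_nonempty X with hX | hX
    · have hY : IsEmpty Y := ⟨fun y => (fixCard_pos (H := (⊥ : Subgroup G)) y bot_le).ne'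
        ((h ⊥).symm.trans (fixCard_eq_zero fun x => isEmptyElim x))⟩
      exact ⟨Equiv.equivOfIsEmpty X Y, fun g x => isEmptyElim x⟩
    obtain ⟨x₀, -, hmax⟩ := Set.exists_max_image (Set.univ : Set X)
      (fun x => Nat.card (stabilizer G x)) Set.finite_univ Set.univ_nonempty
    set H := stabilizer G x₀
    have hYH : 0 < fixCard Y H := h H ▸ fixCard_pos x₀ le_rfl
    obtain ⟨⟨y₀, hy₀⟩⟩ := (Nat.card_pos_iff.1 hYH).1
    have hst : stabilizer G y₀ = H := by
      refine (Subgroup.eq_of_le_of_card_ge hy₀ ?_).symm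
      have h1 : 0 < fixCard X (stabilizer G y₀) := (h _).symm ▸ fixCard_pos y₀ le_rfl
      obtain ⟨⟨x₁, hx₁⟩⟩ := (Nat.card_pos_iff.1 h1).1
      exact (Subgroup.card_le_of_le hx₁).trans (hmax x₁ (Set.mem_univ _))
    let o : orbit G x₀ ≃ orbit G y₀ := ((orbitEquivQuotientStabilizer G x₀).trans
      (Subgroup.quotientEquivOfEq hst.symm)).trans (orbitEquivQuotientStabilizer G y₀).symm
    have ho0 : ∀ g : G, (o ⟨g • x₀, g, rfl⟩ : Y) = g • y₀ := by
      intro g
      have h1 : orbitEquivQuotientStabilizer G x₀ ⟨g • x₀, g, rfl⟩ = (g : G ⧸ stabilizer G x₀) := by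
        rw [← Equiv.eq_symm_apply]
        exact Subtype.ext (orbitEquivQuotientStabilizer_symm_apply G x₀ g).symm
      simp only [o, Equiv.trans_apply, h1]
      exact orbitEquivQuotientStabilizer_symm_apply G y₀ g
    have ho : ∀ (g : G) (x : orbit G x₀), o (g • x) = g • o x := by
      rintro g ⟨_, k, rfl⟩
      refine Subtype.ext ?_
      change (o ⟨g • k • x₀, _⟩ : Y) = g • (o ⟨k • x₀, _⟩ : Y)
      exact (congrArg (fun t => (o t : Y)) (Subtype.ext (mul_smul g k x₀).symm)).trans
        ((ho0 (g * k)).trans ((mul_smul g k y₀).trans (congrArg (g • ·) (ho0 k).symm)))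
    let cX : SubMulAction G X :=
      { carrier := (orbit G x₀)ᶜ
        smul_mem' := fun g x hx hgx => hx (by simpa using mem_orbit_of_mem_orbit g⁻¹ hgx) }
    let cY : SubMulAction G Y :=
      { carrier := (orbit G y₀)ᶜ
        smul_mem' := fun g x hx hgx => hx (by simpa using mem_orbit_of_mem_orbit g⁻¹ hgx) }
    have hc : ∀ K, fixCard (G := G) cX K = fixCard (G := G) cY K := by
      intro K
      have e1 := fixCard_orbit_add_compl x₀ cX rfl K
      have e2 := fixCard_orbit_add_compl y₀ cY rfl K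
      have e3 := fixCard_congr o ho K
      have e4 := h K
      omega
    have hlt : Nat.card cX < Nat.card X :=
      Finite.card_subtype_lt (p := fun x => x ∈ (orbit G x₀)ᶜ) (x := x₀)
        (fun hh => hh (mem_orbit_self x₀))
    obtain ⟨e', he'⟩ := ih cX cY (by omega) hc
    let e : X ≃ Y := ((Equiv.Set.sumCompl (orbit G x₀)).symm.trans
      (o.sumCongr e')).trans (Equiv.Set.sumCompl (orbit G y₀))
    refine ⟨e, fun g x => ?_⟩
    by_cases hx : x ∈ orbit G x₀
    · have hgx : g • x ∈ orbit G x₀ := mem_orbit_of_mem_orbit g hx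
      have e1 : e x = o ⟨x, hx⟩ := by
        simp [e, Equiv.Set.sumCompl_symm_apply_of_mem hx]; rfl
      have e2 : e (g • x) = o ⟨g • x, hgx⟩ := by
        simp [e, Equiv.Set.sumCompl_symm_apply_of_mem hgx]; rfl
      rw [e1, e2]
      exact congrArg Subtype.val (ho g ⟨x, hx⟩)
    · have hgx : g • x ∉ orbit G x₀ := cX.smul_mem g hx
      have e1 : e x = e' ⟨x, hx⟩ := by
        simp [e, Equiv.Set.sumCompl_symm_apply_of_notMem hx]; rfl
      have e2 : e (g • x) = e' ⟨g • x, hgx⟩ := by
        simp [e, Equiv.Set.sumCompl_symm_apply_of_notMem hgx]; rfl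
      rw [e1, e2]
      exact congrArg Subtype.val (he' g ⟨x, hx⟩)

/-- Two actions through homomorphisms with equal numbers of fixed points are isomorphic. -/
theorem exists_equiv_of_hom {D : Type*} [Group D] [Finite G] {X : Type*} [MulAction D X]
    [Finite X] (f₁ f₂ : G →* D)
    (h : ∀ L : Subgroup G, fixCard X (L.map f₁) = fixCard X (L.map f₂)) :
    ∃ e : X ≃ X, ∀ (g : G) x, e (f₁ g • x) = f₂ g • e x := by
  have key : ∀ (f : G →* D) (L : Subgroup G),
      @fixCard G _ X (MulAction.compHom X f) L = fixCard X (L.map f) := by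
    intro f L
    refine Nat.card_congr (Equiv.subtypeEquivRight fun x => ?_)
    rw [Subgroup.map_le_iff_le_comap]
    rfl
  exact @exists_equiv_of_fixCard_eq G _ _ X X (MulAction.compHom X f₁) (MulAction.compHom X f₂) _ _
    fun L => by rw [key, key, h]

end CfsgLib.Fusion
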