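import Mathlib
import Cfsg.Agent.Lib.Fusion.GSet
import Cfsg.Agent.Lib.Fusion.Extender
import Cfsg.Agent.Lib.Fusion.Alperin

/-!
# The characteristic biset of a saturated fusion system

A finite `S × S`-set with isotropy groups graphs of maps of the system, stable in the first factor,
with number of right orbits prime to `p`.
-/

set_option autoImplicit false

open Cfsg Cfsg.FusionSystem

namespace CfsgLib.Fusion

universe u

variable {Ω : Type u} [Group Ω] {S : Subgroup Ω} {F : FusionSystem S}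

/-! ### Graphs -/

/-- The graph of a map, inside `S × S`. -/
def graphSub {P : Subgroup Ω} (φ : P →* Ω) : Subgroup (S × S) where
  carrier := {ab | ∃ h : (ab.1 : Ω) ∈ P, φ ⟨ab.1, h⟩ = ab.2}
  one_mem' := ⟨P.one_mem, map_one φ⟩
  mul_mem' := by
    rintro a b ⟨ha, ha'⟩ ⟨hb, hb'⟩
    refine ⟨P.mul_mem ha hb, ?_⟩
    change φ (⟨a.1, ha⟩ * ⟨b.1, hb⟩) = _
    rw [map_mul, ha', hb']
    rfl
  inv_mem' := by
    rintro a ⟨ha, ha'⟩
    refine ⟨P.inv_mem ha, ?_⟩
    change φ (⟨a.1, ha⟩⁻¹) = _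
    rw [map_inv, ha']
    rfl

theorem mem_graphSub {P : Subgroup Ω} {φ : P →* Ω} {ab : S × S} :
    ab ∈ graphSub φ ↔ ∃ h : (ab.1 : Ω) ∈ P, φ ⟨ab.1, h⟩ = ab.2 := Iff.rfl

variable (F) in
/-- `K` is the graph of a map of the system. -/
def InF (K : Subgroup (S × S)) : Prop := ∃ (P : Subgroup Ω) (φ : P →* Ω), φ ∈ F.Hom P ∧ K = graphSub φ

/-- First projection of a subgroup of `S × S`, in `Ω`. -/
def pr1 (K : Subgroup (S × S)) : Subgroup Ω := K.map (S.subtype.comp (MonoidHom.fst S S))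

theorem pr1_graphSub {P : Subgroup Ω} {φ : P →* Ω} (hφ : φ ∈ F.Hom P) :
    pr1 (graphSub φ : Subgroup (S × S)) = P := by
  ext x
  constructor
  · rintro ⟨ab, ⟨h, -⟩, rfl⟩
    exact h
  · intro hx
    exact ⟨(⟨x, le_S F hφ hx⟩, ⟨φ ⟨x, hx⟩, apply_mem_S F hφ _⟩), ⟨hx, rfl⟩, rfl⟩

theorem card_graphSub {P : Subgroup Ω} {φ : P →* Ω} (hφ : φ ∈ F.Hom P) :
    Nat.card (graphSub φ : Subgroup (S × S)) = Nat.card P := by
  refine Nat.card_congr
    { toFun := fun ab => ⟨ab.1.1, ab.2.choose⟩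
      invFun := fun x => ⟨(⟨x, le_S F hφ x.2⟩, ⟨φ x, apply_mem_S F hφ _⟩), x.2, rfl⟩
      left_inv := fun ab => Subtype.ext (Prod.ext rfl (Subtype.ext ab.2.choose_spec))
      right_inv := fun x => rfl }

theorem card_eq_card_pr1 {K : Subgroup (S × S)} (hK : InF F K) :
    Nat.card K = Nat.card (pr1 K) := by
  obtain ⟨P, φ, hφ, rfl⟩ := hK
  rw [pr1_graphSub hφ, card_graphSub hφ]

theorem pr1_le_of_inF {K : Subgroup (S × S)} (hK : InF F K) : pr1 K ≤ S := by
  obtain ⟨P, φ, hφ, rfl⟩ := hK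
  exact (pr1_graphSub hφ).trans_le (le_S F hφ)

theorem inF_mono {K L : Subgroup (S × S)} (hL : InF F L) (h : K ≤ L) : InF F K := by
  obtain ⟨P, φ, hφ, rfl⟩ := hL
  have hP : pr1 K ≤ P := (Subgroup.map_mono h).trans (pr1_graphSub hφ).le
  refine ⟨pr1 K, _, res_mem F hφ hP, ?_⟩
  ext ⟨a, b⟩
  constructor
  · intro hab
    obtain ⟨h', h''⟩ := h hab
    exact ⟨⟨(a, b), hab, rfl⟩, h''⟩
  · rintro ⟨⟨⟨a', b'⟩, hab', haa⟩, hb⟩
    obtain rfl : a' = a := Subtype.ext haa
    obtain ⟨h', h''⟩ := h hab'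
    have : b' = b := Subtype.ext (h''.symm.trans hb)
    exact this ▸ hab'

/-! ### Transport along a pair of isomorphisms -/

variable (S) in
/-- The subgroup of `S × S` of pairs in `A × B`. -/
def box (A B : Subgroup Ω) : Subgroup (S × S) := (A.subgroupOf S).prod (B.subgroupOf S)

theorem mem_box {A B : Subgroup Ω} {ab : S × S} :
    ab ∈ box S A B ↔ (ab.1 : Ω) ∈ A ∧ (ab.2 : Ω) ∈ B := Iff.rfl

/-- The map induced by a pair of isomorphisms. -/
def pairHom {A A' B B' : Subgroup Ω} (e : A ≃* A') (e' : B ≃* B') (hA : A' ≤ S) (hB : B' ≤ S) :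
    box S A B →* S × S where
  toFun ab := (Subgroup.inclusion hA (e ⟨ab.1.1, (mem_box.1 ab.2).1⟩),
    Subgroup.inclusion hB (e' ⟨ab.1.2, (mem_box.1 ab.2).2⟩))
  map_one' := Prod.ext (Subtype.ext (congrArg Subtype.val (map_one e) :))
    (Subtype.ext (congrArg Subtype.val (map_one e') :))
  map_mul' a b := Prod.ext
    (Subtype.ext (congrArg Subtype.val
      (map_mul e ⟨a.1.1, (mem_box.1 a.2).1⟩ ⟨b.1.1, (mem_box.1 b.2).1⟩) :))
    (Subtype.ext (congrArg Subtype.val
      (map_mul e' ⟨a.1.2, (mem_box.1 a.2).2⟩ ⟨b.1.2, (mem_box.1 b.2).2⟩) :))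

theorem pairHom_apply {A A' B B' : Subgroup Ω} {e : A ≃* A'} {e' : B ≃* B'} {hA : A' ≤ S}
    {hB : B' ≤ S} (ab : box S A B) :
    ((pairHom e e' hA hB ab).1 : Ω) = e ⟨ab.1.1, (mem_box.1 ab.2).1⟩ ∧
    ((pairHom e e' hA hB ab).2 : Ω) = e' ⟨ab.1.2, (mem_box.1 ab.2).2⟩ := ⟨by rfl, by rfl⟩

theorem pairHom_injective {A A' B B' : Subgroup Ω} (e : A ≃* A') (e' : B ≃* B') (hA : A' ≤ S)
    (hB : B' ≤ S) : Function.Injective (pairHom e e' hA hB) := by
  intro a b hab
  have h1 : (e ⟨a.1.1, (mem_box.1 a.2).1⟩ : Ω) = e ⟨b.1.1, (mem_box.1 b.2).1⟩ :=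
    by rw [← (pairHom_apply (hA := hA) (hB := hB) a).1, ← (pairHom_apply (hA := hA) (hB := hB) b).1, hab]
  have h2 : (e' ⟨a.1.2, (mem_box.1 a.2).2⟩ : Ω) = e' ⟨b.1.2, (mem_box.1 b.2).2⟩ :=
    by rw [← (pairHom_apply (hA := hA) (hB := hB) a).2, ← (pairHom_apply (hA := hA) (hB := hB) b).2, hab]
  refine Subtype.ext (Prod.ext ?_ ?_) <;> refine Subtype.ext ?_
  · exact (congrArg Subtype.val (e.injective (Subtype.ext h1)) :)
  · exact (congrArg Subtype.val (e'.injective (Subtype.ext h2)) :)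

/-- The transport of `K` along `(e, e')`. -/
def transp {A A' B B' : Subgroup Ω} (e : A ≃* A') (e' : B ≃* B') (hA : A' ≤ S) (hB : B' ≤ S)
    (K : Subgroup (S × S)) : Subgroup (S × S) := (K.subgroupOf (box S A B)).map (pairHom e e' hA hB)

theorem card_transp {A A' B B' : Subgroup Ω} (e : A ≃* A') (e' : B ≃* B') (hA : A' ≤ S)
    (hB : B' ≤ S) {K : Subgroup (S × S)} (hK : K ≤ box S A B) :
    Nat.card (transp e e' hA hB K) = Nat.card K := by
  rw [transp, Subgroup.card_map_of_injective (pairHom_injective e e' hA hB)]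
  exact Nat.card_congr (Subgroup.subgroupOfEquivOfLe hK).toEquiv

theorem transp_le_box {A A' B B' : Subgroup Ω} (e : A ≃* A') (e' : B ≃* B') (hA : A' ≤ S)
    (hB : B' ≤ S) (K : Subgroup (S × S)) : transp e e' hA hB K ≤ box S A' B' := by
  rintro _ ⟨ab, -, rfl⟩
  rw [mem_box, (pairHom_apply ab).1, (pairHom_apply ab).2]
  exact ⟨(e _).2, (e' _).2⟩

theorem transp_symm {A A' B B' : Subgroup Ω} (e : A ≃* A') (e' : B ≃* B') (hA : A' ≤ S)
    (hB : B' ≤ S) (hA₀ : A ≤ S) (hB₀ : B ≤ S) {K : Subgroup (S × S)} (hK : K ≤ box S A B) :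
    transp e.symm e'.symm hA₀ hB₀ (transp e e' hA hB K) = K := by
  ext ⟨a, b⟩
  constructor
  · rintro ⟨ab', ⟨ab, hab, he⟩, h⟩
    rw [← h]
    have h1 : ab'.1 = pairHom e e' hA hB ab := he.symm
    suffices pairHom e.symm e'.symm hA₀ hB₀ ab' = (ab : S × S) by rw [this]; exact hab
    refine Prod.ext (Subtype.ext ?_) (Subtype.ext ?_)
    · rw [(pairHom_apply ab').1]
      have : (⟨ab'.1.1, (mem_box.1 ab'.2).1⟩ : A') = e ⟨ab.1.1, (mem_box.1 ab.2).1⟩ :=
        Subtype.ext ((congrArg (fun t : S × S => (t.1 : Ω)) h1).trans (pairHom_apply _).1)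
      rw [this, MulEquiv.symm_apply_apply]
    · rw [(pairHom_apply ab').2]
      have : (⟨ab'.1.2, (mem_box.1 ab'.2).2⟩ : B') = e' ⟨ab.1.2, (mem_box.1 ab.2).2⟩ :=
        Subtype.ext ((congrArg (fun t : S × S => (t.2 : Ω)) h1).trans (pairHom_apply _).2)
      rw [this, MulEquiv.symm_apply_apply]
  · intro hab
    refine ⟨⟨pairHom e e' hA hB ⟨(a, b), hK hab⟩, transp_le_box e e' hA hB K ⟨_, hab, rfl⟩⟩,
      ⟨_, hab, rfl⟩, ?_⟩
    refine Prod.ext (Subtype.ext ?_) (Subtype.ext ?_)
    · rw [(pairHom_apply _).1]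
      exact (congrArg Subtype.val (e.symm_apply_apply ⟨(a : Ω), (mem_box.1 (hK hab)).1⟩) :)
    · rw [(pairHom_apply _).2]
      exact (congrArg Subtype.val (e'.symm_apply_apply ⟨(b : Ω), (mem_box.1 (hK hab)).2⟩) :)

theorem inF_transp {A A' B B' : Subgroup Ω} {e : A ≃* A'} {e' : B ≃* B'} (he : IsIso F e)
    (he' : IsIso F e') (hA : A' ≤ S) (hB : B' ≤ S) {K : Subgroup (S × S)} (hK : K ≤ box S A B)
    (hKF : InF F K) :
    InF F (transp e e' hA hB K) ∧ F.IsConj (pr1 K) (pr1 (transp e e' hA hB K)) := by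
  obtain ⟨P, φ, hφ, rfl⟩ := hKF
  have hPA : P ≤ A := fun x hx =>
    (hK (show (⟨x, le_S F hφ hx⟩, ⟨φ ⟨x, hx⟩, apply_mem_S F hφ _⟩) ∈ graphSub φ from ⟨hx, rfl⟩)).1
  have hφB : ∀ x : P, φ x ∈ B := fun x =>
    (hK (show (⟨x, le_S F hφ x.2⟩, ⟨φ x, apply_mem_S F hφ _⟩) ∈ graphSub φ from ⟨x.2, rfl⟩)).2
  obtain ⟨f, hf, hfe⟩ := he.exists_res hPA
  have h1 := F.comp_mem hf.symm.mem hφ (fun y => (f.symm y).2)
  have h2 := F.comp_mem h1 he'.mem (fun y => hφB _)
  have key : transp e e' hA hB (graphSub φ) = graphSub ((B'.subtype.comp e'.toMonoidHom).comp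
      ((φ.comp ((P.subtype.comp f.symm.toMonoidHom).codRestrict P fun y => (f.symm y).2)).codRestrict
        B fun y => hφB _)) := by
    ext ⟨a, b⟩
    constructor
    · rintro ⟨ab, hab, hh⟩
      obtain ⟨hx, hb⟩ := Subgroup.mem_subgroupOf.1 hab
      rw [← hh]
      have ha : ((pairHom e e' hA hB ab).1 : Ω) = f ⟨_, hx⟩ := by
        rw [(pairHom_apply ab).1, hfe]
        rfl
      refine ⟨?_, ?_⟩
      · rw [ha]; exact (f _).2
      · rw [(pairHom_apply ab).2]
        simp only [MonoidHom.coe_comp, Function.comp_apply, MulEquiv.coe_toMonoidHom,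
          Subgroup.coe_subtype]
        refine congrArg (fun t => (e' t : Ω)) (Subtype.ext ?_)
        have h3 : f.symm ⟨(pairHom e e' hA hB ab).1, ha ▸ (f _).2⟩ = ⟨_, hx⟩ := by
          rw [MulEquiv.symm_apply_eq]
          exact Subtype.ext ha
        change φ (f.symm _) = _
        rw [h3, hb]
    · rintro ⟨ha, hb⟩
      set x := f.symm ⟨(a : Ω), ha⟩
      refine ⟨⟨(⟨x, le_S F hφ x.2⟩, ⟨φ x, apply_mem_S F hφ _⟩), hPA x.2, hφB x⟩,
        ⟨x.2, rfl⟩, Prod.ext (Subtype.ext ?_) (Subtype.ext ?_)⟩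
      · rw [(pairHom_apply _).1]
        exact (hfe x).symm.trans (congrArg Subtype.val (f.apply_symm_apply ⟨(a : Ω), ha⟩))
      · rw [(pairHom_apply _).2]
        exact hb
  refine ⟨⟨_, _, h2, key⟩, ?_⟩
  rw [key, pr1_graphSub h2, pr1_graphSub hφ]
  exact isConj_iff.2 ⟨f, hf⟩

theorem inF_transp_iff {A A' B B' : Subgroup Ω} {e : A ≃* A'} {e' : B ≃* B'} (he : IsIso F e)
    (he' : IsIso F e') (hA : A' ≤ S) (hB : B' ≤ S) {K : Subgroup (S × S)} (hK : K ≤ box S A B) :
    InF F (transp e e' hA hB K) ↔ InF F K := by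
  refine ⟨fun h => ?_, fun h => (inF_transp he he' hA hB hK h).1⟩
  have := (inF_transp he.symm he'.symm he.le_left he'.le_left (transp_le_box e e' hA hB K) h).1
  rwa [transp_symm e e' hA hB he.le_left he'.le_left hK] at this

theorem inF_conj {K : Subgroup (S × S)} (hK : InF F K) (d : S × S) :
    InF F (K.map (MulAut.conj d).toMonoidHom) ∧
      F.IsConj (pr1 K) (pr1 (K.map (MulAut.conj d).toMonoidHom)) := by
  have he : ∀ s : S, ∃ e : S ≃* S, IsIso F e ∧ ∀ x, (e x : Ω) = (s : Ω) * x * (s : Ω)⁻¹ := fun s =>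
    ⟨MulAut.conj s, isIso_of_mem (F.conj_mem le_rfl s.2) fun x => rfl, fun x => rfl⟩
  obtain ⟨e, hei, hee⟩ := he d.1
  obtain ⟨e', hei', hee'⟩ := he d.2
  have hbox : K ≤ box S S S := fun x _ => ⟨x.1.2, x.2.2⟩
  have key : K.map (MulAut.conj d).toMonoidHom = transp e e' le_rfl le_rfl K := by
    ext ab
    constructor
    · rintro ⟨x, hx, rfl⟩
      refine ⟨⟨x, hbox hx⟩, hx, Prod.ext (Subtype.ext ?_) (Subtype.ext ?_)⟩
      · rw [(pairHom_apply _).1, hee]; rfl
      · rw [(pairHom_apply _).2, hee']; rfl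
    · rintro ⟨x, hx, rfl⟩
      refine ⟨x.1, hx, Prod.ext (Subtype.ext ?_) (Subtype.ext ?_)⟩
      · rw [(pairHom_apply _).1, hee]; rfl
      · rw [(pairHom_apply _).2, hee']; rfl
  rw [key]
  exact inF_transp hei hei' le_rfl le_rfl hbox hK

/-! ### Numbers of fixed points -/

section Stab

variable [Finite S]

/-- The number of fixed points of `K` on the cosets of `H`. -/
noncomputable def mark (H K : Subgroup (S × S)) : ℕ := fixCard ((S × S) ⧸ H) K

open scoped Classical in
/-- The number of fixed points of `K` on the formal sum `n` of coset spaces. -/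
noncomputable def markSum (n : Subgroup (S × S) → ℕ) (K : Subgroup (S × S)) : ℕ :=
  letI := Fintype.ofFinite (Subgroup (S × S))
  ∑ H, n H * mark H K

theorem markSum_eq [Fintype (Subgroup (S × S))] (n : Subgroup (S × S) → ℕ)
    (K : Subgroup (S × S)) : markSum n K = ∑ H, n H * mark H K := by
  unfold markSum
  congr 1
  · ext; simp

theorem markSum_add (n m : Subgroup (S × S) → ℕ) (K : Subgroup (S × S)) :
    markSum (fun H => n H + m H) K = markSum n K + markSum m K := by
  have := Fintype.ofFinite (Subgroup (S × S))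
  simp only [markSum_eq, add_mul, Finset.sum_add_distrib]

theorem exists_of_mark_ne_zero {H K : Subgroup (S × S)} (h : mark H K ≠ 0) :
    ∃ d : S × S, K ≤ H.map (MulAut.conj d).toMonoidHom := by
  obtain ⟨d, hd⟩ := exists_conj_le_of_fixCard_ne_zero h
  exact ⟨d, fun k hk => ⟨d⁻¹ * k * d, hd k hk, by simp [mul_assoc]⟩⟩

variable (F) in
/-- The formal sums supported on graphs. -/
def Supp (n : Subgroup (S × S) → ℕ) : Prop := ∀ H, n H ≠ 0 → InF F H

theorem markSum_eq_zero {n : Subgroup (S × S) → ℕ} (hn : Supp F n) {K : Subgroup (S × S)}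
    (hK : ¬ InF F K) : markSum n K = 0 := by
  have := Fintype.ofFinite (Subgroup (S × S))
  rw [markSum_eq]
  refine Finset.sum_eq_zero fun H _ => ?_
  by_contra hne
  obtain ⟨h1, h2⟩ := mul_ne_zero_iff.1 hne
  obtain ⟨d, hd⟩ := exists_of_mark_ne_zero h2
  exact hK (inF_mono (inF_conj (hn H h1) d).1 hd)

theorem markSum_conj (n : Subgroup (S × S) → ℕ) (d : S × S) (K : Subgroup (S × S)) :
    markSum n (K.map (MulAut.conj d).toMonoidHom) = markSum n K := by
  have := Fintype.ofFinite (Subgroup (S × S))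
  rw [markSum_eq, markSum_eq]
  exact Finset.sum_congr rfl fun H _ => by rw [mark, mark, fixCard_conj]

theorem dvd_sum_markSum (n : Subgroup (S × S) → ℕ) {K M : Subgroup (S × S)}
    (hM : M ≤ Subgroup.normalizer (K : Set (S × S))) [Fintype M] :
    Nat.card M ∣ ∑ g : M, markSum n (K ⊔ Subgroup.zpowers (g : S × S)) := by
  have := Fintype.ofFinite (Subgroup (S × S))
  simp only [markSum_eq]
  rw [Finset.sum_comm]
  refine Finset.dvd_sum fun H _ => ?_
  rw [← Finset.mul_sum]
  exact (dvd_sum_fixCard _ hM).mul_left _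

variable (F) in
/-- Stability on the graphs of order at least `k`. -/
def Stable (n : Subgroup (S × S) → ℕ) (k : ℕ) : Prop :=
  ∀ K L, InF F K → InF F L → k ≤ Nat.card K → F.IsConj (pr1 K) (pr1 L) →
    markSum n K = markSum n L

/-- The number `|N(K)/K|`. -/
noncomputable def wt (K : Subgroup (S × S)) : ℕ :=
  K.relIndex (Subgroup.normalizer (K : Set (S × S)))

theorem wt_pos (K : Subgroup (S × S)) : 0 < wt K :=
  Nat.pos_of_ne_zero Subgroup.index_ne_zero_of_finite

theorem card_mul_wt (K : Subgroup (S × S)) :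
    Nat.card K * wt K = Nat.card (Subgroup.normalizer (K : Set (S × S))) := by
  rw [wt, ← Subgroup.relIndex_bot_left K, Subgroup.relIndex_mul_relIndex ⊥ K _ bot_le
    Subgroup.le_normalizer, Subgroup.relIndex_bot_left]

variable {p : ℕ} [Fact p.Prime]

/-- The comparison of a graph with the diagonal of a fully normalized conjugate subgroup. -/
theorem markSum_modEq (hS : IsPGroup p S) (hF : F.IsSaturated p) {n : Subgroup (S × S) → ℕ}
    (hn : Supp F n) {k : ℕ} (hst : Stable F n (k + 1)) {K : Subgroup (S × S)} (hK : InF F K)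
    (hk : k ≤ Nat.card K) {P₀ : Subgroup Ω} (hP₀ : F.IsFullyNormalized P₀)
    (hc : F.IsConj (pr1 K) P₀) :
    markSum n K ≡ markSum n (graphSub P₀.subtype) [MOD wt K] ∧
      wt K ∣ wt (graphSub P₀.subtype : Subgroup (S × S)) := by
  classical
  obtain ⟨P, φ, hφ, rfl⟩ := hK
  rw [pr1_graphSub hφ] at hc
  set K := (graphSub φ : Subgroup (S × S)) with hKdef
  set K₀ := (graphSub P₀.subtype : Subgroup (S × S)) with hK₀def
  obtain ⟨eφ, heφ, heφe⟩ := exists_iso_of_mem hφ
  obtain ⟨e', h', he', ψ, hψ, hψe, -⟩ := exists_hom_normalizerIn_of_fullyNormalized hS hF hP₀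
    (isConj_trans (isConj_symm ⟨φ, hφ, rfl⟩) hc)
  have heP : IsIso F (eφ.trans e') := heφ.trans he'
  set N := Subgroup.normalizer (K : Set (S × S)) with hNdef
  set A := N.map (S.subtype.comp (MonoidHom.fst S S)) with hAdef
  have hPA : P ≤ A := by
    intro x hx
    exact ⟨(⟨x, le_S F hφ hx⟩, ⟨φ ⟨x, hx⟩, apply_mem_S F hφ _⟩),
      Subgroup.le_normalizer (show _ ∈ K from ⟨hx, rfl⟩), rfl⟩
  have hPfin := finite_of_le (le_S F hφ)
  have hQfin := finite_of_le (range_le_S F hφ)
  have hnorm : ∀ ab : S × S, ab ∈ N →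
      ∃ ha : (ab.1 : Ω) ∈ Subgroup.normalizer (P : Set Ω), (ab.2 : Ω) ∈ normalizerIn S φ.range ∧
        ∀ x : P, φ (normAut (ab.1 : Ω) ha x) = (ab.2 : Ω) * φ x * (ab.2 : Ω)⁻¹ := by
    intro ab hab
    have h1 : ∀ x : P, ∃ h : (ab.1 : Ω) * x * (ab.1 : Ω)⁻¹ ∈ P,
        φ ⟨_, h⟩ = (ab.2 : Ω) * φ x * (ab.2 : Ω)⁻¹ := by
      intro x
      exact (Subgroup.mem_normalizer_iff.1 hab
        (⟨x, le_S F hφ x.2⟩, ⟨φ x, apply_mem_S F hφ _⟩)).1 ⟨x.2, rfl⟩
    refine ⟨mem_normalizer_of_forall fun x hx => (h1 ⟨x, hx⟩).1,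
      ⟨ab.2.2, mem_normalizer_of_forall ?_⟩, fun x => (h1 x).2⟩
    rintro _ ⟨x, rfl⟩
    exact ⟨_, (h1 x).2⟩
  have hA : A ≤ extender S P (P₀.subtype.comp (eφ.trans e').toMonoidHom) := by
    rintro _ ⟨ab, hab, rfl⟩
    obtain ⟨ha, hb, hab'⟩ := hnorm ab hab
    refine mem_extender_iff.2 ⟨ab.1.2, ha, ψ ⟨ab.2, hb⟩, apply_mem_S F hψ _, fun x => ?_⟩
    change (e' (eφ (normAut (ab.1 : Ω) ha x)) : Ω) = ψ ⟨ab.2, hb⟩ * (e' (eφ x) : Ω) * (ψ ⟨ab.2, hb⟩)⁻¹
    rw [← hψe, ← hψe, ← map_inv, ← map_mul, ← map_mul]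
    refine congrArg ψ (Subtype.ext ?_)
    change (eφ (normAut (ab.1 : Ω) ha x) : Ω) = (ab.2 : Ω) * eφ x * (ab.2 : Ω)⁻¹
    rw [heφe, heφe, hab']
  obtain ⟨α, hα, hαe⟩ := exists_extension
    (fullyAutomized_receptive_of_fullyNormalized hS hF hP₀).2 heP hPA hA
  obtain ⟨eA, heA, heAe⟩ := exists_iso_of_mem hα
  obtain ⟨eB, heB, heBe⟩ := exists_iso_of_mem hψ
  set T := transp eA eB (range_le_S F hα) (range_le_S F hψ) with hTdef
  set σ := pairHom eA eB (range_le_S F hα) (range_le_S F hψ) with hσdef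
  have hNbox : N ≤ box S A (normalizerIn S φ.range) := fun ab hab =>
    ⟨⟨ab, hab, rfl⟩, (hnorm ab hab).2.1⟩
  have hKN : K ≤ N := Subgroup.le_normalizer
  have hTK : T K = K₀ := by
    ext ⟨a, b⟩
    constructor
    · rintro ⟨ab, hab, he⟩
      obtain ⟨hx, hb⟩ := Subgroup.mem_subgroupOf.1 hab
      rw [← he]
      have ha1 : ((pairHom eA eB (range_le_S F hα) (range_le_S F hψ) ab).1 : Ω) =
          e' (eφ ⟨_, hx⟩) := by
        rw [(pairHom_apply ab).1, heAe]
        exact hαe ⟨_, hx⟩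
      have hb1 : ((pairHom eA eB (range_le_S F hα) (range_le_S F hψ) ab).2 : Ω) =
          e' (eφ ⟨_, hx⟩) := by
        rw [(pairHom_apply ab).2, heBe, ← hψe]
        exact congrArg ψ (Subtype.ext ((heφe _).trans hb).symm)
      exact ⟨ha1 ▸ (e' _).2, ha1.trans hb1.symm⟩
    · rintro ⟨ha, hab⟩
      obtain ⟨x, hx⟩ := (eφ.trans e').surjective ⟨(a : Ω), ha⟩
      have hmem : (⟨x, le_S F hφ x.2⟩, ⟨φ x, apply_mem_S F hφ _⟩) ∈ K := ⟨x.2, rfl⟩
      refine ⟨⟨_, hNbox (hKN hmem)⟩, hmem, Prod.ext (Subtype.ext ?_) (Subtype.ext ?_)⟩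
      · rw [(pairHom_apply _).1, heAe]
        exact (hαe x).trans (congrArg Subtype.val hx)
      · rw [(pairHom_apply _).2, heBe]
        refine ((congrArg ψ (Subtype.ext (heφe x).symm)).trans (hψe (eφ x))).trans ?_
        exact (congrArg Subtype.val hx).trans hab
  have hTN : T N ≤ Subgroup.normalizer (K₀ : Set (S × S)) := by
    rintro _ ⟨g, hg, rfl⟩
    refine mem_normalizer_of_forall fun y hy => ?_
    rw [← hTK] at hy ⊢
    obtain ⟨k, hk, rfl⟩ := hy
    refine ⟨g * k * g⁻¹, ?_, by rw [map_mul, map_mul, map_inv]⟩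
    exact (Subgroup.mem_normalizer_iff.1 hg (k : S × S)).1 hk
  have hcardK : Nat.card K = Nat.card K₀ := by
    rw [← hTK, hTdef, card_transp _ _ _ _ (hKN.trans hNbox)]
  have hcardN : Nat.card (T N) = Nat.card N := card_transp _ _ _ _ hNbox
  have hK₀F : InF F K₀ := ⟨P₀, _, id_mem F hP₀.1, rfl⟩
  have hdvd : wt K ∣ wt K₀ := by
    refine Nat.dvd_of_mul_dvd_mul_left (Nat.card_pos (α := K)) ?_
    rw [card_mul_wt, hcardK, card_mul_wt, ← hNdef, ← hcardN]
    exact Subgroup.card_dvd_of_le hTN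
  refine ⟨?_, hdvd⟩
  have hterm : ∀ g : S × S, ∀ hg : g ∈ N, g ∉ K →
      markSum n (K ⊔ Subgroup.zpowers g) = markSum n (K₀ ⊔ Subgroup.zpowers (σ ⟨g, hNbox hg⟩)) := by
    intro g hg hgK
    have hLN : K ⊔ Subgroup.zpowers g ≤ box S A (normalizerIn S φ.range) :=
      sup_le (hKN.trans hNbox) (Subgroup.zpowers_le.2 (hNbox hg))
    have hTL : T (K ⊔ Subgroup.zpowers g) = K₀ ⊔ Subgroup.zpowers (σ ⟨g, hNbox hg⟩) := by
      rw [← hTK, hTdef, transp, transp, Subgroup.subgroupOf_sup (hKN.trans hNbox)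
        (Subgroup.zpowers_le.2 (hNbox hg)), Subgroup.map_sup, ← MonoidHom.map_zpowers, hσdef]
      congr 2
      ext ⟨y, hy⟩
      rw [Subgroup.mem_subgroupOf, Subgroup.mem_zpowers_iff, Subgroup.mem_zpowers_iff]
      exact exists_congr fun i => ⟨fun h => Subtype.ext (by simpa using h),
        fun h => by simpa using congrArg Subtype.val h⟩
    rw [← hTL]
    by_cases hL : InF F (K ⊔ Subgroup.zpowers g)
    · obtain ⟨h1, h2⟩ := inF_transp heA heB (range_le_S F hα) (range_le_S F hψ) hLN hL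
      refine hst _ _ hL h1 ?_ h2
      have : Nat.card K < Nat.card (K ⊔ Subgroup.zpowers g : Subgroup (S × S)) :=
        lt_of_not_ge fun h => hgK (by
          rw [Subgroup.eq_of_le_of_card_ge le_sup_left h]
          exact Subgroup.mem_sup_right (Subgroup.mem_zpowers g))
      omega
    · rw [markSum_eq_zero hn hL, markSum_eq_zero hn]
      exact fun h => hL ((inF_transp_iff heA heB _ _ hLN).1 h)
  have := Fintype.ofFinite N
  have := Fintype.ofFinite (T N)
  have d1 := dvd_sum_markSum n (K := K) (M := N) le_rfl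
  have d2 := dvd_sum_markSum n (K := K₀) (M := T N) hTN
  rw [hcardN] at d2
  let ι : N → T N := fun g => ⟨σ ⟨g, hNbox g.2⟩, ⟨_, g.2, rfl⟩⟩
  have hι : Function.Bijective ι := by
    constructor
    · intro a b hab
      have h := pairHom_injective eA eB _ _ (congrArg Subtype.val hab)
      exact Subtype.ext (congrArg (fun t : box S A (normalizerIn S φ.range) => (t : S × S)) h)
    · rintro ⟨_, g, hg, rfl⟩
      exact ⟨⟨g, hg⟩, rfl⟩
  rw [← Function.Bijective.sum_comp hι] at d2
  rw [← Finset.sum_filter_add_sum_filter_not Finset.univ (fun g : N => (g : S × S) ∈ K)] at d1 d2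
  have hsplit : ∀ g ∈ (Finset.univ.filter fun g : N => ¬ (g : S × S) ∈ K),
      markSum n (K₀ ⊔ Subgroup.zpowers (ι g : S × S)) = markSum n (K ⊔ Subgroup.zpowers (g : S × S)) :=
    fun g hg => (hterm g g.2 (Finset.mem_filter.1 hg).2).symm
  have hone : (Finset.univ.filter fun g : N => (g : S × S) ∈ K).card = Nat.card K := by
    rw [← Fintype.card_subtype, ← Nat.card_eq_fintype_card]
    exact Nat.card_congr
      { toFun := fun g => ⟨g.1.1, g.2⟩
        invFun := fun k => ⟨⟨k, hKN k.2⟩, k.2⟩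
        left_inv := fun g => rfl
        right_inv := fun k => rfl }
  rw [Finset.sum_congr rfl hsplit] at d2
  rw [Finset.sum_congr rfl (g := fun _ => markSum n K₀) (fun g hg => by
    have h1 : (ι g : S × S) ∈ K₀ := hTK ▸ ⟨⟨g, hNbox g.2⟩, (Finset.mem_filter.1 hg).2, rfl⟩
    rw [sup_eq_left.2 (Subgroup.zpowers_le.2 h1)]), Finset.sum_const, hone, smul_eq_mul] at d2
  rw [Finset.sum_congr rfl (g := fun _ => markSum n K) (fun g hg => by
    rw [sup_eq_left.2 (Subgroup.zpowers_le.2 (Finset.mem_filter.1 hg).2)]),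
    Finset.sum_const, hone, smul_eq_mul] at d1
  have h3 := (Nat.modEq_zero_iff_dvd.2 d1).trans (Nat.modEq_zero_iff_dvd.2 d2).symm
  rw [show Nat.card N = Nat.card K * wt K from (card_mul_wt K).symm] at h3
  exact Nat.ModEq.mul_left_cancel' (Nat.card_pos (α := K)).ne' (Nat.ModEq.add_right_cancel' _ h3)

/-- One step of the stabilization. -/
theorem stable_step (hS : IsPGroup p S) (hF : F.IsSaturated p) {n : Subgroup (S × S) → ℕ}
    (hn : Supp F n) {k : ℕ} (hst : Stable F n (k + 1)) :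
    ∃ δ : Subgroup (S × S) → ℕ, (∀ H, δ H ≠ 0 → InF F H ∧ Nat.card H = k) ∧
      Stable F (fun H => n H + δ H) k := by
  classical
  have := Fintype.ofFinite (Subgroup (S × S))
  -- class representatives in the system
  let P0 : Subgroup (S × S) → Subgroup Ω := fun K =>
    Classical.epsilon fun Q => Q ∈ {Q | F.IsConj (pr1 K) Q} ∧ F.IsFullyNormalized Q
  have hP0 : ∀ K, InF F K → F.IsConj (pr1 K) (P0 K) ∧ F.IsFullyNormalized (P0 K) := fun K hK =>
    Classical.epsilon_spec (p := fun Q => Q ∈ {Q | F.IsConj (pr1 K) Q} ∧ F.IsFullyNormalized Q)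
      (exists_fullyNormalized F (pr1_le_of_inF hK))
  have hP0c : ∀ K L, InF F K → InF F L → F.IsConj (pr1 K) (pr1 L) → P0 K = P0 L := by
    intro K L hK hL h
    have : {Q | F.IsConj (pr1 K) Q} = {Q | F.IsConj (pr1 L) Q} :=
      Set.ext fun Q => ⟨fun hQ => isConj_trans (isConj_symm h) hQ, fun hQ => isConj_trans h hQ⟩
    simp only [P0, this]
  -- representatives up to conjugation in `S × S`
  let s : Setoid (Subgroup (S × S)) :=
    { r := fun K L => ∃ d : S × S, K.map (MulAut.conj d).toMonoidHom = L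
      iseqv :=
        { refl := fun K => ⟨1, (conjSub_one K :)⟩
          symm := fun ⟨d, hd⟩ => ⟨d⁻¹, by
            change conjSub d⁻¹ _ = _
            rw [← hd]
            change conjSub d⁻¹ (conjSub d _) = _
            rw [conjSub_conjSub, inv_mul_cancel, conjSub_one]⟩
          trans := fun ⟨d, hd⟩ ⟨d', hd'⟩ => ⟨d' * d, by
            rw [← hd', ← hd]
            exact (conjSub_conjSub d' d _).symm⟩ } }
  let rep : Subgroup (S × S) → Subgroup (S × S) := fun K => (Quotient.mk s K).out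
  have hrep : ∀ K, ∃ d : S × S, (rep K).map (MulAut.conj d).toMonoidHom = K := fun K =>
    Quotient.exact (Quotient.out_eq (Quotient.mk s K))
  have hrep' : ∀ {K L : Subgroup (S × S)} (d : S × S), K.map (MulAut.conj d).toMonoidHom = L →
      rep K = rep L := fun {K L} d h => congrArg Quotient.out (Quotient.sound ⟨d, h⟩)
  let K0 : Subgroup (S × S) → Subgroup (S × S) := fun K => graphSub (P0 K).subtype
  let B := ∑ H, markSum n H
  let M : Subgroup (S × S) → ℕ := fun K => markSum n (K0 K) + wt (K0 K) * B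
  let δ : Subgroup (S × S) → ℕ := fun H =>
    if InF F H ∧ Nat.card H = k ∧ rep H = H then (M H - markSum n H) / wt H else 0
  have hδ : ∀ H, δ H ≠ 0 → InF F H ∧ Nat.card H = k ∧ rep H = H := fun H hH => by
    by_contra h
    exact hH (if_neg h)
  have hzero : ∀ K : Subgroup (S × S), k ≤ Nat.card K → ∀ H, δ H * mark H K ≠ 0 →
      Nat.card K = k ∧ rep K = H := by
    intro K hk H hne
    obtain ⟨h1, h2⟩ := mul_ne_zero_iff.1 hne
    obtain ⟨d, hd⟩ := exists_of_mark_ne_zero h2
    have hc : Nat.card (H.map (MulAut.conj d).toMonoidHom) = Nat.card H :=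
      Subgroup.card_map_of_injective (MulAut.conj d).injective
    have hle := Subgroup.card_le_of_le hd
    have hcardH := (hδ H h1).2.1
    refine ⟨by omega, ?_⟩
    rw [← (hδ H h1).2.2]
    exact (hrep' d (Subgroup.eq_of_le_of_card_ge hd (by omega)).symm).symm
  refine ⟨δ, fun H hH => ⟨(hδ H hH).1, (hδ H hH).2.1⟩, ?_⟩
  have hlow : ∀ K, InF F K → Nat.card K = k → markSum (fun H => n H + δ H) K = M K := by
    intro K hK hk
    obtain ⟨d, hd⟩ := hrep K
    have hconj := inF_conj hK d⁻¹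
    have hrK : K.map (MulAut.conj d⁻¹).toMonoidHom = rep K := by
      change conjSub d⁻¹ K = rep K
      conv_lhs => rw [← hd]
      change conjSub d⁻¹ (conjSub d (rep K)) = rep K
      rw [conjSub_conjSub, inv_mul_cancel, conjSub_one]
    rw [hrK] at hconj
    have hcr : Nat.card (rep K) = k := by
      rw [← hrK, ← hk]
      exact Subgroup.card_map_of_injective (MulAut.conj d⁻¹).injective
    have hrr : rep (rep K) = rep K := hrep' d hd
    have hM : M (rep K) = M K := by
      simp only [M, K0]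
      rw [hP0c K (rep K) hK hconj.1 hconj.2]
    have hms : markSum δ K = δ (rep K) * wt (rep K) := by
      rw [markSum_eq, Finset.sum_eq_single (rep K)]
      · congr 1
        exact (congrArg (mark (rep K)) hd.symm).trans
          ((fixCard_conj d (rep K)).trans (fixCard_quotient_self (rep K)))
      · intro H _ hH
        by_contra hne
        exact hH (hzero K hk.ge H hne).2.symm
      · exact fun h => absurd (Finset.mem_univ _) h
    obtain ⟨hmod, hwd⟩ := markSum_modEq hS hF hn hst hconj.1 hcr.ge (hP0 _ hconj.1).2 (hP0 _ hconj.1).1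
    have hle : markSum n (rep K) ≤ M (rep K) := by
      have h1 : markSum n (rep K) ≤ B := Finset.single_le_sum (fun _ _ => Nat.zero_le _) (Finset.mem_univ _)
      have h2 : B ≤ wt (K0 (rep K)) * B := Nat.le_mul_of_pos_left _ (wt_pos _)
      simp only [M]
      omega
    have hdiv : wt (rep K) ∣ M (rep K) - markSum n (rep K) := by
      refine (Nat.modEq_iff_dvd' hle).1 (hmod.trans ?_)
      exact (Nat.modEq_iff_dvd' (Nat.le_add_right _ _)).2 (by
        simp only [M, Nat.add_sub_cancel_left]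
        exact hwd.mul_right _)
    rw [markSum_add, hms, show δ (rep K) = (M (rep K) - markSum n (rep K)) / wt (rep K) from
      if_pos ⟨hconj.1, hcr, hrr⟩, Nat.div_mul_cancel hdiv, ← hM]
    have : markSum n K = markSum n (rep K) := by rw [← hrK, markSum_conj]
    omega
  intro K L hK hL hk hc
  have hKL : Nat.card K = Nat.card L := by
    rw [card_eq_card_pr1 hK, card_eq_card_pr1 hL, card_eq_of_isConj hc]
  rcases hk.lt_or_eq with hlt | heq
  · rw [markSum_add, markSum_add, hst K L hK hL hlt hc]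
    have h0 : ∀ K' : Subgroup (S × S), Nat.card K' = Nat.card K → markSum δ K' = 0 := fun K' hK' => by
      rw [markSum_eq]
      refine Finset.sum_eq_zero fun H _ => ?_
      by_contra hne
      have := (hzero K' (by omega) H hne).1
      omega
    rw [h0 K rfl, h0 L hKL.symm]
  · rw [hlow K hK heq.symm, hlow L hL (hKL ▸ heq.symm)]
    simp only [M, K0]
    rw [hP0c K L hK hL hc]

/-- The characteristic biset, as a formal sum of coset spaces. -/
theorem exists_stable_sum (hS : IsPGroup p S) (hF : F.IsSaturated p) :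
    ∃ n : Subgroup (S × S) → ℕ, Supp F n ∧ Stable F n 0 ∧ ∃ m : ℕ,
      ∑ᶠ H, n H * H.index = Nat.card S * m ∧ ¬ p ∣ m := by
  classical
  have := Fintype.ofFinite (Subgroup (S × S))
  have := finite_of_le (le_refl S)
  let A := F.autGroup S
  let I := (Cfsg.Inn S).subgroupOf A
  have hIn : I.Normal := inn_subgroupOf_normal F S
  have hmem : ∀ α : A, S.subtype.comp (α : MulAut S).toMonoidHom ∈ F.Hom S := fun α =>
    (mem_autGroup_iff F le_rfl).1 α.2
  let gr : MulAut S → Subgroup (S × S) := fun α => graphSub (S.subtype.comp α.toMonoidHom)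
  have hgr : ∀ (α : MulAut S) (a b : S), (a, b) ∈ gr α ↔ α a = b := fun α a b =>
    ⟨fun ⟨h, hb⟩ => Subtype.ext hb, fun h => ⟨a.2, congrArg Subtype.val h⟩⟩
  -- conjugates of a graph of an automorphism
  have hconj : ∀ (α : MulAut S) (s t : S),
      (gr α).map (MulAut.conj ((s, t) : S × S)).toMonoidHom =
        gr (MulAut.conj t * α * (MulAut.conj s)⁻¹) := by
    intro α s t
    ext ⟨a, b⟩
    rw [hgr]
    constructor
    · rintro ⟨⟨a', b'⟩, h, he⟩
      rw [SetLike.mem_coe, hgr] at h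
      obtain ⟨rfl, rfl⟩ := Prod.mk.inj he
      simp [← h, mul_assoc]
    · intro h
      refine ⟨(s⁻¹ * a * s, α (s⁻¹ * a * s)), (hgr _ _ _).2 rfl, Prod.ext ?_ ?_⟩
      · simp [mul_assoc]
      · rw [← h]
        simp [mul_assoc]
  let q0 : A ⧸ I → Subgroup (S × S) := fun q => gr ((Quotient.out q : A) : MulAut S)
  have hinn : ∀ s : S, MulAut.conj s ∈ Cfsg.Inn S := fun s => ⟨s, rfl⟩
  have huniq : ∀ (q q' : A ⧸ I) (d : S × S),
      (q0 q').map (MulAut.conj d).toMonoidHom = q0 q → q' = q := by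
    rintro q q' ⟨s, t⟩ h
    rw [hconj] at h
    have h1 : MulAut.conj t * ((Quotient.out q' : A) : MulAut S) * (MulAut.conj s)⁻¹ =
        ((Quotient.out q : A) : MulAut S) := by
      refine MulEquiv.ext fun a => ?_
      have h2 : (a, ((Quotient.out q : A) : MulAut S) a) ∈ q0 q := (hgr _ _ _).2 rfl
      rw [← h, hgr] at h2
      exact h2
    have hA : ∀ u : S, (MulAut.conj u) ∈ A := fun u => inn_le_autGroup le_rfl (hinn u)
    have h3 : (⟨_, hA t⟩ : A) * Quotient.out q' * (⟨_, hA s⟩ : A)⁻¹ = Quotient.out q := Subtype.ext h1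
    have h4 := congrArg (QuotientGroup.mk (s := I)) h3
    rw [QuotientGroup.mk_mul, QuotientGroup.mk_mul, QuotientGroup.mk_inv,
      (QuotientGroup.eq_one_iff _).2 (show (⟨_, hA t⟩ : A) ∈ I from hinn t),
      (QuotientGroup.eq_one_iff _).2 (show (⟨_, hA s⟩ : A) ∈ I from hinn s), one_mul, inv_one,
      mul_one, QuotientGroup.out_eq', QuotientGroup.out_eq'] at h4
    exact h4
  let n0 : Subgroup (S × S) → ℕ := fun H => if H ∈ Set.range q0 then 1 else 0
  have hcard : ∀ q, Nat.card (q0 q) = Nat.card S := fun q => card_graphSub (hmem _)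
  have hn0 : Supp F n0 := fun H hH => by
    by_cases h : H ∈ Set.range q0
    · obtain ⟨q, rfl⟩ := h
      exact ⟨S, _, hmem _, rfl⟩
    · exact absurd (if_neg h) hH
  -- the weight of the graph of an automorphism
  have hwt : ∀ α : MulAut S, wt (gr α) = wt (gr 1) := by
    intro α
    let θ : S × S ≃* S × S := (MulEquiv.refl S).prodCongr α
    have h1 : (gr 1).map θ.toMonoidHom = gr α := by
      ext ⟨a, b⟩
      rw [hgr]
      constructor
      · rintro ⟨⟨a', b'⟩, h, he⟩
        rw [SetLike.mem_coe, hgr] at h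
        obtain ⟨rfl, rfl⟩ := Prod.mk.inj he
        simp [← h]
      · intro h
        exact ⟨(a, a), (hgr _ _ _).2 rfl, Prod.ext rfl h⟩
    rw [wt, wt, ← h1, ← Subgroup.map_equiv_normalizer_eq,
      Subgroup.relIndex_map_map_of_injective _ _ θ.injective]
  have htop : ∀ K, InF F K → Nat.card K = Nat.card S → markSum n0 K = wt (gr 1) := by
    intro K hK hk
    obtain ⟨P, φ, hφ, rfl⟩ := hK
    rw [card_graphSub hφ] at hk
    obtain rfl := Subgroup.eq_of_le_of_card_ge (le_S F hφ) hk.ge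
    obtain ⟨α, hα, hαe⟩ := exists_iso_of_range hφ (eq_S_of_isConj_S ⟨φ, hφ, rfl⟩)
    let q : A ⧸ I := QuotientGroup.mk ⟨α, (mem_autGroup_iff F le_rfl).2 hα⟩
    have hq : (Quotient.out q : A)⁻¹ * ⟨α, (mem_autGroup_iff F le_rfl).2 hα⟩ ∈ I :=
      QuotientGroup.eq.1 (QuotientGroup.out_eq' q)
    obtain ⟨u, hu⟩ := hq
    have hK : graphSub φ = (q0 q).map (MulAut.conj ((u⁻¹, 1) : P × P)).toMonoidHom := by
      rw [hconj, show φ = P.subtype.comp α.toMonoidHom from MonoidHom.ext fun x => (hαe x).symm]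
      refine congrArg gr ?_
      rw [map_one, one_mul, map_inv, inv_inv]
      rw [show MulAut.conj u = (((Quotient.out q : A) : MulAut P))⁻¹ * α from hu, mul_inv_cancel_left]
    rw [hK, markSum_conj, markSum_eq, Finset.sum_eq_single (q0 q)]
    · rw [show n0 (q0 q) = 1 from if_pos ⟨q, rfl⟩, one_mul, mark, fixCard_quotient_self]
      exact hwt _
    · intro H _ hH
      by_contra hne
      obtain ⟨h1, h2⟩ := mul_ne_zero_iff.1 hne
      obtain ⟨q', rfl⟩ : H ∈ Set.range q0 := by
        by_contra h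
        exact h1 (if_neg h)
      obtain ⟨d, hd⟩ := exists_of_mark_ne_zero h2
      have := Subgroup.eq_of_le_of_card_ge hd (by
        rw [Subgroup.card_map_of_injective (MulAut.conj d).injective, hcard, hcard])
      exact hH (congrArg q0 (huniq q q' d this.symm))
    · exact fun h => absurd (Finset.mem_univ _) h
  suffices key : ∀ j, j ≤ Nat.card S → ∃ n, Supp F n ∧ Stable F n (Nat.card S - j) ∧
      ∀ H : Subgroup (S × S), Nat.card H = Nat.card S → n H = n0 H by
    obtain ⟨n, hn, hst, htopn⟩ := key _ le_rfl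
    rw [Nat.sub_self] at hst
    refine ⟨n, hn, hst, ∑ H, n H * (Nat.card S / Nat.card H), ?_, ?_⟩
    · rw [finsum_eq_sum_of_fintype, Finset.mul_sum]
      refine Finset.sum_congr rfl fun H _ => ?_
      by_cases h0 : n H = 0
      · simp [h0]
      have hHF := hn H h0
      have hd : Nat.card H ∣ Nat.card S := by
        rw [card_eq_card_pr1 hHF]
        exact Subgroup.card_dvd_of_le (pr1_le_of_inF hHF)
      have h1 : Nat.card H * H.index = Nat.card S * Nat.card S := by
        rw [H.card_mul_index, Nat.card_prod]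
      have h2 : H.index = Nat.card S * (Nat.card S / Nat.card H) := by
        refine Nat.eq_of_mul_eq_mul_left (Nat.card_pos (α := H)) ?_
        rw [h1, mul_left_comm, Nat.mul_div_cancel' hd]
      rw [h2, mul_left_comm]
    · rw [← Finset.sum_filter_add_sum_filter_not Finset.univ
        (fun H : Subgroup (S × S) => Nat.card H = Nat.card S)]
      have h1 : p ∣ ∑ H ∈ Finset.univ.filter (fun H : Subgroup (S × S) => ¬ Nat.card H = Nat.card S),
          n H * (Nat.card S / Nat.card H) := by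
        refine Finset.dvd_sum fun H hH => ?_
        by_cases h0 : n H = 0
        · simp [h0]
        refine Dvd.dvd.mul_left ?_ _
        have hHF := hn H h0
        have hne := (Finset.mem_filter.1 hH).2
        rw [card_eq_card_pr1 hHF] at hne ⊢
        have hle := pr1_le_of_inF hHF
        have := finite_of_le hle
        obtain ⟨i, hi⟩ := IsPGroup.iff_card.1 (hS.to_le hle)
        obtain ⟨j, hj⟩ := IsPGroup.iff_card.1 hS
        have hij : i < j := by
          refine lt_of_not_ge fun h => hne ?_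
          refine le_antisymm (Subgroup.card_le_of_le hle) ?_
          rw [hi, hj]
          exact Nat.pow_le_pow_right (Fact.out : p.Prime).pos h
        rw [hi, hj, Nat.pow_div hij.le (Fact.out : p.Prime).pos]
        exact dvd_pow_self p (by omega)
      have h2 : ∑ H ∈ Finset.univ.filter (fun H : Subgroup (S × S) => Nat.card H = Nat.card S),
          n H * (Nat.card S / Nat.card H) = Nat.card (A ⧸ I) := by
        rw [Finset.sum_congr rfl (g := n0) (fun H hH => by
          rw [(Finset.mem_filter.1 hH).2, Nat.div_self Nat.card_pos, mul_one,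
            htopn H (Finset.mem_filter.1 hH).2])]
        simp only [n0, Finset.sum_boole, Nat.cast_id]
        rw [Nat.card_congr (Equiv.ofInjective q0 fun q q' h => (huniq q' q 1 (by
            rw [map_one]; exact (Subgroup.map_id _).trans h))),
          Nat.card_eq_fintype_card (α := Set.range q0), ← Set.toFinset_card, Finset.filter_filter]
        congr 1
        ext H
        simp only [Finset.mem_filter, Finset.mem_univ, true_and, Set.mem_toFinset]
        exact ⟨fun h => h.2, fun h => ⟨by obtain ⟨q, rfl⟩ := h; exact hcard q, h⟩⟩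
      intro hdvd
      rw [h2] at hdvd
      have h3 : ¬ p ∣ Nat.card (A ⧸ I) := by
        have hfa := (isFullyAutomized_iff hS).1
          (fullyAutomized_receptive_of_fullyNormalized hS hF (F := F) isFullyNormalized_self).1
        rw [← inn_eq] at hfa
        exact hfa.2
      exact h3 ((Nat.dvd_add_iff_left h1).2 hdvd)
  intro j
  induction j with
  | zero =>
    intro _
    refine ⟨n0, hn0, fun K L hK hL hk hc => ?_, fun H _ => rfl⟩
    have hle : ∀ {K}, InF F K → Nat.card K ≤ Nat.card S := fun {K} hK => by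
      rw [card_eq_card_pr1 hK]
      exact Subgroup.card_le_of_le (pr1_le_of_inF hK)
    have h1 : Nat.card L = Nat.card K := by
      rw [card_eq_card_pr1 hK, card_eq_card_pr1 hL, card_eq_of_isConj hc]
    have h2 : Nat.card K = Nat.card S := le_antisymm (hle hK) (by omega)
    rw [htop K hK h2, htop L hL (h1.trans h2)]
  | succ j ih =>
    intro hj
    obtain ⟨n, hn, hst, htopn⟩ := ih (by omega)
    rw [show Nat.card S - j = Nat.card S - (j + 1) + 1 by omega] at hst
    obtain ⟨δ, hδ, hst'⟩ := stable_step hS hF hn hst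
    refine ⟨fun H => n H + δ H, fun H hH => ?_, hst', fun H hH => ?_⟩
    · by_cases h : δ H = 0
      · exact hn H (by simpa [h] using hH)
      · exact (hδ H h).1
    · have : δ H = 0 := by
        by_contra h
        have := (hδ H h).2
        omega
      simp [this, htopn H hH]

/-- **The characteristic biset.** -/
theorem exists_biset (hS : IsPGroup p S) (hF : F.IsSaturated p) :
    ∃ (X : Type u) (_ : MulAction (S × S) X) (_ : Finite X),
      (∀ x : X, InF F (MulAction.stabilizer (S × S) x)) ∧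
      (∃ m, Nat.card X = Nat.card S * m ∧ ¬ p ∣ m) ∧
      (∀ (P : Subgroup Ω) (φ : P →* Ω), φ ∈ F.Hom P → ∃ α : X ≃ X,
        ∀ (a a' b : S) (h : (a : Ω) ∈ P) (x : X), φ ⟨a, h⟩ = a' →
          α (((a, b) : S × S) • x) = ((a', b) : S × S) • α x) ∧
      ∀ K L : Subgroup (S × S), InF F K → InF F L → F.IsConj (pr1 K) (pr1 L) →
        fixCard X K = fixCard X L := by
  classical
  have := Fintype.ofFinite (Subgroup (S × S))
  obtain ⟨n, hn, hst, m, hm, hpm⟩ := exists_stable_sum hS hF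
  let ι := Σ H : Subgroup (S × S), Fin (n H)
  let X := Σ i : ι, (S × S) ⧸ i.1
  have hfix : ∀ K : Subgroup (S × S), fixCard X K = markSum n K := by
    intro K
    rw [fixCard_sigma, markSum_eq, Fintype.sum_sigma]
    refine Finset.sum_congr rfl fun H _ => ?_
    change ∑ _y : Fin (n H), fixCard ((S × S) ⧸ H) K = _
    rw [Finset.sum_const, Finset.card_univ, Fintype.card_fin, smul_eq_mul, mark]
  refine ⟨X, inferInstance, inferInstance, ?_, ⟨m, ?_, hpm⟩, fun P φ hφ => ?_,
    fun K L hK hL hc => by rw [hfix, hfix]; exact hst K L hK hL (Nat.zero_le _) hc⟩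
  · rintro ⟨⟨H, j⟩, x⟩
    induction x using QuotientGroup.induction_on with
    | H d =>
      have h0 : n H ≠ 0 := fun h => (Fin.pos j).ne' h
      refine inF_mono (inF_conj (hn H h0) d).1 fun g hg => ?_
      have hg' : g ∈ MulAction.stabilizer (S × S) (d : (S × S) ⧸ H) :=
        eq_of_heq (Sigma.mk.inj_iff.1 (MulAction.mem_stabilizer_iff.1 hg)).2
      exact ⟨d⁻¹ * g * d, le_stabilizer_quotient_iff.1 le_rfl g hg', by simp [mul_assoc]⟩
  · rw [← hm, Nat.card_sigma, Fintype.sum_sigma, finsum_eq_sum_of_fintype]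
    refine Finset.sum_congr rfl fun H _ => ?_
    simp [Subgroup.index]
  · have hPS := le_S F hφ
    obtain ⟨e, he, hee⟩ := exists_iso_of_mem hφ
    obtain ⟨α, hα⟩ := exists_equiv_of_hom (X := X) (box S P S).subtype
      (pairHom e (MulEquiv.refl S) (range_le_S F hφ) le_rfl) (fun L => by
        rw [hfix, hfix]
        set K := L.map (box S P S).subtype
        have hK : K ≤ box S P S := by
          rintro _ ⟨x, -, rfl⟩
          exact x.2
        have hL : L = K.subgroupOf (box S P S) :=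
          (Subgroup.comap_map_eq_self_of_injective (box S P S).subtype_injective L).symm
        rw [hL, ← transp]
        have hrefl : IsIso F (MulEquiv.refl S) := isIso_refl le_rfl
        by_cases hKF : InF F K
        · obtain ⟨h1, h2⟩ := inF_transp he hrefl (range_le_S F hφ) le_rfl hK hKF
          exact hst _ _ hKF h1 (Nat.zero_le _) h2
        · rw [markSum_eq_zero hn hKF, markSum_eq_zero hn]
          exact fun h => hKF ((inF_transp_iff he hrefl _ _ hK).1 h))
    refine ⟨α, fun a a' b h x ha => ?_⟩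
    have := hα ⟨(a, b), h, b.2⟩ x
    rw [show pairHom e (MulEquiv.refl S) (range_le_S F hφ) le_rfl ⟨(a, b), h, b.2⟩ = (a', b) from
      Prod.ext (Subtype.ext ((pairHom_apply _).1.trans ((hee _).trans ha)))
        (Subtype.ext ((pairHom_apply _).2))] at this
    exact this

end Stab

end CfsgLib.Fusion
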