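import Mathlib
import Cfsg.Agent.Lib.Fusion.GSet

/-!
# Transfer along a right free biset

`f` need only be multiplicative on the cosets of a normal subgroup `N`; the transfer then has the
defect of `f` raised to the number of right orbits.
-/

set_option autoImplicit false

namespace CfsgLib.Fusion

open MulAction

variable {G : Type*} [Group G] {X : Type*} [MulAction (G × G) X]

variable (G X) in
/-- Orbits of the right action. -/
def rightSetoid : Setoid X where
  r x y := ∃ b : G, ((1 : G), b) • x = y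
  iseqv :=
    { refl := fun x => ⟨1, one_smul (G × G) x⟩
      symm := fun {x y} ⟨b, hb⟩ => ⟨b⁻¹, by
        rw [← hb, smul_smul, Prod.mk_mul_mk, one_mul, inv_mul_cancel, Prod.mk_one_one, one_smul]⟩
      trans := fun {x y z} ⟨b, hb⟩ ⟨c, hc⟩ => ⟨c * b, by rw [← hc, ← hb, smul_smul]; simp⟩ }

variable (G X) in
/-- The set of right orbits. -/
def RightOrbits : Type _ := Quotient (rightSetoid G X)

/-- The right orbit of a point. -/
def rmk (x : X) : RightOrbits G X := Quotient.mk (rightSetoid G X) x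

theorem rmk_right (b : G) (x : X) : rmk (G := G) (((1 : G), b) • x) = rmk x :=
  (Quotient.sound (s := rightSetoid G X)
    (show ∃ c : G, ((1 : G), c) • x = ((1 : G), b) • x from ⟨b, rfl⟩)).symm

theorem rmk_smul (u b : G) (x : X) : rmk (G := G) ((u, b) • x) = rmk ((u, (1 : G)) • x) := by
  rw [show ((u, b) : G × G) = ((1 : G), b) * (u, 1) by simp, mul_smul, rmk_right]

/-- Left multiplication on right orbits. -/
def actR (u : G) : RightOrbits G X → RightOrbits G X :=
  Quotient.map (fun x : X => ((u, (1 : G)) : G × G) • x) fun x y h => by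
    obtain ⟨b, hb⟩ := h
    refine ⟨b, ?_⟩
    show ((1 : G), b) • ((u, (1 : G)) • x) = (u, (1 : G)) • y
    rw [← hb, smul_smul, smul_smul]
    simp

theorem actR_rmk (u : G) (x : X) : actR u (rmk x) = rmk (G := G) ((u, (1 : G)) • x) := rfl

theorem actR_actR (u v : G) (ω : RightOrbits G X) : actR u (actR v ω) = actR (u * v) ω := by
  induction ω using Quotient.inductionOn with
  | h x =>
    change rmk _ = rmk _
    simp only [smul_smul, Prod.mk_mul_mk, one_mul]

theorem actR_one (ω : RightOrbits G X) : actR (1 : G) ω = ω := by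
  induction ω using Quotient.inductionOn with
  | h x => exact congrArg rmk (one_smul (G × G) x)

theorem actR_bijective (u : G) : Function.Bijective (actR u : RightOrbits G X → RightOrbits G X) :=
  Function.bijective_iff_has_inverse.2 ⟨actR u⁻¹, fun ω => by rw [actR_actR, inv_mul_cancel, actR_one],
    fun ω => by rw [actR_actR, mul_inv_cancel, actR_one]⟩

variable (hfree : ∀ (b : G) (x : X), ((1 : G), b) • x = x → b = 1)

include hfree in
theorem right_cancel {u b c : G} {x : X} (h : (u, b) • x = (u, c) • x) : b = c := by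
  have h1 : ((1 : G), c⁻¹ * b) • x = x := by
    have h2 := congrArg (fun y => ((u⁻¹, c⁻¹) : G × G) • y) h
    simp only [smul_smul, Prod.mk_mul_mk, inv_mul_cancel] at h2
    rwa [Prod.mk_one_one, one_smul] at h2
  exact (inv_mul_eq_one.1 (hfree _ x h1)).symm

theorem exists_delta {s : RightOrbits G X → X} (hs : ∀ ω, rmk (s ω) = ω) (u : G)
    (ω : RightOrbits G X) : ∃ b : G, (u, b) • s ω = s (actR u ω) := by
  have h : rmk (G := G) ((u, (1 : G)) • s ω) = rmk (s (actR u ω)) := by
    rw [hs, ← actR_rmk, hs]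
  obtain ⟨b, hb⟩ := Quotient.exact h
  exact ⟨b, by rw [← hb, smul_smul, Prod.mk_mul_mk, one_mul, mul_one]⟩

include hfree in
theorem card_eq_mul [Finite X] [Finite G] :
    Nat.card X = Nat.card G * Nat.card (RightOrbits G X) := by
  rw [mul_comm, ← Nat.card_prod]
  refine Nat.card_congr (Equiv.ofBijective
    (fun p : RightOrbits G X × G => ((1 : G), p.2) • Quotient.out p.1) ⟨?_, ?_⟩).symm
  · rintro ⟨a, b⟩ ⟨a', b'⟩ h
    have h1 : a = a' := by
      have h2 := congrArg (rmk (G := G)) h
      simp only [rmk_right] at h2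
      exact (Quotient.out_eq a).symm.trans (h2.trans (Quotient.out_eq a'))
    subst h1
    exact Prod.ext rfl (right_cancel hfree h)
  · intro x
    obtain ⟨b, hb⟩ := Quotient.exact (Quotient.out_eq (rmk (G := G) x))
    exact ⟨(rmk x, b), hb⟩

variable {A : Type*} [CommGroup A] {N : Subgroup G} {f : G → A}

/-- The basic invariance of the product of values on `N`. -/
theorem prod_delta_eq [Fintype (RightOrbits G X)] [N.Normal]
    (hfree : ∀ (b : G) (x : X), ((1 : G), b) • x = x → b = 1)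
    (hfl : ∀ m ∈ N, ∀ a, f (m * a) = f m * f a) (hfr : ∀ m ∈ N, ∀ a, f (a * m) = f a * f m)
    {s s' : RightOrbits G X → X} (hs : ∀ ω, rmk (s ω) = ω) (hs' : ∀ ω, rmk (s' ω) = ω)
    {u : G} {d d' : RightOrbits G X → G} (hd : ∀ ω, (u, d ω) • s ω = s (actR u ω))
    (hd' : ∀ ω, (u, d' ω) • s' ω = s' (actR u ω)) (hdN : ∀ ω, d ω ∈ N) (hdN' : ∀ ω, d' ω ∈ N) :
    ∏ ω, f (d' ω) = ∏ ω, f (d ω) := by
  choose m hm using fun ω => Quotient.exact ((hs ω).trans (hs' ω).symm)
  have hrel : ∀ ω, d' ω * m ω = m (actR u ω) * d ω := by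
    intro ω
    refine right_cancel hfree (u := u) (x := s ω) ?_
    rw [show ((u, d' ω * m ω) : G × G) = (u, d' ω) * ((1 : G), m ω) by simp, mul_smul, hm, hd',
      show ((u, m (actR u ω) * d ω) : G × G) = ((1 : G), m (actR u ω)) * (u, d ω) by simp,
      mul_smul, hd, hm]
  have hconj : ∀ (a : G) (n : G), n ∈ N → f (a * n * a⁻¹) = f n := by
    intro a n hn
    have h1 := hfl _ (Subgroup.Normal.conj_mem ‹_› n hn a) a
    rw [inv_mul_cancel_right, hfr n hn, mul_comm (f a)] at h1
    exact (mul_right_cancel h1).symm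
  set n' : RightOrbits G X → G := fun ω => m (actR u ω) * (m ω)⁻¹
  have hn'eq : ∀ ω, d' ω = n' ω * (m ω * d ω * (m ω)⁻¹) := fun ω => by
    simp only [n']
    rw [← mul_assoc, ← mul_assoc, inv_mul_cancel_right, ← hrel, mul_inv_cancel_right]
  have hn' : ∀ ω, n' ω ∈ N := fun ω => by
    have h1 := N.mul_mem (hdN' ω) (N.inv_mem (Subgroup.Normal.conj_mem ‹_› _ (hdN ω) (m ω)))
    rwa [hn'eq ω, mul_inv_cancel_right] at h1
  have h1 : ∏ ω, f (d' ω) = (∏ ω, f (n' ω)) * ∏ ω, f (d ω) := by
    rw [← Finset.prod_mul_distrib]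
    refine Finset.prod_congr rfl fun ω _ => ?_
    rw [hn'eq ω, hfl _ (hn' ω), hconj _ _ (hdN ω)]
  have h2 : ∏ ω, f (n' ω) = 1 := by
    have h3 : ∏ ω, f (m (actR u ω)) = (∏ ω, f (n' ω)) * ∏ ω, f (m ω) := by
      rw [← Finset.prod_mul_distrib]
      refine Finset.prod_congr rfl fun ω _ => ?_
      rw [← hfl _ (hn' ω)]
      exact congrArg f (inv_mul_cancel_right _ _).symm
    rw [(actR_bijective u).prod_comp (fun ω => f (m ω))] at h3
    exact mul_eq_right.1 h3.symm
  rw [h1, h2, one_mul]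

/-- **The transfer.** -/
theorem exists_transfer [Finite X] [Finite G] [N.Normal]
    (hfree : ∀ (b : G) (x : X), ((1 : G), b) • x = x → b = 1)
    (hfl : ∀ m ∈ N, ∀ a, f (m * a) = f m * f a) (hfr : ∀ m ∈ N, ∀ a, f (a * m) = f a * f m)
    (hcompat : ∀ x : X, ∃ q : G, ∀ a b : G, (a, b) • x = x → q⁻¹ * a * q * b⁻¹ ∈ N) :
    ∃ T : G → A,
      (∀ u v, T u * T v / T (u * v) =
        (f u * f v / f (u * v)) ^ Nat.card (RightOrbits G X)) ∧
      (∀ u ∈ N, ∀ u' ∈ N, ∀ α : X ≃ X, (∀ (b : G) (x : X), α (((1 : G), b) • x) = ((1 : G), b) • α x) →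
        (∀ x : X, α ((u, (1 : G)) • x) = (u', (1 : G)) • α x) → T u' = T u) ∧
      (∀ u ∈ N, (∀ (x : X) (a b : G), a ∈ Subgroup.zpowers u → (a, b) • x = x → f b = f a) →
        T u = f u ^ Nat.card (RightOrbits G X)) ∧
      (∀ (H : Subgroup A), (∀ a, f a ∈ H) → ∀ u, T u ∈ H) ∧
      ∀ (u : G) (s : RightOrbits G X → X) (d : RightOrbits G X → G) [Fintype (RightOrbits G X)],
        u ∈ N → (∀ ω, rmk (s ω) = ω) → (∀ ω, (u, d ω) • s ω = s (actR u ω)) → (∀ ω, d ω ∈ N) →
        T u = ∏ ω, f (d ω) := by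
  classical
  have : Finite (RightOrbits G X) := Quotient.finite _
  have := Fintype.ofFinite (RightOrbits G X)
  let Y := G ⧸ N
  let _ : MulAction (G × G) Y :=
    { smul := fun ab y => (ab.1 : Y) * y * ((ab.2 : Y))⁻¹
      one_smul := fun y => by show ((1 : G) : Y) * y * ((1 : G) : Y)⁻¹ = y; simp
      mul_smul := fun ab cd y => by
        show ((ab.1 * cd.1 : G) : Y) * y * ((ab.2 * cd.2 : G) : Y)⁻¹ =
          (ab.1 : Y) * ((cd.1 : Y) * y * (cd.2 : Y)⁻¹) * (ab.2 : Y)⁻¹
        simp [mul_assoc] }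
  obtain ⟨l, hl⟩ := exists_equivariant (G := G × G) X Y (fun x => by
    obtain ⟨q, hq⟩ := hcompat x
    refine ⟨(q : Y), ?_⟩
    rintro ⟨a, b⟩ h
    rw [mem_stabilizer_iff] at h ⊢
    show (a : Y) * (q : Y) * (b : Y)⁻¹ = (q : Y)
    have h1 := (QuotientGroup.eq_one_iff _).2 (hq a b h)
    rw [QuotientGroup.mk_mul, QuotientGroup.mk_mul, QuotientGroup.mk_mul, QuotientGroup.mk_inv,
      QuotientGroup.mk_inv, mul_assoc, mul_assoc, inv_mul_eq_one] at h1
    rw [mul_assoc]
    exact h1.symm)
  have hl' : ∀ (a b : G) (x : X), l ((a, b) • x) = (a : Y) * l x * (b : Y)⁻¹ := fun a b x => hl (a, b) x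
  have hsec : ∀ ω : RightOrbits G X, ∃ x : X, rmk x = ω ∧ l x = 1 := by
    intro ω
    induction ω using Quotient.inductionOn with
    | h x =>
      obtain ⟨c, hc⟩ := QuotientGroup.mk_surjective (l x)
      refine ⟨((1 : G), c) • x, rmk_right c x, ?_⟩
      rw [hl', ← hc]
      simp
  choose s hs hls using hsec
  choose d hd using exists_delta (s := s) hs
  have hdπ : ∀ u ω, ((d u ω : G) : Y) = (u : Y) := by
    intro u ω
    have h1 := congrArg l (hd u ω)
    rw [hl', hls, hls, mul_one, mul_inv_eq_one] at h1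
    exact h1.symm
  have hdN : ∀ u ∈ N, ∀ ω, d u ω ∈ N := fun u hu ω => by
    rw [← QuotientGroup.eq_one_iff, hdπ, (QuotientGroup.eq_one_iff _).2 hu]
  refine ⟨fun u => ∏ ω, f (d u ω), fun u v => ?_, fun u hu u' hu' α hαr hαl => ?_,
    fun u hu h => ?_, fun H hH u => H.prod_mem fun ω _ => hH _,
    fun u s' d' inst hu hs' hd' hdN' => ?_⟩
  · have hcomp : ∀ ω, d (u * v) ω = d u (actR v ω) * d v ω := by
      intro ω
      refine right_cancel hfree (u := u * v) (x := s ω) ?_
      rw [hd, show ((u * v, d u (actR v ω) * d v ω) : G × G) = (u, d u (actR v ω)) * (v, d v ω) from rfl,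
        mul_smul, hd, hd, actR_actR]
    have hc : ∀ a b : G, (a : Y) = (u : Y) → (b : Y) = (v : Y) →
        f a * f b / f (a * b) = f u * f v / f (u * v) := by
      intro a b ha hb
      have ha' : a * u⁻¹ ∈ N := by
        rw [← QuotientGroup.eq_one_iff, QuotientGroup.mk_mul, QuotientGroup.mk_inv, ha,
          mul_inv_cancel]
      have hb' : v⁻¹ * b ∈ N := by
        rw [← QuotientGroup.eq_one_iff, QuotientGroup.mk_mul, QuotientGroup.mk_inv, hb,
          inv_mul_cancel]
      have e1 : f a = f (a * u⁻¹) * f u := by rw [← hfl _ ha', inv_mul_cancel_right]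
      have e2 : f b = f v * f (v⁻¹ * b) := by rw [← hfr _ hb', mul_inv_cancel_left]
      have e3 : f (a * b) = f (a * u⁻¹) * (f (u * v) * f (v⁻¹ * b)) := by
        rw [← hfr _ hb', ← hfl _ ha']
        congr 1
        group
      rw [e1, e2, e3, div_eq_div_iff_mul_eq_mul]
      ac_rfl
    change (∏ ω, f (d u ω)) * (∏ ω, f (d v ω)) / (∏ ω, f (d (u * v) ω)) = _
    rw [← (actR_bijective v).prod_comp (fun ω => f (d u ω)), ← Finset.prod_mul_distrib,
      ← Finset.prod_div_distrib, Nat.card_eq_fintype_card, ← Finset.card_univ,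
      ← Finset.prod_const]
    refine Finset.prod_congr rfl fun ω _ => ?_
    rw [hcomp]
    exact hc _ _ (hdπ u _) (hdπ v _)
  · let e : RightOrbits G X ≃ RightOrbits G X :=
      Quotient.congr α fun x y => exists_congr fun b => by
        rw [← hαr, α.injective.eq_iff]
    have he : ∀ x, e (rmk x) = rmk (α x) := fun x => rfl
    let s' : RightOrbits G X → X := fun ω => α (s (e.symm ω))
    have hs' : ∀ ω, rmk (s' ω) = ω := fun ω => by
      rw [← he, hs, Equiv.apply_symm_apply]
    have hact : ∀ ω, e (actR u ω) = actR u' (e ω) := fun ω => by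
      induction ω using Quotient.inductionOn with
      | h x => exact congrArg rmk (hαl x)
    have hd' : ∀ ω, (u', d u (e.symm ω)) • s' ω = s' (actR u' ω) := by
      intro ω
      have h1 : e.symm (actR u' ω) = actR u (e.symm ω) := by
        rw [Equiv.symm_apply_eq, hact, Equiv.apply_symm_apply]
      simp only [s', h1, ← hd]
      rw [show ((u, d u (e.symm ω)) : G × G) = ((1 : G), d u (e.symm ω)) * (u, 1) by simp,
        mul_smul, hαr, hαl, smul_smul]
      simp
    change ∏ ω, f (d u' ω) = ∏ ω, f (d u ω)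
    rw [← prod_delta_eq hfree hfl hfr hs hs' (hd u') hd' (hdN u' hu') (fun ω => hdN u hu _)]
    exact Equiv.prod_comp e.symm fun ω => f (d u ω)
  · let H := (Subgroup.zpowers u).prod N
    have hHN : ∀ a ∈ Subgroup.zpowers u, a ∈ N := fun a ha => Subgroup.zpowers_le.2 hu ha
    have hf1 : f 1 = 1 := by
      have := hfl 1 N.one_mem 1
      rw [one_mul] at this
      exact mul_eq_left.1 this.symm
    let _ : MulAction H A :=
      { smul := fun ab y => f ab.1.1 * y / f ab.1.2
        one_smul := fun y => by show f 1 * y / f 1 = y; simp [hf1]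
        mul_smul := fun ab cd y => by
          show f (ab.1.1 * cd.1.1) * y / f (ab.1.2 * cd.1.2) = f ab.1.1 * (f cd.1.1 * y / f cd.1.2) / f ab.1.2
          rw [hfl _ (hHN _ ab.2.1), hfl _ ab.2.2]
          simp only [div_eq_mul_inv, mul_inv]
          ac_rfl }
    obtain ⟨k, hk⟩ := exists_equivariant (G := H) X A (fun x => ⟨1, fun ab hab => by
      rw [mem_stabilizer_iff] at hab ⊢
      show f ab.1.1 * 1 / f ab.1.2 = 1
      rw [mul_one, h x _ _ ab.2.1 hab, div_self']⟩)
    have hk' : ∀ ω, k (s (actR u ω)) * f (d u ω) = f u * k (s ω) := fun ω => by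
      have h1 := hk ⟨(u, d u ω), Subgroup.mem_zpowers u, hdN u hu ω⟩ (s ω)
      rw [show (⟨(u, d u ω), Subgroup.mem_zpowers u, hdN u hu ω⟩ : H) • s ω = s (actR u ω) from
        hd u ω] at h1
      rw [h1]
      show f u * k (s ω) / f (d u ω) * f (d u ω) = _
      rw [div_mul_cancel]
    have h2 : ∏ ω, (k (s (actR u ω)) * f (d u ω)) = ∏ ω, (f u * k (s ω)) :=
      Finset.prod_congr rfl fun ω _ => hk' ω
    rw [Finset.prod_mul_distrib, Finset.prod_mul_distrib,
      (actR_bijective u).prod_comp (fun ω => k (s ω)), mul_comm (∏ _ω, f u)] at h2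
    have h3 := mul_left_cancel h2
    change ∏ ω, f (d u ω) = _
    rw [h3, Finset.prod_const, Finset.card_univ, Nat.card_eq_fintype_card]
  · obtain rfl := Subsingleton.elim inst this
    exact (prod_delta_eq hfree hfl hfr hs hs' (hd u) hd' (hdN u hu) hdN').symm

end CfsgLib.Fusion
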