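import Cfsg.Agent.Lib.Fusion.FunctorStatements
import Cfsg.Agent.Lib.Fusion.NormSys
import Cfsg.Agent.Lib.Fusion.Normal

/-!
# The centre as a direct factor of `Z(S)`
-/

set_option autoImplicit false

open Cfsg Cfsg.FusionSystem
open scoped IsMulCommutative

namespace CfsgLib.Fusion

/-- The fixed points of a group are a direct factor in those of a subgroup of prime-to-`p`
index, for an action on an abelian `p`-group. -/
theorem exists_fixed_complement {Γ A : Type*} [Group Γ] [Finite Γ] [CommGroup A]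
    [MulDistribMulAction Γ A] {p : ℕ} [hp : Fact p.Prime] (hA : IsPGroup p A) (P : Subgroup Γ)
    (hP : ¬ p ∣ P.index) :
    ∃ K : Subgroup A, (∀ x ∈ K, ∀ g ∈ P, g • x = x) ∧
      (∀ x ∈ K, (∀ g : Γ, g • x = x) → x = 1) ∧
      ∀ y : A, (∀ g ∈ P, g • y = y) → ∃ c k, (∀ g : Γ, g • c = c) ∧ k ∈ K ∧ c * k = y := by
  classical
  have := Fintype.ofFinite (Γ ⧸ P)
  let B : Subgroup A :=
    { carrier := {y | ∀ g ∈ P, g • y = y}
      one_mem' := fun g _ => smul_one g
      mul_mem' := fun {a b} ha hb g hg => by rw [smul_mul', ha g hg, hb g hg]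
      inv_mem' := fun {a} ha g hg => by rw [smul_inv', ha g hg] }
  let tr : B →* A := MonoidHom.mk' (fun y => ∏ q : Γ ⧸ P, q.out • (y : A)) fun a b => by
    simp [smul_mul', Finset.prod_mul_distrib]
  have htr : ∀ (y : B) (g : Γ), g • tr y = tr y := by
    intro y g
    change g • ∏ q : Γ ⧸ P, q.out • (y : A) = ∏ q : Γ ⧸ P, q.out • (y : A)
    rw [Finset.smul_prod']
    refine Fintype.prod_equiv (MulAction.toPerm g) _ _ fun q => ?_
    have h : (g • q).out⁻¹ * (g * q.out) ∈ P := by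
      rw [← QuotientGroup.eq]
      conv_lhs => rw [QuotientGroup.out_eq', ← QuotientGroup.out_eq' q]
      rfl
    change g • q.out • (y : A) = (g • q).out • (y : A)
    conv_rhs => rw [← y.2 _ h]
    rw [← mul_smul, ← mul_smul, mul_inv_cancel_left]
  have hfix : ∀ c : A, (hc : ∀ g : Γ, g • c = c) → tr ⟨c, fun g _ => hc g⟩ = c ^ P.index := by
    intro c hc
    change ∏ q : Γ ⧸ P, q.out • c = c ^ P.index
    simp [hc, Subgroup.index, Nat.card_eq_fintype_card]
  refine ⟨tr.ker.map B.subtype, ?_, ?_, ?_⟩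
  · rintro _ ⟨x, -, rfl⟩
    exact x.2
  · rintro _ ⟨x, hx, rfl⟩ hc
    have h1 : (x : A) ^ P.index = 1 := (hfix x hc).symm.trans hx
    refine hA.powEquiv (Nat.Prime.coprime_iff_not_dvd hp.out |>.2 hP) |>.injective ?_
    simpa [IsPGroup.powEquiv] using h1
  · intro y hy
    let t := tr ⟨y, hy⟩
    obtain ⟨c, hce⟩ := (hA.powEquiv (Nat.Prime.coprime_iff_not_dvd hp.out |>.2 hP)).surjective t
    have hce' : c ^ P.index = t := hce
    have hc : ∀ g : Γ, g • c = c := fun g =>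
      (hA.powEquiv (Nat.Prime.coprime_iff_not_dvd hp.out |>.2 hP)).injective
        (show (g • c) ^ P.index = c ^ P.index by rw [← smul_pow', hce', htr])
    refine ⟨c, c⁻¹ * y, hc, ⟨⟨c, fun g _ => hc g⟩⁻¹ * ⟨y, hy⟩, ?_, rfl⟩, mul_inv_cancel_left _ _⟩
    change tr (_ * _) = 1
    rw [map_mul, map_inv, hfix c hc, hce']
    exact inv_mul_cancel t

variable {Ω : Type*} [Group Ω] {S : Subgroup Ω} [Finite S] {F : FusionSystem S} {p : ℕ}
  [Fact p.Prime]

/-- An automorphism group fixing a central element of a normal subgroup fixes it in `F`. -/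
theorem fixes_of_autGroup_fixes {Q : Subgroup Ω} (hQ : F.IsNormal Q) {w : Ω} (hw : w ∈ Q)
    (h : ∀ α ∈ F.autGroup Q, α ⟨w, hw⟩ = ⟨w, hw⟩) : Fixes F w := by
  intro P φ hφ x hx
  obtain ⟨ψ, hψ, hψe, hψQ⟩ := hQ.2 P φ hφ
  obtain ⟨e, he, hee⟩ := exists_iso_of_range (res_mem F hψ (le_sup_right : Q ≤ P ⊔ Q))
    ((range_comp_inclusion ψ le_sup_right).trans hψQ)
  have h1 := congrArg Subtype.val (h e ((mem_autGroup_iff F hQ.1).2 he))
  rw [← hψe, ← h1.trans (by rfl : ((⟨w, hw⟩ : Q) : Ω) = w)]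
  refine Eq.trans ?_ (hee ⟨w, hw⟩).symm
  exact congrArg ψ (Subtype.ext hx)

/-- The centre is a direct factor of `Z(S)` when `Z(S)` lies in the core. -/
theorem exists_center_complement (hS : IsPGroup p S) (hF : F.IsSaturated p)
    (hZ : S ⊓ Subgroup.centralizer (S : Set Ω) ≤ F.core) :
    ∃ K : Subgroup Ω, K ≤ S ⊓ Subgroup.centralizer (S : Set Ω) ∧ F.center ⊓ K = ⊥ ∧
      F.center ⊔ K = S ⊓ Subgroup.centralizer (S : Set Ω) := by
  have hQ : F.IsNormal F.core := isNormal_core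
  set Q := F.core
  have hfinQ := finite_of_le hQ.1
  have hn : F.IsFullyNormalized Q := ⟨hQ.1, fun R hR => by
    obtain ⟨φ, hφ, rfl⟩ := hR
    rw [(weaklyClosed_of_stronglyClosed (stronglyClosed_of_isNormal hQ)).2 φ hφ]⟩
  obtain ⟨-, hidx⟩ := (isFullyAutomized_iff hS).1
    (fullyAutomized_receptive_of_fullyNormalized hS hF hn).1
  let res : MulAut Q →* MulAut (Subgroup.center Q) := MonoidHom.mk'
    (fun α => Subgroup.centerCongr α) fun a b => rfl
  let _ := MulDistribMulAction.compHom (Subgroup.center Q)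
    (res.comp (F.autGroup Q).subtype)
  have hsmul : ∀ (g : F.autGroup Q) (x : Subgroup.center Q),
      ((g • x : Subgroup.center Q) : Q) = (g : MulAut Q) (x : Q) := fun g x => rfl
  obtain ⟨K, hK1, hK2, hK3⟩ := exists_fixed_complement (Γ := F.autGroup Q)
    (A := Subgroup.center Q) ((hS.to_le hQ.1).to_subgroup _)
    ((autInducedBy S Q).subgroupOf (F.autGroup Q)) hidx
  set ι := Q.subtype.comp (Subgroup.center Q).subtype
  have hZS : ∀ {x : Subgroup.center Q}, (∀ g ∈ (autInducedBy S Q).subgroupOf (F.autGroup Q),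
      g • x = x) → ι x ∈ S ⊓ Subgroup.centralizer (S : Set Ω) := by
    intro x hx
    refine ⟨hQ.1 x.1.2, fun s hs => ?_⟩
    have hn' := mem_normalizer_of_stronglyClosed (stronglyClosed_of_isNormal hQ) hs
    have hmem : normAut s hn' ∈ autInducedBy S Q :=
      mem_autInducedBy_iff.2 ⟨s, hs, fun _ => rfl⟩
    have h1 := congrArg (fun y : Subgroup.center Q => ((y : Q) : Ω))
      (hx ⟨_, autInducedBy_le_autGroup hQ.1 hmem⟩ hmem)
    exact mul_inv_eq_iff_eq_mul.1 h1
  have hK : K.map ι ≤ S ⊓ Subgroup.centralizer (S : Set Ω) := by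
    rintro _ ⟨x, hx, rfl⟩
    exact hZS (hK1 x hx)
  refine ⟨K.map ι, hK, ?_, le_antisymm (sup_le ?_ hK) fun z hz => ?_⟩
  · rw [eq_bot_iff]
    rintro _ ⟨hc, x, hx, rfl⟩
    rw [Subgroup.mem_bot]
    refine (congrArg ι (hK2 x hx fun g => ?_)).trans (map_one ι)
    refine Subtype.ext (Subtype.ext ?_)
    rw [hsmul]
    exact (fixes_of_mem_center hc).2 Q _ ((mem_autGroup_iff F hQ.1).1 g.2) _ rfl
  · intro c hc
    exact ⟨(fixes_of_mem_center hc).1.1, (fixes_of_mem_center hc).1.2⟩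
  · have hzQ : z ∈ Q := hZ hz
    have hzc : (⟨z, hzQ⟩ : Q) ∈ Subgroup.center Q :=
      Subgroup.mem_center_iff.2 fun y => Subtype.ext (hz.2 y (hQ.1 y.2))
    obtain ⟨c, k, hc, hk, hck⟩ := hK3 ⟨_, hzc⟩ fun g hg => by
      obtain ⟨s, hs, hse⟩ := mem_autInducedBy_iff.1 (show (g : MulAut Q) ∈ _ from hg)
      refine Subtype.ext (Subtype.ext ?_)
      rw [hsmul, hse]
      change s * z * s⁻¹ = z
      rw [hz.2 s hs, mul_inv_cancel_right]
    have hzeq : z = ι c * ι k := by rw [← map_mul, hck]; rfl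
    rw [hzeq]
    refine Subgroup.mul_mem_sup (mem_center_of_fixes hS hF (hZS fun g _ => hc g) ?_) ⟨k, hk, rfl⟩
    exact fixes_of_autGroup_fixes hQ (c : Q).2 fun α hα =>
      congrArg Subtype.val (hc ⟨α, hα⟩)

end CfsgLib.Fusion
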