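import Cfsg.Agent.Lib.Fusion.Alperin

/-!
# Essential classes cannot be omitted from a generating family
-/

set_option autoImplicit false

open Cfsg Cfsg.FusionSystem

namespace CfsgLib.Fusion

variable {Ω : Type*} [Group Ω] {S : Subgroup Ω}

section Ref

variable (F : FusionSystem S) (Q : Subgroup Ω)

/-- An isomorphism onto `Q` extending to the normalizer. -/
def IsRef {R : Subgroup Ω} (r : R ≃* Q) : Prop :=
  IsIso F r ∧ ∃ (h : R ≤ normalizerIn S R), ∃ ψ ∈ F.Hom (normalizerIn S R),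
    (∀ x : R, ψ (Subgroup.inclusion h x) = r x) ∧ ∀ g, ψ g ∈ normalizerIn S Q

/-- An isomorphism between conjugates of `Q` which is `extSubgroup` in reference coordinates. -/
def IsGoodIso {R R' : Subgroup Ω} (e : R ≃* R') : Prop :=
  ∀ (r : R ≃* Q) (r' : R' ≃* Q), IsRef F Q r → IsRef F Q r' →
    (r.symm.trans e).trans r' ∈ extSubgroup F Q

variable {F Q}

theorem mem_extSubgroup_of_extends {p : ℕ} [Fact p.Prime] [Finite S] (hS : IsPGroup p S)
    {R R' M : Subgroup Ω} {e : R ≃* R'} (hRM : R < M) {ψ₀ : M →* Ω} (hψ₀ : ψ₀ ∈ F.Hom M)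
    (he : ∀ x : R, ψ₀ (Subgroup.inclusion hRM.le x) = e x) : IsGoodIso F Q e := by
  intro r r' ⟨hr, h, ψ, hψ, hψe, hψN⟩ ⟨hr', h', ψ', hψ', hψe', _⟩
  have hMS := le_S F hψ₀
  have := finite_of_le hMS
  have hlt : R < normalizerIn M R := lt_normalizerIn (hS.to_le hMS) hRM
  have hM1M : normalizerIn M R ≤ M := normalizerIn_le R
  have hM1S : normalizerIn M R ≤ normalizerIn S R := inf_le_inf_right _ hMS
  -- first go back from `Q` along `ψ`
  obtain ⟨χ, hχ, hχe⟩ := F.inv_mem (res_mem F hψ hM1S)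
  have hQM₂ : Q ≤ (ψ.comp (Subgroup.inclusion hM1S)).range := fun q hq => by
    obtain ⟨x, hx⟩ := r.surjective ⟨q, hq⟩
    exact ⟨Subgroup.inclusion hlt.le x, (hψe x).trans (congrArg Subtype.val hx)⟩
  have hlt₂ : Q < (ψ.comp (Subgroup.inclusion hM1S)).range := by
    refine lt_of_le_not_ge hQM₂ fun hle => ?_
    obtain ⟨y, hy, hyR⟩ := SetLike.exists_of_lt hlt
    obtain ⟨x, hx⟩ := r.surjective ⟨_, hle ⟨⟨y, hy⟩, rfl⟩⟩
    have h1 := F.injective_of_mem hψ ((hψe x).trans (congrArg Subtype.val hx))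
    exact hyR ((show (x : Ω) = y from congrArg Subtype.val h1) ▸ x.2)
  have hv1 : ∀ u, χ u ∈ M := by
    rintro ⟨_, m, rfl⟩
    rw [hχe]
    exact hM1M m.2
  have h1 := F.comp_mem hχ hψ₀ hv1
  have hv2 : ∀ u, (ψ₀.comp (χ.codRestrict M hv1)) u ∈ normalizerIn S R' := by
    rintro ⟨_, m, rfl⟩
    have h2 : χ.codRestrict M hv1 ⟨_, m, rfl⟩ = ⟨(m : Ω), hM1M m.2⟩ := Subtype.ext (hχe m)
    change ψ₀ (χ.codRestrict M hv1 ⟨_, m, rfl⟩) ∈ _
    rw [h2]
    exact apply_mem_normalizerIn (res_mem F hψ₀ hM1M) hlt.le (fun x => he x) inf_le_right m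
  refine mem_extSubgroup hlt₂ (F.comp_mem h1 hψ' hv2) fun q => ?_
  obtain ⟨x, rfl⟩ := r.surjective q
  have h3 : Subgroup.inclusion hlt₂.le (r x) =
      ⟨(ψ.comp (Subgroup.inclusion hM1S)) (Subgroup.inclusion hlt.le x), _, rfl⟩ :=
    Subtype.ext (hψe x).symm
  simp only [MonoidHom.comp_apply, MulEquiv.trans_apply, MulEquiv.symm_apply_apply, h3]
  refine Eq.trans ?_ (hψe' (e x))
  refine congrArg ψ' (Subtype.ext ?_)
  refine Eq.trans ?_ (he x)
  exact congrArg ψ₀ (Subtype.ext (hχe _))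

end Ref

variable [Finite S] {F : FusionSystem S} {p : ℕ} [Fact p.Prime]

variable (F) in
/-- The maps that are good on every conjugate of `Q` in their source. -/
def omitSys (hS : IsPGroup p S) (hF : F.IsSaturated p) (Q : Subgroup Ω)
    (hQ : F.IsFullyNormalized Q) (hQS : Q < S) : FusionSystem S where
  Hom P := {φ | φ ∈ F.Hom P ∧ ∀ (R R' : Subgroup Ω) (e : R ≃* R') (h : R ≤ P),
    (∀ x : R, φ (Subgroup.inclusion h x) = e x) → IsGoodIso F Q e}
  le_of_mem h := F.le_of_mem h.1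
  injective_of_mem h := F.injective_of_mem h.1
  conj_mem {P g} hP hg := by
    refine ⟨F.conj_mem hP hg, fun R R' e h he r r' hr hr' => ?_⟩
    have hRS : R < S := by
      refine lt_of_le_of_ne (h.trans hP) ?_
      rintro rfl
      exact hQS.ne (Subgroup.eq_of_le_of_card_ge hQ.1 (card_eq_of_isConj (isConj_iff.2 ⟨r, hr.1⟩)).le)
    exact mem_extSubgroup_of_extends hS (e := e) hRS (F.conj_mem le_rfl hg) (fun x => he x)
      r r' hr hr'
  comp_mem := by
    rintro P P' φ ψ ⟨hφ, hφg⟩ ⟨hψ, hψg⟩ hv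
    refine ⟨F.comp_mem hφ hψ hv, fun R R' e h he r r' hr hr' => ?_⟩
    obtain ⟨f, hf, hfe⟩ := exists_iso_of_range (res_mem F hφ h) rfl
    have hR₁ : F.IsConj (φ.comp (Subgroup.inclusion h)).range Q :=
      isConj_trans (isConj_symm (isConj_iff.2 ⟨f, hf⟩)) (isConj_iff.2 ⟨r, hr.1⟩)
    obtain ⟨r₁, h₁, hr₁, χ, hχ, hχe, hχN⟩ :=
      exists_hom_normalizerIn_of_fullyNormalized hS hF hQ hR₁
    have hR₁P : (φ.comp (Subgroup.inclusion h)).range ≤ P' := by
      rintro _ ⟨x, rfl⟩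
      exact hv _
    have ha := hφg R _ f h (fun x => (hfe x).symm) r r₁ hr ⟨hr₁, h₁, χ, hχ, hχe, hχN⟩
    have hb := hψg _ R' (f.symm.trans e) hR₁P (fun y => by
      obtain ⟨x, rfl⟩ := f.surjective y
      simp only [MulEquiv.trans_apply, MulEquiv.symm_apply_apply]
      rw [← he x]
      exact congrArg ψ (Subtype.ext (hfe x))) r₁ r' ⟨hr₁, h₁, χ, hχ, hχe, hχN⟩ hr'
    have hc := (extSubgroup F Q).mul_mem hb ha
    convert hc using 1
    exact MulEquiv.ext fun q => by simp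
  inv_mem := by
    rintro P φ ⟨hφ, hφg⟩
    obtain ⟨ψ, hψ, hψe⟩ := F.inv_mem hφ
    refine ⟨ψ, ⟨hψ, fun R R' e h he r r' hr hr' => ?_⟩, hψe⟩
    have hR'P : R' ≤ P := fun y hy => by
      obtain ⟨x, hx⟩ := e.surjective ⟨y, hy⟩
      obtain ⟨z, hz⟩ := h x.2
      have h1 : ψ (Subgroup.inclusion h x) = z := by
        rw [← hψe z]; exact congrArg ψ (Subtype.ext hz.symm)
      have h2 : (z : Ω) = y := h1.symm.trans ((he x).trans (congrArg Subtype.val hx))
      exact h2 ▸ z.2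
    have hc := hφg R' R e.symm hR'P (fun y => by
      obtain ⟨x, rfl⟩ := e.surjective y
      rw [e.symm_apply_apply]
      obtain ⟨z, hz⟩ := h x.2
      have h1 : ψ (Subgroup.inclusion h x) = z := by
        rw [← hψe z]; exact congrArg ψ (Subtype.ext hz.symm)
      rw [← hz]
      exact congrArg φ (Subtype.ext ((he x).symm.trans h1))) r' r hr' hr
    convert (extSubgroup F Q).inv_mem hc using 1
    exact MulEquiv.ext fun q => rfl

theorem essential_lt (hS : IsPGroup p S) (hF : F.IsSaturated p) {Q : Subgroup Ω}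
    (hQ : F.IsEssential p Q) : Q < S := by
  refine lt_of_le_of_ne hQ.1.1 ?_
  rintro rfl
  obtain ⟨-, -, hN, Y, hY⟩ := hQ
  obtain ⟨-, hidx⟩ := (isFullyAutomized_iff hS).1
    (fullyAutomized_receptive_of_fullyNormalized hS hF (isFullyNormalized_self (F := F))).1
  refine hidx ?_
  rw [← inn_eq]
  exact hY.1

theorem extSubgroup_ne (hS : IsPGroup p S) (hF : F.IsSaturated p) {Q : Subgroup Ω}
    (hQ : F.IsEssential p Q) : extSubgroup F Q ≠ F.autGroup Q := by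
  rcases extSubgroup_dichotomy hS hF (essential_lt hS hF hQ) hQ.2.1 with ⟨h, -⟩ | ⟨-, hN, hY⟩
  · exact absurd hQ h
  intro heq
  refine hY.2.1 ?_
  rw [heq, Subgroup.subgroupOf_self, Subgroup.map_top_of_surjective _
    (QuotientGroup.mk'_surjective _)]

/-- Some system containing the automorphism groups of all subgroups outside the class of an
essential `Q` does not contain `F`. -/
theorem exists_omit (hS : IsPGroup p S) (hF : F.IsSaturated p) {Q : Subgroup Ω}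
    (hQ : F.IsEssential p Q) :
    ∃ E : FusionSystem S, (∀ R : Subgroup Ω, R ≤ S → ¬ F.IsConj Q R → F.autGroup R ≤ E.autGroup R)
      ∧ ¬ F ≤ E := by
  have hQS := essential_lt hS hF hQ
  refine ⟨omitSys F hS hF Q hQ.2.1 hQS, fun R₀ hR₀ hnc α hα => ?_, fun hle => ?_⟩
  · have hαi := (mem_autGroup_iff F hR₀).1 hα
    refine mem_autGroup_of_mem (φ := R₀.subtype.comp α.toMonoidHom) _
      ⟨hαi, fun R R' e h he r r' hr hr' => ?_⟩ fun _ => rfl
    have hlt : R < R₀ := by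
      refine lt_of_le_of_ne h ?_
      rintro rfl
      exact hnc (isConj_symm (isConj_iff.2 ⟨r, hr.1⟩))
    exact mem_extSubgroup_of_extends hS (e := e) hlt hαi (fun x => he x) r r' hr hr'
  · refine extSubgroup_ne hS hF hQ (le_antisymm (extSubgroup_le Q) fun α hα => ?_)
    have href : IsRef F Q (MulEquiv.refl Q) := ⟨isIso_refl hQS.le, le_normalizerIn hQS.le, _,
      id_mem F (normalizerIn_le Q), fun _ => rfl, fun g => g.2⟩
    have h := (hle Q ((mem_autGroup_iff F hQS.le).1 hα)).2 Q Q α le_rfl (fun _ => rfl) _ _ href href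
    convert h using 1
    exact MulEquiv.ext fun _ => rfl

variable (F) in
/-- The maps that are inner when defined on all of `S`. -/
def innerTopSys : FusionSystem S where
  Hom P := {φ | φ ∈ F.Hom P ∧ (P = S → ∃ g ∈ S, ∀ x : P, φ x = g * (x : Ω) * g⁻¹)}
  le_of_mem h := F.le_of_mem h.1
  injective_of_mem h := F.injective_of_mem h.1
  conj_mem {P g} hP hg := ⟨F.conj_mem hP hg, fun _ => ⟨g, hg, fun _ => rfl⟩⟩
  comp_mem := by
    rintro P P' φ ψ ⟨hφ, hφi⟩ ⟨hψ, hψi⟩ hv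
    refine ⟨F.comp_mem hφ hψ hv, fun hP => ?_⟩
    obtain ⟨g, hg, hge⟩ := hφi hP
    have hP' : P' = S := by
      refine le_antisymm (le_S F hψ) fun y hy => ?_
      have hy' : g⁻¹ * y * g ∈ P := hP ▸ S.mul_mem (S.mul_mem (S.inv_mem hg) hy) hg
      have := hv ⟨_, hy'⟩
      rw [hge] at this
      simpa [mul_assoc] using this
    obtain ⟨k, hk, hke⟩ := hψi hP'
    refine ⟨k * g, S.mul_mem hk hg, fun x => ?_⟩
    change ψ ⟨φ x, _⟩ = _
    rw [hke]
    change k * φ x * k⁻¹ = _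
    rw [hge]
    group
  inv_mem := by
    rintro P φ ⟨hφ, hφi⟩
    obtain ⟨ψ, hψ, hψe⟩ := F.inv_mem hφ
    refine ⟨ψ, ⟨hψ, fun hr => ?_⟩, hψe⟩
    have hP : P = S := by
      refine Subgroup.eq_of_le_of_card_ge (le_S F hφ) ?_
      rw [← hr, ← Nat.card_congr (MonoidHom.ofInjective (F.injective_of_mem hφ)).toEquiv]
    obtain ⟨g, hg, hge⟩ := hφi hP
    refine ⟨g⁻¹, S.inv_mem hg, ?_⟩
    rintro ⟨_, x, rfl⟩
    rw [hψe]
    change (x : Ω) = g⁻¹ * φ x * g⁻¹⁻¹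
    rw [hge]
    group

/-- Generating families closed under conjugacy are closed under intersection. -/
theorem generating_inter (hS : IsPGroup p S) (hF : F.IsSaturated p) (𝒬₁ 𝒬₂ : Set (Subgroup Ω))
    (h₁ : ∀ R ∈ 𝒬₁, ∀ R', F.IsConj R R' → R' ∈ 𝒬₁) (h₂ : ∀ R ∈ 𝒬₂, ∀ R', F.IsConj R R' → R' ∈ 𝒬₂)
    (hg₁ : ∀ E : FusionSystem S, (∀ R ∈ 𝒬₁, F.autGroup R ≤ E.autGroup R) → F ≤ E)
    (hg₂ : ∀ E : FusionSystem S, (∀ R ∈ 𝒬₂, F.autGroup R ≤ E.autGroup R) → F ≤ E)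
    (E : FusionSystem S) (hE : ∀ R ∈ 𝒬₁ ∩ 𝒬₂, F.autGroup R ≤ E.autGroup R) : F ≤ E := by
  have hess : ∀ 𝒬 : Set (Subgroup Ω), (∀ R ∈ 𝒬, ∀ R', F.IsConj R R' → R' ∈ 𝒬) →
      (∀ E : FusionSystem S, (∀ R ∈ 𝒬, F.autGroup R ≤ E.autGroup R) → F ≤ E) →
      ∀ P, F.IsEssential p P → P ∈ 𝒬 := by
    intro 𝒬 h hg P hP
    by_contra hP'
    obtain ⟨E₀, hE₀, hne⟩ := exists_omit hS hF hP
    refine hne (hg E₀ fun R hR => ?_)
    by_cases hRS : R ≤ S
    · exact hE₀ R hRS fun hc => hP' (h R hR P (isConj_symm hc))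
    · rw [autGroup_eq_bot F hRS]; exact bot_le
  have htop : ∀ 𝒬 : Set (Subgroup Ω),
      (∀ E : FusionSystem S, (∀ R ∈ 𝒬, F.autGroup R ≤ E.autGroup R) → F ≤ E) → S ∉ 𝒬 →
      F.autGroup S ≤ E.autGroup S := by
    intro 𝒬 hg hS' α hα
    have hle := hg (innerTopSys F) fun R hR β hβ => by
      by_cases hRS : R ≤ S
      · exact mem_autGroup_of_mem (φ := R.subtype.comp β.toMonoidHom) _
          ⟨(mem_autGroup_iff F hRS).1 hβ, fun h => absurd (h ▸ hR) hS'⟩ fun _ => rfl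
      · rw [autGroup_eq_bot F hRS, Subgroup.mem_bot] at hβ
        rw [hβ]; exact one_mem _
    obtain ⟨g, hg', hge⟩ := (hle S ((mem_autGroup_iff F le_rfl).1 hα)).2 rfl
    exact mem_autGroup_of_mem (φ := conjHom S g) E (E.conj_mem le_rfl hg') fun x => hge x
  refine alperin hS hF E fun P hP => ?_
  rcases hP with rfl | hP
  · by_cases h : P ∈ 𝒬₁
    · by_cases h' : P ∈ 𝒬₂
      · exact hE P ⟨h, h'⟩
      · exact htop 𝒬₂ hg₂ h'
    · exact htop 𝒬₁ hg₁ h
  · exact hE P ⟨hess 𝒬₁ h₁ hg₁ P hP, hess 𝒬₂ h₂ hg₂ P hP⟩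

end CfsgLib.Fusion
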