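import Cfsg.Agent.Lib.Fusion.PlaneTransvection
import Cfsg.Agent.Lib.Fusion.Omit
import Cfsg.Agent.Lib.Fusion.HypFocal
import Cfsg.Agent.Lib.Fusion.Normal
import Cfsg.Agent.Lib.PGroup.Basic
import Cfsg.Agent.Lib.Transfer.Critical

/-!
# Core-free fusion systems on groups with centre of index at most p²
-/

set_option autoImplicit false

open Cfsg Cfsg.FusionSystem
open scoped commutatorElement

namespace CfsgLib.Fusion.CenterIndexPSq

variable {Ω : Type*} [Group Ω] {S : Subgroup Ω} [Finite S] {p : ℕ} [Fact p.Prime]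
  {F : FusionSystem S}

/-- `Z(S)` inside the ambient group. -/
def zed (S : Subgroup Ω) : Subgroup Ω := S ⊓ Subgroup.centralizer (S : Set Ω)

theorem zed_comm {z g : Ω} (hz : z ∈ zed S) (hg : g ∈ S) : g * z = z * g :=
  Subgroup.mem_centralizer_iff.1 hz.2 g hg

theorem map_center : (Subgroup.center ↥S).map S.subtype = zed S := by
  ext z
  constructor
  · rintro ⟨w, hw, rfl⟩
    exact ⟨w.2, Subgroup.mem_centralizer_iff.2 fun g hg =>
      congrArg Subtype.val (Subgroup.mem_center_iff.1 hw ⟨g, hg⟩)⟩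
  · intro hz
    exact ⟨⟨z, hz.1⟩, Subgroup.mem_center_iff.2 fun g => Subtype.ext (zed_comm hz g.2), rfl⟩

theorem zed_relIndex : (zed S).relIndex S = (Subgroup.center ↥S).index := by
  rw [← map_center, Subgroup.relIndex, Subgroup.subgroupOf,
    Subgroup.comap_map_eq_self_of_injective S.subtype_injective]

theorem aut_zed (ψ : MulAut S) {z : S} (hz : (z : Ω) ∈ zed S) : (ψ z : Ω) ∈ zed S :=
  ⟨(ψ z).2, Subgroup.mem_centralizer_iff.2 fun g hg => by
    have h : ψ.symm ⟨g, hg⟩ * z = z * ψ.symm ⟨g, hg⟩ :=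
      Subtype.ext (zed_comm hz (ψ.symm ⟨g, hg⟩).2)
    have h2 := congrArg ψ h
    rw [map_mul, map_mul, ψ.apply_symm_apply] at h2
    exact congrArg Subtype.val h2⟩

/-- What an essential subgroup provides. -/
structure Data (F : FusionSystem S) (p : ℕ) (c : Ω) (E : Subgroup Ω) where
  M : Subgroup Ω
  K : Subgroup Ω
  m : Ω
  hES : E ≤ S
  hZE : zed S ≤ E
  hidx : (zed S).relIndex E = p
  hm : m ∈ E ∧ m ∉ zed S ∧ m ^ p = 1
  hM : M = Subgroup.closure {c, m}
  hMS : M ≤ E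
  hK : K ≤ zed S
  hcK : c ∉ K
  hdec : ∀ z ∈ zed S, ∃ i : ℤ, z * (c ^ i)⁻¹ ∈ K
  invK : ∀ α ∈ F.autGroup E, ∀ x : E, (x : Ω) ∈ K → ((α x : E) : Ω) ∈ K
  invM : ∀ α ∈ F.autGroup E, ∀ x : E, (x : Ω) ∈ M → ((α x : E) : Ω) ∈ M
  dec : ∀ α ∈ F.autGroup E, ∃ ψ ∈ F.autGroup S, ∀ (x : E),
    ((ψ ⟨x, hES x.2⟩ : S) : Ω)⁻¹ * (α x : E) ∈ M
  neg : ∃ ψ ∈ F.autGroup S, (∀ (x : Ω) (hx : x ∈ K) (hxS : x ∈ S), ((ψ ⟨x, hxS⟩ : S) : Ω) = x) ∧
    ∀ hcS : c ∈ S, ((ψ ⟨c, hcS⟩ : S) : Ω) = c⁻¹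

variable (hS : IsPGroup p S) (hF : F.IsSaturated p)

include hS hF in
theorem exists_data {c : Ω} (hc : orderOf c = p) (hcZ : c ∈ zed S)
    (hcomm : ∀ a ∈ S, ∀ b ∈ S, ⁅a, b⁆ ∈ Subgroup.zpowers c)
    (hidx : (zed S).relIndex S = p ^ 2) {E : Subgroup Ω} (hE : F.IsEssential p E) :
    Nonempty (Data F p c E) := by
  classical
  have hp : p.Prime := Fact.out
  have hES := hE.1.1
  have hlt := essential_lt hS hF hE
  have hcen : centralizerIn S E ≤ E := hE.1.2 E (isConj_refl hES)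
  have hZE : zed S ≤ E := fun z hz => hcen ⟨hz.1, Subgroup.mem_centralizer_iff.2 fun g hg =>
    zed_comm hz (hES hg)⟩
  have := finite_of_le hES
  have hmul := Subgroup.relIndex_mul_relIndex _ _ _ hZE hES
  rw [hidx] at hmul
  have hEidx : (zed S).relIndex E = p ∧ E.relIndex S = p := by
    obtain ⟨k, hk, hk'⟩ := (Nat.dvd_prime_pow hp).1 (Dvd.intro _ hmul : (zed S).relIndex E ∣ p ^ 2)
    interval_cases k
    · exfalso
      rw [pow_zero] at hk'
      have hEz : E = zed S := le_antisymm (Subgroup.relIndex_eq_one.1 hk') hZE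
      refine hlt.not_ge fun g hg => hcen ⟨hg, Subgroup.mem_centralizer_iff.2 fun z hz => ?_⟩
      exact (zed_comm (hEz ▸ hz) hg).symm
    · rw [pow_one] at hk'
      rw [hk', sq] at hmul
      exact ⟨hk', Nat.eq_of_mul_eq_mul_left hp.pos hmul⟩
    · exfalso
      rw [hk'] at hmul
      have h1 : E.relIndex S = 1 :=
        Nat.eq_of_mul_eq_mul_left (pow_pos hp.pos 2) (hmul.trans (mul_one _).symm)
      exact hlt.not_ge (Subgroup.relIndex_eq_one.1 h1)
  -- `E` is abelian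
  have hEc : ∀ a b : E, a * b = b * a := by
    set Z₀ := (zed S).subgroupOf E
    have hZc : Z₀ ≤ Subgroup.center ↥E := fun z hz =>
      Subgroup.mem_center_iff.2 fun g => Subtype.ext (zed_comm hz (hES g.2))
    have hd : (Subgroup.center ↥E).index ∣ p := hEidx.1 ▸ Subgroup.index_dvd_of_le hZc
    have hcyc : IsCyclic (↥E ⧸ Subgroup.center ↥E) := by
      rcases (Nat.dvd_prime hp).1 hd with e | e
      · have : Subsingleton (↥E ⧸ Subgroup.center ↥E) :=
          (Nat.card_eq_one_iff_unique.1 (by rw [← Subgroup.index_eq_card]; exact e)).1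
        exact isCyclic_of_subsingleton
      · exact isCyclic_of_prime_card (p := p) (by rw [← Subgroup.index_eq_card]; exact e)
    exact commutative_of_cyclic_center_quotient (QuotientGroup.mk' (Subgroup.center ↥E))
      (by rw [QuotientGroup.ker_mk'])
  letI : CommGroup ↥E := { (inferInstance : Group ↥E) with mul_comm := hEc }
  have hr := isRadical_of_isEssential hS hE
  have hinn : Cfsg.Inn E = ⊥ := eq_bot_iff.2 fun a ha => by
    obtain ⟨x, rfl⟩ := ha
    exact Subgroup.mem_bot.2 (MulEquiv.ext fun y => by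
      rw [MulAut.conj_apply, mul_comm x y, mul_inv_cancel_right]; rfl)
  obtain ⟨g, hg, hgE⟩ := SetLike.exists_of_lt (lt_normalizerIn hS hlt)
  set σ := normAut g hg.2 with hσdef
  have hσS : σ ∈ autInducedBy S E := mem_autInducedBy_iff.2 ⟨g, hg.1, fun _ => rfl⟩
  have hσA : σ ∈ F.autGroup E := autInducedBy_le_autGroup hES hσS
  -- every element of `S` is a power of `g` times an element of `E`
  have hSdec : ∀ s ∈ S, ∃ i : ℤ, (g ^ i)⁻¹ * s ∈ E := by
    intro s hs
    set H := E ⊔ Subgroup.zpowers g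
    have hH : H ≤ S := sup_le hES (Subgroup.zpowers_le.2 hg.1)
    have h1 := Subgroup.relIndex_mul_relIndex _ _ _ (le_sup_left : E ≤ H) hH
    rw [hEidx.2] at h1
    have hne : E.relIndex H ≠ 1 := fun e =>
      hgE (Subgroup.relIndex_eq_one.1 e (Subgroup.mem_sup_right (Subgroup.mem_zpowers g)))
    have hHS : H.relIndex S = 1 := by
      rcases (Nat.dvd_prime hp).1 (Dvd.intro _ h1 : E.relIndex H ∣ p) with e | e
      · exact absurd e hne
      · rw [e] at h1
        exact Nat.eq_of_mul_eq_mul_left hp.pos (h1.trans (mul_one p).symm)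
    have hsH : s ∈ H := Subgroup.relIndex_eq_one.1 hHS hs
    have hgn : Subgroup.zpowers g ≤ Subgroup.normalizer (E : Set Ω) := Subgroup.zpowers_le.2 hg.2
    rw [show H = Subgroup.zpowers g ⊔ E from sup_comm _ _] at hsH
    have := hsH
    rw [← SetLike.mem_coe, Subgroup.coe_mul_of_left_le_normalizer_right _ _ hgn] at this
    obtain ⟨_, ⟨i, rfl⟩, e, he, rfl⟩ := this
    exact ⟨i, by simpa using he⟩
  have hAutS : autInducedBy S E = Subgroup.zpowers σ := by
    refine le_antisymm (fun a ha => ?_) (Subgroup.zpowers_le.2 hσS)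
    obtain ⟨s, hs, hse⟩ := mem_autInducedBy_iff.1 ha
    obtain ⟨i, hi⟩ := hSdec s hs
    let e : ↥E := ⟨_, hi⟩
    have hconj : ∀ j : ℤ, ∀ x : E, (((σ ^ j : MulAut E) x : E) : Ω) = g ^ j * x * (g ^ j)⁻¹ := by
      intro j
      induction j using Int.induction_on with
      | zero => intro x; simp
      | succ j ih =>
        intro x
        rw [zpow_add_one, MulAut.mul_apply, ih, hσdef, normAut_apply, zpow_add_one]
        group
      | pred j ih =>
        intro x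
        rw [zpow_sub_one, MulAut.mul_apply, ih]
        have : ((σ⁻¹ x : E) : Ω) = g⁻¹ * x * g := by
          have h1 := normAut_apply g hg.2 (σ⁻¹ x)
          rw [← hσdef, MulAut.apply_inv_self] at h1
          rw [h1]; group
        rw [this, zpow_sub_one]
        group
    refine ⟨i, MulEquiv.ext fun x => Subtype.ext ?_⟩
    rw [hconj, hse]
    have hx : (e : Ω) * x = x * e := congrArg Subtype.val (mul_comm e x)
    calc g ^ i * (x : Ω) * (g ^ i)⁻¹ = g ^ i * ((e : Ω) * x * (e : Ω)⁻¹) * (g ^ i)⁻¹ := by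
          rw [hx, mul_inv_cancel_right]
      _ = _ := by simp only [e]; group
  set Z₀ := (zed S).subgroupOf E with hZ₀
  set c₀ : ↥E := ⟨c, hZE hcZ⟩ with hc₀
  have hfix : ∀ x : E, σ x = x ↔ x ∈ Z₀ := by
    intro x
    constructor
    · intro h
      refine ⟨hES x.2, Subgroup.mem_centralizer_iff.2 fun s hs => ?_⟩
      obtain ⟨i, hi⟩ := hSdec s hs
      have hgx : g * (x : Ω) = x * g := by
        have := congrArg Subtype.val h
        rw [hσdef, normAut_apply] at this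
        exact mul_inv_eq_iff_eq_mul.1 this
      have hgi : g ^ i * (x : Ω) = x * g ^ i := ((Commute.zpow_left (hgx : Commute g (x : Ω)) i)).eq
      have hx : (((g ^ i)⁻¹ * s) * x : Ω) = x * ((g ^ i)⁻¹ * s) :=
        congrArg Subtype.val (mul_comm (⟨_, hi⟩ : ↥E) x)
      calc s * (x : Ω) = g ^ i * (((g ^ i)⁻¹ * s) * x) := by group
        _ = (g ^ i * x) * ((g ^ i)⁻¹ * s) := by rw [hx]; group
        _ = x * s := by rw [hgi]; group
    · intro h
      refine Subtype.ext ?_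
      rw [hσdef, normAut_apply, zed_comm (Subgroup.mem_subgroupOf.1 h : (x : Ω) ∈ zed S) hg.1,
        mul_inv_cancel_right]
  have him : ∀ x : E, x⁻¹ * σ x ∈ Subgroup.zpowers c₀ := by
    intro x
    obtain ⟨k, hk⟩ := hcomm _ (S.inv_mem (hES x.2)) g hg.1
    refine ⟨k, Subtype.ext ?_⟩
    show c ^ k = _
    rw [show c ^ k = ⁅(x : Ω)⁻¹, g⁆ from hk, commutatorElement_def, hσdef]
    simp [mul_assoc]
  have hT : PlaneTransvection.IsTr (p := p) σ Z₀ c₀ :=
    ⟨hfix, him, hcZ, hEidx.1, by rw [← Subgroup.orderOf_coe]; exact hc⟩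
  -- fully automized
  obtain ⟨hauto, hrec⟩ := fullyAutomized_receptive_of_fullyNormalized hS hF hE.2.1
  obtain ⟨-, R, hR⟩ := hauto
  have hsyl : ∀ H : Subgroup (MulAut E), H ≤ F.autGroup E → IsPGroup p H → Nat.card H ≤ p := by
    intro H hH hHp
    have hHp' : IsPGroup p (H.subgroupOf (F.autGroup E)) := hHp.comap_subtype
    obtain ⟨Q, hQ⟩ := hHp'.exists_le_sylow
    have h1 : Nat.card H = Nat.card (H.subgroupOf (F.autGroup E)) :=
      (Nat.card_congr (Subgroup.subgroupOfEquivOfLe hH).toEquiv).symm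
    have h2 : Nat.card R = p := by
      show Nat.card (R : Subgroup (F.autGroup E)) = p
      rw [hR, Nat.card_congr (Subgroup.subgroupOfEquivOfLe (autInducedBy_le_autGroup hES)).toEquiv,
        hAutS, Nat.card_zpowers, orderOf_eq_prime hT.pow_eq_one hT.ne_one]
    rw [h1, ← h2, Nat.card_congr (Sylow.equiv R Q).toEquiv]
    exact Subgroup.card_le_of_le hQ
  have hnn : ∃ β ∈ F.autGroup E, β * σ * β⁻¹ ∉ Subgroup.zpowers σ := by
    by_contra hno
    push Not at hno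
    have hN : ((Subgroup.zpowers σ).subgroupOf (F.autGroup E)).Normal := ⟨fun a ha b => by
      rw [Subgroup.mem_subgroupOf] at ha ⊢
      obtain ⟨k, hk⟩ := ha
      simp only [Subgroup.coe_mul, Subgroup.coe_inv]
      rw [← hk]
      show (b : MulAut E) * σ ^ k * (b : MulAut E)⁻¹ ∈ _
      rw [← conj_zpow]
      exact zpow_mem (hno b b.2) k⟩
    have hle := le_inn_of_normal_pgroup hr (K := Subgroup.zpowers σ) (Subgroup.zpowers_le.2 hσA) hN
      (IsPGroup.of_card (n := 1) (by rw [Nat.card_zpowers, orderOf_eq_prime hT.pow_eq_one hT.ne_one, pow_one]))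
    exact hT.ne_one (Subgroup.mem_bot.1 (hinn ▸ hle (Subgroup.mem_zpowers σ)))
  have hEp : IsPGroup p E := hS.to_le hES
  obtain ⟨M, K, m, hM, hmZ, hmp, hKZ, hcK, hdec, hKinv, hMinv, hdecA, h, hhA, hhK, hhc, hhσ⟩ :=
    PlaneTransvection.structure_thm hEp hsyl hT hσA hnn
  -- extension to `S`
  have hext : ∀ n ∈ F.autGroup E, n * σ * n⁻¹ ∈ Subgroup.zpowers σ →
      ∃ ψ ∈ F.autGroup S, ∀ x : E, ((ψ ⟨x, hES x.2⟩ : S) : Ω) = (n x : E) := by
    intro n hn hnσ
    have hiso : IsIso F (n : E ≃* E) := (mem_autGroup_iff F hES).1 hn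
    obtain ⟨ψ, hψ, hψe⟩ := exists_extension hrec hiso hES (fun s hs => by
      have hsn : s ∈ Subgroup.normalizer (E : Set Ω) := by
        obtain ⟨i, hi⟩ := hSdec s hs
        rw [show s = g ^ i * ((g ^ i)⁻¹ * s) by group]
        exact (Subgroup.normalizer (E : Set Ω)).mul_mem
          ((Subgroup.normalizer (E : Set Ω)).zpow_mem hg.2 i) (Subgroup.le_normalizer hi)
      refine mem_extender_iso_iff.2 ⟨hs, hsn, ?_⟩
      rw [hAutS]
      obtain ⟨k, hk⟩ : normAut s hsn ∈ Subgroup.zpowers σ := by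
        rw [← hAutS]; exact mem_autInducedBy_iff.2 ⟨s, hs, fun _ => rfl⟩
      rw [← hk]
      show MulAut.congr n (σ ^ k) ∈ _
      rw [map_zpow]
      refine zpow_mem ?_ k
      exact hnσ)
    have hr : ψ.range = S := by
      refine Subgroup.eq_of_le_of_card_ge (range_le_S F hψ) ?_
      rw [← Nat.card_congr (MonoidHom.ofInjective (F.injective_of_mem hψ)).toEquiv]
    obtain ⟨Ψ, hΨ, hΨe⟩ := exists_iso_of_range hψ hr
    exact ⟨Ψ, (mem_autGroup_iff F le_rfl).2 hΨ, fun x => by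
      rw [hΨe, ← hψe x]; rfl⟩
  refine ⟨{
    M := M.map E.subtype
    K := K.map E.subtype
    m := m
    hES := hES
    hZE := hZE
    hidx := hEidx.1
    hm := ⟨m.2, hmZ, congrArg Subtype.val hmp⟩
    hM := ?_
    hMS := Subgroup.map_subtype_le M
    hK := ?_
    hcK := ?_
    hdec := ?_
    invK := ?_
    invM := ?_
    dec := ?_
    neg := ?_ }⟩
  · rw [hM, MonoidHom.map_closure, Set.image_pair]; rfl
  · rintro _ ⟨x, hx, rfl⟩; exact hKZ hx
  · rintro ⟨x, hx, hxc⟩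
    exact hcK ((Subtype.ext hxc : x = c₀) ▸ hx)
  · intro z hz
    obtain ⟨i, hi⟩ := hdec ⟨z, hZE hz⟩ hz
    exact ⟨i, _, hi, by simp [c₀]⟩
  · rintro α hα x ⟨y, hy, hyx⟩
    obtain rfl : y = x := Subtype.ext hyx
    exact ⟨_, hKinv α hα _ hy, rfl⟩
  · rintro α hα x ⟨y, hy, hyx⟩
    obtain rfl : y = x := Subtype.ext hyx
    exact ⟨_, hMinv α hα _ hy, rfl⟩
  · intro α hα
    obtain ⟨n, hn, hnm, hnσ⟩ := hdecA α hα
    obtain ⟨ψ, hψ, hψe⟩ := hext n hn hnσ
    exact ⟨ψ, hψ, fun x => ⟨_, hnm x, by rw [hψe]; rfl⟩⟩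
  · obtain ⟨ψ, hψ, hψe⟩ := hext h hhA (by rw [hhσ]; exact Subgroup.mem_zpowers σ)
    refine ⟨ψ, hψ, ?_, fun hcS => ?_⟩
    · rintro _ ⟨x, hx, rfl⟩ hxS
      exact (hψe x).trans (congrArg Subtype.val (hhK x hx))
    · exact (hψe c₀).trans (congrArg Subtype.val hhc)

theorem le_core {Q : Subgroup Ω} (hQ : F.IsNormal Q) (hcore : F.core = ⊥) : Q = ⊥ :=
  le_bot_iff.1 (hcore ▸ le_sSup hQ)

include hS hF in
/-- Basic facts. -/
theorem basics (hS1 : S ≠ ⊥) (hcore : F.core = ⊥) (hZ : (Subgroup.center ↥S).index ≤ p ^ 2) :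
    (zed S).relIndex S = p ^ 2 ∧ ∃ c ∈ zed S, orderOf c = p ∧
      (∀ a ∈ S, ∀ b ∈ S, ⁅a, b⁆ ∈ Subgroup.zpowers c) ∧
      (∀ ψ : MulAut S, ∀ hcS : c ∈ S, ((ψ ⟨c, hcS⟩ : S) : Ω) ∈ Subgroup.zpowers c) ∧
      ∃ a ∈ S, ∃ b ∈ S, ⁅a, b⁆ ≠ 1 := by
  have hp : p.Prime := Fact.out
  have hna : ∃ a b : S, ⁅a, b⁆ ≠ 1 := by
    by_contra hno
    push Not at hno
    have hab : ⁅S, S⁆ = ⊥ := eq_bot_iff.2 (Subgroup.commutator_le.2 fun a ha b hb =>
      Subgroup.mem_bot.2 (congrArg Subtype.val (hno ⟨a, ha⟩ ⟨b, hb⟩)))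
    refine hS1 (le_core (isNormal_of_commutative hS hF ⟨le_rfl, fun R hR φ hφ x => ?_⟩ hab) hcore)
    exact apply_mem_S F hφ x
  obtain ⟨a, b, hab⟩ := hna
  set Z := Subgroup.center ↥S
  have hnc : ¬ IsCyclic (↥S ⧸ Z) := fun h => by
    refine hab (commutatorElement_eq_one_iff_mul_comm.2 ?_)
    exact commutative_of_cyclic_center_quotient (QuotientGroup.mk' Z) (by rw [QuotientGroup.ker_mk']) a b
  obtain ⟨k, hk⟩ := IsPGroup.iff_card.1 (hS.to_quotient Z)
  have hQ2 : Nat.card (↥S ⧸ Z) = p ^ 2 := by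
    have hle : k ≤ 2 := (Nat.pow_le_pow_iff_right hp.one_lt).1 (by
      rw [← hk, ← Subgroup.index_eq_card]; exact hZ)
    interval_cases k
    · exfalso
      have : Subsingleton (↥S ⧸ Z) := (Nat.card_eq_one_iff_unique.1 (by simpa using hk)).1
      exact hnc isCyclic_of_subsingleton
    · exact absurd (isCyclic_of_prime_card (p := p) (by simpa using hk)) hnc
    · exact hk
  have hQc : ∀ x y : ↥S ⧸ Z, x * y = y * x := (IsPGroup.commGroupOfCardEqPrimeSq hQ2).mul_comm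
  have hQexp : ∀ x : ↥S ⧸ Z, x ^ p = 1 := by
    intro x
    obtain ⟨j, hj, hje⟩ := (Nat.dvd_prime_pow hp).1 (hQ2 ▸ orderOf_dvd_natCard x)
    interval_cases j
    · rw [pow_zero, orderOf_eq_one_iff] at hje; rw [hje, one_pow]
    · rw [pow_one] at hje; rw [← hje, pow_orderOf_eq_one]
    · exact absurd (isCyclic_of_orderOf_eq_card x (hje.trans hQ2.symm)) hnc
  have hcz : ∀ x y : S, ⁅x, y⁆ ∈ Z := fun x y => by
    rw [← QuotientGroup.eq_one_iff, ← QuotientGroup.mk'_apply, map_commutatorElement]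
    exact commutatorElement_eq_one_iff_mul_comm.2 (hQc _ _)
  set c := ⁅a, b⁆ with hc
  have hcp : c ^ p = 1 := by
    rw [hc, ← CfsgLib.PGroup.comm_pow_left (hcz a b)]
    refine commutatorElement_eq_one_iff_mul_comm.2 ?_
    have : a ^ p ∈ Z := by rw [← QuotientGroup.eq_one_iff, QuotientGroup.mk_pow]; exact hQexp _
    exact (Subgroup.mem_center_iff.1 this b).symm
  have hord : orderOf c = p := orderOf_eq_prime hcp hab
  -- the subgroup of elements with commutator against `x` in `⟨c⟩`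
  let C : S → Subgroup S := fun x =>
    { carrier := {s | ⁅s, x⁆ ∈ Subgroup.zpowers c}
      one_mem' := by show ⁅(1 : S), x⁆ ∈ Subgroup.zpowers c; rw [commutatorElement_one_left]; exact one_mem _
      mul_mem' := fun {u v} hu hv => by
        show ⁅u * v, x⁆ ∈ Subgroup.zpowers c
        rw [CfsgLib.PGroup.comm_mul_left (hcz v x)]
        exact mul_mem hu hv
      inv_mem' := fun {u} hu => by
        show ⁅u⁻¹, x⁆ ∈ Subgroup.zpowers c
        have h1 : ⁅u⁻¹ * u, x⁆ = ⁅u⁻¹, x⁆ * ⁅u, x⁆ := CfsgLib.PGroup.comm_mul_left (hcz u x)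
        rw [inv_mul_cancel, commutatorElement_one_left] at h1
        rw [eq_inv_of_mul_eq_one_left h1.symm]
        exact inv_mem hu }
  have hgen : ∀ T : Subgroup S, Z ≤ T → a ∈ T → b ∈ T → T = ⊤ := by
    intro T hZT haT hbT
    by_contra hne
    refine hab (commutatorElement_eq_one_iff_mul_comm.2 ?_)
    have hd : T.index ∣ p ^ 2 := by
      rw [← hQ2, ← Subgroup.index_eq_card]; exact Subgroup.index_dvd_of_le hZT
    obtain ⟨j, hj, hje⟩ := (Nat.dvd_prime_pow hp).1 hd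
    have hrel := Subgroup.relIndex_mul_index hZT
    rw [Subgroup.index_eq_card Z, hQ2] at hrel
    have hTab : ∀ x y : ↥T, x * y = y * x := by
      set Z₁ := Z.subgroupOf T
      have hZc : Z₁ ≤ Subgroup.center ↥T := fun z hz =>
        Subgroup.mem_center_iff.2 fun g => Subtype.ext (Subgroup.mem_center_iff.1 hz g)
      have hj0 : j ≠ 0 := fun e => hne (Subgroup.index_eq_one.1 (by rw [hje, e, pow_zero]))
      have hd' : (Subgroup.center ↥T).index ∣ p := by
        refine (Subgroup.index_dvd_of_le hZc).trans ?_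
        show Z.relIndex T ∣ p
        rw [hje] at hrel
        interval_cases j
        · exact absurd rfl hj0
        · rw [pow_one, sq] at hrel
          exact dvd_of_eq (Nat.eq_of_mul_eq_mul_right hp.pos hrel)
        · have : Z.relIndex T = 1 :=
            Nat.eq_of_mul_eq_mul_right (pow_pos hp.pos 2) (hrel.trans (one_mul _).symm)
          rw [this]; exact one_dvd _
      have hcyc : IsCyclic (↥T ⧸ Subgroup.center ↥T) := by
        rcases (Nat.dvd_prime hp).1 hd' with e | e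
        · have : Subsingleton (↥T ⧸ Subgroup.center ↥T) :=
            (Nat.card_eq_one_iff_unique.1 (by rw [← Subgroup.index_eq_card]; exact e)).1
          exact isCyclic_of_subsingleton
        · exact isCyclic_of_prime_card (p := p) (by rw [← Subgroup.index_eq_card]; exact e)
      exact commutative_of_cyclic_center_quotient (QuotientGroup.mk' (Subgroup.center ↥T))
        (by rw [QuotientGroup.ker_mk'])
    exact congrArg Subtype.val (hTab ⟨a, haT⟩ ⟨b, hbT⟩)
  have hZC : ∀ x, Z ≤ C x := fun x z hz => by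
    show ⁅z, x⁆ ∈ Subgroup.zpowers c
    rw [commutatorElement_eq_one_iff_mul_comm.2 (Subgroup.mem_center_iff.1 hz x).symm]
    exact one_mem _
  have hflip : ∀ x y : S, ⁅x, y⁆ ∈ Subgroup.zpowers c → ⁅y, x⁆ ∈ Subgroup.zpowers c := fun x y h => by
    rw [← commutatorElement_inv]; exact inv_mem h
  have hself : ∀ x : S, ⁅x, x⁆ ∈ Subgroup.zpowers c := fun x => by
    rw [commutatorElement_self]; exact one_mem _
  have hCa : C a = ⊤ := hgen _ (hZC a) (hself a) (hflip _ _ (Subgroup.mem_zpowers c))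
  have hCb : C b = ⊤ := hgen _ (hZC b) (Subgroup.mem_zpowers c) (hself b)
  have hall : ∀ x y : S, ⁅x, y⁆ ∈ Subgroup.zpowers c := fun x y => by
    have hCy : C y = ⊤ := hgen _ (hZC y)
      (hflip _ _ (show y ∈ C a by rw [hCa]; trivial))
      (hflip _ _ (show y ∈ C b by rw [hCb]; trivial))
    exact (show x ∈ C y by rw [hCy]; trivial)
  have hzp : ∀ w : S, w ∈ Subgroup.zpowers c → (w : Ω) ∈ Subgroup.zpowers (c : Ω) := by
    rintro _ ⟨i, rfl⟩
    exact ⟨i, by simp⟩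
  refine ⟨?_, (c : Ω), ?_, ?_, ?_, ?_, ?_⟩
  · rw [zed_relIndex, Subgroup.index_eq_card]; exact hQ2
  · rw [← map_center]; exact ⟨c, hcz a b, rfl⟩
  · rw [Subgroup.orderOf_coe]; exact hord
  · intro x hx y hy
    exact hzp _ (hall ⟨x, hx⟩ ⟨y, hy⟩)
  · intro ψ hcS
    rw [show (⟨(c : Ω), hcS⟩ : S) = c from rfl, hc, map_commutatorElement]
    exact hzp _ (hall _ _)
  · exact ⟨a, a.2, b, b.2, fun h => hab (Subtype.ext h)⟩

/-- Facts shared by the two cases. -/
structure Setting (F : FusionSystem S) (p : ℕ) (c : Ω) : Prop where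
  hidx : (zed S).relIndex S = p ^ 2
  hcZ : c ∈ zed S
  hc : orderOf c = p
  hcomm : ∀ a ∈ S, ∀ b ∈ S, ⁅a, b⁆ ∈ Subgroup.zpowers c
  hchar : ∀ ψ : MulAut S, ∀ hcS : c ∈ S, ((ψ ⟨c, hcS⟩ : S) : Ω) ∈ Subgroup.zpowers c

variable {c : Ω}

theorem mem_zpowers_two {x : Ω} (h2 : x * x = 1) {y : Ω} (hy : y ∈ Subgroup.zpowers x) :
    y = 1 ∨ y = x := by
  obtain ⟨i, rfl⟩ := hy
  rcases Int.even_or_odd i with ⟨k, rfl⟩ | ⟨k, rfl⟩
  · left; show x ^ (k + k) = 1
    rw [← two_mul, zpow_mul, zpow_two, h2, one_zpow]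
  · right; show x ^ (2 * k + 1) = x
    rw [zpow_add, zpow_mul, zpow_two, h2, one_zpow, one_mul, zpow_one]

theorem Data.decE {E : Subgroup Ω} (D : Data F p c E) {x : Ω} (hx : x ∈ E) :
    ∃ i : ℤ, ∃ z ∈ zed S, x = D.m ^ i * z := by
  have := finite_of_le D.hES
  set H := zed S ⊔ Subgroup.zpowers D.m
  have hH : H ≤ E := sup_le D.hZE (Subgroup.zpowers_le.2 D.hm.1)
  have h1 := Subgroup.relIndex_mul_relIndex _ _ _ (le_sup_left : zed S ≤ H) hH
  rw [D.hidx] at h1
  have hne : (zed S).relIndex H ≠ 1 := fun e =>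
    D.hm.2.1 (Subgroup.relIndex_eq_one.1 e (Subgroup.mem_sup_right (Subgroup.mem_zpowers _)))
  have hHE : H.relIndex E = 1 := by
    rcases (Nat.dvd_prime (Fact.out : p.Prime)).1 (Dvd.intro _ h1 : (zed S).relIndex H ∣ p) with e | e
    · exact absurd e hne
    · rw [e] at h1
      exact Nat.eq_of_mul_eq_mul_left (Fact.out : p.Prime).pos (h1.trans (mul_one p).symm)
  have hxH := Subgroup.relIndex_eq_one.1 hHE hx
  have hmn : Subgroup.zpowers D.m ≤ Subgroup.normalizer (zed S : Set Ω) := Subgroup.zpowers_le.2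
    (mem_normalizer_of_forall_commute fun y hy => (zed_comm hy (D.hES D.hm.1)).symm)
  rw [show H = Subgroup.zpowers D.m ⊔ zed S from sup_comm _ _, ← SetLike.mem_coe,
    Subgroup.coe_mul_of_left_le_normalizer_right _ _ hmn] at hxH
  obtain ⟨_, ⟨i, rfl⟩, z, hz, rfl⟩ := hxH
  exact ⟨i, z, hz, rfl⟩

theorem Data.decM {E : Subgroup Ω} (D : Data F p c E) (st : Setting F p c) {x : Ω} (hx : x ∈ D.M) :
    ∃ i j : ℤ, x = c ^ i * D.m ^ j := by
  rw [D.hM] at hx
  have hcm : c * D.m = D.m * c := (zed_comm st.hcZ (D.hES D.hm.1)).symm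
  induction hx using Subgroup.closure_induction with
  | mem y hy =>
    rcases hy with rfl | rfl
    · exact ⟨1, 0, by simp⟩
    · exact ⟨0, 1, by simp⟩
  | one => exact ⟨0, 0, by simp⟩
  | mul y z _ _ hy hz =>
    obtain ⟨i, j, rfl⟩ := hy
    obtain ⟨i', j', rfl⟩ := hz
    refine ⟨i + i', j + j', ?_⟩
    calc c ^ i * D.m ^ j * (c ^ i' * D.m ^ j') = c ^ i * (D.m ^ j * c ^ i') * D.m ^ j' := by group
      _ = c ^ i * (c ^ i' * D.m ^ j) * D.m ^ j' := by rw [(Commute.zpow_zpow hcm i' j).eq]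
      _ = _ := by group
  | inv y _ hy =>
    obtain ⟨i, j, rfl⟩ := hy
    refine ⟨-i, -j, ?_⟩
    rw [mul_inv_rev, ← zpow_neg, ← zpow_neg, (Commute.zpow_zpow hcm (-i) (-j)).eq]

theorem Data.relIndex {E : Subgroup Ω} (D : Data F p c E) (st : Setting F p c) : E.relIndex S = p := by
  have h := Subgroup.relIndex_mul_relIndex _ _ _ D.hZE D.hES
  rw [D.hidx, st.hidx, sq] at h
  exact Nat.eq_of_mul_eq_mul_left (Fact.out : p.Prime).pos h

theorem eq_of_le_of_relIndex {E E' : Subgroup Ω} (hle : E ≤ E') (hE' : E' ≤ S)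
    (h : E.relIndex S = E'.relIndex S) : E = E' := by
  refine le_antisymm hle (Subgroup.relIndex_eq_one.1 ?_)
  have h1 := Subgroup.relIndex_mul_relIndex _ _ _ hle hE'
  rw [h] at h1
  have := finite_of_le hE'
  refine Nat.eq_of_mul_eq_mul_right (Nat.pos_of_ne_zero ?_) (h1.trans (one_mul _).symm)
  exact Subgroup.index_ne_zero_of_finite

theorem Data.eq_of_mem {E E' : Subgroup Ω} (D : Data F p c E) (D' : Data F p c E')
    (st : Setting F p c) (h : D.m ∈ E') : E = E' := by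
  refine eq_of_le_of_relIndex (fun x hx => ?_) D'.hES ((D.relIndex st).trans (D'.relIndex st).symm)
  obtain ⟨i, z, hz, rfl⟩ := D.decE hx
  exact mul_mem (zpow_mem h i) (D'.hZE hz)

include hS hF in
/-- A power prime to `p` of an automorphism of `S` is inner. -/
theorem exists_pow_inner {ψ : MulAut S} (hψ : ψ ∈ F.autGroup S) :
    ∃ n : ℕ, ¬ p ∣ n ∧ ∃ g ∈ S, ∀ x : S, (((ψ ^ n) x : S) : Ω) = g * x * g⁻¹ := by
  obtain ⟨-, hi⟩ := (isFullyAutomized_iff hS).1
    (fullyAutomized_receptive_of_fullyNormalized hS hF (F := F) isFullyNormalized_self).1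
  haveI : ((autInducedBy S S).subgroupOf (F.autGroup S)).Normal := by
    rw [← inn_eq S]; exact inn_subgroupOf_normal F S
  refine ⟨_, hi, ?_⟩
  have h := Subgroup.pow_index_mem ((autInducedBy S S).subgroupOf (F.autGroup S)) (⟨ψ, hψ⟩ : F.autGroup S)
  rw [Subgroup.mem_subgroupOf, SubmonoidClass.coe_pow] at h
  exact mem_autInducedBy_iff.1 h

include hS hF in
theorem exists_essential (hS1 : S ≠ ⊥) (hcore : F.core = ⊥) : ∃ E, F.IsEssential p E := by
  by_contra hno
  push Not at hno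
  refine hS1 (le_core (isNormal_of_autGroup_invariant hS hF fun P hP => ?_) hcore)
  rcases hP with rfl | hP
  · exact ⟨le_rfl, fun α _ x _ => (α x).2⟩
  · exact absurd hP (hno P)

/-- An automorphism of `S` mapping `E` into itself restricts. -/
theorem exists_restrict_aut {E : Subgroup Ω} (hES : E ≤ S) {ψ : MulAut S} (hψ : ψ ∈ F.autGroup S)
    (hinv : ∀ x : E, ((ψ ⟨x, hES x.2⟩ : S) : Ω) ∈ E) :
    ∃ α ∈ F.autGroup E, ∀ x : E, ((α x : E) : Ω) = (ψ ⟨x, hES x.2⟩ : S) := by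
  have := finite_of_le hES
  have hmem := (mem_autGroup_iff F le_rfl).1 hψ
  have hres := res_mem F hmem hES
  set φ := (S.subtype.comp ψ.toMonoidHom).comp (Subgroup.inclusion hES)
  have hr : φ.range = E := by
    refine Subgroup.eq_of_le_of_card_ge ?_ ?_
    · rintro _ ⟨x, rfl⟩; exact hinv x
    · rw [← Nat.card_congr (MonoidHom.ofInjective (F.injective_of_mem hres)).toEquiv]
  obtain ⟨α, hα, hαe⟩ := exists_iso_of_range hres hr
  exact ⟨α, (mem_autGroup_iff F hES).2 hα, fun x => hαe x⟩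

include hS hF in
/-- For odd `p` the centre has order `p`. -/
theorem zed_eq_of_odd (hp2 : p ≠ 2) (hS1 : S ≠ ⊥) (hcore : F.core = ⊥) (st : Setting F p c) :
    zed S = Subgroup.zpowers c := by
  classical
  have hp : p.Prime := Fact.out
  have hd : ∀ E, F.IsEssential p E → Nonempty (Data F p c E) := fun E hE =>
    exists_data hS hF st.hc st.hcZ st.hcomm st.hidx hE
  obtain ⟨E₁, hE₁⟩ := exists_essential hS hF hS1 hcore
  obtain ⟨D₁⟩ := hd E₁ hE₁
  have hcS : c ∈ S := st.hcZ.1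
  let cS : S := ⟨c, hcS⟩
  let Good : MulAut S → Prop := fun ψ => ψ ∈ F.autGroup S ∧ ψ cS = cS⁻¹ ∧
    ∀ z : S, (z : Ω) ∈ zed S → ∃ i : ℤ, ψ z = z * cS ^ i
  have hgood : ∀ {E : Subgroup Ω} (D : Data F p c E), ∃ ψ, Good ψ ∧
      ∀ z : S, (z : Ω) ∈ zed S → ((z : Ω) ∈ D.K ↔ ψ z = z) := by
    intro E D
    obtain ⟨ψ, hψ, hK, hc'⟩ := D.neg
    have hψc : ψ cS = cS⁻¹ := Subtype.ext (hc' hcS)
    have hkey : ∀ z : S, (z : Ω) ∈ zed S → ∃ i : ℤ, ψ z = z * cS ^ i ∧
        ((z : Ω) ∈ D.K ↔ cS ^ i = 1) := by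
      intro z hz
      obtain ⟨j, hj⟩ := D.hdec z hz
      have hval : ((z * (cS ^ j)⁻¹ : S) : Ω) = (z : Ω) * (c ^ j)⁻¹ := by simp [cS]
      have hk : ψ (z * (cS ^ j)⁻¹) = z * (cS ^ j)⁻¹ := Subtype.ext (by
        have := hK _ hj (D.hK hj).1
        rw [show (z * (cS ^ j)⁻¹ : S) = ⟨(z : Ω) * (c ^ j)⁻¹, (D.hK hj).1⟩ from Subtype.ext hval]
        exact this)
      have he : z = z * (cS ^ j)⁻¹ * cS ^ j := (inv_mul_cancel_right z _).symm
      refine ⟨-(2 * j), ?_, ⟨fun hzK => ?_, fun h => ?_⟩⟩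
      · conv_lhs => rw [he]
        rw [map_mul, hk, map_zpow, hψc]
        group
      · have hcj : c ^ j ∈ D.K := by
          have := mul_mem (inv_mem hj) hzK
          simpa using this
        have h1 : cS ^ j = 1 := by
          by_contra hne
          have hcard : Nat.card (Subgroup.zpowers c) = p := by rw [Nat.card_zpowers, st.hc]
          have hgen := zpowers_eq_top_of_prime_card (G := Subgroup.zpowers c) hcard
            (g := ⟨c ^ j, zpow_mem (Subgroup.mem_zpowers c) j⟩)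
            (fun e => hne (Subtype.ext (by simpa [cS] using congrArg Subtype.val e)))
          obtain ⟨k, hk'⟩ := (hgen ▸ Subgroup.mem_top (⟨c, Subgroup.mem_zpowers c⟩ : Subgroup.zpowers c) :
            (⟨c, Subgroup.mem_zpowers c⟩ : Subgroup.zpowers c) ∈
              Subgroup.zpowers (⟨c ^ j, zpow_mem (Subgroup.mem_zpowers c) j⟩ : Subgroup.zpowers c))
          have hk'' : (c ^ j) ^ k = c := congrArg Subtype.val hk'
          have h2 := zpow_mem hcj k
          rw [hk''] at h2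
          exact D.hcK h2
        rw [show -(2 * j) = j * (-2) by ring, zpow_mul, h1, one_zpow]
      · have hdiv : (p : ℤ) ∣ -(2 * j) := by
          have := orderOf_dvd_iff_zpow_eq_one.2 h
          rwa [show orderOf cS = p from (Subgroup.orderOf_coe cS).symm.trans st.hc] at this
        have hj0 : (p : ℤ) ∣ j := by
          rw [dvd_neg] at hdiv
          rcases (Nat.prime_iff_prime_int.1 hp).dvd_mul.1 hdiv with h2 | h2
          · exact absurd ((Nat.prime_dvd_prime_iff_eq hp Nat.prime_two).1 (by exact_mod_cast h2)) hp2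
          · exact h2
        have : c ^ j = 1 := orderOf_dvd_iff_zpow_eq_one.1 (by rwa [st.hc])
        rwa [this, inv_one, mul_one] at hj
    refine ⟨ψ, ⟨hψ, hψc, fun z hz => ⟨_, (hkey z hz).choose_spec.1⟩⟩, fun z hz => ?_⟩
    obtain ⟨i, hi, hi'⟩ := hkey z hz
    rw [hi', hi]
    exact ⟨fun e => by rw [e, mul_one], fun e => mul_left_cancel (e.trans (mul_one z).symm)⟩
  have huniq : ∀ ψ ψ', Good ψ → Good ψ' → ∀ z : S, (z : Ω) ∈ zed S → ψ z = ψ' z := by
    intro ψ ψ' h h' z hz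
    set γ := ψ⁻¹ * ψ'
    have hγA : γ ∈ F.autGroup S := mul_mem (inv_mem h.1) h'.1
    have hcinv : ψ⁻¹ cS = cS⁻¹ := by
      apply ψ.injective
      rw [MulAut.apply_inv_self, map_inv, h.2.1, inv_inv]
    have hγc : γ cS = cS := by
      show ψ⁻¹ (ψ' cS) = cS
      rw [h'.2.1, map_inv, hcinv, inv_inv]
    obtain ⟨i, hi⟩ := h.2.2 z hz
    obtain ⟨j, hj⟩ := h'.2.2 z hz
    have hγz : γ z = z * cS ^ (i - j) := by
      show ψ⁻¹ (ψ' z) = _
      apply ψ.injective
      rw [MulAut.apply_inv_self, hj, map_mul, map_zpow, h.2.1, hi]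
      group
    obtain ⟨n, hn, g, hg, hge⟩ := exists_pow_inner hS hF hγA
    have hit : ∀ k : ℕ, (γ ^ k) z = z * (cS ^ (i - j)) ^ k := by
      intro k
      induction k with
      | zero => simp
      | succ k ih =>
        rw [pow_succ', MulAut.mul_apply, ih, map_mul, map_pow, map_zpow, hγc, hγz, pow_succ', mul_assoc]
    have h1 : (γ ^ n) z = z := Subtype.ext (by rw [hge, zed_comm hz hg, mul_inv_cancel_right])
    rw [hit] at h1
    have h2 : (cS ^ (i - j)) ^ n = 1 := mul_left_cancel (h1.trans (mul_one z).symm)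
    have h3 : cS ^ (i - j) = 1 := by
      have ho : orderOf (cS ^ (i - j)) ∣ Nat.gcd n p := Nat.dvd_gcd (orderOf_dvd_of_pow_eq_one h2)
        (orderOf_dvd_of_pow_eq_one (by
          rw [← zpow_natCast, ← zpow_mul, mul_comm, zpow_mul, zpow_natCast,
            show cS ^ p = 1 from Subtype.ext (by
              rw [Subgroup.coe_pow, ← st.hc]; exact pow_orderOf_eq_one c), one_zpow]))
      rw [Nat.Coprime.gcd_eq_one ((hp.coprime_iff_not_dvd.2 hn).symm)] at ho
      exact orderOf_eq_one_iff.1 (Nat.dvd_one.1 ho)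
    rw [h3, mul_one] at hγz
    have := congrArg ψ hγz
    rw [show ψ (γ z) = ψ' z from MulAut.apply_inv_self S ψ _] at this
    exact this.symm
  obtain ⟨ψ₁, hψ₁, hK₁⟩ := hgood D₁
  have hK : D₁.K = ⊥ := by
    refine le_core (isNormal_of_autGroup_invariant hS hF fun P hP => ?_) hcore
    rcases hP with rfl | hP
    · refine ⟨fun z hz => (D₁.hK hz).1, fun α hα x hx => ?_⟩
      have hxZ := D₁.hK hx
      have hgood' : Good (α⁻¹ * ψ₁ * α) := by
        refine ⟨mul_mem (mul_mem (inv_mem hα) hψ₁.1) hα, ?_, fun z hz => ?_⟩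
        · obtain ⟨k, hk⟩ := st.hchar α hcS
          have hk' : α cS = cS ^ k := Subtype.ext (by simpa [cS] using hk.symm)
          show α⁻¹ (ψ₁ (α cS)) = _
          rw [hk', map_zpow, hψ₁.2.1, inv_zpow, map_inv, ← hk', MulAut.inv_apply_self]
        · obtain ⟨i, hi⟩ := hψ₁.2.2 (α z) (aut_zed α hz)
          obtain ⟨k, hk⟩ := st.hchar α⁻¹ hcS
          have hk' : α⁻¹ cS = cS ^ k := Subtype.ext (by simpa [cS] using hk.symm)
          refine ⟨k * i, ?_⟩
          show α⁻¹ (ψ₁ (α z)) = _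
          rw [hi, map_mul, map_zpow, hk', MulAut.inv_apply_self, ← zpow_mul]
      have h := huniq ψ₁ _ hψ₁ hgood' x hxZ
      rw [(hK₁ x hxZ).1 hx] at h
      have h2 := congrArg α h
      rw [show α ((α⁻¹ * ψ₁ * α) x) = ψ₁ (α x) from MulAut.apply_inv_self _ α _] at h2
      exact (hK₁ (α x) (aut_zed α hxZ)).2 h2.symm
    · obtain ⟨D⟩ := hd P hP
      obtain ⟨ψ, hψ, hKψ⟩ := hgood D
      have heq : ∀ z : S, (z : Ω) ∈ zed S → ((z : Ω) ∈ D₁.K ↔ (z : Ω) ∈ D.K) := fun z hz => by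
        rw [hK₁ z hz, hKψ z hz, huniq ψ₁ ψ hψ₁ hψ z hz]
      refine ⟨fun z hz => D.hZE (D₁.hK hz), fun α hα x hx => ?_⟩
      have hxZ := D₁.hK hx
      have h := D.invK α hα x ((heq ⟨x, hxZ.1⟩ hxZ).1 hx)
      exact (heq ⟨_, (D.hK h).1⟩ (D.hK h)).2 h
  refine le_antisymm (fun z hz => ?_) (Subgroup.zpowers_le.2 st.hcZ)
  obtain ⟨i, hi⟩ := D₁.hdec z hz
  rw [hK, Subgroup.mem_bot, mul_inv_eq_one] at hi
  exact hi ▸ zpow_mem (Subgroup.mem_zpowers c) i

include hS hF in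
/-- For odd `p` the exponent is `p`. -/
theorem pow_eq_one_of_odd (hp2 : p ≠ 2) (hS1 : S ≠ ⊥) (hcore : F.core = ⊥) (st : Setting F p c)
    (hzed : zed S = Subgroup.zpowers c) : ∀ x ∈ S, x ^ p = 1 := by
  have hp : p.Prime := Fact.out
  have hcp : c ^ p = 1 := by rw [← st.hc]; exact pow_orderOf_eq_one c
  have hmul : ∀ x y : S, (x * y) ^ p = x ^ p * y ^ p := by
    intro x y
    obtain ⟨k, hk⟩ := st.hcomm y y.2 x x.2
    have hk' : ((⁅y, x⁆ : S) : Ω) = c ^ k := by rw [show c ^ k = ⁅(y : Ω), (x : Ω)⁆ from hk]; rfl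
    have hcen : ⁅y, x⁆ ∈ Subgroup.center ↥S := Subgroup.mem_center_iff.2 fun g => Subtype.ext (by
      show (g : Ω) * ((⁅y, x⁆ : S) : Ω) = _ * (g : Ω)
      rw [hk']
      exact zed_comm (zpow_mem st.hcZ k) g.2)
    rw [CfsgLib.PGroup.mul_pow_of_comm_mem_center hcen]
    obtain ⟨q, hq⟩ := hp.dvd_choose_self two_ne_zero (lt_of_le_of_ne hp.two_le (Ne.symm hp2))
    have : ⁅y, x⁆ ^ p = 1 := Subtype.ext (by
      rw [Subgroup.coe_pow, hk', ← zpow_natCast, ← zpow_mul, mul_comm, zpow_mul, zpow_natCast, hcp,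
        one_zpow]; rfl)
    rw [hq, pow_mul, this, one_pow, mul_one]
  let W : Subgroup Ω :=
    { carrier := {x | x ∈ S ∧ x ^ p = 1}
      one_mem' := ⟨one_mem _, one_pow p⟩
      mul_mem' := fun {x y} hx hy => ⟨mul_mem hx.1 hy.1, by
        have := congrArg Subtype.val (hmul ⟨x, hx.1⟩ ⟨y, hy.1⟩)
        simp only [Subgroup.coe_pow, Subgroup.coe_mul] at this
        rw [this, hx.2, hy.2, one_mul]⟩
      inv_mem' := fun {x} hx => ⟨inv_mem hx.1, by rw [inv_pow, hx.2, inv_one]⟩ }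
  by_contra hne
  push Not at hne
  obtain ⟨x₀, hx₀, hx₀p⟩ := hne
  have hEW : ∀ E, F.IsEssential p E → E = W := by
    intro E hE
    obtain ⟨D⟩ := exists_data hS hF st.hc st.hcZ st.hcomm st.hidx hE
    have hle : E ≤ W := fun x hx => ⟨D.hES hx, by
      obtain ⟨i, z, hz, rfl⟩ := D.decE hx
      have hcomm : Commute (D.m ^ i) z := zed_comm hz (D.hES (zpow_mem D.hm.1 i))
      rw [hcomm.mul_pow, ← zpow_natCast (D.m ^ i), ← zpow_mul, mul_comm i, zpow_mul, zpow_natCast,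
        D.hm.2.2, one_zpow, one_mul]
      rw [hzed] at hz
      obtain ⟨j, rfl⟩ := hz
      show (c ^ j) ^ p = 1
      rw [← zpow_natCast, ← zpow_mul, mul_comm, zpow_mul, zpow_natCast, hcp, one_zpow]⟩
    refine le_antisymm hle (Subgroup.relIndex_eq_one.1 ?_)
    have hWS : W ≤ S := fun x hx => hx.1
    have h1 := Subgroup.relIndex_mul_relIndex _ _ _ hle hWS
    rw [D.relIndex st] at h1
    rcases (Nat.dvd_prime hp).1 (Dvd.intro _ h1 : E.relIndex W ∣ p) with e | e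
    · exact e
    · rw [e] at h1
      have : W.relIndex S = 1 := Nat.eq_of_mul_eq_mul_left hp.pos (h1.trans (mul_one p).symm)
      exact absurd (Subgroup.relIndex_eq_one.1 this hx₀).2 hx₀p
  obtain ⟨E₁, hE₁⟩ := exists_essential hS hF hS1 hcore
  obtain ⟨D₁⟩ := exists_data hS hF st.hc st.hcZ st.hcomm st.hidx hE₁
  have hW : W = ⊥ := by
    refine le_core (isNormal_of_autGroup_invariant hS hF fun P hP => ?_) hcore
    rcases hP with rfl | hP
    · refine ⟨fun x hx => hx.1, fun α _ x hx => ⟨(α x).2, ?_⟩⟩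
      rw [← Subgroup.coe_pow, ← map_pow, show x ^ p = 1 from Subtype.ext hx.2, map_one]
      rfl
    · exact ⟨(hEW P hP).ge, fun α _ x _ => (hEW P hP) ▸ (α x).2⟩
  have h1 : D₁.m ∈ W := (hEW E₁ hE₁).le D₁.hm.1
  rw [hW, Subgroup.mem_bot] at h1
  exact D₁.hm.2.1 (by rw [h1]; exact one_mem _)

theorem sq_one (h2 : p = 2) {x : Ω} (h : x ^ p = 1) : x * x = 1 := by
  rw [h2, pow_two] at h; exact h

/-- The involution lines. -/
theorem invol_lines (h2 : p = 2) {E : Subgroup Ω} (D : Data F p c E) (st : Setting F p c) {u y : Ω}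
    (hu : u ∈ S) (huE : u ∉ E) (hu2 : u * u = 1) (hy : y ∈ S) (hy2 : y * y = 1) :
    y ∈ E ∨ ∃ z ∈ zed S, y = u * z := by
  have hm2 : D.m * D.m = 1 := sq_one h2 D.hm.2.2
  have hmS := D.hES D.hm.1
  set H := E ⊔ Subgroup.zpowers u
  have hEn : Subgroup.zpowers u ≤ Subgroup.normalizer (E : Set Ω) := Subgroup.zpowers_le.2 (by
    have := finite_of_le D.hES
    refine mem_normalizer_of_forall fun x hx => ?_
    obtain ⟨i, hi⟩ := st.hcomm u hu x (D.hES hx)
    have : u * x * u⁻¹ = ⁅u, x⁆ * x := by rw [commutatorElement_def]; group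
    rw [this, ← hi]
    exact mul_mem (D.hZE (zpow_mem st.hcZ i)) hx)
  have hHS : H ≤ S := sup_le D.hES (Subgroup.zpowers_le.2 hu)
  have h1 := Subgroup.relIndex_mul_relIndex _ _ _ (le_sup_left : E ≤ H) hHS
  rw [D.relIndex st] at h1
  have hH1 : H.relIndex S = 1 := by
    rcases (Nat.dvd_prime (Fact.out : p.Prime)).1 (Dvd.intro _ h1 : E.relIndex H ∣ p) with e | e
    · exact absurd (Subgroup.relIndex_eq_one.1 e (Subgroup.mem_sup_right (Subgroup.mem_zpowers u))) huE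
    · rw [e] at h1
      exact Nat.eq_of_mul_eq_mul_left (Fact.out : p.Prime).pos (h1.trans (mul_one p).symm)
  have hyH := Subgroup.relIndex_eq_one.1 hH1 hy
  rw [show H = Subgroup.zpowers u ⊔ E from sup_comm _ _, ← SetLike.mem_coe,
    Subgroup.coe_mul_of_left_le_normalizer_right _ _ hEn] at hyH
  obtain ⟨u', hu', e, he, rfl⟩ := hyH
  rcases mem_zpowers_two hu2 hu' with hu'1 | hu'1 <;> subst u'
  · left; simpa using he
  obtain ⟨j, z, hz, rfl⟩ := D.decE he
  rcases mem_zpowers_two hm2 (y := D.m ^ j) ⟨j, rfl⟩ with hj | hj <;> simp only [hj] at hy2 ⊢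
  · exact Or.inr ⟨z, hz, by rw [one_mul]⟩
  exfalso
  -- the square is the commutator times the square of `z`
  obtain ⟨k, hk⟩ := st.hcomm u hu D.m hmS
  have hne : ⁅u, D.m⁆ ≠ 1 := by
    intro e1
    refine D.hm.2.1 ⟨hmS, Subgroup.mem_centralizer_iff.2 fun g hg => ?_⟩
    have hg' := Subgroup.relIndex_eq_one.1 hH1 hg
    have hle : H ≤ Subgroup.centralizer ({D.m} : Set Ω) := by
      refine sup_le (fun x hx => ?_) (Subgroup.zpowers_le.2 ?_)
      · rw [Subgroup.mem_centralizer_singleton_iff]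
        obtain ⟨i, w, hw, rfl⟩ := D.decE hx
        exact (((Commute.refl D.m).zpow_left i).mul_left (zed_comm hw hmS).symm).eq
      · rw [Subgroup.mem_centralizer_singleton_iff]
        exact commutatorElement_eq_one_iff_mul_comm.1 e1
    exact Subgroup.mem_centralizer_singleton_iff.1 (hle hg')
  have hck : ⁅u, D.m⁆ = c := (mem_zpowers_two (by
    rw [← pow_two, ← h2, ← st.hc]; exact pow_orderOf_eq_one c) ⟨k, hk⟩).resolve_left hne
  have hum : u⁻¹ = u := inv_eq_of_mul_eq_one_right hu2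
  have hmm : D.m⁻¹ = D.m := inv_eq_of_mul_eq_one_right hm2
  have hzz : z * z = c := by
    have hsq : u * (D.m * z) * (u * (D.m * z)) = ⁅u, D.m⁆ * (z * z) := by
      calc u * (D.m * z) * (u * (D.m * z)) = u * D.m * (z * (u * D.m)) * z := by group
        _ = u * D.m * (u * D.m * z) * z := by
          rw [zed_comm hz (mul_mem hu hmS)]
        _ = (u * D.m * (u⁻¹ * D.m⁻¹)) * (z * z) := by rw [hum, hmm]; group
        _ = _ := by rw [commutatorElement_def]; group
    rw [hy2, hck] at hsq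
    have hc2 : c * c = 1 := by rw [← pow_two, ← h2, ← st.hc]; exact pow_orderOf_eq_one c
    calc z * z = (c * c) * (z * z) := by rw [hc2, one_mul]
      _ = c * (c * (z * z)) := by group
      _ = c := by rw [← hsq, mul_one]
  obtain ⟨i, hi⟩ := D.hdec z hz
  refine D.hcK ?_
  have hzc : z * c ^ i = c ^ i * z := (zed_comm hz (zpow_mem (show c ∈ S from st.hcZ.1) i)).symm
  have hc2i : (c ^ i)⁻¹ * (c ^ i)⁻¹ = 1 := by
    rw [← mul_inv_rev, inv_eq_one, ← zpow_add, ← two_mul, zpow_mul, zpow_two,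
      show c * c = 1 by rw [← pow_two, ← h2, ← st.hc]; exact pow_orderOf_eq_one c, one_zpow]
  have : z * (c ^ i)⁻¹ * (z * (c ^ i)⁻¹) = c := by
    calc z * (c ^ i)⁻¹ * (z * (c ^ i)⁻¹) = z * ((c ^ i)⁻¹ * z) * (c ^ i)⁻¹ := by group
      _ = z * (z * (c ^ i)⁻¹) * (c ^ i)⁻¹ := by rw [(Commute.inv_right (hzc : Commute z (c ^ i))).eq]
      _ = (z * z) * ((c ^ i)⁻¹ * (c ^ i)⁻¹) := by group
      _ = c := by rw [hzz, hc2i, mul_one]
  have h := mul_mem hi hi
  rw [this] at h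
  exact h

include hS hF in
/-- Every automorphism of `S` fixes each line. -/
theorem fix_line (h2 : p = 2) {E : Subgroup Ω} (D : Data F p c E) (st : Setting F p c)
    {ψ : MulAut S} (hψ : ψ ∈ F.autGroup S) :
    ∀ x : E, ((ψ ⟨x, D.hES x.2⟩ : S) : Ω) ∈ E := by
  have hm2 : D.m * D.m = 1 := sq_one h2 D.hm.2.2
  let mS : S := ⟨D.m, D.hES D.hm.1⟩
  have hmS2 : mS * mS = 1 := Subtype.ext hm2
  suffices h : ((ψ mS : S) : Ω) ∈ E by
    rintro ⟨x, hx⟩
    obtain ⟨i, z, hz, rfl⟩ := D.decE hx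
    have e : (⟨D.m ^ i * z, D.hES hx⟩ : S) = mS ^ i * ⟨z, hz.1⟩ := Subtype.ext (by simp [mS])
    show ((ψ ⟨D.m ^ i * z, D.hES hx⟩ : S) : Ω) ∈ E
    rw [e, map_mul, map_zpow, Subgroup.coe_mul, Subgroup.coe_zpow]
    exact mul_mem (zpow_mem h i) (D.hZE (aut_zed ψ hz))
  by_contra hu
  set u : Ω := ((ψ mS : S) : Ω) with hudef
  have hu2 : u * u = 1 := by rw [hudef, ← Subgroup.coe_mul, ← map_mul, hmS2, map_one]; rfl
  have hlines : ∀ y : S, y * y = 1 → (y : Ω) ∈ E ∨ ∃ z ∈ zed S, (y : Ω) = u * z := fun y hy =>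
    invol_lines h2 D st (ψ mS).2 hu hu2 y.2 (congrArg Subtype.val hy)
  have hstep1 : ∀ y : S, (y : Ω) ∈ E → y * y = 1 → (y : Ω) ∉ zed S →
      ∃ z ∈ zed S, ((ψ y : S) : Ω) = u * z := by
    intro y hy hy2 hyZ
    obtain ⟨i, z, hz, hyz⟩ := D.decE hy
    rcases mem_zpowers_two hm2 ⟨i, rfl⟩ with hi | hi
    · exact absurd (by rw [hyz, show D.m ^ i = 1 from hi, one_mul]; exact hz) hyZ
    · refine ⟨_, aut_zed ψ (z := ⟨z, hz.1⟩) hz, ?_⟩
      rw [show y = mS * ⟨z, hz.1⟩ from Subtype.ext (by rw [hyz, show D.m ^ i = D.m from hi]; rfl), map_mul]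
      rfl
  have hψu : ((ψ (ψ mS) : S) : Ω) ∈ E := by
    rcases hlines (ψ (ψ mS)) (by rw [← map_mul, ← map_mul, hmS2, map_one, map_one]) with h | ⟨z, hz, hzE⟩
    · exact h
    exfalso
    -- `ψ` would identify the two lines
    have hz' : ((ψ⁻¹ ⟨z, hz.1⟩ : S) : Ω) ∈ zed S := aut_zed _ hz
    have e : ψ (ψ mS) = ψ (mS * ψ⁻¹ ⟨z, hz.1⟩) := Subtype.ext (by
      rw [hzE, map_mul, MulAut.apply_inv_self]; rfl)
    have h3 := congrArg Subtype.val (ψ.injective e)
    refine hu ?_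
    rw [hudef, h3, Subgroup.coe_mul]
    exact mul_mem D.hm.1 (D.hZE hz')
  have hparity : ∀ k : ℕ, ((((ψ ^ (2 * k)) mS : S)) : Ω) ∈ E ∧
      (((ψ ^ (2 * k + 1)) mS : S) : Ω) ∉ E := by
    intro k
    induction k with
    | zero => simp only [mul_zero, pow_zero, zero_add, pow_one, MulAut.one_apply]; exact ⟨D.hm.1, hu⟩
    | succ k ih =>
      set y := (ψ ^ (2 * k + 1)) mS with hy
      have hinv : ∀ j : ℕ, (ψ ^ j) mS * (ψ ^ j) mS = 1 := fun j => by rw [← map_mul, hmS2, map_one]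
      have hnz : ∀ j : ℕ, (((ψ ^ j) mS : S) : Ω) ∉ zed S := fun j hj => D.hm.2.1 (by
        have := aut_zed (ψ ^ j)⁻¹ hj
        rw [MulAut.inv_apply_self] at this
        exact this)
      obtain ⟨z, hz, hyz⟩ := (hlines y (hinv _)).resolve_left ih.2
      have h2' : (((ψ ^ (2 * (k + 1))) mS : S) : Ω) ∈ E := by
        rw [show 2 * (k + 1) = 2 * k + 1 + 1 by ring, pow_succ', MulAut.mul_apply, ← hy,
          show y = ψ mS * ⟨z, hz.1⟩ from Subtype.ext hyz, map_mul, Subgroup.coe_mul]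
        exact mul_mem hψu (D.hZE (aut_zed ψ (z := ⟨z, hz.1⟩) hz))
      refine ⟨h2', ?_⟩
      obtain ⟨w, hw, hwe⟩ := hstep1 _ h2' (hinv _) (hnz _)
      rw [pow_succ', MulAut.mul_apply, hwe]
      intro hc
      refine hu ?_
      have := mul_mem hc (inv_mem (D.hZE hw))
      rwa [mul_inv_cancel_right] at this
  obtain ⟨n, hn, g, hg, hge⟩ := exists_pow_inner hS hF hψ
  obtain ⟨k, rfl⟩ : Odd n := Nat.not_even_iff_odd.1 fun e => hn (h2 ▸ e.two_dvd)
  refine (hparity k).2 ?_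
  rw [hge]
  obtain ⟨i, hi⟩ := st.hcomm g hg D.m (D.hES D.hm.1)
  have : g * D.m * g⁻¹ = ⁅g, D.m⁆ * D.m := by rw [commutatorElement_def]; group
  show g * D.m * g⁻¹ ∈ E
  rw [this, ← hi]
  exact mul_mem (D.hZE (zpow_mem st.hcZ i)) D.hm.1

include hS hF in
/-- For `p = 2` the centre has order two, and there are two noncommuting involutions. -/
theorem two_case (h2 : p = 2) (hS1 : S ≠ ⊥) (hcore : F.core = ⊥) (hhyp : F.hyperfocalSubgroup p = S)
    (st : Setting F p c) :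
    zed S = Subgroup.zpowers c ∧ ∃ u ∈ S, ∃ v ∈ S, u * u = 1 ∧ v * v = 1 ∧ ⁅u, v⁆ = c := by
  classical
  have hp : p.Prime := Fact.out
  have hd : ∀ E, F.IsEssential p E → Nonempty (Data F p c E) := fun E hE =>
    exists_data hS hF st.hc st.hcZ st.hcomm st.hidx hE
  have hfl := fun {E : Subgroup Ω} (D : Data F p c E) {ψ : MulAut S} (hψ : ψ ∈ F.autGroup S) =>
    fix_line hS hF h2 D st hψ
  have hc2 : c * c = 1 := by rw [← pow_two, ← h2, ← st.hc]; exact pow_orderOf_eq_one c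
  obtain ⟨E₁, hE₁⟩ := exists_essential hS hF hS1 hcore
  obtain ⟨D₁⟩ := hd E₁ hE₁
  obtain ⟨E₂, hE₂, hne⟩ : ∃ E₂, F.IsEssential p E₂ ∧ E₂ ≠ E₁ := by
    by_contra hno
    push Not at hno
    have h := le_core (Q := E₁) (isNormal_of_autGroup_invariant hS hF fun P hP => by
      rcases hP with rfl | hP
      · exact ⟨D₁.hES, fun α hα x hx => hfl D₁ hα ⟨x, hx⟩⟩
      · exact ⟨(hno P hP).ge, fun α _ x _ => (hno P hP) ▸ (α x).2⟩) hcore
    have h1 : D₁.m ∈ (⊥ : Subgroup Ω) := h.le D₁.hm.1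
    rw [Subgroup.mem_bot] at h1
    exact D₁.hm.2.1 (by rw [h1]; exact one_mem _)
  obtain ⟨D₂⟩ := hd E₂ hE₂
  have hm₂ : D₂.m ∉ E₁ := fun h => hne (D₂.eq_of_mem D₁ st h)
  have hsq : ∀ {E : Subgroup Ω} (D : Data F p c E), D.m * D.m = 1 := fun D => sq_one h2 D.hm.2.2
  have hm₁S := D₁.hES D₁.hm.1
  have hm₂S := D₂.hES D₂.hm.1
  -- only two essential subgroups
  have honly : ∀ E, F.IsEssential p E → E = E₁ ∨ E = E₂ := by
    intro E hE
    obtain ⟨D⟩ := hd E hE
    rcases invol_lines h2 D₁ st hm₂S hm₂ (hsq D₂) (D.hES D.hm.1) (hsq D) with h | ⟨z, hz, he⟩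
    · exact Or.inl (D.eq_of_mem D₁ st h)
    · exact Or.inr (D.eq_of_mem D₂ st (by rw [he]; exact mul_mem D₂.hm.1 (D₂.hZE hz)))
  let W := Subgroup.closure {y : Ω | ∃ ψ ∈ F.autGroup S, ∃ z : S, (z : Ω) ∈ zed S ∧
    y = (z : Ω)⁻¹ * ((ψ z : S) : Ω)}
  have hWZ : W ≤ zed S := (Subgroup.closure_le _).2 (by
    rintro _ ⟨ψ, -, z, hz, rfl⟩; exact mul_mem (inv_mem hz) (aut_zed ψ hz))
  set R := Subgroup.zpowers c ⊔ W with hR
  have hRZ : R ≤ zed S := sup_le (Subgroup.zpowers_le.2 st.hcZ) hWZ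
  have hcR : c ∈ R := Subgroup.mem_sup_left (Subgroup.mem_zpowers c)
  have hcommR : ∀ a ∈ S, ∀ b ∈ S, ⁅a, b⁆ ∈ R := fun a ha b hb =>
    Subgroup.mem_sup_left (st.hcomm a ha b hb)
  let T : Subgroup Ω :=
    { carrier := {y | ∃ a b : ℤ, ∃ r ∈ R, y = D₁.m ^ a * D₂.m ^ b * r}
      one_mem' := ⟨0, 0, 1, one_mem _, by simp⟩
      mul_mem' := by
        rintro _ _ ⟨a, b, r, hr, rfl⟩ ⟨a', b', r', hr', rfl⟩
        set k := ⁅D₂.m ^ b, D₁.m ^ a'⁆
        have hk : k ∈ R := hcommR _ (zpow_mem hm₂S b) _ (zpow_mem hm₁S a')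
        refine ⟨a + a', b + b', k * r * r', mul_mem (mul_mem hk hr) hr', ?_⟩
        have e1 : D₂.m ^ b * D₁.m ^ a' = k * (D₁.m ^ a' * D₂.m ^ b) := by
          simp only [k, commutatorElement_def]; group
        have hrc := fun x (hx : x ∈ S) => zed_comm (hRZ hr) hx
        have hkc := fun x (hx : x ∈ S) => zed_comm (hRZ hk) hx
        calc D₁.m ^ a * D₂.m ^ b * r * (D₁.m ^ a' * D₂.m ^ b' * r')
            = D₁.m ^ a * D₂.m ^ b * (r * (D₁.m ^ a' * D₂.m ^ b')) * r' := by group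
          _ = D₁.m ^ a * (D₂.m ^ b * D₁.m ^ a') * D₂.m ^ b' * r * r' := by
              rw [← hrc _ (mul_mem (zpow_mem hm₁S a') (zpow_mem hm₂S b'))]; group
          _ = D₁.m ^ a * (k * (D₁.m ^ a' * (D₂.m ^ b * D₂.m ^ b'))) * r * r' := by rw [e1]; group
          _ = D₁.m ^ a * (D₁.m ^ a' * (D₂.m ^ b * D₂.m ^ b') * k) * r * r' := by
              rw [← hkc _ (mul_mem (zpow_mem hm₁S a') (mul_mem (zpow_mem hm₂S b) (zpow_mem hm₂S b')))]
          _ = D₁.m ^ (a + a') * D₂.m ^ (b + b') * (k * r * r') := by group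
      inv_mem' := by
        rintro _ ⟨a, b, r, hr, rfl⟩
        set k := ⁅D₂.m ^ (-b), D₁.m ^ (-a)⁆
        have hk : k ∈ R := hcommR _ (zpow_mem hm₂S _) _ (zpow_mem hm₁S _)
        refine ⟨-a, -b, k * r⁻¹, mul_mem hk (inv_mem hr), ?_⟩
        have e1 : D₂.m ^ (-b) * D₁.m ^ (-a) = k * (D₁.m ^ (-a) * D₂.m ^ (-b)) := by
          simp only [k, commutatorElement_def]; group
        rw [mul_inv_rev, mul_inv_rev, ← zpow_neg, ← zpow_neg, e1,
          ← zed_comm (hRZ hk) (mul_mem (zpow_mem hm₁S _) (zpow_mem hm₂S _)),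
          ← zed_comm (inv_mem (hRZ hr)) (mul_mem (mul_mem (zpow_mem hm₁S _) (zpow_mem hm₂S _)) (hRZ hk).1)]
        group }
  have hRT : R ≤ T := fun r hr => ⟨0, 0, r, hr, by simp⟩
  have hMT : ∀ {E : Subgroup Ω} (D : Data F p c E), D.m ∈ T → D.M ≤ T := fun D hD => by
    rw [D.hM, Subgroup.closure_le]
    rintro y (rfl | rfl)
    · exact hRT hcR
    · exact hD
  have hm₁T : D₁.m ∈ T := ⟨1, 0, 1, one_mem _, by simp⟩
  have hm₂T : D₂.m ∈ T := ⟨0, 1, 1, one_mem _, by simp⟩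
  -- automorphisms of `S` are trivial modulo `T`
  have hline : ∀ {E : Subgroup Ω} (D : Data F p c E), D.m ∈ T → ∀ ψ ∈ F.autGroup S,
      ∀ x : S, (x : Ω) ∈ E → (x : Ω)⁻¹ * ((ψ x : S) : Ω) ∈ T := by
    intro E D hD ψ hψ x hx
    obtain ⟨i, z, hz, hxz⟩ := D.decE hx
    obtain ⟨α, hα, hαe⟩ := exists_restrict_aut D.hES hψ (hfl D hψ)
    have hmM : D.m ∈ D.M := by rw [D.hM]; exact Subgroup.subset_closure (by simp)
    have hψm : ((ψ ⟨D.m, D.hES D.hm.1⟩ : S) : Ω) ∈ D.M := by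
      have := D.invM α hα ⟨D.m, D.hm.1⟩ hmM
      rwa [hαe] at this
    set q := D.m ^ i with hq
    have e : x = (⟨D.m, D.hES D.hm.1⟩ : S) ^ i * ⟨z, hz.1⟩ := Subtype.ext (by simpa using hxz)
    have hw : z⁻¹ * ((ψ ⟨z, hz.1⟩ : S) : Ω) ∈ T :=
      hRT (Subgroup.mem_sup_right (Subgroup.subset_closure ⟨ψ, hψ, ⟨z, hz.1⟩, hz, rfl⟩))
    rw [hxz, e, map_mul, map_zpow, Subgroup.coe_mul, Subgroup.coe_zpow]
    set P := ((ψ ⟨D.m, D.hES D.hm.1⟩ : S) : Ω) ^ i
    have hP : q⁻¹ * P ∈ T := hMT D hD (mul_mem (inv_mem (zpow_mem hmM i)) (zpow_mem hψm i))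
    have hPS : q⁻¹ * P ∈ S := mul_mem (inv_mem (zpow_mem (D.hES D.hm.1) i))
      (zpow_mem (ψ ⟨D.m, D.hES D.hm.1⟩).2 i)
    rw [show (D.m ^ i * z)⁻¹ * (P * ((ψ ⟨z, hz.1⟩ : S) : Ω)) =
      z⁻¹ * (q⁻¹ * P) * ((ψ ⟨z, hz.1⟩ : S) : Ω) by simp only [q]; group,
      ← zed_comm (inv_mem hz) hPS]
    rw [mul_assoc]
    exact mul_mem hP hw
  have hSdec : ∀ x ∈ S, ∃ e₁ ∈ E₁, ∃ e₂ ∈ E₂, x = e₁ * e₂ := by
    intro x hx
    have hn : E₂ ≤ Subgroup.normalizer (E₁ : Set Ω) := fun u hu => by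
      have := finite_of_le D₁.hES
      refine mem_normalizer_of_forall fun y hy => ?_
      obtain ⟨i, hi⟩ := st.hcomm u (D₂.hES hu) y (D₁.hES hy)
      rw [show u * y * u⁻¹ = ⁅u, y⁆ * y by rw [commutatorElement_def]; group, ← hi]
      exact mul_mem (D₁.hZE (zpow_mem st.hcZ i)) hy
    have hle : E₁ ⊔ E₂ ≤ S := sup_le D₁.hES D₂.hES
    have h1 := Subgroup.relIndex_mul_relIndex _ _ _ (le_sup_left : E₁ ≤ E₁ ⊔ E₂) hle
    rw [D₁.relIndex st] at h1
    have hidx : (E₁ ⊔ E₂).relIndex S = 1 := by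
      rcases (Nat.dvd_prime hp).1 (Dvd.intro _ h1 : E₁.relIndex (E₁ ⊔ E₂) ∣ p) with e | e
      · exact absurd (Subgroup.relIndex_eq_one.1 e (Subgroup.mem_sup_right D₂.hm.1)) hm₂
      · rw [e] at h1; exact Nat.eq_of_mul_eq_mul_left hp.pos (h1.trans (mul_one p).symm)
    have hxE := Subgroup.relIndex_eq_one.1 hidx hx
    rw [← SetLike.mem_coe, Subgroup.coe_mul_of_right_le_normalizer_left _ _ hn] at hxE
    obtain ⟨e₁, he₁, e₂, he₂, rfl⟩ := hxE
    exact ⟨e₁, he₁, e₂, he₂, rfl⟩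
  have hST : ∀ ψ ∈ F.autGroup S, ∀ x : S, (x : Ω)⁻¹ * ((ψ x : S) : Ω) ∈ T := by
    intro ψ hψ x
    obtain ⟨e₁, he₁, e₂, he₂, hx⟩ := hSdec x x.2
    have h1 := hline D₁ hm₁T ψ hψ ⟨e₁, D₁.hES he₁⟩ he₁
    have h2' := hline D₂ hm₂T ψ hψ ⟨e₂, D₂.hES he₂⟩ he₂
    rw [show x = (⟨e₁, D₁.hES he₁⟩ : S) * ⟨e₂, D₂.hES he₂⟩ from Subtype.ext hx, map_mul,
      Subgroup.coe_mul, Subgroup.coe_mul]
    set A := ((ψ ⟨e₁, D₁.hES he₁⟩ : S) : Ω)
    set B := ((ψ ⟨e₂, D₂.hES he₂⟩ : S) : Ω)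
    rw [show (e₁ * e₂)⁻¹ * (A * B) = ⁅e₂⁻¹, e₁⁻¹ * A⁆ * (e₁⁻¹ * A) * (e₂⁻¹ * B) by
      rw [commutatorElement_def]; group]
    exact mul_mem (mul_mem (hRT (hcommR _ (inv_mem (D₂.hES he₂)) _
      (mul_mem (inv_mem (D₁.hES he₁)) (ψ ⟨e₁, D₁.hES he₁⟩).2))) h1) h2'
  have hnorm : S ≤ Subgroup.normalizer (T : Set Ω) := fun g hg => by
    have hTS : T ≤ S := by
      rintro _ ⟨a, b, r, hr, rfl⟩
      exact mul_mem (mul_mem (zpow_mem hm₁S a) (zpow_mem hm₂S b)) (hRZ hr).1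
    have := finite_of_le hTS
    refine mem_normalizer_of_forall fun y hy => ?_
    rw [show g * y * g⁻¹ = ⁅g, y⁆ * y by rw [commutatorElement_def]; group]
    exact mul_mem (hRT (hcommR _ hg _ (hTS hy))) hy
  have hall : F ≤ modSys F T hnorm := by
    refine alperin hS hF _ fun P hP α hα => ?_
    have hPS : P ≤ S := by
      rcases hP with rfl | hP
      · exact le_rfl
      · exact hP.1.1
    refine mem_autGroup_of_mem (φ := P.subtype.comp α.toMonoidHom) _
      ⟨(mem_autGroup_iff F hPS).1 hα, 1, one_mem _, fun x => ?_⟩ fun _ => rfl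
    simp only [one_mul, inv_one, mul_one]
    show (x : Ω)⁻¹ * ((α x : P) : Ω) ∈ T
    rcases hP with rfl | hP
    · exact hST α hα x
    · have key : ∀ D : Data F p c P, D.m ∈ T → (x : Ω)⁻¹ * ((α x : P) : Ω) ∈ T := fun D hD => by
        obtain ⟨ψ, hψ, hψe⟩ := D.dec α hα
        have h1 := hST ψ hψ ⟨x, D.hES x.2⟩
        have h3 := mul_mem h1 (hMT D hD (hψe x))
        rwa [mul_assoc (x : Ω)⁻¹, mul_inv_cancel_left] at h3
      rcases honly P hP with rfl | rfl
      · exact key D₁ hm₁T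
      · exact key D₂ hm₂T
  have hST' : S ≤ T := by
    refine hhyp.symm.le.trans ((hyperfocalSubgroup_le_focalSubgroup (F := F) p).trans ?_)
    refine (Subgroup.closure_le _).2 ?_
    rintro _ ⟨P, φ, x, hφ, rfl⟩
    obtain ⟨g, hg, hgx⟩ := (mem_modSys.1 (hall P hφ)).2
    have h1 : (x : Ω)⁻¹ * (g * (x : Ω) * g⁻¹) ∈ T := by
      rw [show (x : Ω)⁻¹ * (g * (x : Ω) * g⁻¹) = ⁅(x : Ω)⁻¹, g⁆ by rw [commutatorElement_def]; group]
      exact hRT (hcommR _ (inv_mem (le_S F hφ x.2)) _ hg)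
    have h3 := mul_mem h1 (hgx x)
    rwa [mul_assoc (x : Ω)⁻¹, mul_inv_cancel_left] at h3
  have hZR : ∀ z ∈ zed S, z ∈ R := by
    intro z hz
    obtain ⟨a, b, r, hr, he⟩ := hST' hz.1
    have hzr : D₁.m ^ a * D₂.m ^ b ∈ zed S := by
      have := mul_mem hz (inv_mem (hRZ hr))
      rwa [he, mul_inv_cancel_right] at this
    have hb : D₂.m ^ b = 1 := by
      rcases mem_zpowers_two (hsq D₂) ⟨b, rfl⟩ with h | h
      · exact h
      · exfalso
        refine hm₂ ?_
        have := mul_mem (inv_mem (zpow_mem D₁.hm.1 a)) (D₁.hZE hzr)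
        rwa [inv_mul_cancel_left, show D₂.m ^ b = D₂.m from h] at this
    rw [hb, mul_one] at hzr he
    rcases mem_zpowers_two (hsq D₁) ⟨a, rfl⟩ with h | h
    · rw [show D₁.m ^ a = 1 from h, one_mul] at he
      rw [he]; exact hr
    · exact absurd (h ▸ hzr) D₁.hm.2.1
  have hKW : ∀ {E : Subgroup Ω} (D : Data F p c E), D.K = W := by
    intro E D
    have hWK : W ≤ D.K := by
      refine (Subgroup.closure_le _).2 ?_
      rintro _ ⟨ψ, hψ, z, hz, rfl⟩
      obtain ⟨i, hi⟩ := D.hdec z hz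
      obtain ⟨α, hα, hαe⟩ := exists_restrict_aut D.hES hψ (hfl D hψ)
      let k : S := ⟨(z : Ω) * (c ^ i)⁻¹, (D.hK hi).1⟩
      have hψk : ((ψ k : S) : Ω) ∈ D.K := by
        have := D.invK α hα ⟨(z : Ω) * (c ^ i)⁻¹, D.hZE (D.hK hi)⟩ hi
        rwa [hαe] at this
      let cS : S := ⟨c, st.hcZ.1⟩
      have hψc : ψ cS = cS := by
        rcases mem_zpowers_two hc2 (st.hchar ψ st.hcZ.1) with h | h
        · exfalso
          have : ψ cS = ψ 1 := Subtype.ext (by rw [map_one]; exact h)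
          have h' := congrArg Subtype.val (ψ.injective this)
          exact hp.one_lt.ne (by rw [← st.hc, show c = 1 from h', orderOf_one])
        · exact Subtype.ext h
      have hz' : z = k * cS ^ i := Subtype.ext (by simp [k, cS])
      rw [hz', map_mul, map_zpow, hψc, Subgroup.coe_mul, Subgroup.coe_mul, Subgroup.coe_zpow,
        show ((k : Ω) * c ^ i)⁻¹ * (((ψ k : S) : Ω) * c ^ i) =
          (c ^ i)⁻¹ * ((k : Ω)⁻¹ * ((ψ k : S) : Ω)) * c ^ i by group,
        ← zed_comm (inv_mem (zpow_mem st.hcZ i)) (mul_mem (inv_mem k.2) (ψ k).2), inv_mul_cancel_right]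
      exact mul_mem (inv_mem hi) hψk
    refine le_antisymm (fun k hk => ?_) hWK
    have hkR := hZR k (D.hK hk)
    have hcn : Subgroup.zpowers c ≤ Subgroup.normalizer (W : Set Ω) := Subgroup.zpowers_le.2
      (mem_normalizer_of_forall_commute fun y hy => (zed_comm (hWZ hy) st.hcZ.1).symm)
    rw [hR, ← SetLike.mem_coe, Subgroup.coe_mul_of_left_le_normalizer_right _ _ hcn] at hkR
    obtain ⟨c', hc', w, hw, rfl⟩ := hkR
    rcases mem_zpowers_two hc2 hc' with h | h <;> subst c'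
    · simpa using hw
    · exfalso
      refine D.hcK ?_
      have := mul_mem hk (inv_mem (hWK hw))
      rwa [mul_inv_cancel_right] at this
  have hW : W = ⊥ := by
    refine le_core (isNormal_of_autGroup_invariant hS hF fun P hP => ?_) hcore
    rcases hP with rfl | hP
    · refine ⟨fun z hz => (hWZ hz).1, fun α hα x hx => ?_⟩
      have hwx : (x : Ω)⁻¹ * ((α x : P) : Ω) ∈ W :=
        Subgroup.subset_closure ⟨α, hα, x, hWZ hx, rfl⟩
      have := mul_mem hx hwx
      rwa [mul_inv_cancel_left] at this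
    · obtain ⟨D⟩ := hd P hP
      exact ⟨fun z hz => D.hZE (hWZ hz), fun α hα x hx => by
        rw [← hKW D] at hx ⊢; exact D.invK α hα x hx⟩
  refine ⟨le_antisymm (fun z hz => ?_) (Subgroup.zpowers_le.2 st.hcZ),
    D₁.m, hm₁S, D₂.m, hm₂S, hsq D₁, hsq D₂, ?_⟩
  · have := hZR z hz
    rwa [hR, hW, sup_bot_eq] at this
  · refine (mem_zpowers_two hc2 (st.hcomm _ hm₁S _ hm₂S)).resolve_left fun e => ?_
    refine D₁.hm.2.1 ⟨hm₁S, Subgroup.mem_centralizer_iff.2 fun g hg => ?_⟩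
    obtain ⟨e₁, he₁, e₂, he₂, rfl⟩ := hSdec g hg
    obtain ⟨i, z, hz, rfl⟩ := D₁.decE he₁
    obtain ⟨j, w, hw, rfl⟩ := D₂.decE he₂
    have h1 : Commute (D₁.m ^ i * z) D₁.m :=
      ((Commute.refl D₁.m).zpow_left i).mul_left (zed_comm hz hm₁S).symm
    have h3 : Commute D₂.m D₁.m := (commutatorElement_eq_one_iff_mul_comm.1 e).symm
    have h4 : Commute (D₂.m ^ j * w) D₁.m := (h3.zpow_left j).mul_left (zed_comm hw hm₁S).symm
    exact (h1.mul_left h4).eq

include hS hF in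
/-- The classification. -/
theorem main (hS1 : S ≠ ⊥) (hcore : F.core = ⊥) (hhyp : F.hyperfocalSubgroup p = S)
    (hZ : (Subgroup.center ↥S).index ≤ p ^ 2) :
    Cfsg.IsExtraspecial p ↥S ∧ Nat.card S = p ^ 3 ∧ (p ≠ 2 → Monoid.exponent ↥S = p) ∧
      (p = 2 → Nonempty (↥S ≃* DihedralGroup 4)) := by
  have hp : p.Prime := Fact.out
  obtain ⟨hidx, c, hcZ, hc, hcomm, hchar, a, ha, b, hb, hab⟩ := basics hS hF hS1 hcore hZ
  have st : Setting F p c := ⟨hidx, hcZ, hc, hcomm, hchar⟩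
  have hzed : zed S = Subgroup.zpowers c := by
    by_cases h : p = 2
    · exact (two_case hS hF h hS1 hcore hhyp st).1
    · exact zed_eq_of_odd hS hF h hS1 hcore st
  have hcz : Nat.card (Subgroup.center ↥S) = p := by
    have : Nat.card ((Subgroup.center ↥S).map S.subtype) = p := by
      rw [map_center, hzed, Nat.card_zpowers, hc]
    rwa [Subgroup.card_map_of_injective S.subtype_injective] at this
  have hcard : Nat.card S = p ^ 3 := by
    have := (Subgroup.center ↥S).card_mul_index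
    rw [hcz, ← zed_relIndex, hidx] at this
    rw [← this]; ring
  have hcomm' : commutator ↥S ≤ Subgroup.center ↥S := by
    rw [commutator_def]
    refine Subgroup.commutator_le.2 fun x _ y _ => ?_
    have h : ((⁅x, y⁆ : S) : Ω) ∈ zed S := hzed ▸ hcomm x x.2 y y.2
    exact Subgroup.mem_center_iff.2 fun g => Subtype.ext (zed_comm h g.2)
  have hcomm'' : commutator ↥S = Subgroup.center ↥S := by
    refine Subgroup.eq_of_le_of_card_ge hcomm' ?_
    rw [hcz]
    have hne : commutator ↥S ≠ ⊥ := fun e => hab (by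
      have : ⁅(⟨a, ha⟩ : S), ⟨b, hb⟩⁆ ∈ commutator ↥S :=
        Subgroup.commutator_mem_commutator (Subgroup.mem_top _) (Subgroup.mem_top _)
      rw [e, Subgroup.mem_bot] at this
      exact congrArg Subtype.val this)
    exact Nat.le_of_dvd Nat.card_pos (CfsgLib.PGroup.dvd_card_of_ne_bot hS hne)
  have hfr : frattini ↥S = Subgroup.center ↥S := by
    refine le_antisymm ?_ (hcomm'' ▸ CfsgLib.PGroup.commutator_le_frattini hS)
    refine CfsgLib.Transfer.frattini_le_of_commutator_pow (p := p) _ (fun a b => hcomm' (Subgroup.commutator_mem_commutator (Subgroup.mem_top a) (Subgroup.mem_top b))) fun x => ?_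
    have hQ : Nat.card (↥S ⧸ Subgroup.center ↥S) = p ^ 2 := by
      rw [← Subgroup.index_eq_card, ← zed_relIndex, hidx]
    rw [← QuotientGroup.eq_one_iff, QuotientGroup.mk_pow]
    obtain ⟨j, hj, hje⟩ := (Nat.dvd_prime_pow hp).1 (hQ ▸ orderOf_dvd_natCard (x : ↥S ⧸ Subgroup.center ↥S))
    interval_cases j
    · rw [pow_zero, orderOf_eq_one_iff] at hje; rw [hje, one_pow]
    · rw [pow_one] at hje; rw [← hje, pow_orderOf_eq_one]
    · exfalso
      have : IsCyclic (↥S ⧸ Subgroup.center ↥S) := isCyclic_of_orderOf_eq_card _ (hje.trans hQ.symm)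
      have h1 : (⟨a, ha⟩ : S) * ⟨b, hb⟩ = ⟨b, hb⟩ * ⟨a, ha⟩ :=
        commutative_of_cyclic_center_quotient (QuotientGroup.mk' (Subgroup.center ↥S))
          (by rw [QuotientGroup.ker_mk']) ⟨a, ha⟩ ⟨b, hb⟩
      exact hab (commutatorElement_eq_one_iff_mul_comm.2 (congrArg Subtype.val h1))
  refine ⟨⟨⟨hS, hfr, hcomm''⟩, hcz⟩, hcard, fun h2 => ?_, fun h2 => ?_⟩
  · refine Nat.dvd_antisymm (Monoid.exponent_dvd_of_forall_pow_eq_one fun x =>
      Subtype.ext (pow_eq_one_of_odd hS hF h2 hS1 hcore st hzed x x.2)) ?_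
    rw [← hc, show c = ((⟨c, hcZ.1⟩ : S) : Ω) from rfl, Subgroup.orderOf_coe]
    exact Monoid.order_dvd_exponent _
  · obtain ⟨-, u, hu, v, hv, hu2, hv2, huv⟩ := two_case hS hF h2 hS1 hcore hhyp st
    set U : S := ⟨u, hu⟩
    set V : S := ⟨v, hv⟩
    have hU : U * U = 1 := Subtype.ext hu2
    have hUi : U⁻¹ = U := inv_eq_of_mul_eq_one_right hU
    have hV : V * V = 1 := Subtype.ext hv2
    have hVi : V⁻¹ = V := inv_eq_of_mul_eq_one_right hV
    set A := U * V with hA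
    have hA2 : A * A = ⁅U, V⁆ := by rw [commutatorElement_def, hUi, hVi, hA]; group
    have hco : orderOf (A * A) = 2 := by
      rw [hA2, ← Subgroup.orderOf_coe, show ((⁅U, V⁆ : S) : Ω) = c from huv, hc, h2]
    have hA4 : A ^ 4 = 1 := by
      rw [show 4 = 2 * 2 from rfl, pow_mul, pow_two A]
      conv_lhs => rw [← hco]
      exact pow_orderOf_eq_one _
    have hAo : orderOf A = 2 ^ 2 := orderOf_eq_prime_pow (by
      rw [pow_one, pow_two]
      intro e; rw [e, orderOf_one] at hco; omega) hA4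
    have hUA : U * A * U = A⁻¹ := by
      rw [hA, mul_inv_rev, hUi, hVi, ← mul_assoc U U V, hU, one_mul]
    have hconj : ∀ i : ℤ, U * A ^ i * U = A ^ (-i) := by
      intro i
      have h := conj_zpow (a := U) (b := A) (i := i)
      rw [hUi, hUA, inv_zpow'] at h
      exact h.symm
    have hcast : ∀ k : ℤ, A ^ (((k : ZMod 4)).cast : ℤ) = A ^ k := fun k => by
      rw [ZMod.coe_intCast, zpow_eq_zpow_iff_modEq, hAo]
      exact Int.mod_modEq k 4
    let f : ZMod 4 → S := fun i => A ^ (i.cast : ℤ)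
    have hf : ∀ i j : ZMod 4, f (i + j) = f i * f j := fun i j => by
      obtain ⟨a, rfl⟩ := ZMod.intCast_surjective i
      obtain ⟨b, rfl⟩ := ZMod.intCast_surjective j
      simp only [f]
      rw [← Int.cast_add, hcast, hcast, hcast, zpow_add]
    have hfneg : ∀ i : ZMod 4, U * f i * U = f (-i) := fun i => by
      obtain ⟨a, rfl⟩ := ZMod.intCast_surjective i
      simp only [f]
      rw [← Int.cast_neg, hcast, hcast, hconj]
    have hfU : ∀ i : ZMod 4, f i * U = U * f (-i) := fun i => by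
      rw [← hfneg]
      calc f i * U = (U * U) * f i * U := by rw [hU, one_mul]
        _ = _ := by group
    let φ : DihedralGroup 4 → S := fun d => match d with
      | .r i => f i
      | .sr i => U * f i
    have hφ : ∀ d e, φ (d * e) = φ d * φ e := by
      rintro (i | i) (j | j)
      · rw [DihedralGroup.r_mul_r]; exact hf i j
      · rw [DihedralGroup.r_mul_sr]
        show U * f (j - i) = f i * (U * f j)
        rw [← mul_assoc, hfU, mul_assoc, ← hf, sub_eq_neg_add]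
      · rw [DihedralGroup.sr_mul_r]
        show U * f (i + j) = U * f i * f j
        rw [hf, mul_assoc]
      · rw [DihedralGroup.sr_mul_sr]
        show f (j - i) = U * f i * (U * f j)
        rw [← mul_assoc, hfneg, ← hf, sub_eq_neg_add]
    have hnot : U ∉ Subgroup.zpowers A := by
      rintro ⟨k, hk⟩
      have hk' : A ^ k = U := hk
      have hcm : A * U = U * A := by rw [← hk']; exact ((Commute.refl A).zpow_right k).eq
      have : A⁻¹ = A := by rw [← hUA, ← hcm, mul_assoc, hU, mul_one]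
      rw [show A * A = 1 by nth_rw 1 [← this]; exact inv_mul_cancel A, orderOf_one] at hco
      omega
    have hinj : Function.Injective (MonoidHom.mk' φ hφ) := by
      rw [injective_iff_map_eq_one]
      rintro (i | i) h
      · change f i = 1 at h
        obtain ⟨k, rfl⟩ := ZMod.intCast_surjective i
        simp only [f] at h
        rw [hcast] at h
        have := orderOf_dvd_iff_zpow_eq_one.2 h
        rw [hAo] at this
        rw [(ZMod.intCast_zmod_eq_zero_iff_dvd k 4).2 this]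
        rfl
      · exfalso
        change U * f i = 1 at h
        refine hnot ?_
        rw [eq_inv_of_mul_eq_one_left h]
        exact inv_mem (zpow_mem (Subgroup.mem_zpowers A) _)
    refine ⟨(MulEquiv.ofBijective (MonoidHom.mk' φ hφ)
      ((Nat.bijective_iff_injective_and_card _).2 ⟨hinj, ?_⟩)).symm⟩
    rw [DihedralGroup.nat_card, hcard, h2]
    norm_num

end CfsgLib.Fusion.CenterIndexPSq
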