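import Cfsg.Agent.Lib.Fusion.Normal

/-!
A saturated fusion system on a `2`-group in which every element is fused into the centre
lives on an abelian group.
-/

set_option autoImplicit false

open Cfsg Cfsg.FusionSystem

namespace CfsgLib.Fusion.CentralElements

variable {Ω : Type*} [Group Ω] {S : Subgroup Ω} {F : FusionSystem S}

/-- A conjugation of the source, read on the image. -/
theorem transport {P : Subgroup Ω} {φ : P →* Ω} (hφ : φ ∈ F.Hom P) {g : Ω} (hg : g ∈ S)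
    (hn : ∀ x : P, g * (x : Ω) * g⁻¹ ∈ P) :
    ∃ χ ∈ F.Hom φ.range, ∀ x : P, χ ⟨φ x, ⟨x, rfl⟩⟩ = φ ⟨g * x * g⁻¹, hn x⟩ := by
  obtain ⟨ψ, hψ, hψe⟩ := F.inv_mem hφ
  have hψP : ∀ u : φ.range, ψ u ∈ P := by
    rintro ⟨_, x, rfl⟩
    rw [hψe]
    exact x.2
  have h1 := F.comp_mem hψ (F.conj_mem (le_S F hφ) hg) hψP
  have h1P : ∀ u : φ.range, ((conjHom P g).comp (ψ.codRestrict P hψP)) u ∈ P := fun u => hn _
  refine ⟨_, F.comp_mem h1 hφ h1P, fun x => congrArg φ (Subtype.ext ?_)⟩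
  show g * ψ ⟨φ x, _⟩ * g⁻¹ = g * (x : Ω) * g⁻¹
  rw [hψe]

variable [Finite S]

/-- Two central elements are not interchanged by a map of the system. -/
theorem no_swap (hS : IsPGroup 2 S) (hF : F.IsSaturated 2) {Q : Subgroup Ω}
    (hQ : Q ≤ S ⊓ Subgroup.centralizer (S : Set Ω)) {φ : Q →* Ω} (hφ : φ ∈ F.Hom Q)
    (hQQ : ∀ q, φ q ∈ Q) {a b : Q} (hab : φ a = b) (hba : φ b = a) : a = b := by
  haveI : Fact (Nat.Prime 2) := ⟨Nat.prime_two⟩
  have hQS : Q ≤ S := hQ.trans inf_le_left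
  have hcen : ∀ q ∈ Q, ∀ s ∈ S, s * q = q * s := fun q hq s hs =>
    Subgroup.mem_centralizer_iff.1 (hQ hq).2 s hs
  have hrQ : φ.range ≤ Q := by rintro _ ⟨q, rfl⟩; exact hQQ q
  have hNS : normalizerIn S φ.range = S :=
    le_antisymm (normalizerIn_le _) fun s hs => ⟨hs, mem_normalizer_of_forall_commute fun y hy =>
      (hcen y (hrQ hy) s hs).symm⟩
  have hfn : F.IsFullyNormalized φ.range := by
    refine ⟨hrQ.trans hQS, fun R _ => ?_⟩
    rw [hNS]
    exact Subgroup.card_le_of_le (normalizerIn_le R)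
  obtain ⟨ψ, hψ, hψe⟩ := (fullyAutomized_receptive_of_fullyNormalized hS hF hfn).2.2 Q φ hφ rfl
  have hSN : S ≤ extender S Q φ := fun s hs =>
    centralizerIn_le_extender Q φ ⟨hs, fun y hy => (hcen y hy s hs).symm⟩
  have hψS := res_mem F hψ hSN
  have hr : (ψ.comp (Subgroup.inclusion hSN)).range = S := eq_S_of_isConj_S ⟨_, hψS, rfl⟩
  obtain ⟨α, hα, hαe⟩ := exists_iso_of_range hψS hr
  have hαA : α ∈ F.autGroup S := (mem_autGroup_iff F le_rfl).2 hα
  have hN : ((Cfsg.Inn S).subgroupOf (F.autGroup S)).Normal := inn_subgroupOf_normal F S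
  obtain ⟨-, hidx⟩ := (isFullyAutomized_iff hS).1
    (fullyAutomized_receptive_of_fullyNormalized hS hF isFullyNormalized_self).1
  rw [← inn_eq] at hidx
  have hodd : Odd ((Cfsg.Inn S).subgroupOf (F.autGroup S)).index := by
    rw [← Nat.not_even_iff_odd, even_iff_two_dvd]
    exact hidx
  have hpow := Subgroup.pow_index_mem ((Cfsg.Inn S).subgroupOf (F.autGroup S)) ⟨α, hαA⟩
  rw [Subgroup.mem_subgroupOf, SubgroupClass.coe_pow] at hpow
  set a' : S := ⟨a, hQS a.2⟩ with ha'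
  set b' : S := ⟨b, hQS b.2⟩ with hb'
  have e1 : ∀ (u v : Q), φ u = v → α ⟨u, hQS u.2⟩ = ⟨v, hQS v.2⟩ := fun u v h => by
    apply Subtype.ext
    rw [hαe]
    show ψ ⟨(u : Ω), _⟩ = (v : Ω)
    rw [hψe u u.2, h]
  have ea : α a' = b' := e1 a b hab
  have eb : α b' = a' := e1 b a hba
  have hodd_pow : ∀ m : ℕ, (α ^ (2 * m + 1)) a' = b' := by
    intro m
    induction m with
    | zero => simpa using ea
    | succ m ih =>
      rw [show 2 * (m + 1) + 1 = (2 * m + 1) + 2 by ring, pow_add, MulAut.mul_apply,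
        pow_two, MulAut.mul_apply, ea, eb, ih]
  obtain ⟨m, hm⟩ := hodd
  obtain ⟨g, hg, hge⟩ := mem_autInducedBy_iff.1 ((inn_eq S).le hpow)
  have h1 := hge a'
  rw [hm, hodd_pow m] at h1
  apply Subtype.ext
  show (a : Ω) = b
  rw [hb', ha'] at h1
  change (b : Ω) = g * (a : Ω) * g⁻¹ at h1
  rw [h1, hcen a a.2 g hg, mul_inv_cancel_right]

variable (hS : IsPGroup 2 S) (hF : F.IsSaturated 2)
  (h : ∀ x ∈ S, ∃ z ∈ S ⊓ Subgroup.centralizer (S : Set Ω), F.IsConjElt x z)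

include hS hF h in
/-- An element inverted in `S` has square `1`. -/
theorem sq_eq_one_of_inverted {s y : Ω} (hs : s ∈ S) (hy : y ∈ S) (hinv : y * s * y⁻¹ = s⁻¹) :
    s * s = 1 := by
  obtain ⟨z, hz, φ, hφ, hφs⟩ := h s hs
  have hn : ∀ x : Subgroup.zpowers s, y * (x : Ω) * y⁻¹ ∈ Subgroup.zpowers s := by
    rintro ⟨_, n, rfl⟩
    show y * s ^ n * y⁻¹ ∈ _
    rw [← conj_zpow, hinv]
    exact Subgroup.zpow_mem _ (Subgroup.inv_mem _ (Subgroup.mem_zpowers s)) n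
  obtain ⟨χ, hχ, hχe⟩ := transport hφ hy hn
  have hrange : φ.range ≤ S ⊓ Subgroup.centralizer (S : Set Ω) := by
    rintro _ ⟨⟨_, n, rfl⟩, rfl⟩
    have : (⟨s ^ n, ⟨n, rfl⟩⟩ : Subgroup.zpowers s) = ⟨s, Subgroup.mem_zpowers s⟩ ^ n := rfl
    rw [this, map_zpow, hφs]
    exact Subgroup.zpow_mem _ hz n
  set s₀ : Subgroup.zpowers s := ⟨s, Subgroup.mem_zpowers s⟩ with hs₀
  have hs₀i : (⟨y * (s₀ : Ω) * y⁻¹, hn s₀⟩ : Subgroup.zpowers s) = s₀⁻¹ := Subtype.ext hinv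
  have hs₁i : (⟨y * ((s₀⁻¹ : Subgroup.zpowers s) : Ω) * y⁻¹, hn _⟩ : Subgroup.zpowers s) = s₀ :=
    Subtype.ext (show y * s⁻¹ * y⁻¹ = s by rw [← conj_inv, hinv, inv_inv])
  have := no_swap hS hF hrange hχ (fun q => by
      obtain ⟨q, x, rfl⟩ := q
      rw [hχe]
      exact ⟨_, rfl⟩)
    (a := ⟨φ s₀, ⟨_, rfl⟩⟩) (b := ⟨φ s₀⁻¹, ⟨_, rfl⟩⟩) (by rw [hχe, hs₀i]) (by rw [hχe, hs₁i])
  have h2 := F.injective_of_mem hφ (congrArg Subtype.val this)
  have h3 : s = s⁻¹ := congrArg Subtype.val h2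
  exact mul_eq_one_iff_eq_inv.2 h3

include hS hF h in
/-- The elements of square `1` commute. -/
theorem invol_commute {s t : Ω} (hs : s ∈ S) (ht : t ∈ S) (hs2 : s * s = 1) (ht2 : t * t = 1) :
    s * t = t * s := by
  have e1 : s⁻¹ = s := inv_eq_of_mul_eq_one_right hs2
  have e2 : t⁻¹ = t := inv_eq_of_mul_eq_one_right ht2
  have hinv : s * (s * t) * s⁻¹ = (s * t)⁻¹ := by
    rw [mul_inv_rev, e1, e2, ← mul_assoc, hs2, one_mul]
  have := sq_eq_one_of_inverted hS hF h (S.mul_mem hs ht) hs hinv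
  rw [mul_eq_one_iff_eq_inv, mul_inv_rev, e1, e2] at this
  exact this

include hS hF h in
/-- The base group is abelian. -/
theorem commute_all : ∀ x ∈ S, ∀ y ∈ S, x * y = y * x := by
  haveI : Fact (Nat.Prime 2) := ⟨Nat.prime_two⟩
  let E : Subgroup Ω :=
    { carrier := {e | e ∈ S ∧ e * e = 1}
      one_mem' := ⟨S.one_mem, one_mul 1⟩
      mul_mem' := fun {u v} hu hv => ⟨S.mul_mem hu.1 hv.1, by
        rw [mul_assoc, ← mul_assoc v u v, ← invol_commute hS hF h hu.1 hv.1 hu.2 hv.2, mul_assoc u v v,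
          hv.2, mul_one, hu.2]⟩
      inv_mem' := fun {u} hu => ⟨S.inv_mem hu.1, by rw [← mul_inv_rev, hu.2, inv_one]⟩ }
  have hEs : F.StronglyClosed E := by
    refine ⟨fun e he => he.1, fun R hR φ hφ x => ⟨apply_mem_S F hφ x, ?_⟩⟩
    rw [← map_mul, show x * x = 1 from Subtype.ext (hR x.2).2, map_one]
  have hEn : F.IsNormal E := isNormal_of_commutative hS hF hEs (by
    rw [Subgroup.commutator_eq_bot_iff_le_centralizer]
    exact fun u hu => Subgroup.mem_centralizer_iff.2 fun v hv =>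
      invol_commute hS hF h hv.1 hu.1 hv.2 hu.2)
  set Z := S ⊓ Subgroup.centralizer (S : Set Ω) with hZ
  have hEZ : E ≤ Z := by
    refine fun e he => ⟨he.1, Subgroup.mem_centralizer_iff.2 fun x hx => ?_⟩
    obtain ⟨z, hz, φ, hφ, hφx⟩ := h x hx
    obtain ⟨ψ, hψ, hψe, hψE⟩ := hEn.2 _ φ hφ
    set u : (Subgroup.zpowers x ⊔ E : Subgroup Ω) :=
      Subgroup.inclusion le_sup_left ⟨x, Subgroup.mem_zpowers x⟩ with hu
    set v : (Subgroup.zpowers x ⊔ E : Subgroup Ω) := ⟨e, Subgroup.mem_sup_right he⟩ with hv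
    have hψu : ψ u = z := by rw [hu, hψe, hφx]
    have : ψ (u * v) = ψ (v * u) := by
      rw [map_mul, map_mul, hψu]
      exact (Subgroup.mem_centralizer_iff.1 hz.2 _ (apply_mem_S F hψ v)).symm
    exact congrArg Subtype.val (F.injective_of_mem hψ this)
  suffices hall : ∀ (k : ℕ) (x : Ω), x ∈ S → x ^ 2 ^ k = 1 → x ∈ Z by
    intro x hx y hy
    obtain ⟨k, hk⟩ := hS ⟨x, hx⟩
    exact (Subgroup.mem_centralizer_iff.1 (hall k x hx (congrArg Subtype.val hk)).2 y hy).symm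
  intro k
  induction k with
  | zero => intro x hx h1; rw [pow_zero, pow_one] at h1; rw [h1]; exact Z.one_mem
  | succ k ih =>
    intro x hx hxk
    have hx2 : x * x ∈ Z := ih _ (S.mul_mem hx hx) (by
      rw [← pow_two, ← pow_mul, ← pow_succ']; exact hxk)
    refine ⟨hx, Subgroup.mem_centralizer_iff.2 fun y hy => ?_⟩
    set x' := y * x * y⁻¹ with hx'
    have hx'S : x' ∈ S := S.mul_mem (S.mul_mem hy hx) (S.inv_mem hy)
    have hsq : x' * x' = x * x := by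
      rw [hx', show y * x * y⁻¹ * (y * x * y⁻¹) = y * (x * x) * y⁻¹ by group,
        Subgroup.mem_centralizer_iff.1 hx2.2 y hy, mul_inv_cancel_right]
    set w := x * x'⁻¹ with hw
    have hinv : x * w * x⁻¹ = w⁻¹ := by
      rw [hw, show x * (x * x'⁻¹) * x⁻¹ = (x * x) * x'⁻¹ * x⁻¹ by group, ← hsq]
      group
    have hwE : w ∈ E := ⟨S.mul_mem hx (S.inv_mem hx'S),
      sq_eq_one_of_inverted hS hF h (S.mul_mem hx (S.inv_mem hx'S)) hx hinv⟩
    have hwy : ∀ e ∈ E, y * e * y⁻¹ = e := fun e he => by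
      rw [Subgroup.mem_centralizer_iff.1 (hEZ he).2 y hy, mul_inv_cancel_right]
    have hwinv : w⁻¹ = w := inv_eq_of_mul_eq_one_right hwE.2
    have hx'w : x' = w * x := by rw [← hwinv, hw]; group
    obtain ⟨z, hz, φ, hφ, hφx⟩ := h x hx
    set P : Subgroup Ω := Subgroup.zpowers x ⊔ E with hP
    obtain ⟨ψ, hψ, hψe, hψE⟩ := hEn.2 _ φ hφ
    have hn : ∀ u : P, y * (u : Ω) * y⁻¹ ∈ P := by
      have : P ≤ P.comap (MulAut.conj y).toMonoidHom := by
        refine sup_le (Subgroup.zpowers_le.2 ?_) fun e he => ?_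
        · show y * x * y⁻¹ ∈ P
          rw [← hx', hx'w]
          exact mul_mem (Subgroup.mem_sup_right hwE) (Subgroup.mem_sup_left (Subgroup.mem_zpowers x))
        · show y * e * y⁻¹ ∈ P
          rw [hwy e he]; exact Subgroup.mem_sup_right he
      exact fun u => this u.2
    obtain ⟨χ, hχ, hχe⟩ := transport hψ hy hn
    have hψE' : ∀ u : P, (u : Ω) ∈ E → ψ u ∈ Z := fun u hu =>
      hEZ (hψE.le ⟨u, hu, rfl⟩)
    set u : P := Subgroup.inclusion le_sup_left ⟨x, Subgroup.mem_zpowers x⟩ with hu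
    have hψu : ψ u = z := by rw [hu, hψe, hφx]
    have hrange : ψ.range ≤ Z := by
      have : P ≤ (Z.comap ψ).map P.subtype := by
        refine sup_le (Subgroup.zpowers_le.2 ⟨u, ?_, rfl⟩) fun e he =>
          ⟨⟨e, Subgroup.mem_sup_right he⟩, hψE' _ he, rfl⟩
        show ψ u ∈ Z
        rw [hψu]; exact hz
      rintro _ ⟨v, rfl⟩
      obtain ⟨v', hv', e⟩ := this v.2
      rw [← Subtype.ext e]
      exact hv'
    set w₀ : P := ⟨w, Subgroup.mem_sup_right hwE⟩ with hw₀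
    have hcu : (⟨y * (u : Ω) * y⁻¹, hn u⟩ : P) = w₀ * u := Subtype.ext hx'w
    have hcw : (⟨y * ((w₀ * u : P) : Ω) * y⁻¹, hn _⟩ : P) = u := by
      apply Subtype.ext
      show y * (w * x) * y⁻¹ = x
      rw [show y * (w * x) * y⁻¹ = (y * w * y⁻¹) * (y * x * y⁻¹) by group, hwy w hwE, ← hx', hx'w,
        ← mul_assoc, hwE.2, one_mul]
    have := no_swap hS hF hrange hχ (fun q => by
        obtain ⟨q, v, rfl⟩ := q
        rw [hχe]
        exact ⟨_, rfl⟩)
      (a := ⟨ψ u, ⟨_, rfl⟩⟩) (b := ⟨ψ (w₀ * u), ⟨_, rfl⟩⟩) (by rw [hχe, hcu]) (by rw [hχe, hcw])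
    have h2 : u = w₀ * u := F.injective_of_mem hψ (congrArg Subtype.val this)
    have h3 : x = x' := by rw [hx'w]; exact congrArg Subtype.val h2
    exact eq_mul_inv_iff_mul_eq.1 h3 |>.symm

end CfsgLib.Fusion.CentralElements
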