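import Cfsg.Agent.Lib.Fusion.PPrimeGen

/-!
# Splitting off a p-subgroup that is central modulo a strongly closed one
-/

set_option autoImplicit false

namespace CfsgLib.Fusion

open Subgroup MonoidHom

/-- If a normal `p`-subgroup `C` is central modulo `U ≤ T`, meets `T` in `U`, `T ⊔ C` has index
prime to `p` and `T` is strongly closed in it, then a normal subgroup contains `T` and meets
`C` in `U` while covering the quotient. -/
theorem exists_normal_supplement_mod {K : Type*} [Group K] [Finite K] {p : ℕ} [Fact p.Prime]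
    (T C U : Subgroup K) [C.Normal] (hT : IsPGroup p T) (hC : IsPGroup p C) (hUT : U ≤ T)
    (hcen : ∀ k : K, ∀ c ∈ C, k * c * k⁻¹ * c⁻¹ ∈ U) (hTC : T ⊓ C ≤ U)
    (hidx : ¬ p ∣ (T ⊔ C).index)
    (hsc : ∀ g : K, ∀ t ∈ T, g * t * g⁻¹ ∈ T ⊔ C → g * t * g⁻¹ ∈ T) :
    ∃ H : Subgroup K, H.Normal ∧ T ≤ H ∧ H ⊓ C ≤ U ∧ H ⊔ C = ⊤ ∧
      ∀ x : K, (orderOf x).Coprime p → x ∈ H := by
  classical
  have hp : p.Prime := Fact.out
  set X : Subgroup K := T ⊔ C
  set N : Subgroup X := T.subgroupOf X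
  have hNn : N.Normal := ⟨fun t ht b =>
    hsc (b : K) t ht (X.mul_mem (X.mul_mem b.2 t.2) (X.inv_mem b.2))⟩
  -- every coset of `T` in `X` meets `C`
  have hrep : ∀ a : X ⧸ N, ∃ c : X, (c : K) ∈ C ∧ (c : X ⧸ N) = a := by
    intro a
    induction a using QuotientGroup.induction_on with
    | H x =>
      obtain ⟨t, ht, c, hc, htc⟩ := Subgroup.mem_sup_of_normal_right.1 x.2
      refine ⟨⟨c, le_sup_right (a := T) hc⟩, hc, ?_⟩
      rw [show x = ⟨t, le_sup_left (b := C) ht⟩ * ⟨c, le_sup_right (a := T) hc⟩ from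
        Subtype.ext htc.symm, QuotientGroup.mk_mul, (QuotientGroup.eq_one_iff _).2
        (Subgroup.mem_subgroupOf.2 (show ((⟨t, le_sup_left (b := C) ht⟩ : X) : K) ∈ T from ht)),
        one_mul]
  let _ : CommGroup (X ⧸ N) :=
    { (inferInstance : Group (X ⧸ N)) with
      mul_comm := fun a b => by
        obtain ⟨c, hc, rfl⟩ := hrep a
        obtain ⟨d, hd, rfl⟩ := hrep b
        rw [← QuotientGroup.mk_mul, ← QuotientGroup.mk_mul, QuotientGroup.eq_iff_div_mem]
        refine Subgroup.mem_subgroupOf.2 (hUT ?_)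
        have h1 := hcen (c : K) (d : K) hd
        simpa [div_eq_mul_inv, mul_assoc] using h1 }
  let φ : X →* X ⧸ N := QuotientGroup.mk' N
  have hφ1 : ∀ x : X, φ x = 1 ↔ (x : K) ∈ T := fun x =>
    (QuotientGroup.eq_one_iff x).trans Subgroup.mem_subgroupOf
  let V : K →* X ⧸ N := transfer φ
  have hQp : IsPGroup p (X ⧸ N) := (hT.to_sup_of_normal_right hC).to_quotient N
  obtain ⟨e, he⟩ := IsPGroup.iff_card.1 hQp
  have hco : (Nat.card (X ⧸ N)).Coprime X.index := by
    rw [he]
    exact (hp.coprime_iff_not_dvd.2 hidx).pow_left e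
  -- the transfer on `C`
  have hVC : ∀ x (hx : x ∈ C), V x = φ ⟨x, le_sup_right (a := T) hx⟩ ^ X.index := by
    intro x hx
    let _ : Fintype (K ⧸ X) := Fintype.ofFinite _
    let _ : Fintype (Quotient (MulAction.orbitRel (zpowers x) (K ⧸ X))) := Fintype.ofFinite _
    refine (transfer_eq_prod_quotient_orbitRel_zpowers_quot φ x).trans ?_
    rw [index_eq_sum_minimalPeriod X x, ← Finset.prod_pow_eq_pow_sum]
    refine Finset.prod_congr rfl fun q _ => ?_
    rw [← map_pow, ← mul_inv_eq_one, ← map_inv, ← map_mul, hφ1]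
    refine hUT ?_
    simpa using hcen q.out.out⁻¹ _
      (C.pow_mem hx (Function.minimalPeriod (x • ·) q.out))
  -- the transfer on `T`
  have hVT : ∀ x ∈ T, V x = 1 := by
    intro x hx
    let _ : Fintype (K ⧸ X) := Fintype.ofFinite _
    let _ : Fintype (Quotient (MulAction.orbitRel (zpowers x) (K ⧸ X))) := Fintype.ofFinite _
    refine (transfer_eq_prod_quotient_orbitRel_zpowers_quot φ x).trans ?_
    refine Finset.prod_eq_one fun q _ => (hφ1 _).2 ?_
    have hm := QuotientGroup.out_conj_pow_minimalPeriod_mem X x q.out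
    simpa using hsc q.out.out⁻¹ _ (T.pow_mem hx _) (by simpa using hm)
  refine ⟨V.ker, inferInstance, fun x hx => hVT x hx, fun x hx => ?_, ?_, fun x hx => ?_⟩
  · refine hTC ⟨?_, hx.2⟩
    have h1 : φ ⟨x, le_sup_right (a := T) hx.2⟩ ^ X.index = 1 := (hVC x hx.2).symm.trans hx.1
    have h2 : φ ⟨x, le_sup_right (a := T) hx.2⟩ = 1 :=
      (powCoprime hco).injective (by simpa using h1)
    exact (hφ1 _).1 h2
  · refine eq_top_iff.2 fun g _ => ?_
    obtain ⟨q, hq⟩ := (powCoprime hco).surjective (V g)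
    obtain ⟨c, hc, rfl⟩ := hrep q
    have h1 : V (g * (c : K)⁻¹) = 1 := by
      rw [map_mul, map_inv, hVC c hc, ← hq]
      exact mul_inv_cancel _
    have h2 := Subgroup.mul_mem_sup (S := V.ker) (T := C) h1 hc
    rwa [inv_mul_cancel_right] at h2
  · refine eq_one_of_pow_prime_of_coprime (p := p) (k := e) ?_
      (hx.coprime_dvd_left (orderOf_map_dvd V x))
    rw [← he, pow_card_eq_one']

end CfsgLib.Fusion
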