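import Cfsg.Agent.Lib.Fusion.Extender
import Cfsg.Agent.Lib.Fusion.Normal
import Cfsg.Agent.Lib.Fusion.SylowTools
import Cfsg.Agent.Lib.Cores.Basic
import Cfsg.Agent.Lib.Transfer.Basic

/-!
# Saturation of systems generated by a saturated family

Let `P` be a fully normalized subgroup such that every subgroup of larger order is conjugate to a
fully automized receptive one and such that the maps with source outside the class of `P`
generate. Then every member of the class reaches `P` by a map of its whole normalizer, every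
automorphism of `P` is the restriction of an automorphism of the subgroup `R` of `N_S(P)` inducing
on `P` elements of `O_p(Aut(P))`, and if `P < R` then the class of `P` has a fully automized
receptive member.
-/

set_option autoImplicit false

open Cfsg Cfsg.FusionSystem

namespace CfsgLib.Fusion

variable {Ω : Type*} [Group Ω] {S : Subgroup Ω} {F : FusionSystem S} {p : ℕ}

/-- The class of `X` has a fully automized receptive member. -/
def HasSatMember (F : FusionSystem S) (p : ℕ) (X : Subgroup Ω) : Prop :=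
  ∃ T : Subgroup Ω, F.IsConj X T ∧ F.IsFullyAutomized p T ∧ F.IsReceptive T

/-- All subgroups of larger order have fully automized receptive conjugates. -/
def SatAbove (F : FusionSystem S) (p : ℕ) (n : ℕ) : Prop :=
  ∀ R : Subgroup Ω, R ≤ S → n < Nat.card R → HasSatMember F p R

/-- The maps whose source is outside the class of `P` generate the system. -/
def GeneratedOutside (F : FusionSystem S) (P : Subgroup Ω) : Prop :=
  ∀ D : FusionSystem S, (∀ X : Subgroup Ω, ¬ F.IsConj P X → F.Hom X ⊆ D.Hom X) → F ≤ D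

/-- `Q` reaches `P` by a map of its whole normalizer. -/
def ReachesNormalizer (F : FusionSystem S) (P Q : Subgroup Ω) : Prop :=
  ∃ (h : Q ≤ normalizerIn S Q) (e : Q ≃* P), IsIso F e ∧ ∃ φ ∈ F.Hom (normalizerIn S Q),
    (∀ x : Q, φ (Subgroup.inclusion h x) = e x) ∧ ∀ g, φ g ∈ normalizerIn S P

/-- The automorphisms in `F` of `T` fixing `X ≤ T`. -/
def stabAut (F : FusionSystem S) (T X : Subgroup Ω) : Subgroup (MulAut T) where
  carrier := {γ | γ ∈ F.autGroup T ∧ ∀ x : T, (x : Ω) ∈ X ↔ (γ x : Ω) ∈ X}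
  one_mem' := ⟨one_mem _, fun _ => Iff.rfl⟩
  mul_mem' := fun {a b} ha hb =>
    ⟨mul_mem ha.1 hb.1, fun x => (hb.2 x).trans (ha.2 (b x))⟩
  inv_mem' := fun {a} ha =>
    ⟨inv_mem ha.1, fun x => by rw [ha.2 (a⁻¹ x), MulAut.apply_inv_self]⟩

theorem mem_stabAut {T X : Subgroup Ω} {γ : MulAut T} :
    γ ∈ stabAut F T X ↔ γ ∈ F.autGroup T ∧ ∀ x : T, (x : Ω) ∈ X ↔ (γ x : Ω) ∈ X := Iff.rfl

theorem stabAut_le (T X : Subgroup Ω) : stabAut F T X ≤ F.autGroup T := fun _ h => h.1

/-- Restriction to an invariant subgroup. -/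
noncomputable def resStab {T X : Subgroup Ω} (hXT : X ≤ T) (hT : T ≤ S) :
    stabAut F T X →* F.autGroup X where
  toFun γ :=
    ⟨{ toFun := fun x => ⟨(γ : MulAut T) (Subgroup.inclusion hXT x), (γ.2.2 _).1 x.2⟩
       invFun := fun x => ⟨(γ : MulAut T)⁻¹ (Subgroup.inclusion hXT x), ((γ⁻¹).2.2 _).1 x.2⟩
       left_inv := fun x => Subtype.ext (by
         change (((γ : MulAut T)⁻¹ ((γ : MulAut T) (Subgroup.inclusion hXT x)) : T) : Ω) = x
         rw [MulAut.inv_apply_self]
         rfl)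
       right_inv := fun x => Subtype.ext (by
         change (((γ : MulAut T) ((γ : MulAut T)⁻¹ (Subgroup.inclusion hXT x)) : T) : Ω) = x
         rw [MulAut.apply_inv_self]
         rfl)
       map_mul' := fun x y => Subtype.ext (by simp only [map_mul, Subgroup.coe_mul]) },
     mem_autGroup_of_mem (φ := (T.subtype.comp (γ : MulAut T).toMonoidHom).comp
       (Subgroup.inclusion hXT)) _ (res_mem F ((mem_autGroup_iff F hT).1 γ.2.1) hXT) fun _ => rfl⟩
  map_one' := Subtype.ext (MulEquiv.ext fun _ => Subtype.ext rfl)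
  map_mul' _ _ := Subtype.ext (MulEquiv.ext fun _ => Subtype.ext rfl)

theorem resStab_apply {T X : Subgroup Ω} (hXT : X ≤ T) (hT : T ≤ S) (γ : stabAut F T X) (x : X) :
    (((resStab hXT hT γ : F.autGroup X) : MulAut X) x : Ω) =
      ((γ : MulAut T) (Subgroup.inclusion hXT x) : Ω) := rfl

/-- `O_p(Aut_F(X))`, inside `Aut(X)`. -/
def coreAut (F : FusionSystem S) (p : ℕ) (X : Subgroup Ω) : Subgroup (MulAut X) :=
  (pCore p (F.autGroup X)).map (F.autGroup X).subtype

theorem coreAut_le (p : ℕ) (X : Subgroup Ω) : coreAut F p X ≤ F.autGroup X :=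
  Subgroup.map_subtype_le _

/-- The conjugation action of the normalizer. -/
def normAutHom (S X : Subgroup Ω) : normalizerIn S X →* MulAut X where
  toFun g := normAut (g : Ω) g.2.2
  map_one' := MulEquiv.ext fun x => Subtype.ext (by simp)
  map_mul' a b := MulEquiv.ext fun x => Subtype.ext (by simp [mul_assoc])

/-- The elements of `N_S(X)` inducing elements of `O_p(Aut_F(X))`. -/
def coreNormalizer (F : FusionSystem S) (p : ℕ) (X : Subgroup Ω) : Subgroup Ω :=
  ((coreAut F p X).comap (normAutHom S X)).map (normalizerIn S X).subtype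

theorem mem_coreNormalizer {X : Subgroup Ω} {g : Ω} :
    g ∈ coreNormalizer F p X ↔
      ∃ hg : g ∈ normalizerIn S X, normAut g hg.2 ∈ coreAut F p X := by
  constructor
  · rintro ⟨⟨y, hy⟩, hy', rfl⟩
    exact ⟨hy, hy'⟩
  · rintro ⟨hg, h⟩
    exact ⟨⟨g, hg⟩, h, rfl⟩

theorem coreNormalizer_le (X : Subgroup Ω) : coreNormalizer F p X ≤ normalizerIn S X :=
  Subgroup.map_subtype_le _

theorem coreAut_congr {X Y : Subgroup Ω} {e : X ≃* Y} (he : IsIso F e) {α : MulAut X}
    (hα : α ∈ coreAut F p X) : MulAut.congr e α ∈ coreAut F p Y := by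
  obtain ⟨a, ha, rfl⟩ := hα
  refine ⟨autEquiv he a, ?_, rfl⟩
  rw [SetLike.mem_coe, ← CfsgLib.Cores.map_pCore_equiv (autEquiv he)]
  exact ⟨a, ha, rfl⟩

variable [Finite S] [Fact p.Prime]

theorem isPGroup_coreAut {X : Subgroup Ω} (hX : X ≤ S) : IsPGroup p (coreAut F p X) := by
  have := finite_of_le hX
  exact (CfsgLib.Cores.isPGroup_pCore p).map _

theorem coreAut_normal {X : Subgroup Ω} {α β : MulAut X} (hα : α ∈ coreAut F p X)
    (hβ : β ∈ F.autGroup X) : β * α * β⁻¹ ∈ coreAut F p X := by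
  obtain ⟨a, ha, rfl⟩ := hα
  have : (pCore p (F.autGroup X)).Normal := inferInstance
  exact ⟨⟨β, hβ⟩ * a * (⟨β, hβ⟩ : F.autGroup X)⁻¹, this.conj_mem a ha _, rfl⟩

theorem le_coreNormalizer (hS : IsPGroup p S) {X : Subgroup Ω} (hX : X ≤ S) :
    X ≤ coreNormalizer F p X := by
  have := finite_of_le hX
  intro g hg
  refine mem_coreNormalizer.2 ⟨le_normalizerIn hX hg, ?_⟩
  have hI : Cfsg.Inn X ≤ F.autGroup X := inn_le_autGroup hX
  have hn : ((Cfsg.Inn X).subgroupOf (F.autGroup X)).Normal := by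
    refine ⟨fun a ha b => ?_⟩
    rw [Subgroup.mem_subgroupOf, inn_eq, mem_autInducedBy_iff] at ha ⊢
    obtain ⟨k, hk, hke⟩ := ha
    refine ⟨((b : MulAut X) ⟨k, hk⟩ : X), ((b : MulAut X) ⟨k, hk⟩).2, fun x => ?_⟩
    have h1 : (a : MulAut X) ((b : MulAut X)⁻¹ x) =
        ⟨k, hk⟩ * (b : MulAut X)⁻¹ x * (⟨k, hk⟩ : X)⁻¹ := Subtype.ext (hke _)
    change (((b : MulAut X) ((a : MulAut X) ((b : MulAut X)⁻¹ x)) : X) : Ω) = _
    rw [h1, map_mul, map_mul, map_inv, MulAut.apply_inv_self]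
    rfl
  have hp' : IsPGroup p ((Cfsg.Inn X).subgroupOf (F.autGroup X)) := by
    refine IsPGroup.comap_subtype ?_
    rw [inn_eq]
    exact isPGroup_autInducedBy (hS.to_le hX) X
  have hg' : normAut g (le_normalizerIn hX hg).2 ∈ Cfsg.Inn X :=
    (inn_eq X).symm.le (mem_autInducedBy_iff.2 ⟨g, hg, fun _ => rfl⟩)
  exact ⟨⟨_, hI hg'⟩, CfsgLib.Cores.le_pCore hp' hg', rfl⟩

/-- A map on a subgroup normalizing `X` carries elements inducing `O_p` to such elements. -/
theorem apply_mem_coreNormalizer {X Y M : Subgroup Ω} {e : X ≃* Y} (he : IsIso F e)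
    {ψ : M →* Ω} (hψ : ψ ∈ F.Hom M) (hXM : X ≤ M)
    (hψe : ∀ x : X, ψ (Subgroup.inclusion hXM x) = e x)
    (hM : M ≤ normalizerIn S X) {g : M} (hg : (g : Ω) ∈ coreNormalizer F p X) :
    ψ g ∈ coreNormalizer F p Y := by
  obtain ⟨hgN, hgc⟩ := mem_coreNormalizer.1 hg
  have hY := apply_mem_normalizerIn hψ hXM hψe (fun y hy => (hM hy).2) g
  refine mem_coreNormalizer.2 ⟨hY, ?_⟩
  have h1 : MulAut.congr e (normAut (g : Ω) hgN.2) = normAut (ψ g) hY.2 := by
    refine MulEquiv.ext fun y => Subtype.ext ?_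
    have h2 : Subgroup.inclusion hXM (normAut (g : Ω) hgN.2 (e.symm y)) =
        g * Subgroup.inclusion hXM (e.symm y) * g⁻¹ := Subtype.ext (by simp)
    change ((e (normAut (g : Ω) hgN.2 (e.symm y)) : Y) : Ω) = _
    rw [← hψe, h2, map_mul, map_mul, map_inv, hψe, MulEquiv.apply_symm_apply]
    simp
  rw [← h1]
  exact coreAut_congr he hgc

/-- A fully automized target adapted to a subgroup: an isomorphism `f` onto a fully automized
receptive `T` such that `Aut_S(T)` meets the stabilizer of the image of `X` in a Sylow subgroup,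
together with the condition on extending. -/
theorem exists_adapted_target (hS : IsPGroup p S) {M T X : Subgroup Ω} {e : M ≃* T}
    (he : IsIso F e) (hT : F.IsFullyAutomized p T) (hTr : F.IsReceptive T) (hXM : X ≤ M)
    {U : Subgroup (MulAut M)} (hU : IsPGroup p U) (hUs : U ≤ stabAut F M X) :
    ∃ (f : M ≃* T), IsIso F f ∧
      (∀ u ∈ U, MulAut.congr f u ∈ autInducedBy S T) ∧
      ¬ p ∣ (autInducedBy S T ⊓ stabAut F T (img (T.subtype.comp f.toMonoidHom) X)).relIndex
        (stabAut F T (img (T.subtype.comp f.toMonoidHom) X)) := by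
  have hTS := hT.1
  have := finite_of_le hTS
  have := finite_of_le he.le_left
  obtain ⟨-, hidx⟩ := (isFullyAutomized_iff hS).1 hT
  set X₀ := img (T.subtype.comp e.toMonoidHom) X with hX₀
  have himg : ∀ (g : M ≃* T) (y : T), (y : Ω) ∈ img (T.subtype.comp g.toMonoidHom) X ↔
      ((g.symm y : M) : Ω) ∈ X := by
    intro g y
    rw [mem_img]
    constructor
    · rintro ⟨x, hx, hxy⟩
      rw [show g.symm y = x from (MulEquiv.symm_apply_eq g).2 (Subtype.ext hxy.symm)]
      exact hx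
    · exact fun h => ⟨g.symm y, h, congrArg Subtype.val (g.apply_symm_apply y)⟩
  have hstab : ∀ u ∈ U, MulAut.congr e u ∈ stabAut F T X₀ := by
    intro u hu
    refine ⟨congr_mem_autGroup he (hUs hu).1, fun y => ?_⟩
    rw [himg, himg]
    change _ ↔ ((e.symm (e (u (e.symm y))) : M) : Ω) ∈ X
    rw [MulEquiv.symm_apply_apply]
    exact (hUs hu).2 _
  obtain ⟨Y, hYle, hY, hYi, hUY⟩ : ∃ Y : Subgroup (MulAut T), Y ≤ stabAut F T X₀ ∧ IsPGroup p Y ∧
      ¬ p ∣ Y.relIndex (stabAut F T X₀) ∧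
      U.map (MulAut.congr e).toMonoidHom ≤ Y := by
    have hle : U.map (MulAut.congr e).toMonoidHom ≤ stabAut F T X₀ := by
      rintro _ ⟨u, hu, rfl⟩
      exact hstab u hu
    obtain ⟨W, hW⟩ := ((hU.map (MulAut.congr e).toMonoidHom).comap_subtype
      (K := stabAut F T X₀)).exists_le_sylow
    refine ⟨(W : Subgroup (stabAut F T X₀)).map (stabAut F T X₀).subtype,
      Subgroup.map_subtype_le _, W.2.map _, ?_, fun y hy => ⟨⟨y, hle hy⟩, hW hy, rfl⟩⟩
    rw [Subgroup.relIndex, Subgroup.subgroupOf,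
      Subgroup.comap_map_eq_self_of_injective (stabAut F T X₀).subtype_injective]
    exact W.not_dvd_index
  obtain ⟨b, hb, hbY⟩ := exists_conj_mem_of_le hY (isPGroup_autInducedBy hS T)
    (hYle.trans (stabAut_le T X₀)) (autInducedBy_le_autGroup hTS) hidx
  set f : M ≃* T := e.trans b with hf
  have hfcongr : ∀ u : MulAut M, MulAut.congr f u = b * MulAut.congr e u * b⁻¹ := fun u =>
    MulEquiv.ext fun _ => rfl
  refine ⟨f, he.trans ((mem_autGroup_iff F hTS).1 hb), fun u hu => ?_, ?_⟩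
  · rw [hfcongr]
    exact hbY _ (hUY ⟨u, hu, rfl⟩)
  set X₁ := img (T.subtype.comp f.toMonoidHom) X with hX₁
  have hmap : (stabAut F T X₀).map (MulAut.conj b).toMonoidHom = stabAut F T X₁ := by
    ext γ
    have key : ∀ y : T, (y : Ω) ∈ X₁ ↔ ((b⁻¹ y : T) : Ω) ∈ X₀ := by
      intro y
      rw [himg, himg]
      rfl
    constructor
    · rintro ⟨δ, hδ, rfl⟩
      refine ⟨mul_mem (mul_mem hb hδ.1) (inv_mem hb), fun y => ?_⟩
      rw [key, key, hδ.2 (b⁻¹ y)]
      change _ ↔ ((b⁻¹ (b (δ (b⁻¹ y))) : T) : Ω) ∈ X₀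
      rw [MulAut.inv_apply_self]
    · intro hγ
      refine ⟨b⁻¹ * γ * b, ⟨mul_mem (mul_mem (inv_mem hb) hγ.1) hb, fun y => ?_⟩, by
        simp [mul_assoc]⟩
      have h1 := hγ.2 (b y)
      rw [key, key, MulAut.inv_apply_self] at h1
      exact h1
  intro hd
  refine hYi (hd.trans ?_)
  rw [← Subgroup.relIndex_map_map_of_injective Y (stabAut F T X₀) (f := (MulAut.conj b).toMonoidHom)
    (MulAut.conj b).injective, hmap]
  refine Subgroup.relIndex_dvd_of_le_left _ ?_
  rintro _ ⟨y, hy, rfl⟩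
  exact ⟨hbY y hy, hmap.le ⟨y, hYle hy, rfl⟩⟩

/-- Data extending an adapted isomorphism over a subgroup normalizing `X` and `M`. -/
theorem exists_adapted_extension {M T X M₁ : Subgroup Ω} {f : M ≃* T} (hf : IsIso F f)
    (hTr : F.IsReceptive T) (hXM : X ≤ M) (hM₁ : M₁ ≤ normalizerIn S M)
    (hX : M₁ ≤ normalizerIn S X) (hMM₁ : M ≤ M₁)
    (hind : ∀ (g : Ω) (hg : g ∈ M₁),
      MulAut.congr f (normAut g (hM₁ hg).2) ∈ autInducedBy S T) :
    ∃ (e₁ : X ≃* img (T.subtype.comp f.toMonoidHom) X), IsIso F e₁ ∧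
      (∀ x : X, (e₁ x : Ω) = f (Subgroup.inclusion hXM x)) ∧
      ∃ χ ∈ F.Hom M₁, (∀ x : M, χ (Subgroup.inclusion hMM₁ x) = f x) ∧
        (∀ g, χ g ∈ normalizerIn S (img (T.subtype.comp f.toMonoidHom) X)) ∧
        ∀ g, χ g ∈ normalizerIn S T := by
  have hM : M₁ ≤ extender S M (T.subtype.comp f.toMonoidHom) := fun g hg =>
    mem_extender_iso_iff.2 ⟨(hM₁ hg).1, (hM₁ hg).2, hind g hg⟩
  obtain ⟨χ, hχ, hχe⟩ := exists_extension hTr hf hMM₁ hM
  obtain ⟨e₁, he₁, he₁e⟩ := exists_iso_of_range (res_mem F hf hXM)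
    (range_comp_inclusion (T.subtype.comp f.toMonoidHom) hXM)
  have hχX : ∀ x : X, χ (Subgroup.inclusion (hXM.trans hMM₁) x) = e₁ x := fun x =>
    (hχe (Subgroup.inclusion hXM x)).trans (he₁e x).symm
  exact ⟨e₁, he₁, he₁e, χ, hχ, hχe,
    fun g => apply_mem_normalizerIn hχ (hXM.trans hMM₁) hχX (fun y hy => (hX hy).2) g,
    fun g => apply_mem_normalizerIn hχ hMM₁ hχe (fun y hy => (hM₁ hy).2) g⟩

end CfsgLib.Fusion
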