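import Cfsg.Agent.Lib.Fusion.Alperin
import Cfsg.Agent.Lib.Fusion.Stabilizer

/-!
# Centric subgroups: uniqueness of extensions
-/

set_option autoImplicit false

open Cfsg Cfsg.FusionSystem

namespace CfsgLib.Fusion

variable {Ω : Type*} [Group Ω] {S : Subgroup Ω} {F : FusionSystem S}

theorem isCentric_of_le {P Q : Subgroup Ω} (hQP : Q ≤ P) (hPS : P ≤ S) (hQ : F.IsCentric Q) :
    F.IsCentric P := by
  refine ⟨hPS, fun P' hP' c hc => ?_⟩
  obtain ⟨φ, hφ, rfl⟩ := hP'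
  have h := hQ.2 _ ⟨_, res_mem F hφ hQP, range_comp_inclusion φ hQP⟩
  exact img_le_range φ Q (h ⟨hc.1, fun y hy => hc.2 y (img_le_range φ Q hy)⟩)

theorem card_centralizerIn_eq_of_isCentric {Q Q' : Subgroup Ω} (hQ : F.IsCentric Q)
    (h : F.IsConj Q Q') :
    Nat.card (centralizerIn S Q') = Nat.card (centralizerIn S Q) := by
  have hz : ∀ R : Subgroup Ω, F.IsConj Q R →
      Nat.card (centralizerIn S R) = Nat.card (Subgroup.center R) := fun R hR =>
    Nat.card_congr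
      { toFun := fun c => ⟨⟨c, hQ.2 R hR c.2⟩, Subgroup.mem_center_iff.2
          fun y => Subtype.ext (c.2.2 y y.2)⟩
        invFun := fun z => ⟨(z.1 : Ω), le_right_of_isConj hR z.1.2,
          fun y hy => congrArg Subtype.val (Subgroup.mem_center_iff.1 z.2 ⟨y, hy⟩)⟩
        left_inv := fun _ => rfl
        right_inv := fun _ => rfl }
  rw [hz Q' h, hz Q (isConj_refl hQ.1)]
  obtain ⟨e, -⟩ := isConj_iff.1 h
  exact (Nat.card_congr (Subgroup.centerCongr e).toEquiv).symm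

theorem isFullyCentralized_of_isCentric {Q : Subgroup Ω} (hQ : F.IsCentric Q) :
    F.IsFullyCentralized Q :=
  ⟨hQ.1, fun _ h => (card_centralizerIn_eq_of_isCentric hQ h).le⟩

variable {p : ℕ} [Fact p.Prime] [Finite S]

theorem receptive_of_isCentric (hS : IsPGroup p S) (hF : F.IsSaturated p) {Q : Subgroup Ω}
    (hQ : F.IsCentric Q) : F.IsReceptive Q :=
  receptive_of_fullyCentralized hS hF (isFullyCentralized_of_isCentric hQ)

/-- An isomorphism of the system onto a fully automized subgroup may be chosen so as to carry a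
given `p`-subgroup of automorphisms into the induced ones. -/
theorem exists_iso_map_le (hS : IsPGroup p S) (hF : F.IsSaturated p) {P : Subgroup Ω}
    (hP : P ≤ S) {K : Subgroup (MulAut P)} (hKA : K ≤ F.autGroup P) (hK : IsPGroup p K) :
    ∃ (P' : Subgroup Ω) (f : P ≃* P'), IsIso F f ∧ F.IsFullyNormalized P' ∧
      K.map (MulAut.congr f).toMonoidHom ≤ autInducedBy S P' := by
  obtain ⟨P', hconj, hn⟩ := exists_fullyNormalized F hP
  obtain ⟨f, hf⟩ := isConj_iff.1 hconj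
  have := finite_of_le hn.1
  obtain ⟨hle, hi⟩ := (isFullyAutomized_iff hS).1
    (fullyAutomized_receptive_of_fullyNormalized hS hF hn).1
  obtain ⟨β, hβ, hconjK⟩ := exists_conj_mem_of_le (U := K.map (MulAut.congr f).toMonoidHom)
    (hK.map _) (isPGroup_autInducedBy hS P') ((Subgroup.map_mono hKA).trans
      (autGroup_map_congr hf).le) (autInducedBy_le_autGroup hle) hi
  refine ⟨P', f.trans β, hf.trans ((mem_autGroup_iff F hle).1 hβ), hn, ?_⟩
  rintro _ ⟨a, ha, rfl⟩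
  convert hconjK _ ⟨a, ha, rfl⟩ using 1
  exact MulEquiv.ext fun y => rfl

/-- The case of a normal `Q`. -/
theorem eq_comp_conj_of_normal (hS : IsPGroup p S) (hF : F.IsSaturated p) {P Q : Subgroup Ω}
    (hQP : Q ≤ P) (hQn : P ≤ Subgroup.normalizer (Q : Set Ω)) (hQ : F.IsCentric Q)
    {φ φ' : P →* Ω} (hφ : φ ∈ F.Hom P) (hφ' : φ' ∈ F.Hom P)
    (h : ∀ x : P, (x : Ω) ∈ Q → φ x = φ' x) :
    ∃ z : P, (z : Ω) ∈ Q ∧ (z : Ω) ∈ Subgroup.centralizer (Q : Set Ω) ∧
      ∀ y : P, φ' y = φ (z * y * z⁻¹) := by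
  obtain ⟨e, he, hee⟩ := exists_iso_of_mem hφ
  obtain ⟨e', he', hee'⟩ := exists_iso_of_mem hφ'
  have hQi : F.IsConj Q (img φ Q) := ⟨_, res_mem F hφ hQP, range_comp_inclusion φ hQP⟩
  have key : ∀ x : P, ∃ d : P, (d : Ω) ∈ Q ∧ φ' x = φ d * φ x := by
    intro x
    have hd : φ' x * (φ x)⁻¹ ∈ centralizerIn S (img φ Q) := by
      refine ⟨S.mul_mem (apply_mem_S F hφ' x) (S.inv_mem (apply_mem_S F hφ x)), ?_⟩
      intro y hy
      obtain ⟨q, hq, rfl⟩ := mem_img.1 hy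
      have hq' : ((x⁻¹ * q * x : P) : Ω) ∈ Q := by
        have := conj_mem_of_mem_normalizer (inv_mem (hQn x.2)) hq
        simpa using this
      have h1 := h _ hq'
      rw [map_mul, map_mul, map_inv, map_mul, map_mul, map_inv, ← h q hq] at h1
      calc φ q * (φ' x * (φ x)⁻¹)
          = φ' x * ((φ' x)⁻¹ * φ q * φ' x) * (φ x)⁻¹ := by group
        _ = φ' x * ((φ x)⁻¹ * φ q * φ x) * (φ x)⁻¹ := by rw [h1]
        _ = φ' x * (φ x)⁻¹ * φ q := by group
    obtain ⟨d, hd', hde⟩ := mem_img.1 (hQ.2 _ hQi hd)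
    exact ⟨d, hd', by rw [hde]; group⟩
  have hr : φ'.range = φ.range := by
    refine le_antisymm ?_ ?_
    · rintro _ ⟨x, rfl⟩
      obtain ⟨d, -, hde⟩ := key x
      exact ⟨d * x, by rw [map_mul, hde]⟩
    · rintro _ ⟨x, rfl⟩
      obtain ⟨d, hd, hde⟩ := key x
      refine ⟨d⁻¹ * x, ?_⟩
      rw [map_mul, map_inv, ← h d hd, hde]
      group
  obtain ⟨f', hf', hfe'⟩ := exists_iso_of_range hφ' hr
  let β : MulAut P := f'.trans e.symm
  have hPS := le_S F hφ
  have := finite_of_le hPS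
  have hβ : β ∈ F.autGroup P := (mem_autGroup_iff F hPS).2 (hf'.trans he.symm)
  have hβe : ∀ x, φ (β x) = φ' x := fun x => by
    rw [← hee, show e (β x) = f' x from e.apply_symm_apply _, hfe']
  -- the automorphisms trivial on `Q`
  let K : Subgroup (MulAut P) :=
    { carrier := {γ | γ ∈ F.autGroup P ∧ ∀ x : P, (x : Ω) ∈ Q → γ x = x}
      one_mem' := ⟨one_mem _, fun _ _ => rfl⟩
      mul_mem' := fun {a b} ha hb => ⟨mul_mem ha.1 hb.1, fun x hx => by
        rw [MulAut.mul_apply, hb.2 x hx, ha.2 x hx]⟩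
      inv_mem' := fun {a} ha => ⟨inv_mem ha.1, fun x hx => by
        conv_lhs => rw [← ha.2 x hx]
        exact MulAut.inv_apply_self _ a x⟩ }
  have hKp : IsPGroup p K := by
    refine isPGroup_of_stabilizes (hS.to_le hPS) K
      (fun i => if i = 0 then Q.subgroupOf P else ⊤) 1 (fun x => by simp) ?_ ?_
    · intro α hα _ _ x hx
      exact hα.2 x hx
    · intro α hα i hi x _
      obtain rfl : i = 0 := by omega
      change ((x⁻¹ * α x : P) : Ω) ∈ Q
      obtain ⟨ea, hea, heaa⟩ := exists_iso_of_mem ((mem_autGroup_iff F hPS).1 hα.1)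
      -- `α x x⁻¹` centralizes `Q`
      have hc : ((α x * x⁻¹ : P) : Ω) ∈ centralizerIn S Q := by
        refine ⟨hPS (α x * x⁻¹).2, fun y hy => ?_⟩
        have hy' : ((x⁻¹ * ⟨y, hQP hy⟩ * x : P) : Ω) ∈ Q := by
          have := conj_mem_of_mem_normalizer (inv_mem (hQn x.2)) hy
          simpa using this
        have h1 := hα.2 _ hy'
        rw [map_mul, map_mul, map_inv, hα.2 ⟨y, hQP hy⟩ hy] at h1
        change ((⟨y, hQP hy⟩ * (α x * x⁻¹) : P) : Ω) = ((α x * x⁻¹ * ⟨y, hQP hy⟩ : P) : Ω)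
        refine congrArg Subtype.val ?_
        calc (⟨y, hQP hy⟩ : P) * (α x * x⁻¹)
            = α x * ((α x)⁻¹ * ⟨y, hQP hy⟩ * α x) * x⁻¹ := by group
          _ = α x * (x⁻¹ * ⟨y, hQP hy⟩ * x) * x⁻¹ := by rw [h1]
          _ = α x * x⁻¹ * ⟨y, hQP hy⟩ := by group
      have h2 := conj_mem_of_mem_normalizer (inv_mem (hQn x.2)) (hQ.2 Q (isConj_refl hQ.1) hc)
      simpa [mul_assoc] using h2
  have hβK : β ∈ K := by
    refine ⟨hβ, fun x hx => F.injective_of_mem hφ ?_⟩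
    rw [hβe, h x hx]
  obtain ⟨P', f, hf, -, hle⟩ := exists_iso_map_le (K := K) hS hF hPS (fun γ hγ => hγ.1) hKp
  obtain ⟨g, hg, hge⟩ := mem_autInducedBy_iff.1 (hle ⟨β, hβK, rfl⟩)
  have hge' : ∀ x : P, (f (β x) : Ω) = g * f x * g⁻¹ := fun x => by
    simpa using hge (f x)
  obtain ⟨fQ, hfQ, hfQe⟩ := hf.exists_res hQP
  have hgQ : g ∈ img (P'.subtype.comp f.toMonoidHom) Q := by
    refine hQ.2 _ (isConj_iff.2 ⟨fQ, hfQ⟩) ⟨hg, fun y hy => ?_⟩
    obtain ⟨q, hq, rfl⟩ := mem_img.1 hy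
    have h1 := hge' q
    rw [hβK.2 q hq] at h1
    change (f q : Ω) * g = g * f q
    nth_rw 1 [h1]
    group
  obtain ⟨z, hz, hzg⟩ := mem_img.1 hgQ
  refine ⟨z, hz, Subgroup.mem_centralizer_iff.2 fun y hy => ?_, fun y => ?_⟩
  · have h1 := hge' ⟨y, hQP hy⟩
    rw [hβK.2 _ hy, ← hzg] at h1
    have h2 : f ⟨y, hQP hy⟩ = f (z * ⟨y, hQP hy⟩ * z⁻¹) := Subtype.ext (by simpa using h1)
    have h3 : y = z * y * (z : Ω)⁻¹ := congrArg Subtype.val (f.injective h2)
    nth_rw 1 [h3]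
    group
  · rw [← hβe]
    refine congrArg φ (f.injective (Subtype.ext ?_))
    rw [hge', ← hzg]
    simp

/-- Maps agreeing on a centric subgroup differ by conjugation by an element of its centre. -/
theorem eq_comp_conj (hS : IsPGroup p S) (hF : F.IsSaturated p) {P Q : Subgroup Ω}
    (hQP : Q ≤ P) (hQ : F.IsCentric Q) {φ φ' : P →* Ω} (hφ : φ ∈ F.Hom P) (hφ' : φ' ∈ F.Hom P)
    (h : ∀ x : P, (x : Ω) ∈ Q → φ x = φ' x) :
    ∃ z : P, (z : Ω) ∈ Q ∧ (z : Ω) ∈ Subgroup.centralizer (Q : Set Ω) ∧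
      ∀ y : P, φ' y = φ (z * y * z⁻¹) := by
  have hPS := le_S F hφ
  suffices H : ∀ (n : ℕ) (Q : Subgroup Ω), Q ≤ P → F.IsCentric Q → Nat.card P - Nat.card Q ≤ n →
      ∀ φ ∈ F.Hom P, (∀ x : P, (x : Ω) ∈ Q → φ x = φ' x) →
      ∃ z : P, (z : Ω) ∈ Q ∧ (z : Ω) ∈ Subgroup.centralizer (Q : Set Ω) ∧
        ∀ y : P, φ' y = φ (z * y * z⁻¹) from H _ Q hQP hQ le_rfl φ hφ h
  intro n
  induction n using Nat.strong_induction_on with
  | _ n ih =>
  intro Q hQP hQ hn φ hφ h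
  by_cases hnorm : P ≤ Subgroup.normalizer (Q : Set Ω)
  · exact eq_comp_conj_of_normal hS hF hQP hnorm hQ hφ hφ' h
  · have hlt : Q < P := lt_of_le_of_ne hQP (by rintro rfl; exact hnorm Subgroup.le_normalizer)
    have := finite_of_le hPS
    have hQ1 : Q < normalizerIn P Q := lt_normalizerIn (hS.to_le hPS) hlt
    set Q1 := normalizerIn P Q with hQ1def
    have hQ1P : Q1 ≤ P := normalizerIn_le Q
    obtain ⟨z, hz, hzc, hze⟩ := eq_comp_conj_of_normal hS hF hQ1.le inf_le_right hQ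
      (res_mem F hφ hQ1P) (res_mem F hφ' hQ1P) (fun x hx => h _ hx)
    let z' : P := ⟨z, hQP hz⟩
    obtain ⟨e, he, hee⟩ := exists_iso_of_mem hφ
    have hψ : φ.comp (MulAut.conj z').toMonoidHom ∈ F.Hom P := by
      have hc : IsIso F (MulAut.conj z' : P ≃* P) :=
        isIso_of_mem (F.conj_mem hPS (hPS z'.2)) fun x => by simp
      refine mem_of_eq rfl (hc.trans he) fun x => ?_
      exact (hee _).symm
    have hfin : Finite Q1 := finite_of_le (hQ1P.trans hPS)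
    have hcard : Nat.card Q < Nat.card Q1 :=
      lt_of_not_ge fun hle => hQ1.ne (Subgroup.eq_of_le_of_card_ge hQ1.le hle)
    have hcard' : Nat.card Q1 ≤ Nat.card P := Subgroup.card_le_of_le hQ1P
    obtain ⟨w, hw, hwc, hwe⟩ := ih (Nat.card P - Nat.card Q1) (by omega) Q1 hQ1P
      (isCentric_of_le hQ1.le (hQ1P.trans hPS) hQ) le_rfl _ hψ (fun x hx => (hze ⟨x, hx⟩).symm)
    have hwQ : (w : Ω) ∈ Q := hQ.2 Q (isConj_refl hQ.1)
      ⟨hPS w.2, fun y hy => Subgroup.mem_centralizer_iff.1 hwc y (hQ1.le hy)⟩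
    refine ⟨z' * w, Q.mul_mem hz hwQ, Subgroup.mul_mem _ hzc
      (Subgroup.mem_centralizer_iff.2 fun y hy =>
        Subgroup.mem_centralizer_iff.1 hwc y (hQ1.le hy)), fun y => ?_⟩
    rw [hwe]
    simp [MulAut.conj_apply, mul_assoc]

end CfsgLib.Fusion
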