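import Cfsg.Agent.Lib.Fusion.Normal
import Cfsg.Agent.Lib.Fusion.Centric

/-!
# Invariant subsystems and simplicity criteria
-/

set_option autoImplicit false

open Cfsg Cfsg.FusionSystem

namespace CfsgLib.Fusion

variable {Ω : Type*} [Group Ω] {S T : Subgroup Ω} {F : FusionSystem S} {E : FusionSystem T}

theorem le_S_of_isSubsystemOf (h : E.IsSubsystemOf F) : T ≤ S := le_S F (h T (id_mem E le_rfl))

theorem isIso_of_isSubsystemOf (h : E.IsSubsystemOf F) {P Q : Subgroup Ω} {e : P ≃* Q}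
    (he : IsIso E e) : IsIso F e := h P he

theorem isConj_of_isSubsystemOf (h : E.IsSubsystemOf F) {P Q : Subgroup Ω}
    (he : E.IsConj P Q) : F.IsConj P Q := by
  obtain ⟨φ, hφ, hr⟩ := he
  exact ⟨φ, h P hφ, hr⟩

theorem autGroup_mono (h : E.IsSubsystemOf F) (P : Subgroup Ω) :
    E.autGroup P ≤ F.autGroup P :=
  Subgroup.closure_mono fun _ hα => h P hα

theorem isCentric_of_isSubsystemOf {E : FusionSystem S} (h : E.IsSubsystemOf F) {P : Subgroup Ω}
    (hP : F.IsCentric P) : E.IsCentric P :=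
  ⟨hP.1, fun Q hQ => hP.2 Q (isConj_of_isSubsystemOf h hQ)⟩

theorem isFullyNormalized_of_isSubsystemOf {E : FusionSystem S} (h : E.IsSubsystemOf F)
    {P : Subgroup Ω} (hP : F.IsFullyNormalized P) : E.IsFullyNormalized P :=
  ⟨hP.1, fun Q hQ => hP.2 Q (isConj_of_isSubsystemOf h hQ)⟩

/-- Conjugation of the maps of `E` by maps of `F` gives maps of `E`. -/
def ConjClosed {Ω : Type*} [Group Ω] {S T : Subgroup Ω} (E : FusionSystem T)
    (F : FusionSystem S) : Prop :=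
  ∀ (P Q : Subgroup Ω) (hPQ : P ≤ Q) (_ : Q ≤ T) (φ : P →* Ω) (_ : φ ∈ E.Hom P)
    (hφQ : ∀ x : P, φ x ∈ Q) (ψ : Q →* Ω) (_ : ψ ∈ F.Hom Q),
    ∃ χ ∈ E.Hom ((P.subgroupOf Q).map ψ),
      ∀ (x : P) (hx : ψ (Subgroup.inclusion hPQ x) ∈ (P.subgroupOf Q).map ψ),
        χ ⟨ψ (Subgroup.inclusion hPQ x), hx⟩ = ψ ⟨φ x, hφQ x⟩

theorem congr_mem_autGroup_of_conjClosed (h : ConjClosed E F) {R : Subgroup Ω} (hR : R ≤ T)
    (hE : E.IsSubsystemOf F) {a b : MulAut R} (ha : a ∈ E.autGroup R) (hb : b ∈ F.autGroup R) :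
    b * a * b⁻¹ ∈ E.autGroup R := by
  have hb' := (mem_autGroup_iff F (hR.trans (le_S_of_isSubsystemOf hE))).1 hb
  obtain ⟨χ, hχ, hχe⟩ := h R R le_rfl hR _ ((mem_autGroup_iff E hR).1 ha) (fun x => (a x).2) _ hb'
  have hr : (R.subgroupOf R).map (R.subtype.comp b.toMonoidHom) = R :=
    (img_self _).trans (range_subtype_comp b)
  refine (mem_autGroup_iff E hR).2 (mem_of_eq hr hχ ?_)
  rintro ⟨_, y, hy, rfl⟩
  refine Eq.trans ?_ (hχe y _).symm
  change ((b (a (b⁻¹ (b y))) : R) : Ω) = _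
  rw [MulAut.inv_apply_self]
  rfl

variable {p : ℕ} [Fact p.Prime] [Finite S]

/-- The Frattini property follows from closure under conjugation. -/
theorem frattini_of_conjClosed (hS : IsPGroup p S) (hF : F.IsSaturated p)
    (hE : E.IsSubsystemOf F) (hT : F.StronglyClosed T) (h : ConjClosed E F)
    {P : Subgroup Ω} (hP : P ≤ T) {φ : P →* Ω} (hφ : φ ∈ F.Hom P) :
    ∃ α ∈ F.autGroup T, ∃ φ₀ ∈ E.Hom P, ∀ (x : P) (hx : φ₀ x ∈ T),
      φ x = ((α ⟨φ₀ x, hx⟩ : T) : Ω) := by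
  have hTS : T ≤ S := hT.1
  have := finite_of_le hTS
  let D : ∀ (P : Subgroup Ω), (P →* Ω) → Prop := fun P φ =>
    ∃ α ∈ F.autGroup T, ∃ φ₀ ∈ E.Hom P, ∀ (x : P) (hx : φ₀ x ∈ T),
      φ x = ((α ⟨φ₀ x, hx⟩ : T) : Ω)
  -- the property for isomorphisms, closed under composition and inverses
  let D' : ∀ {P Q : Subgroup Ω}, (P ≃* Q) → Prop := fun {P Q} e =>
    D P (Q.subtype.comp e.toMonoidHom)
  have htransport : ∀ {P : Subgroup Ω} (_ : P ≤ T) (α : MulAut T) (_ : α ∈ F.autGroup T)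
      (φ₀ : P →* Ω) (_ : φ₀ ∈ E.Hom P),
      ∀ (P₁ : Subgroup Ω) (hP₁ : P₁ = (P.subgroupOf T).map (T.subtype.comp α.toMonoidHom)),
      ∃ χ ∈ E.Hom P₁, ∀ (x : P) (hφx : φ₀ x ∈ T) (hxT : (x : Ω) ∈ T)
        (hαx : ((α ⟨x, hxT⟩ : T) : Ω) ∈ P₁),
        χ ⟨_, hαx⟩ = ((α ⟨φ₀ x, hφx⟩ : T) : Ω) := by
    intro P hPT α hα φ₀ hφ₀ P₁ hP₁
    subst hP₁
    obtain ⟨χ, hχ, hχe⟩ := h P T hPT le_rfl φ₀ hφ₀ (fun x => apply_mem_S E hφ₀ x) _
      ((mem_autGroup_iff F hTS).1 hα)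
    exact ⟨χ, hχ, fun x hφx hxT hαx => hχe x hαx⟩
  have hsymm : ∀ {P Q : Subgroup Ω} (e : P ≃* Q), P ≤ T → D' e → D' e.symm := by
    rintro P Q e hPT ⟨α, hα, φ₀, hφ₀, he⟩
    obtain ⟨f, hf, hfe⟩ := exists_iso_of_mem hφ₀
    have hT₀ : φ₀.range ≤ T := range_le_S E hφ₀
    have he' : ∀ x : P, (e x : Ω) = ((α ⟨φ₀ x, apply_mem_S E hφ₀ x⟩ : T) : Ω) := fun x => he x _
    have hQ : Q = (φ₀.range.subgroupOf T).map (T.subtype.comp α.toMonoidHom) := by
      ext y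
      constructor
      · intro hy
        exact ⟨⟨φ₀ (e.symm ⟨y, hy⟩), apply_mem_S E hφ₀ _⟩, ⟨_, rfl⟩, by
          simpa using (he' (e.symm ⟨y, hy⟩)).symm⟩
      · rintro ⟨w, ⟨x, hx⟩, rfl⟩
        have h1 : w = ⟨φ₀ x, apply_mem_S E hφ₀ x⟩ := Subtype.ext hx.symm
        subst h1
        have h2 := (e x).2
        rw [he' x] at h2
        exact h2
    obtain ⟨χ, hχ, hχe⟩ := htransport hT₀ α hα _ hf.symm Q hQ
    refine ⟨α⁻¹, inv_mem hα, χ, hχ, fun y hy => ?_⟩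
    have h1 : ((α ⟨φ₀ (e.symm y), apply_mem_S E hφ₀ _⟩ : T) : Ω) = (y : Ω) := by
      rw [← he', MulEquiv.apply_symm_apply]
    have h2 : χ y = ((α ⟨(e.symm y : Ω), hPT (e.symm y).2⟩ : T) : Ω) := by
      have h3 := hχe (f (e.symm y)) (by simpa using hPT (e.symm y).2)
        (by rw [hfe]; exact apply_mem_S E hφ₀ _) (by
          simp only [hfe]; rw [h1]; exact y.2)
      simp only [hfe, h1, Subtype.coe_eta, MonoidHom.comp_apply, MulEquiv.coe_toMonoidHom,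
        MulEquiv.symm_apply_apply, Subgroup.coe_subtype] at h3
      exact h3
    change ((e.symm y : P) : Ω) = _
    rw [show (⟨χ y, hy⟩ : T) = α ⟨(e.symm y : Ω), hPT (e.symm y).2⟩ from Subtype.ext h2,
      MulAut.inv_apply_self]
  have htrans : ∀ {P Q R : Subgroup Ω} (e : P ≃* Q) (f : Q ≃* R), P ≤ T → Q ≤ T →
      D' e → D' f → D' (e.trans f) := by
    rintro P Q R e f hPT hQT ⟨α, hα, φ₀, hφ₀, he⟩ ⟨β, hβ, ψ₀, hψ₀, hf⟩
    have he' : ∀ x : P, (e x : Ω) = ((α ⟨φ₀ x, apply_mem_S E hφ₀ x⟩ : T) : Ω) := fun x => he x _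
    let P₁ : Subgroup Ω := (Q.subgroupOf T).map (T.subtype.comp (α⁻¹).toMonoidHom)
    obtain ⟨χ, hχ, hχe⟩ := htransport hQT α⁻¹ (inv_mem hα) ψ₀ hψ₀ P₁ rfl
    have hP₁ : ∀ x : P, φ₀ x ∈ P₁ := fun x =>
      ⟨⟨e x, hQT (e x).2⟩, (e x).2, by
        change ((α⁻¹ ⟨(e x : Ω), _⟩ : T) : Ω) = φ₀ x
        rw [show (⟨(e x : Ω), hQT (e x).2⟩ : T) = α ⟨φ₀ x, apply_mem_S E hφ₀ x⟩ from
          Subtype.ext (he' x), MulAut.inv_apply_self]⟩
    refine ⟨β * α, mul_mem hβ hα, χ.comp (φ₀.codRestrict P₁ hP₁), E.comp_mem hφ₀ hχ hP₁,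
      fun x hx => ?_⟩
    change (f (e x) : Ω) = _
    refine (hf (e x) (apply_mem_S E hψ₀ _)).trans ?_
    have h2 : ∀ (w : Ω) (hw : w ∈ P₁), w = φ₀ x →
        χ ⟨w, hw⟩ = χ ⟨φ₀ x, hP₁ x⟩ := fun w hw h => by subst h; rfl
    have h3 := hχe (e x) (apply_mem_S E hψ₀ _) (hQT (e x).2) ⟨_, (e x).2, rfl⟩
    have h4 : ((α⁻¹ ⟨(e x : Ω), hQT (e x).2⟩ : T) : Ω) = φ₀ x := by
      rw [show (⟨(e x : Ω), hQT (e x).2⟩ : T) = α ⟨φ₀ x, apply_mem_S E hφ₀ x⟩ from
        Subtype.ext (he' x), MulAut.inv_apply_self]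
    have h5 : (⟨χ.comp (φ₀.codRestrict P₁ hP₁) x, hx⟩ : T) =
        α⁻¹ ⟨ψ₀ (e x), apply_mem_S E hψ₀ _⟩ := Subtype.ext ((h2 _ _ h4).symm.trans h3)
    rw [h5, MulAut.mul_apply, MulAut.apply_inv_self]
  have hofE : ∀ {P Q : Subgroup Ω} (e : P ≃* Q), IsIso E e → D' e := fun e he =>
    ⟨1, one_mem _, _, he, fun x hx => rfl⟩
  suffices H : ∀ (n : ℕ) (P : Subgroup Ω), P ≤ T → Nat.card T - Nat.card P ≤ n →
      ∀ φ ∈ F.Hom P, D P φ from H _ P hP le_rfl φ hφ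
  intro n
  induction n using Nat.strong_induction_on with
  | _ n ih =>
  intro P hP hn φ hφ
  obtain ⟨e, he, hee⟩ := exists_iso_of_mem hφ
  suffices hD : D' e by
    obtain ⟨α, hα, φ₀, hφ₀, hd⟩ := hD
    exact ⟨α, hα, φ₀, hφ₀, fun x hx => (hee x).symm.trans (hd x hx)⟩
  rcases eq_or_lt_of_le hP with rfl | hlt
  · have hr : φ.range = P := (weaklyClosed_of_stronglyClosed hT).2 φ hφ
    obtain ⟨α, hα, hαe⟩ := exists_iso_of_range hφ hr
    refine ⟨α, (mem_autGroup_iff F hTS).2 hα, P.subtype, id_mem E le_rfl, fun x hx => ?_⟩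
    exact ((hαe x).trans (hee x).symm).symm
  -- bigger subgroups of `T`
  have hbig : ∀ (Q : Subgroup Ω), Q ≤ T → Nat.card P < Nat.card Q →
      ∀ ψ ∈ F.Hom Q, D Q ψ := by
    intro Q hQ hc ψ hψ
    have h2 : Nat.card Q ≤ Nat.card T := Subgroup.card_le_of_le hQ
    exact ih (Nat.card T - Nat.card Q) (by omega) Q hQ le_rfl ψ hψ
  have hres : ∀ {Q R : Subgroup Ω} (f : Q ≃* R) (M : Subgroup Ω) (ψ : M →* Ω), ψ ∈ F.Hom M →
      ∀ (hQM : Q ≤ M), M ≤ T → Nat.card P < Nat.card M →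
      (∀ x : Q, ψ (Subgroup.inclusion hQM x) = f x) → D' f := by
    intro Q R f M ψ hψ hQM hMT hc hf
    obtain ⟨α, hα, ψ₀, hψ₀, hd⟩ := hbig M hMT hc ψ hψ
    exact ⟨α, hα, _, res_mem E hψ₀ hQM, fun x hx =>
      (hf x).symm.trans (hd (Subgroup.inclusion hQM x) hx)⟩
  obtain ⟨R, hPR, hRn⟩ := exists_fullyNormalized F (hP.trans hTS)
  have hRT : R ≤ T := by
    obtain ⟨ψ, hψ, rfl⟩ := hPR
    rintro _ ⟨x, rfl⟩
    exact hT.2 P hP ψ hψ x
  have hstep : ∀ Q : Subgroup Ω, Q ≤ T → F.IsConj Q R → ∃ f : Q ≃* R, IsIso F f ∧ D' f := by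
    intro Q hQT hQR
    obtain ⟨f, hl, hf, ψ, hψ, hψf, -⟩ :=
      exists_hom_normalizerIn_of_fullyNormalized hS hF hRn hQR
    have hcard : Nat.card P = Nat.card Q := card_eq_of_isConj (isConj_trans hPR (isConj_symm hQR))
    have hQlt : Q < T := lt_of_le_of_ne hQT fun h => hlt.ne
      (Subgroup.eq_of_le_of_card_ge hP (by rw [hcard, h]))
    have hM := lt_normalizerIn (hS.to_le hTS) hQlt
    have hMS : normalizerIn T Q ≤ normalizerIn S Q := inf_le_inf_right _ hTS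
    have : Finite (normalizerIn T Q) := finite_of_le ((normalizerIn_le Q).trans hTS)
    have hc : Nat.card P < Nat.card (normalizerIn T Q) :=
      hcard ▸ lt_of_not_ge fun h => hM.ne (Subgroup.eq_of_le_of_card_ge hM.le h)
    exact ⟨f, hf, hres f _ _ (res_mem F hψ hMS) hM.le (normalizerIn_le Q) hc fun x => hψf x⟩
  obtain ⟨f, hf, hDf⟩ := hstep P hP hPR
  obtain ⟨f', hf', hDf'⟩ := hstep φ.range
    (by rintro _ ⟨x, rfl⟩; exact hT.2 P hP φ hφ x)
    (isConj_trans (isConj_symm ⟨φ, hφ, rfl⟩) hPR)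
  let β : MulAut R := (f.symm.trans e).trans f'
  have hRS := hRn.1
  have hβ : β ∈ F.autGroup R := (mem_autGroup_iff F hRS).2 ((hf.symm.trans he).trans hf')
  suffices hDβ : D' (β : R ≃* R) by
    have hrT : φ.range ≤ T := by rintro _ ⟨x, rfl⟩; exact hT.2 P hP φ hφ x
    have := htrans _ f'.symm hP hRT (htrans f _ hP hRT hDf hDβ) (hsymm f' hrT hDf')
    obtain ⟨α, hα, φ₀, hφ₀, hd⟩ := this
    refine ⟨α, hα, φ₀, hφ₀, fun x hx => Eq.trans ?_ (hd x hx)⟩
    simp [β]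
  -- the Frattini argument in `Aut_F(R)`
  have := finite_of_le hRS
  obtain ⟨ha, hrec⟩ := fullyAutomized_receptive_of_fullyNormalized hS hF hRn
  obtain ⟨-, hidx⟩ := (isFullyAutomized_iff hS).1 ha
  have hAnorm : F.autGroup R ≤ Subgroup.normalizer (E.autGroup R : Set (MulAut R)) := fun b hb =>
    mem_normalizer_of_forall fun a ha => congr_mem_autGroup_of_conjClosed h hRT hE ha hb
  let U := autInducedBy S R ⊓ E.autGroup R
  have hUi : ¬ p ∣ U.relIndex (E.autGroup R) := by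
    obtain ⟨V, hVE, hV, hVi⟩ : ∃ V : Subgroup (MulAut R), V ≤ E.autGroup R ∧ IsPGroup p V ∧
        ¬ p ∣ V.relIndex (E.autGroup R) := by
      obtain ⟨W⟩ : Nonempty (Sylow p (E.autGroup R)) := inferInstance
      refine ⟨(W : Subgroup (E.autGroup R)).map (E.autGroup R).subtype,
        Subgroup.map_subtype_le _, W.2.map _, ?_⟩
      rw [Subgroup.relIndex, Subgroup.subgroupOf,
        Subgroup.comap_map_eq_self_of_injective (E.autGroup R).subtype_injective]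
      exact W.not_dvd_index
    obtain ⟨b, hb, hbV⟩ := exists_conj_mem_of_le hV (isPGroup_autInducedBy hS R)
      (hVE.trans (autGroup_mono hE R)) (autInducedBy_le_autGroup hRS) hidx
    have hle : conjSub b V ≤ U := by
      rintro _ ⟨v, hv, rfl⟩
      exact ⟨hbV v hv, conj_mem_of_mem_normalizer (hAnorm hb) (hVE hv)⟩
    intro hd
    refine hVi ?_
    have h1 : (conjSub b V).relIndex (conjSub b (E.autGroup R)) = V.relIndex (E.autGroup R) :=
      Subgroup.relIndex_map_map_of_injective _ _ (MulAut.conj b).injective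
    rw [conjSub_eq_iff_mem_normalizer.2 (hAnorm hb)] at h1
    rw [← h1]
    exact hd.trans (Subgroup.relIndex_dvd_of_le_left _ hle)
  have hUp : IsPGroup p U := (isPGroup_autInducedBy hS R).to_le inf_le_left
  obtain ⟨k, hk, hkU⟩ := exists_conj_mem_of_le (U := conjSub β U) (hUp.map _) hUp
    (by rintro _ ⟨u, hu, rfl⟩; exact conj_mem_of_mem_normalizer (hAnorm hβ) hu.2)
    inf_le_right hUi
  let γ : MulAut R := k * β
  have hγA : γ ∈ F.autGroup R := mul_mem (autGroup_mono hE R hk) hβ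
  have hγU : ∀ u ∈ U, γ * u * γ⁻¹ ∈ U := by
    intro u hu
    have := hkU _ (conj_mem_conjSub (g := β) hu)
    simpa [γ, mul_assoc] using this
  have hRlt : R < T := lt_of_le_of_ne hRT fun h => hlt.ne
    (Subgroup.eq_of_le_of_card_ge hP (by rw [← h, card_eq_of_isConj hPR]))
  have hγD : D' (γ : R ≃* R) := by
    have hM := lt_normalizerIn (hS.to_le hTS) hRlt
    have : Finite (normalizerIn T R) := finite_of_le ((normalizerIn_le R).trans hTS)
    have hγ' := (mem_autGroup_iff F hRS).1 hγA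
    have hMext : normalizerIn T R ≤ extender S R (R.subtype.comp γ.toMonoidHom) := by
      intro g hg
      refine mem_extender_iso_iff.2 ⟨hTS hg.1, hg.2, ?_⟩
      have h1 : normAut g hg.2 ∈ U :=
        ⟨mem_autInducedBy_iff.2 ⟨g, hTS hg.1, fun _ => rfl⟩,
          autInducedBy_le_autGroup hRT (mem_autInducedBy_iff.2 ⟨g, hg.1, fun _ => rfl⟩)⟩
      have h2 : MulAut.congr γ (normAut g hg.2) = γ * normAut g hg.2 * γ⁻¹ :=
        MulEquiv.ext fun _ => rfl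
      rw [h2]
      exact (hγU _ h1).1
    obtain ⟨ψ, hψ, hψe⟩ := exists_extension hrec hγ' hM.le hMext
    exact hres _ _ ψ hψ hM.le (normalizerIn_le R) (by
      rw [card_eq_of_isConj hPR]
      exact lt_of_not_ge fun h => hM.ne (Subgroup.eq_of_le_of_card_ge hM.le h)) hψe
  have hk' : D' (k⁻¹ : MulAut R) := hofE _ ((mem_autGroup_iff E hRT).1 (inv_mem hk))
  have := htrans (γ : R ≃* R) (k⁻¹ : MulAut R) hRT hRT hγD hk'
  obtain ⟨α, hα, φ₀, hφ₀, hd⟩ := this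
  refine ⟨α, hα, φ₀, hφ₀, fun x hx => Eq.trans ?_ (hd x hx)⟩
  change ((β x : R) : Ω) = ((k⁻¹ (k (β x)) : R) : Ω)
  rw [MulAut.inv_apply_self]

omit [Finite S] in
theorem conjClosed_of_isInvariantIn (h : E.IsInvariantIn F) : ConjClosed E F := by
  obtain ⟨hE, hT, h1, h2⟩ := h
  intro P Q hPQ hQT φ hφ hφQ ψ hψ
  obtain ⟨α, hα, ψ₀, hψ₀, hψe⟩ := h2 Q hQT ψ hψ
  obtain ⟨f, hf, hfe⟩ := exists_iso_of_mem hψ₀
  obtain ⟨g, hg, hge⟩ := exists_iso_of_range (res_mem E hψ₀ hPQ) (range_comp_inclusion ψ₀ hPQ)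
  let P₀ : Subgroup Ω := img ψ₀ P
  have hP₀T : P₀ ≤ T := (img_le_range ψ₀ P).trans (range_le_S E hψ₀)
  -- `ψ₀ φ ψ₀⁻¹`
  have hcomp := E.comp_mem (E.comp_mem hg.symm hφ fun y => (g.symm y).2) hψ₀ fun y => hφQ _
  obtain ⟨χ, hχ, hχe⟩ := h1 P₀ hP₀T _ hcomp α hα
  have hψe' : ∀ x : Q, ψ x = ((α ⟨ψ₀ x, apply_mem_S E hψ₀ x⟩ : T) : Ω) := fun x => hψe x _
  have hr : (P₀.subgroupOf T).map (T.subtype.comp α.toMonoidHom) = (P.subgroupOf Q).map ψ := by
    ext y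
    constructor
    · rintro ⟨w, hw, rfl⟩
      obtain ⟨x, hx, hxw⟩ := mem_img.1 hw
      refine ⟨x, hx, ?_⟩
      rw [hψe']
      exact congrArg (fun z : T => ((α z : T) : Ω)) (Subtype.ext hxw)
    · rintro ⟨x, hx, rfl⟩
      exact ⟨⟨ψ₀ x, apply_mem_S E hψ₀ x⟩, apply_mem_img ψ₀ hx, (hψe' x).symm⟩
  refine ⟨χ.comp (Subgroup.inclusion hr.ge), res_mem E hχ hr.ge, fun x hx => ?_⟩
  have h3 := hχe (g x) (by
      simp only [MonoidHom.comp_apply]
      exact apply_mem_S E hψ₀ _) (hr.ge (by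
      simp only [hge, MonoidHom.comp_apply]
      rw [← hψe']
      exact hx))
  simp only [MonoidHom.comp_apply] at h3 ⊢
  refine Eq.trans ?_ (h3.trans ?_)
  · congr 1
    refine Subtype.ext ?_
    change ψ (Subgroup.inclusion hPQ x) = _
    refine (hψe' _).trans ?_
    exact congrArg (fun z : T => ((α z : T) : Ω)) (Subtype.ext (hge x).symm)
  · rw [hψe']
    congr 2
    refine Subtype.ext ?_
    change ψ₀ ⟨φ (g.symm (g x)), _⟩ = ψ₀ ⟨φ x, _⟩
    congr 2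
    rw [MulEquiv.symm_apply_apply]

/-- The invariance criterion. -/
theorem isInvariantIn_iff (hS : IsPGroup p S) (hF : F.IsSaturated p) (hE : E.IsSubsystemOf F)
    (hT : F.StronglyClosed T) : E.IsInvariantIn F ↔ ConjClosed E F := by
  refine ⟨conjClosed_of_isInvariantIn, fun h => ⟨hE, hT, fun P hPT φ hφ α hα => ?_,
    fun P hP φ hφ => frattini_of_conjClosed hS hF hE hT h hP hφ⟩⟩
  obtain ⟨χ, hχ, hχe⟩ := h P T hPT le_rfl φ hφ (fun x => apply_mem_S E hφ x) _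
    ((mem_autGroup_iff F hT.1).1 hα)
  exact ⟨χ, hχ, fun x hφx hαx => hχe x hαx⟩

/-- A subsystem on `S` closed under conjugation with the same automorphisms of `S` is everything. -/
theorem hom_eq_of_conjClosed (hS : IsPGroup p S) (hF : F.IsSaturated p) {E : FusionSystem S}
    (hE : E.IsSubsystemOf F) (h : ConjClosed E F) (htop : F.autGroup S ≤ E.autGroup S)
    (P : Subgroup Ω) : E.Hom P = F.Hom P := by
  refine Set.Subset.antisymm (hE P) fun φ hφ => ?_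
  obtain ⟨α, hα, φ₀, hφ₀, he⟩ := frattini_of_conjClosed hS hF hE
    ⟨le_rfl, fun R _ ψ hψ x => apply_mem_S F hψ x⟩ h (le_S F hφ) hφ
  exact mem_of_eq rfl (E.comp_mem hφ₀ ((mem_autGroup_iff E le_rfl).1 (htop hα))
    fun x => apply_mem_S E hφ₀ x) fun x => he x _

/-- A criterion for simplicity. -/
theorem isSimple_of_criterion (hS : IsPGroup p S) (hF : F.IsSaturated p) (hS1 : S ≠ ⊥)
    (hsc : ∀ T : Subgroup Ω, F.StronglyClosed T → T = ⊥ ∨ T = S)
    (htop : ∀ E : FusionSystem S, E.IsSaturated p → E.IsInvariantIn F →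
      F.autGroup S ≤ E.autGroup S) : F.IsSimple p := by
  refine ⟨hF, hS1, fun T E hE => ?_⟩
  obtain ⟨⟨hEs, -, hinv⟩, -⟩ := hE
  rcases hsc T hinv.2.1 with h | h
  · exact Or.inl h
  · subst h
    exact Or.inr ⟨rfl, fun P => hom_eq_of_conjClosed hS hF hinv.1
      (conjClosed_of_isInvariantIn hinv) (htop E hEs hinv) P⟩

/-- Simplicity when `Aut_F(S) = Inn(S)`. -/
theorem isSimple_of_autGroup_eq_inn (hS : IsPGroup p S) (hF : F.IsSaturated p) (hS1 : S ≠ ⊥)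
    (hsc : ∀ T : Subgroup Ω, F.StronglyClosed T → T = ⊥ ∨ T = S)
    (htop : F.autGroup S = Cfsg.Inn S) : F.IsSimple p :=
  isSimple_of_criterion hS hF hS1 hsc fun _ _ _ => htop.trans_le (inn_le_autGroup le_rfl)

/-- A normal subsystem's automorphism group contains all `p`-elements, at a fully automized
subgroup. -/
theorem mem_autGroup_of_pow_eq_one (hS : IsPGroup p S) {E : FusionSystem S}
    (hE : E.IsSubsystemOf F) (h : ConjClosed E F) {R : Subgroup Ω}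
    (ha : F.IsFullyAutomized p R) {α : MulAut R} (hα : α ∈ F.autGroup R) {k : ℕ}
    (hk : α ^ p ^ k = 1) : α ∈ E.autGroup R := by
  have := finite_of_le ha.1
  obtain ⟨hRS, hi⟩ := (isFullyAutomized_iff hS).1 ha
  have hpz : IsPGroup p (Subgroup.zpowers α) := by
    obtain ⟨j, -, hj⟩ := (Nat.dvd_prime_pow Fact.out).1 (orderOf_dvd_of_pow_eq_one hk)
    exact IsPGroup.of_card (n := j) (by rw [Nat.card_zpowers, hj])
  obtain ⟨b, hb, hbz⟩ := exists_conj_mem_of_le hpz (isPGroup_autInducedBy hS R)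
    (Subgroup.zpowers_le.2 hα) (autInducedBy_le_autGroup hRS) hi
  have h1 := autInducedBy_le_autGroup (F := E) hRS (hbz α (Subgroup.mem_zpowers α))
  simpa [mul_assoc] using congr_mem_autGroup_of_conjClosed h hRS hE h1 (inv_mem hb)

/-- Climbing: an automorphism of `S` whose restriction to a centric subgroup lies in `E` lies in
`E`. -/
theorem mem_autGroup_of_restrict (hS : IsPGroup p S) (hF : F.IsSaturated p) {E : FusionSystem S}
    (hEs : E.IsSaturated p) (hE : E.IsSubsystemOf F) {α : MulAut S} (hα : α ∈ F.autGroup S)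
    {R : Subgroup Ω} (hR : F.IsCentric R)
    (hRα : ∀ x : S, (x : Ω) ∈ R ↔ ((α x : S) : Ω) ∈ R)
    (hres : (S.subtype.comp α.toMonoidHom).comp (Subgroup.inclusion hR.1) ∈ E.Hom R) :
    α ∈ E.autGroup S := by
  suffices H : ∀ (n : ℕ) (R : Subgroup Ω) (hR : F.IsCentric R),
      (∀ x : S, (x : Ω) ∈ R ↔ ((α x : S) : Ω) ∈ R) →
      (S.subtype.comp α.toMonoidHom).comp (Subgroup.inclusion hR.1) ∈ E.Hom R →
      Nat.card S - Nat.card R ≤ n → α ∈ E.autGroup S from H _ R hR hRα hres le_rfl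
  intro n
  induction n using Nat.strong_induction_on with
  | _ n ih =>
  intro R hR hRα hres hn
  rcases eq_or_lt_of_le hR.1 with rfl | hlt
  · exact (mem_autGroup_iff E le_rfl).2 (mem_of_eq rfl hres fun x => rfl)
  have hN := lt_normalizerIn hS hlt
  have := finite_of_le (normalizerIn_le (S := S) R)
  have hc : Nat.card R < Nat.card (normalizerIn S R) :=
    lt_of_not_ge fun h => hN.ne (Subgroup.eq_of_le_of_card_ge hN.le h)
  have hc2 : Nat.card (normalizerIn S R) ≤ Nat.card S :=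
    Subgroup.card_le_of_le (normalizerIn_le R)
  have hαF := (mem_autGroup_iff F le_rfl).1 hα
  have hR2 : F.IsCentric (normalizerIn S R) := isCentric_of_le hN.le (normalizerIn_le R) hR
  have hNα : ∀ x : S, (x : Ω) ∈ normalizerIn S R ↔ ((α x : S) : Ω) ∈ normalizerIn S R := by
    have h1 : ∀ β : MulAut S, (∀ x : S, (x : Ω) ∈ R ↔ ((β x : S) : Ω) ∈ R) →
        ∀ x : S, (x : Ω) ∈ normalizerIn S R → ((β x : S) : Ω) ∈ normalizerIn S R := by
      intro β hβ x hx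
      refine ⟨(β x).2, ?_⟩
      have := finite_of_le hR.1
      refine mem_normalizer_of_forall fun y hy => ?_
      obtain ⟨w, hw⟩ := β.surjective ⟨y, hR.1 hy⟩
      have hwR : (w : Ω) ∈ R := by
        rw [hβ w, hw]
        exact hy
      have h2 := conj_mem_of_mem_normalizer hx.2 hwR
      have h3 := (hβ (x * w * x⁻¹)).1 (by simpa using h2)
      simpa [hw] using h3
    refine fun x => ⟨h1 α hRα x, fun h => ?_⟩
    have h4 := h1 α⁻¹ (fun y => ?_) (α x) h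
    · simpa using h4
    · rw [hRα (α⁻¹ y), MulAut.apply_inv_self]
  refine ih (Nat.card S - Nat.card (normalizerIn S R)) (by omega) (normalizerIn S R) hR2 hNα ?_
    le_rfl
  -- extend in `E`
  have hEc : E.IsCentric R := isCentric_of_isSubsystemOf hE hR
  have hRr : ((S.subtype.comp α.toMonoidHom).comp (Subgroup.inclusion hR.1)).range = R := by
    ext y
    constructor
    · rintro ⟨x, rfl⟩
      exact (hRα _).1 x.2
    · intro hy
      obtain ⟨w, hw⟩ := α.surjective ⟨y, hR.1 hy⟩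
      have hwR : (w : Ω) ∈ R := by
        rw [hRα, hw]
        exact hy
      exact ⟨⟨w, hwR⟩, congrArg Subtype.val hw⟩
  obtain ⟨e, he, hee⟩ := exists_iso_of_range hres hRr
  have hM : normalizerIn S R ≤ extender S R (R.subtype.comp e.toMonoidHom) := by
    intro g hg
    refine mem_extender_iff.2 ⟨hg.1, hg.2, (α ⟨g, hg.1⟩ : S), (α ⟨g, hg.1⟩).2, fun x => ?_⟩
    change (e (normAut g hg.2 x) : Ω) = ((α ⟨g, hg.1⟩ : S) : Ω) * e x * ((α ⟨g, hg.1⟩ : S) : Ω)⁻¹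
    rw [hee, hee]
    change ((α (Subgroup.inclusion hR.1 (normAut g hg.2 x)) : S) : Ω) = _
    rw [show Subgroup.inclusion hR.1 (normAut g hg.2 x) =
      ⟨g, hg.1⟩ * Subgroup.inclusion hR.1 x * (⟨g, hg.1⟩ : S)⁻¹ from Subtype.ext (by simp)]
    simp
  obtain ⟨ψ, hψ, hψe⟩ := exists_extension (receptive_of_isCentric hS hEs hEc) he hN.le hM
  obtain ⟨z, hzR, -, hz⟩ := eq_comp_conj hS hF hN.le hR (hE _ hψ)
    (res_mem F hαF (normalizerIn_le R)) (fun x hx => by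
      have h1 := hψe ⟨x, hx⟩
      rw [hee] at h1
      exact h1)
  obtain ⟨eψ, heψ, heψe⟩ := exists_iso_of_mem hψ
  have hc : IsIso E (MulAut.conj z : normalizerIn S R ≃* normalizerIn S R) :=
    isIso_of_mem (E.conj_mem (normalizerIn_le R) z.2.1) fun x => by simp
  exact mem_of_eq rfl (hc.trans heψ) fun x => (hz x).trans (heψe _).symm

end CfsgLib.Fusion
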