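import Cfsg.Agent.Lib.Fusion.GeneratedSaturationMain
import Cfsg.Agent.Lib.Fusion.Puig

/-!
# Saturation of the class of a subgroup with nontrivial core action
-/

set_option autoImplicit false

open Cfsg Cfsg.FusionSystem

namespace CfsgLib.Fusion

variable {Ω : Type*} [Group Ω] {S : Subgroup Ω} [Finite S] {F : FusionSystem S} {p : ℕ}
  [Fact p.Prime]

/-- `N_S(X)` normalizes the subgroup inducing `O_p(Aut_F(X))`. -/
theorem le_normalizer_coreNormalizer {X : Subgroup Ω} (hX : X ≤ S) :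
    normalizerIn S X ≤ Subgroup.normalizer (coreNormalizer F p X : Set Ω) := by
  intro g hg
  have := finite_of_le ((coreNormalizer_le (F := F) (p := p) X).trans (normalizerIn_le X))
  refine mem_normalizer_of_forall fun y hy => ?_
  obtain ⟨hyN, hyc⟩ := mem_coreNormalizer.1 hy
  have hgy : g * y * g⁻¹ ∈ normalizerIn S X :=
    Subgroup.mul_mem _ (Subgroup.mul_mem _ hg hyN) (Subgroup.inv_mem _ hg)
  refine mem_coreNormalizer.2 ⟨hgy, ?_⟩
  change normAutHom S X ⟨g * y * g⁻¹, hgy⟩ ∈ _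
  rw [show (⟨g * y * g⁻¹, hgy⟩ : normalizerIn S X) = ⟨g, hg⟩ * ⟨y, hyN⟩ * (⟨g, hg⟩)⁻¹ from rfl,
    map_mul, map_mul, map_inv]
  exact coreAut_normal hyc
    (autInducedBy_le_autGroup hX (mem_autInducedBy_iff.2 ⟨g, hg.1, fun _ => rfl⟩))

/-- The automorphisms of `P` that extend to automorphisms of its core normalizer. -/
noncomputable def coreExtAut (hS : IsPGroup p S) {P : Subgroup Ω} (hP : P ≤ S) :
    Subgroup (F.autGroup P) :=
  (resStab (F := F) (T := coreNormalizer F p P) (le_coreNormalizer hS hP)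
    ((coreNormalizer_le P).trans (normalizerIn_le P))).range

theorem mem_coreExtAut (hS : IsPGroup p S) {P : Subgroup Ω} (hP : P ≤ S) {β : F.autGroup P} :
    β ∈ coreExtAut hS hP ↔ ∃ r ∈ F.autGroup (coreNormalizer F p P),
      ∀ x : P, ((r ⟨x, le_coreNormalizer hS hP x.2⟩ : coreNormalizer F p P) : Ω) =
        (((β : MulAut P) x : P) : Ω) := by
  constructor
  · rintro ⟨r, rfl⟩
    exact ⟨r, r.2.1, fun x => rfl⟩
  · rintro ⟨r, hr, hre⟩
    have hmem : r ∈ stabAut F (coreNormalizer F p P) P := by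
      refine ⟨hr, fun y => ⟨fun hy => ?_, fun hy => ?_⟩⟩
      · have h1 := hre ⟨y, hy⟩
        exact h1.symm ▸ ((β : MulAut P) ⟨y, hy⟩).2
      · obtain ⟨x, hx⟩ := (β : MulAut P).surjective ⟨_, hy⟩
        have h1 := hre x
        rw [hx] at h1
        rw [← r.injective (Subtype.ext h1)]
        exact x.2
    exact ⟨⟨r, hmem⟩, Subtype.ext (MulEquiv.ext fun x => Subtype.ext (hre x))⟩

/-- An element of `N_S(P)` induces an automorphism extending to the core normalizer. -/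
theorem normAut_mem_coreExtAut (hS : IsPGroup p S) {P : Subgroup Ω} (hP : P ≤ S) {g : Ω}
    (hg : g ∈ normalizerIn S P) :
    (⟨normAut g hg.2, autInducedBy_le_autGroup hP
      (mem_autInducedBy_iff.2 ⟨g, hg.1, fun _ => rfl⟩)⟩ : F.autGroup P) ∈ coreExtAut hS hP := by
  have hR : coreNormalizer F p P ≤ S := (coreNormalizer_le P).trans (normalizerIn_le P)
  exact (mem_coreExtAut hS hP).2 ⟨normAut g (le_normalizer_coreNormalizer hP hg),
    autInducedBy_le_autGroup hR (mem_autInducedBy_iff.2 ⟨g, hg.1, fun _ => rfl⟩), fun x => rfl⟩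

/-- The composite of two maps on subgroups of normalizers. -/
theorem exists_comp_map {M N : Subgroup Ω} {χ : M →* Ω} {φ : N →* Ω} (hχ : χ ∈ F.Hom M)
    (hφ : φ ∈ F.Hom N) (h : ∀ x, χ x ∈ N) :
    ∃ θ ∈ F.Hom M, ∀ x, θ x = φ ⟨χ x, h x⟩ :=
  ⟨_, F.comp_mem hχ hφ h, fun _ => rfl⟩

/-- Links between `P` and itself restrict to automorphisms extending to the core normalizer. -/
theorem mem_coreExtAut_of_isLink (hS : IsPGroup p S) {P : Subgroup Ω} (hP : F.IsFullyNormalized P)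
    (hsat : SatAbove F p (Nat.card P))
    (hreach : ∀ Q : Subgroup Ω, F.IsConj P Q → ReachesNormalizer F P Q)
    {M M' : Subgroup Ω} {ψ : M ≃* M'} (hlink : IsLink F P P ψ) (β : F.autGroup P)
    (hβ : ∀ x : P, (((β : MulAut P) x : P) : Ω) = ψ (Subgroup.inclusion hlink.2.1.le x)) :
    β ∈ coreExtAut hS hP.1 := by
  suffices H : ∀ (n : ℕ) (M M' : Subgroup Ω) (ψ : M ≃* M') (hlink : IsLink F P P ψ)
      (β : F.autGroup P), Nat.card S - Nat.card M ≤ n →
      (∀ x : P, (((β : MulAut P) x : P) : Ω) = ψ (Subgroup.inclusion hlink.2.1.le x)) →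
      β ∈ coreExtAut hS hP.1 from H _ M M' ψ hlink β le_rfl hβ
  clear hβ β hlink ψ
  intro n
  induction n using Nat.strong_induction_on with
  | _ n ih =>
  intro M M' ψ hlink β hn hβ
  obtain ⟨hψ, hPM, hPM', hM, hM', hiff⟩ := id hlink
  have hPS := hP.1
  set R := coreNormalizer F p P with hR
  have hRN : R ≤ normalizerIn S P := coreNormalizer_le P
  have hRS : R ≤ S := hRN.trans (normalizerIn_le P)
  have hPR : P ≤ R := le_coreNormalizer hS hPS
  have := finite_of_le hPS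
  have := finite_of_le hRS
  have hMS : M ≤ S := hψ.le_left
  have hM'S : M' ≤ S := hψ.le_right
  have := finite_of_le hMS
  have hβF : IsIso F (β : MulAut P) := (mem_autGroup_iff F hPS).1 β.2
  by_cases hRM : R ≤ M
  · -- the core normalizer is invariant
    set φ : M →* Ω := M'.subtype.comp ψ.toMonoidHom with hφdef
    have hφe : ∀ x : P, φ (Subgroup.inclusion hPM.le x) = ((β : MulAut P) x : Ω) := fun x =>
      (hβ x).symm
    have hr : (φ.comp (Subgroup.inclusion hRM)).range = R := by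
      refine Subgroup.eq_of_le_of_card_ge ?_
        (Nat.card_congr (MonoidHom.ofInjective
          (F.injective_of_mem (res_mem F hψ hRM))).toEquiv).le
      rintro _ ⟨g, rfl⟩
      exact apply_mem_coreNormalizer hβF hψ hPM.le hφe hM g.2
    obtain ⟨r, hrF, hre⟩ := exists_iso_of_range (res_mem F hψ hRM) hr
    exact (mem_coreExtAut hS hPS).2 ⟨r, (mem_autGroup_iff F hRS).2 hrF,
      fun x => (hre _).trans (hφe x)⟩
  -- the link is properly inside the normalizers
  have hMMR : M < M ⊔ R := lt_of_le_of_ne le_sup_left fun h => hRM (h.symm ▸ le_sup_right)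
  have hMlt : M < normalizerIn S P := hMMR.trans_le (sup_le hM hRN)
  have hM'lt : M' < normalizerIn S P := by
    refine lt_of_le_of_ne hM' fun h => ?_
    have h1 := Nat.card_congr ψ.toEquiv
    rw [h] at h1
    have := finite_of_le (normalizerIn_le (S := S) P)
    exact hMlt.ne (Subgroup.eq_of_le_of_card_ge hM h1.ge)
  obtain ⟨g₀, hg₀R, hg₀M, hg₀n⟩ : ∃ g ∈ R, g ∉ M ∧ g ∈ Subgroup.normalizer (M : Set Ω) := by
    obtain ⟨h, hh, hhM⟩ := SetLike.exists_of_lt
      (lt_normalizer_inf hS (sup_le hMS hRS) hMMR)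
    obtain ⟨m, hm, r, hr, rfl⟩ :=
      exists_mul_of_mem_sup (hM.trans (le_normalizer_coreNormalizer hPS)) hh.1
    refine ⟨r, hr, fun h => hhM (M.mul_mem hm h), ?_⟩
    have := Subgroup.mul_mem _ (Subgroup.inv_mem _ (Subgroup.le_normalizer hm)) hh.2
    rwa [inv_mul_cancel_left] at this
  have hcard : Nat.card P < Nat.card M :=
    lt_of_not_ge fun h => hPM.ne (Subgroup.eq_of_le_of_card_ge hPM.le h)
  obtain ⟨T, X₁, f₁, f₂, e₁, e₂, a, hTr, hX₁T, hf₁, hf₂, he₁, he₂, hBT, he₁e, he₂e, hfa,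
    ⟨χ₁, hχ₁, hχ₁n, hχ₁e⟩, ⟨χ₂, hχ₂, hχ₂n, hχ₂e⟩⟩ :=
    exists_link_target hS hlink (hsat M hMS hcard)
  obtain ⟨hcle, c, hcF, φc, hφc, hφce, hφcn⟩ := hreach X₁ (isConj_iff.2 ⟨e₁, he₁⟩)
  have hTS : T ≤ S := hTr.1
  have hX₁S : X₁ ≤ S := hX₁T.trans hTS
  have := finite_of_le hTS
  have := finite_of_le hX₁S
  -- the big links
  have hgrow : ∀ {A B : Subgroup Ω}, A < B → B ≤ S → Nat.card A < Nat.card B := by
    intro A B hAB hB
    have := finite_of_le hB
    exact lt_of_not_ge fun h => hAB.ne (Subgroup.eq_of_le_of_card_ge hAB.le h)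
  have hbig : ∀ {L : Subgroup Ω} {χ : L →* Ω} (_ : χ ∈ F.Hom L) (_ : L ≤ normalizerIn S P)
      (hPL : P < L) (_ : Nat.card M < Nat.card L) (hn' : ∀ g, χ g ∈ normalizerIn S X₁)
      {e : P ≃* X₁} (heF : IsIso F e) (_ : ∀ x : P, χ (Subgroup.inclusion hPL.le x) = e x),
      (⟨e.trans c, (mem_autGroup_iff F hPS).2 (heF.trans hcF)⟩ : F.autGroup P) ∈
        coreExtAut hS hPS := by
    intro L χ hχ hLN hPL hc hn' e heF he
    obtain ⟨θ, hθ, hθe⟩ := exists_comp_map hχ hφc hn'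
    have hθP : ∀ x : P, θ (Subgroup.inclusion hPL.le x) = (e.trans c) x := by
      intro x
      rw [hθe]
      refine Eq.trans ?_ (hφce (e x))
      exact congrArg φc (Subtype.ext (he x))
    obtain ⟨ψ', hψ', hψ'e⟩ := exists_link_of_map P P hθ hPL hLN (e := e.trans c) hθP
    have hle : Nat.card L ≤ Nat.card S :=
      Subgroup.card_le_of_le (hLN.trans (normalizerIn_le P))
    exact ih (Nat.card S - Nat.card L) (by omega) _ _ ψ' hψ' _ le_rfl fun x =>
      (hθP x).symm.trans (hψ'e _).symm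
  have h1 := lt_normalizer_inf hS (normalizerIn_le P) hMlt
  have h2 := lt_normalizer_inf hS (normalizerIn_le P) hM'lt
  have hβ₁ := hbig hχ₁ inf_le_left (hPM.trans h1)
    (hgrow h1 (inf_le_left.trans (normalizerIn_le P))) (fun g => (hχ₁n g).1) he₁
    (fun x => (hχ₁e _ (hPM.le x.2)).trans (he₁e x).symm)
  have hβ₂ := hbig hχ₂ inf_le_left (hPM'.trans h2)
    ((Nat.card_congr ψ.toEquiv).trans_lt (hgrow h2 (inf_le_left.trans (normalizerIn_le P))))
    (fun g => (hχ₂n g).1) he₂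
    (fun x => (hχ₂e _ (hPM'.le x.2)).trans (he₂e x).symm)
  -- the correction
  set A := (coreExtAut hS hPS).comap
    ((autEquiv hcF).toMonoidHom.comp (resStab (F := F) hX₁T hTS)) with hA
  suffices hAtop : A = ⊤ by
    have hδ : a ∈ A := hAtop ▸ Subgroup.mem_top a
    rw [hA, Subgroup.mem_comap] at hδ
    refine (congrArg (· ∈ coreExtAut hS hPS) ?_).mpr
      (Subgroup.mul_mem _ (Subgroup.mul_mem _ (Subgroup.inv_mem _ hβ₂) hδ) hβ₁)
    rw [mul_assoc, eq_inv_mul_iff_mul_eq]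
    refine Subtype.ext (MulEquiv.ext fun x => Subtype.ext ?_)
    change (c (e₂ ((β : MulAut P) x)) : Ω) =
      c (((resStab hX₁T hTS a : F.autGroup X₁) : MulAut X₁) (c.symm (c (e₁ x))))
    rw [MulEquiv.symm_apply_apply]
    refine congrArg (fun z : X₁ => ((c z : P) : Ω)) (Subtype.ext ?_)
    rw [he₂e, resStab_apply]
    have hx1 : Subgroup.inclusion hPM'.le ((β : MulAut P) x) =
        ψ (Subgroup.inclusion hPM.le x) := Subtype.ext (hβ x)
    rw [hx1, hfa]
    exact congrArg (fun z : T => (((a : MulAut T) z : T) : Ω)) (Subtype.ext (he₁e x).symm)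
  -- the elements inducing `O_p` on `X₁`
  set L : Subgroup (stabAut F T X₁) :=
    (pCore p (F.autGroup X₁)).comap (resStab (F := F) hX₁T hTS) with hL
  have hcoreN : (pCore p (F.autGroup X₁)).Normal := inferInstance
  have hLn : L.Normal := hcoreN.comap _
  set B : Subgroup (stabAut F T X₁) := (autInducedBy S T).subgroupOf (stabAut F T X₁) with hB
  have hBi : ¬ p ∣ B.index := by
    have : (autInducedBy S T ⊓ stabAut F T X₁).relIndex (stabAut F T X₁) = B.index := by
      rw [Subgroup.inf_relIndex_right]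
      rfl
    rwa [this] at hBT
  have hBp : IsPGroup p B := (isPGroup_autInducedBy hS T).comap_subtype
  obtain ⟨YB, hYB⟩ : ∃ Y : Sylow p (stabAut F T X₁), (Y : Subgroup (stabAut F T X₁)) = B :=
    ⟨hBp.toSylow hBi, IsPGroup.toSylow_coe _ _⟩
  -- elements induced by `N_S(T)`
  have hBA : B ≤ A := by
    intro u hu
    obtain ⟨g, hg, hge⟩ := mem_autInducedBy_iff.1 (Subgroup.mem_subgroupOf.1 hu)
    have hgX : g ∈ normalizerIn S X₁ := ⟨hg, mem_normalizer_of_forall fun y hy => by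
      have h := (u.2.2 ⟨y, hX₁T hy⟩).1 hy
      rwa [hge] at h⟩
    have h1 := normAut_mem_coreExtAut (F := F) hS hPS (g := φc ⟨g, hgX⟩) (hφcn _)
    rw [hA, Subgroup.mem_comap]
    refine (congrArg (· ∈ coreExtAut hS hPS) ?_).mpr h1
    refine Subtype.ext (MulEquiv.ext fun x => Subtype.ext ?_)
    change (c (((resStab hX₁T hTS u : F.autGroup X₁) : MulAut X₁) (c.symm x)) : Ω) = _
    rw [← hφce, normAut_apply]
    have e : Subgroup.inclusion hcle (((resStab hX₁T hTS u : F.autGroup X₁) : MulAut X₁)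
        (c.symm x)) = ⟨g, hgX⟩ * Subgroup.inclusion hcle (c.symm x) * (⟨g, hgX⟩)⁻¹ :=
      Subtype.ext (hge _)
    rw [e, map_mul, map_mul, map_inv, hφce, MulEquiv.apply_symm_apply]
  -- elements inducing `O_p`
  have hLA : L ≤ A := by
    set YL : Subgroup (stabAut F T X₁) := B ⊓ L with hYL
    have hi : ¬ p ∣ YL.relIndex L := not_dvd_relIndex_inf hBp le_top
      (by rw [Subgroup.relIndex_top_right]; exact hBi) le_top
      (fun x _ => by rw [Subgroup.normalizer_eq_top L]; trivial)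
    obtain ⟨Z, hZ⟩ := (exists_sylow_iff (N := L) (hBp.to_le inf_le_left : IsPGroup p YL)).2 hi
    intro l hl
    have htop := Transfer.pResidual_sup_sylow (G := L) Z
    have h1 : (⟨l, hl⟩ : L) ∈ A.subgroupOf L := by
      refine (?_ : _ ≤ A.subgroupOf L) (htop.ge (Subgroup.mem_top _))
      refine sup_le ((Subgroup.closure_le _).2 fun u hu => ?_) ?_
      · -- coprime elements act trivially
        rw [SetLike.mem_coe, Subgroup.mem_subgroupOf, hA, Subgroup.mem_comap]
        have hpc : IsPGroup p (pCore p (F.autGroup X₁)) := CfsgLib.Cores.isPGroup_pCore p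
        let res : L →* pCore p (F.autGroup X₁) :=
          ((resStab (F := F) hX₁T hTS).comp L.subtype).codRestrict _ fun v => v.2
        obtain ⟨k, hk⟩ := IsPGroup.iff_orderOf.1 hpc (res u)
        have hd := orderOf_map_dvd res u
        rw [hk] at hd
        have h0 : orderOf (res u) = 1 := by
          rw [hk]
          exact Nat.eq_one_of_dvd_coprimes (Nat.Coprime.pow_right k hu) hd dvd_rfl
        have h2 : resStab (F := F) hX₁T hTS (u : stabAut F T X₁) = 1 :=
          congrArg Subtype.val (orderOf_eq_one_iff.1 h0)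
        rw [MonoidHom.comp_apply, h2, map_one]
        exact one_mem _
      · rw [hZ]
        exact Subgroup.comap_mono (inf_le_left.trans hBA)
    exact h1
  -- Frattini
  have hYLi : ¬ p ∣ (B ⊓ L).relIndex L := not_dvd_relIndex_inf hBp le_top
    (by rw [Subgroup.relIndex_top_right]; exact hBi) le_top
    (fun x _ => by rw [Subgroup.normalizer_eq_top L]; trivial)
  obtain ⟨Z, hZ⟩ := (exists_sylow_iff (N := L) (hBp.to_le inf_le_left : IsPGroup p (B ⊓ L :
    Subgroup (stabAut F T X₁)))).2 hYLi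
  have htop := Sylow.normalizer_sup_eq_top Z
  rw [hZ, Subgroup.subgroupOf, Subgroup.map_comap_eq, Subgroup.range_subtype,
    inf_eq_right.2 (inf_le_right : B ⊓ L ≤ L)] at htop
  refine eq_top_iff.2 (htop.ge.trans (sup_le (fun n hn => ?_) hLA))
  -- a normalizing element extends
  set R₁ := coreNormalizer F p X₁ with hR₁
  have hR₁S : R₁ ≤ S := (coreNormalizer_le X₁).trans (normalizerIn_le X₁)
  set T₂ := T ⊔ R₁ ⊓ Subgroup.normalizer (T : Set Ω) with hT₂
  have hT₂S : T₂ ≤ S := sup_le hTS (inf_le_left.trans hR₁S)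
  have hgM₁ : g₀ ∈ normalizerIn S P ⊓ Subgroup.normalizer (M : Set Ω) := ⟨hRN hg₀R, hg₀n⟩
  set t₀ := χ₁ ⟨g₀, hgM₁⟩ with ht₀
  have ht₀R : t₀ ∈ R₁ := apply_mem_coreNormalizer he₁ hχ₁ (hPM.trans h1).le
    (fun x => (hχ₁e _ (hPM.le x.2)).trans (he₁e x).symm) inf_le_left hg₀R
  have ht₀T : t₀ ∉ T := by
    intro ht
    have hle : M ≤ normalizerIn S P ⊓ Subgroup.normalizer (M : Set Ω) :=
      le_inf hM Subgroup.le_normalizer
    have h3 : χ₁ (Subgroup.inclusion hle (f₁.symm ⟨t₀, ht⟩)) = t₀ := by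
      rw [hχ₁e _ (f₁.symm ⟨t₀, ht⟩).2]
      exact congrArg Subtype.val (f₁.apply_symm_apply ⟨t₀, ht⟩)
    have h4 := congrArg Subtype.val (F.injective_of_mem hχ₁ h3)
    have h5 : ((f₁.symm ⟨t₀, ht⟩ : M) : Ω) ∈ M := (f₁.symm ⟨t₀, ht⟩).2
    exact hg₀M ((show ((f₁.symm ⟨t₀, ht⟩ : M) : Ω) = g₀ from h4) ▸ h5)
  have hTT₂ : T < T₂ := lt_of_le_of_ne le_sup_left fun h => ht₀T
    (h.symm ▸ (le_sup_right : _ ≤ T₂) ⟨ht₀R, (hχ₁n _).2.2⟩)
  have hext : T₂ ≤ extender S T (T.subtype.comp (n : MulAut T).toMonoidHom) := by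
    refine sup_le (le_extender ((mem_autGroup_iff F hTS).1 n.2.1)) fun g hg => ?_
    obtain ⟨hgX, hgc⟩ := mem_coreNormalizer.1 hg.1
    refine mem_extender_iso_iff.2 ⟨hR₁S hg.1, hg.2, ?_⟩
    have hgi : normAut g hg.2 ∈ autInducedBy S T :=
      mem_autInducedBy_iff.2 ⟨g, hR₁S hg.1, fun _ => rfl⟩
    have hgs : normAut g hg.2 ∈ stabAut F T X₁ :=
      ⟨autInducedBy_le_autGroup hTS hgi, fun y => Subgroup.mem_normalizer_iff.1 hgX.2 y⟩
    have hgBL : (⟨_, hgs⟩ : stabAut F T X₁) ∈ B ⊓ L := by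
      refine ⟨hgi, ?_⟩
      obtain ⟨q, hq, hqe⟩ := hgc
      have : resStab (F := F) hX₁T hTS ⟨_, hgs⟩ = q :=
        Subtype.ext ((MulEquiv.ext fun y => Subtype.ext rfl).trans hqe.symm)
      change resStab (F := F) hX₁T hTS ⟨_, hgs⟩ ∈ pCore p (F.autGroup X₁)
      rw [this]
      exact hq
    have h3 := ((Subgroup.mem_normalizer_iff.1 hn _).1 hgBL).1
    have h3' : ((n * ⟨normAut g hg.2, hgs⟩ * n⁻¹ : stabAut F T X₁) : MulAut T) ∈
      autInducedBy S T := h3
    convert h3' using 1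
    exact MulEquiv.ext fun y => rfl
  obtain ⟨ψn, hψn, hψne⟩ := exists_extension hTr ((mem_autGroup_iff F hTS).1 n.2.1) hTT₂.le hext
  have hX₁T₂ : X₁ ≤ T₂ := hX₁T.trans hTT₂.le
  have hT₂N : T₂ ≤ normalizerIn S X₁ := by
    refine sup_le ?_ (inf_le_left.trans (coreNormalizer_le X₁))
    intro y hy
    have h3 := (hχ₁n ⟨(f₁.symm ⟨y, hy⟩ : M), le_inf hM Subgroup.le_normalizer
      (f₁.symm ⟨y, hy⟩).2⟩).1
    rwa [hχ₁e _ (f₁.symm ⟨y, hy⟩).2, show (⟨((f₁.symm ⟨y, hy⟩ : M) : Ω), _⟩ : M) =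
      f₁.symm ⟨y, hy⟩ from rfl, MulEquiv.apply_symm_apply] at h3
  set δ₁ := resStab (F := F) hX₁T hTS n with hδ₁
  have hψnX : ∀ x : X₁, ψn (Subgroup.inclusion hX₁T₂ x) = ((δ₁ : MulAut X₁) x : Ω) := fun x =>
    hψne (Subgroup.inclusion hX₁T x)
  have hψnN : ∀ g, ψn g ∈ normalizerIn S X₁ := fun g =>
    apply_mem_normalizerIn hψn hX₁T₂ hψnX (fun y hy => (hT₂N hy).2) g
  -- transport `T₂` into `N_S(P)`
  set T' := (φc.comp (Subgroup.inclusion hT₂N)).range with hT'
  obtain ⟨e₃, he₃, he₃e⟩ : ∃ e₃ : T₂ ≃* T', IsIso F e₃ ∧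
      ∀ x : T₂, (e₃ x : Ω) = φc (Subgroup.inclusion hT₂N x) :=
    exists_iso_of_mem (res_mem F hφc hT₂N)
  have hT'N : T' ≤ normalizerIn S P := by rintro _ ⟨y, rfl⟩; exact hφcn _
  have hval : ∀ y : T', (e₃.symm y : Ω) ∈ T₂ := fun y => (e₃.symm y).2
  obtain ⟨θ, hθ, hθe⟩ := exists_comp_map hψn hφc hψnN
  obtain ⟨θ', hθ', hθ'e⟩ := exists_comp_map he₃.symm hθ hval
  have hPT' : P < T' := by
    have hle : P ≤ T' := fun y hy => ⟨Subgroup.inclusion hX₁T₂ (c.symm ⟨y, hy⟩), by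
      change φc (Subgroup.inclusion hcle (c.symm ⟨y, hy⟩)) = y
      rw [hφce, MulEquiv.apply_symm_apply]⟩
    refine lt_of_le_of_ne hle fun h => ?_
    have h5 := Nat.card_congr e₃.toEquiv
    rw [← h] at h5
    have h6 : Nat.card M = Nat.card T := Nat.card_congr f₁.toEquiv
    have h7 := hgrow hTT₂ hT₂S
    omega
  have hθ'P : ∀ x : P, θ' (Subgroup.inclusion hPT'.le x) =
      ((autEquiv hcF δ₁ : F.autGroup P) : MulAut P) x := by
    intro x
    rw [hθ'e, hθe, autEquiv_apply, ← hφce]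
    refine congrArg φc (Subtype.ext ?_)
    refine Eq.trans ?_ (hψnX (c.symm x))
    refine congrArg ψn (Subtype.ext ?_)
    have h5 : e₃ (Subgroup.inclusion hX₁T₂ (c.symm x)) = Subgroup.inclusion hPT'.le x :=
      Subtype.ext (by
        rw [he₃e]
        change φc (Subgroup.inclusion hcle (c.symm x)) = x
        rw [hφce, MulEquiv.apply_symm_apply])
    change ((e₃.symm (Subgroup.inclusion hPT'.le x) : T₂) : Ω) = _
    rw [← h5, MulEquiv.symm_apply_apply]
  obtain ⟨ψ', hψ', hψ'e⟩ := exists_link_of_map P P hθ' hPT' hT'N hθ'P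
  rw [hA, Subgroup.mem_comap]
  have h5 : Nat.card T' = Nat.card T₂ := (Nat.card_congr e₃.toEquiv).symm
  have h6 : Nat.card M = Nat.card T := Nat.card_congr f₁.toEquiv
  have h7 := hgrow hTT₂ hT₂S
  have h8 : Nat.card T₂ ≤ Nat.card S := Subgroup.card_le_of_le hT₂S
  exact ih (Nat.card S - Nat.card T') (by omega) _ _ ψ' hψ' _ le_rfl fun x =>
    (hθ'P x).symm.trans (hψ'e _).symm

/-- An isomorphism to `P` through the normalizer. -/
def IsReachIso (F : FusionSystem S) (P : Subgroup Ω) {X : Subgroup Ω} (e : X ≃* P) : Prop :=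
  IsIso F e ∧ ∃ (h : X ≤ normalizerIn S X), ∃ φ ∈ F.Hom (normalizerIn S X),
    (∀ x : X, φ (Subgroup.inclusion h x) = e x) ∧ ∀ g, φ g ∈ normalizerIn S P

/-- An isomorphism within the class of `P` is good when, read on `P`, it extends to the core
normalizer. -/
def IsGoodClassIso (F : FusionSystem S) (p : ℕ) [Fact p.Prime] (hS : IsPGroup p S) {P : Subgroup Ω}
    (hP : P ≤ S) {X Y : Subgroup Ω} (f : X ≃* Y) : Prop :=
  ∀ (a : X ≃* P) (b : Y ≃* P), IsReachIso F P a → IsReachIso F P b →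
    ∀ β : F.autGroup P, (∀ x : X, b (f x) = (β : MulAut P) (a x)) → β ∈ coreExtAut hS hP

/-- Every automorphism of `P` extends to the core normalizer. -/
theorem coreExtAut_eq_top (hS : IsPGroup p S) {P : Subgroup Ω} (hP : F.IsFullyNormalized P)
    (hPlt : P < S) (hsat : SatAbove F p (Nat.card P)) (hgen : GeneratedOutside F P) :
    coreExtAut (F := F) hS hP.1 = ⊤ := by
  have hPS := hP.1
  have := finite_of_le hPS
  have hreach : ∀ Q : Subgroup Ω, F.IsConj P Q → ReachesNormalizer F P Q := fun Q hQ =>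
    reaches_of_isConj hS hP hPlt hsat hgen hQ
  have hexR : ∀ {Q : Subgroup Ω}, F.IsConj P Q → ∃ a : Q ≃* P, IsReachIso F P a := by
    intro Q hQ
    obtain ⟨h, e, he, φ, hφ, hφe, hφn⟩ := hreach Q hQ
    exact ⟨e, he, h, φ, hφ, hφe, hφn⟩
  have hclass : ∀ {X : Subgroup Ω}, F.IsConj P X → X < S := fun {X} hX => by
    refine lt_of_le_of_ne (le_right_of_isConj hX) fun h => ?_
    have h1 := card_eq_of_isConj hX
    rw [h] at h1
    exact hPlt.ne (Subgroup.eq_of_le_of_card_ge hPlt.le h1.ge)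
  -- restrictions of maps on larger subgroups are good
  have hres : ∀ {X Y M : Subgroup Ω} {φ : M →* Ω} (_ : φ ∈ F.Hom M) (hXM : X < M) (f : X ≃* Y),
      (∀ x : X, φ (Subgroup.inclusion hXM.le x) = f x) → IsGoodClassIso F p hS hPS f := by
    intro X Y M φ hφ hXM f hf a b ha hb β hβ
    obtain ⟨haF, hXN, φa, hφa, hφae, hφan⟩ := ha
    obtain ⟨hbF, hYN, φb, hφb, hφbe, hφbn⟩ := hb
    set L := M ⊓ Subgroup.normalizer (X : Set Ω) with hL
    have hLS : L ≤ S := inf_le_left.trans (le_S F hφ)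
    have hLN : L ≤ normalizerIn S X := le_inf hLS inf_le_right
    have hXL : X < L := lt_normalizer_inf hS (le_S F hφ) hXM
    have hφL := res_mem F hφ (inf_le_left : L ≤ M)
    have hY : ∀ g, (φ.comp (Subgroup.inclusion (inf_le_left : L ≤ M))) g ∈ normalizerIn S Y :=
      fun g => apply_mem_normalizerIn hφL hXL.le hf (fun y hy => hy.2) g
    set L' := (φa.comp (Subgroup.inclusion hLN)).range with hL'
    obtain ⟨e₃, he₃, he₃e⟩ : ∃ e₃ : L ≃* L', IsIso F e₃ ∧
        ∀ x : L, (e₃ x : Ω) = φa (Subgroup.inclusion hLN x) :=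
      exists_iso_of_mem (res_mem F hφa hLN)
    have hL'N : L' ≤ normalizerIn S P := by rintro _ ⟨y, rfl⟩; exact hφan _
    obtain ⟨θ, hθ, hθe⟩ := exists_comp_map hφL hφb hY
    obtain ⟨θ', hθ', hθ'e⟩ := exists_comp_map he₃.symm hθ fun y => (e₃.symm y).2
    have hPL' : P < L' := by
      have hle : P ≤ L' := fun y hy => ⟨Subgroup.inclusion hXL.le (a.symm ⟨y, hy⟩), by
        change φa (Subgroup.inclusion hXN (a.symm ⟨y, hy⟩)) = y
        rw [hφae, MulEquiv.apply_symm_apply]⟩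
      refine lt_of_le_of_ne hle fun h => ?_
      have h5 := Nat.card_congr e₃.toEquiv
      rw [← h, ← Nat.card_congr a.toEquiv] at h5
      have := finite_of_le hLS
      exact hXL.ne (Subgroup.eq_of_le_of_card_ge hXL.le h5.le)
    have hθ'P : ∀ x : P, θ' (Subgroup.inclusion hPL'.le x) = (β : MulAut P) x := by
      intro x
      have h5 : e₃ (Subgroup.inclusion hXL.le (a.symm x)) = Subgroup.inclusion hPL'.le x :=
        Subtype.ext (by
          rw [he₃e]
          change φa (Subgroup.inclusion hXN (a.symm x)) = x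
          rw [hφae, MulEquiv.apply_symm_apply])
      have h6 := hβ (a.symm x)
      rw [MulEquiv.apply_symm_apply] at h6
      rw [hθ'e, hθe, ← h6, ← hφbe]
      refine congrArg φb (Subtype.ext ?_)
      refine Eq.trans ?_ (hf (a.symm x))
      refine congrArg φ (Subtype.ext ?_)
      change ((e₃.symm (Subgroup.inclusion hPL'.le x) : L) : Ω) = _
      rw [← h5, MulEquiv.symm_apply_apply]
      rfl
    obtain ⟨ψ', hψ', hψ'e⟩ := exists_link_of_map P P hθ' hPL' hL'N hθ'P
    exact mem_coreExtAut_of_isLink hS hP hsat hreach hψ' β fun x =>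
      (hθ'P x).symm.trans (hψ'e _).symm
  let D : FusionSystem S :=
    { Hom := fun X => {φ | ∃ hφ : φ ∈ F.Hom X, F.IsConj P X →
        ∀ (Y : Subgroup Ω) (f : X ≃* Y), (∀ x : X, (f x : Ω) = φ x) → IsGoodClassIso F p hS hPS f}
      le_of_mem := fun {X φ} h => F.le_of_mem h.1
      injective_of_mem := fun {X φ} h => F.injective_of_mem h.1
      conj_mem := fun {X g} hX hg => by
        refine ⟨F.conj_mem hX hg, fun hc Y f hf => hres (F.conj_mem le_rfl hg) (hclass hc) f ?_⟩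
        exact fun x => (hf x).symm
      comp_mem := by
        intro X Z φ θ hφ hθ h
        obtain ⟨hφF, hφG⟩ := hφ
        obtain ⟨hθF, hθG⟩ := hθ
        refine ⟨F.comp_mem hφF hθF h, fun hc Y f hf => ?_⟩
        obtain ⟨e, he, hee⟩ := exists_iso_of_mem hφF
        have hcφ : F.IsConj P φ.range := isConj_trans hc ⟨φ, hφF, rfl⟩
        have hle : φ.range ≤ Z := by rintro _ ⟨x, rfl⟩; exact h x
        have hgf : ∀ y : φ.range, ((e.symm.trans f) y : Ω) = θ (Subgroup.inclusion hle y) := by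
          intro y
          refine (hf (e.symm y)).trans (congrArg θ (Subtype.ext ?_))
          exact (hee (e.symm y)).symm.trans (congrArg Subtype.val (e.apply_symm_apply y))
        have hgood : IsGoodClassIso F p hS hPS (e.symm.trans f) := by
          rcases eq_or_lt_of_le hle with he' | hlt
          · subst he'
            exact hθG hcφ Y (e.symm.trans f) hgf
          · exact hres hθF hlt _ fun y => (hgf y).symm
        have hegood := hφG hc φ.range e hee
        intro a b ha hb β hβ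
        obtain ⟨m, hm⟩ := hexR hcφ
        obtain ⟨β₁, hβ₁⟩ : ∃ β₁ : F.autGroup P, ∀ x : X, m (e x) = (β₁ : MulAut P) (a x) :=
          ⟨⟨a.symm.trans (e.trans m), (mem_autGroup_iff F hPS).2
            (ha.1.symm.trans (he.trans hm.1))⟩, fun x => by simp⟩
        have h1 := hegood a m ha hm β₁ hβ₁
        have h2 := hgood m b hm hb (β * β₁⁻¹) fun y => by
          have h3 := hβ (e.symm y)
          have h4 := hβ₁ (e.symm y)
          rw [MulEquiv.apply_symm_apply] at h4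
          change b (f (e.symm y)) = _
          rw [h3, h4, Subgroup.coe_mul, Subgroup.coe_inv, MulAut.mul_apply,
            MulAut.inv_apply_self]
        have := Subgroup.mul_mem _ h2 h1
        rwa [inv_mul_cancel_right] at this
      inv_mem := by
        intro X φ hφ
        obtain ⟨hφF, hφG⟩ := hφ
        obtain ⟨θ, hθ, hθe⟩ := F.inv_mem hφF
        refine ⟨θ, ⟨hθ, fun hc Y f hf => ?_⟩, hθe⟩
        obtain ⟨e, he, hee⟩ := exists_iso_of_mem hφF
        have hY : Y = X := by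
          ext y
          constructor
          · intro hy
            obtain ⟨⟨w, x, rfl⟩, hw⟩ := f.surjective ⟨y, hy⟩
            have h1 := hf ⟨φ x, x, rfl⟩
            rw [hw, hθe] at h1
            exact (show y = x from h1) ▸ x.2
          · intro hy
            have h1 := hf ⟨φ ⟨y, hy⟩, ⟨_, rfl⟩⟩
            rw [hθe] at h1
            exact (show ((f ⟨φ ⟨y, hy⟩, ⟨_, rfl⟩⟩ : Y) : Ω) = y from h1) ▸ (f _).2
        subst hY
        intro a b ha hb β hβ
        have h1 := hφG (isConj_trans hc (isConj_symm ⟨φ, hφF, rfl⟩)) φ.range e hee b a hb ha β⁻¹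
          fun y => by
            have h2 := hβ (e y)
            have h3 : f (e y) = y := Subtype.ext ((hf _).trans (by
              rw [show e y = (⟨φ y, y, rfl⟩ : φ.range) from Subtype.ext (hee y), hθe]))
            rw [h3] at h2
            rw [h2, Subgroup.coe_inv, MulAut.inv_apply_self]
        simpa using Subgroup.inv_mem _ h1 }
  refine (Subgroup.eq_top_iff' _).2 fun β => ?_
  have hβF := (mem_autGroup_iff F hPS).1 β.2
  obtain ⟨-, hG⟩ := hgen D (fun X hX φ hφ => ⟨hφ, fun hc => absurd hc hX⟩) P hβF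
  have hid : IsReachIso F P (MulEquiv.refl P) :=
    ⟨isIso_refl hPS, le_normalizerIn hPS, _, id_mem F (normalizerIn_le P), fun _ => rfl,
      fun g => g.2⟩
  exact hG (isConj_refl hPS) P (β : MulAut P) (fun x => rfl) (MulEquiv.refl P) (MulEquiv.refl P)
    hid hid β fun x => rfl

/-- The class of a fully normalized subgroup smaller than its core normalizer has a fully
automized receptive member. -/
theorem hasSatMember_of_lt_coreNormalizer (hS : IsPGroup p S) {P : Subgroup Ω}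
    (hP : F.IsFullyNormalized P) (hPlt : P < S) (hsat : SatAbove F p (Nat.card P))
    (hgen : GeneratedOutside F P) (hR : P < coreNormalizer F p P) : HasSatMember F p P := by
  have hPS := hP.1
  have := finite_of_le hPS
  set R := coreNormalizer F p P with hRdef
  have hRN : R ≤ normalizerIn S P := coreNormalizer_le P
  have hRS : R ≤ S := hRN.trans (normalizerIn_le P)
  have := finite_of_le hRS
  have hRn : normalizerIn S P ≤ normalizerIn S R :=
    le_inf (normalizerIn_le P) (le_normalizer_coreNormalizer hPS)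
  obtain ⟨T, hRT, hTa, hTr⟩ := hsat R hRS
    (lt_of_not_ge fun h => hR.ne (Subgroup.eq_of_le_of_card_ge hR.le h))
  obtain ⟨e, he⟩ := isConj_iff.1 hRT
  have hTS := hTa.1
  have := finite_of_le hTS
  obtain ⟨f, hf, hfU, hBT⟩ := exists_adapted_target hS he hTa hTr hR.le
    ((isPGroup_autInducedBy hS R).to_le (autInducedBy_mono (normalizerIn_le P)))
    (fun α hα => by
      obtain ⟨g, hg, hge⟩ := mem_autInducedBy_iff.1 hα
      refine ⟨autInducedBy_le_autGroup hRS (mem_autInducedBy_iff.2 ⟨g, hg.1, hge⟩), fun x => ?_⟩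
      rw [hge]
      exact Subgroup.mem_normalizer_iff.1 hg.2 _)
  obtain ⟨e₁', he₁', he₁e', χ, hχ, hχe, hχP', -⟩ := exists_adapted_extension hf hTr hR.le hRn le_rfl
    hRN (fun g hg => hfU _ (mem_autInducedBy_iff.2 ⟨g, hg, fun _ => rfl⟩))
  obtain ⟨P₂, hP₂⟩ : ∃ P₂, P₂ = img (T.subtype.comp f.toMonoidHom) P := ⟨_, rfl⟩
  rw [← hP₂] at hBT
  obtain ⟨e₁, he₁, he₁e⟩ : ∃ e₁ : P ≃* P₂, IsIso F e₁ ∧
      ∀ x : P, (e₁ x : Ω) = f (Subgroup.inclusion hR.le x) := by
    subst hP₂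
    exact ⟨e₁', he₁', he₁e'⟩
  have hχP : ∀ g, χ g ∈ normalizerIn S P₂ := fun g => by rw [hP₂]; exact hχP' g
  have hPP₂ : F.IsConj P P₂ := isConj_iff.2 ⟨e₁, he₁⟩
  have hP₂S := le_right_of_isConj hPP₂
  have hP₂T : P₂ ≤ T := hP₂.le.trans ((img_le_range _ P).trans (range_subtype_comp f).le)
  have := finite_of_le hP₂S
  have := finite_of_le (normalizerIn_le (S := S) P)
  have := finite_of_le (normalizerIn_le (S := S) P₂)
  have hP₂n : F.IsFullyNormalized P₂ := by
    refine ⟨hP₂S, fun Q hQ => (hP.2 Q (isConj_trans hPP₂ hQ)).trans ?_⟩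
    exact Nat.card_le_card_of_injective (fun g => (⟨χ g, hχP g⟩ : normalizerIn S P₂))
      fun a b h => F.injective_of_mem hχ (congrArg Subtype.val h)
  have hcardeq : Nat.card P₂ = Nat.card P := (card_eq_of_isConj hPP₂).symm
  have hP₂lt : P₂ < S := lt_of_le_of_ne hP₂S fun h => hPlt.ne
    (Subgroup.eq_of_le_of_card_ge hPlt.le (by rw [← h, hcardeq]))
  have hsat₂ : SatAbove F p (Nat.card P₂) := hcardeq.symm ▸ hsat
  have hgen₂ : GeneratedOutside F P₂ := fun D hD => hgen D fun X hX =>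
    hD X fun h => hX (isConj_trans hPP₂ h)
  have hχR : ∀ (g : normalizerIn S P), (g : Ω) ∈ R → χ g ∈ coreNormalizer F p P₂ := fun g hg =>
    apply_mem_coreNormalizer he₁ hχ (le_normalizerIn hPS)
      (fun x => (hχe (Subgroup.inclusion hR.le x)).trans (he₁e x).symm) le_rfl hg
  have hT2 : T = coreNormalizer F p P₂ := by
    have := finite_of_le ((coreNormalizer_le (F := F) (p := p) P₂).trans (normalizerIn_le P₂))
    refine Subgroup.eq_of_le_of_card_ge (fun y hy => ?_) ?_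
    · have h1 := hχR (Subgroup.inclusion hRN (f.symm ⟨y, hy⟩)) (f.symm ⟨y, hy⟩).2
      rwa [hχe, MulEquiv.apply_symm_apply] at h1
    · obtain ⟨h, e', he', φ, hφ, hφe, hφn⟩ :=
        reaches_of_isConj hS hP hPlt hsat hgen hPP₂
      rw [← Nat.card_congr f.toEquiv]
      exact Nat.card_le_card_of_injective
        (fun g => (⟨φ (Subgroup.inclusion (coreNormalizer_le P₂) g),
          apply_mem_coreNormalizer he' hφ h hφe le_rfl g.2⟩ : R))
        fun a b hab => Subtype.ext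
          (congrArg Subtype.val (F.injective_of_mem hφ (congrArg Subtype.val hab) :) :)
  clear hP₂ hχP' he₁e' he₁'
  subst hT2
  set R₂ := coreNormalizer F p P₂ with hR₂
  have hR₂N : R₂ ≤ normalizerIn S P₂ := coreNormalizer_le P₂
  set res := resStab (F := F) hP₂T hTS with hres
  have hrestop : res.range = ⊤ := coreExtAut_eq_top hS hP₂n hP₂lt hsat₂ hgen₂
  set BR : Subgroup (stabAut F R₂ P₂) := (autInducedBy S R₂).subgroupOf _ with hBR
  have hBRi : ¬ p ∣ BR.index := by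
    have : (autInducedBy S R₂ ⊓ stabAut F R₂ P₂).relIndex (stabAut F R₂ P₂) = BR.index := by
      rw [Subgroup.inf_relIndex_right]
      rfl
    rwa [this] at hBT
  set B₂ : Subgroup (F.autGroup P₂) := (autInducedBy S P₂).subgroupOf _ with hB₂
  have hBRB : BR.map res ≤ B₂ := by
    rintro _ ⟨u, hu, rfl⟩
    obtain ⟨g, hg, hge⟩ := mem_autInducedBy_iff.1 (Subgroup.mem_subgroupOf.1 hu)
    exact Subgroup.mem_subgroupOf.2 (mem_autInducedBy_iff.2 ⟨g, hg, fun x => hge _⟩)
  have hfa : F.IsFullyAutomized p P₂ := by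
    refine (isFullyAutomized_iff hS).2 ⟨hP₂S, fun hd => ?_⟩
    refine hBRi (dvd_trans hd ?_)
    rw [Subgroup.relIndex]
    refine (Subgroup.index_dvd_of_le hBRB).trans ?_
    exact Subgroup.index_map_dvd _ (MonoidHom.range_eq_top.1 hrestop)
  refine ⟨P₂, hPP₂, hfa, hP₂S, fun X φ hφ hX => ?_⟩
  obtain ⟨eX, heX, heXe⟩ := exists_iso_of_range hφ hX
  obtain rfl : φ = P₂.subtype.comp eX.toMonoidHom := MonoidHom.ext fun x => (heXe x).symm
  have hXS := heX.le_left
  have := finite_of_le hXS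
  obtain ⟨hXN, a, ha, φa, hφa, hφae, hφan⟩ := reaches_of_isConj hS hP₂n hP₂lt hsat₂ hgen₂
    (isConj_symm (isConj_iff.2 ⟨eX, heX⟩))
  set Ne := extender S X (P₂.subtype.comp eX.toMonoidHom) with hNe
  have hNeN : Ne ≤ normalizerIn S X := extender_le_normalizerIn X _
  set β : F.autGroup P₂ := ⟨a.symm.trans eX, (mem_autGroup_iff F hP₂S).2 (ha.symm.trans heX)⟩
  obtain ⟨r, hr⟩ : β ∈ res.range := hrestop.ge (Subgroup.mem_top β)
  set Mi := (φa.comp (Subgroup.inclusion hNeN)).range with hMi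
  have hMiN : Mi ≤ normalizerIn S P₂ := by rintro _ ⟨g, rfl⟩; exact hφan _
  have hMiS : Mi ≤ S := hMiN.trans (normalizerIn_le P₂)
  have hMn : Mi ≤ Subgroup.normalizer (R₂ : Set Ω) :=
    hMiN.trans (le_normalizer_coreNormalizer hP₂S)
  set U : Subgroup (stabAut F R₂ P₂) := (autInducedBy Mi R₂).subgroupOf _ with hU
  set Z := B₂.comap res with hZ
  have hUle : ∀ u ∈ U, r * u * r⁻¹ ∈ Z := by
    intro u hu
    obtain ⟨m, hm, hme⟩ := mem_autInducedBy_iff.1 (Subgroup.mem_subgroupOf.1 hu)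
    obtain ⟨⟨g, hgN⟩, rfl⟩ := hm
    obtain ⟨-, hgn, hgc⟩ := mem_extender_iso_iff.1 hgN
    rw [hZ, Subgroup.mem_comap, hB₂, Subgroup.mem_subgroupOf, map_mul, map_mul, map_inv, hr]
    convert hgc using 1
    refine MulEquiv.ext fun x => ?_
    change eX (a.symm ((res u : MulAut P₂) (a (eX.symm x)))) = eX (normAut g hgn (eX.symm x))
    refine congrArg eX ((MulEquiv.symm_apply_eq a).2 (Subtype.ext ?_))
    rw [hres, resStab_apply, hme, Subgroup.coe_inclusion, ← hφae, ← hφae]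
    have e : Subgroup.inclusion hXN (normAut g hgn (eX.symm x)) =
        Subgroup.inclusion hNeN ⟨g, hgN⟩ * Subgroup.inclusion hXN (eX.symm x) *
          (Subgroup.inclusion hNeN ⟨g, hgN⟩)⁻¹ := Subtype.ext (by simp)
    rw [e, map_mul, map_mul, map_inv]
    simp only [Subgroup.coe_inclusion, hφae]
    rfl
  have hBRZ : BR ≤ Z := fun u hu => hBRB ⟨u, hu, rfl⟩
  obtain ⟨z, hz, hzU⟩ := exists_conj_mem_of_le (p := p) (U := U.map (MulAut.conj r).toMonoidHom)
    (T := BR) (N := Z)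
    ((((isPGroup_autInducedBy hS R₂).to_le (autInducedBy_mono hMiS)).comap_subtype).map _)
    (isPGroup_autInducedBy hS R₂).comap_subtype
    (by rintro _ ⟨u, hu, rfl⟩; exact hUle u hu) hBRZ
    (fun hd => hBRi (hd.trans (Subgroup.relIndex_dvd_index_of_le hBRZ)))
  -- replace `z` by an element acting trivially on `P₂`
  obtain ⟨g₂, hg₂, hg₂e⟩ := mem_autInducedBy_iff.1
    (Subgroup.mem_subgroupOf.1 (Subgroup.mem_comap.1 hz))
  have hg₂N : g₂ ∈ normalizerIn S P₂ := ⟨hg₂, mem_normalizer_of_forall fun y hy => by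
    rw [← hg₂e ⟨y, hy⟩]
    exact (((res z : MulAut P₂)) ⟨y, hy⟩).2⟩
  have hg₂R := le_normalizer_coreNormalizer (F := F) (p := p) hP₂S hg₂N
  have hb₂i : normAut g₂ hg₂R ∈ autInducedBy S R₂ :=
    mem_autInducedBy_iff.2 ⟨g₂, hg₂, fun _ => rfl⟩
  set b₂ : stabAut F R₂ P₂ := ⟨normAut g₂ hg₂R, autInducedBy_le_autGroup hTS hb₂i,
    fun y => Subgroup.mem_normalizer_iff.1 hg₂N.2 y⟩ with hb₂
  have hb₂BR : b₂ ∈ BR := hb₂i
  have hb₂res : res b₂ = res z := Subtype.ext (MulEquiv.ext fun x => Subtype.ext (hg₂e x).symm)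
  set k := b₂⁻¹ * z with hk
  have hkres : res k = 1 := by rw [hk, map_mul, map_inv, hb₂res, inv_mul_cancel]
  have hkr : res (k * r) = β := by rw [map_mul, hkres, one_mul, hr]
  have hkU : ∀ u ∈ U, (k * r) * u * (k * r)⁻¹ ∈ BR := by
    intro u hu
    have h1 := hzU _ ⟨u, hu, rfl⟩
    have h2 := Subgroup.mul_mem _ (Subgroup.mul_mem _ (Subgroup.inv_mem _ hb₂BR) h1) hb₂BR
    convert h2 using 1
    simp [hk, mul_assoc]
  have hext : Mi ⊔ R₂ ≤ extender S R₂ (R₂.subtype.comp ((k * r : stabAut F R₂ P₂) :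
      MulAut R₂).toMonoidHom) := by
    refine sup_le (fun m hm => ?_) (le_extender ((mem_autGroup_iff F hTS).1 (k * r).2.1))
    refine mem_extender_iso_iff.2 ⟨hMiS hm, hMn hm, ?_⟩
    have hmi : normAut m (hMn hm) ∈ autInducedBy S R₂ :=
      mem_autInducedBy_iff.2 ⟨m, hMiS hm, fun _ => rfl⟩
    have h3 := hkU ⟨normAut m (hMn hm), autInducedBy_le_autGroup hTS hmi,
      fun y => Subgroup.mem_normalizer_iff.1 (hMiN hm).2 y⟩
      (Subgroup.mem_subgroupOf.2 (mem_autInducedBy_iff.2 ⟨m, hm, fun _ => rfl⟩))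
    rw [hBR, Subgroup.mem_subgroupOf] at h3
    convert h3 using 1
    exact MulEquiv.ext fun y => rfl
  obtain ⟨ψ, hψ, hψe⟩ := exists_extension hTr ((mem_autGroup_iff F hTS).1 (k * r).2.1)
    le_sup_right hext
  have hval : ∀ g : Ne, (φa.comp (Subgroup.inclusion hNeN)) g ∈ Mi ⊔ R₂ := fun g =>
    (le_sup_left : Mi ≤ Mi ⊔ R₂) ⟨g, rfl⟩
  refine ⟨_, F.comp_mem (res_mem F hφa hNeN) hψ hval, fun x hxX hxN => ?_⟩
  change ψ ⟨φa (Subgroup.inclusion hNeN ⟨x, hxN⟩), _⟩ = (eX ⟨x, hxX⟩ : Ω)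
  have h1 : φa (Subgroup.inclusion hNeN ⟨x, hxN⟩) = (a ⟨x, hxX⟩ : Ω) := hφae ⟨x, hxX⟩
  have h2 : ψ (Subgroup.inclusion le_sup_right (Subgroup.inclusion hP₂T (a ⟨x, hxX⟩))) =
      (eX ⟨x, hxX⟩ : Ω) := by
    rw [hψe, ← resStab_apply hP₂T hTS, ← hres, hkr]
    change (eX (a.symm (a ⟨x, hxX⟩)) : Ω) = _
    rw [MulEquiv.symm_apply_apply]
  exact (congrArg ψ (Subtype.ext h1)).trans h2

/-- A subgroup properly contained in the subgroup inducing `O_p` passes this property to the fully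
normalized members of its class. -/
theorem lt_coreNormalizer_of_isConj (hS : IsPGroup p S) {P Q : Subgroup Ω}
    (hP : F.IsFullyNormalized P) (hPlt : P < S) (hsat : SatAbove F p (Nat.card P))
    (hgen : GeneratedOutside F P) (hQ : F.IsConj P Q) {g : Ω} (hg : g ∈ coreNormalizer F p Q)
    (hgQ : g ∉ Q) : P < coreNormalizer F p P := by
  obtain ⟨h, e, he, φ, hφ, hφe, -⟩ := reaches_of_isConj hS hP hPlt hsat hgen hQ
  refine lt_of_le_of_ne (le_coreNormalizer hS hP.1) fun heq => ?_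
  have h1 := apply_mem_coreNormalizer he hφ h hφe le_rfl
    (g := ⟨g, coreNormalizer_le Q hg⟩) hg
  rw [← heq] at h1
  have h2 : φ (Subgroup.inclusion h (e.symm ⟨_, h1⟩)) = φ ⟨g, coreNormalizer_le Q hg⟩ := by
    rw [hφe, MulEquiv.apply_symm_apply]
  have h3 := congrArg Subtype.val (F.injective_of_mem hφ h2)
  have h4 : ((e.symm ⟨_, h1⟩ : Q) : Ω) ∈ Q := (e.symm ⟨_, h1⟩).2
  exact hgQ ((show ((e.symm ⟨_, h1⟩ : Q) : Ω) = g from h3) ▸ h4)

/-- **The saturation criterion.** -/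
theorem isSaturated_of_generated_on_family (hS : IsPGroup p S) (ℋ : Set (Subgroup Ω))
    (hℋconj : ∀ P ∈ ℋ, ∀ Q, F.IsConj P Q → Q ∈ ℋ)
    (hsat : ∀ P ∈ ℋ, ∃ Q, F.IsConj P Q ∧ F.IsFullyAutomized p Q ∧ F.IsReceptive Q)
    (hgen : ∀ E : FusionSystem S, (∀ P ∈ ℋ, F.Hom P ⊆ E.Hom P) → F ≤ E)
    (hstar : ∀ P : Subgroup Ω, F.IsCentric P → P ∉ ℋ → ∃ Q, F.IsConj P Q ∧
      ¬ (autInducedBy S Q ⊓ coreAut F p Q ≤ Cfsg.Inn Q)) : F.IsSaturated p := by
  suffices h : ∀ (n : ℕ) (P : Subgroup Ω), P ≤ S → Nat.card S - Nat.card P ≤ n →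
      HasSatMember F p P from fun P hP => h _ P hP le_rfl
  intro n
  induction n using Nat.strong_induction_on with
  | _ n ih =>
  intro P hPS hn
  by_cases hPℋ : P ∈ ℋ
  · exact hsat P hPℋ
  obtain ⟨P₀, hPP₀, hP₀⟩ := exists_fullyNormalized F hPS
  suffices h : HasSatMember F p P₀ by
    obtain ⟨T, hT, hT'⟩ := h
    exact ⟨T, isConj_trans hPP₀ hT, hT'⟩
  have hout : ∀ X, F.IsConj P₀ X → X ∉ ℋ := fun X hX hXℋ =>
    hPℋ (hℋconj X hXℋ P (isConj_symm (isConj_trans hPP₀ hX)))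
  have hnd : ∃ Q, F.IsConj P₀ Q ∧ ∃ g ∈ coreNormalizer F p Q, g ∉ Q := by
    by_cases hc : F.IsCentric P₀
    · obtain ⟨Q, hQ, hnle⟩ := hstar P₀ hc (hout P₀ (isConj_refl hP₀.1))
      obtain ⟨α, ⟨hα, hαc⟩, hαI⟩ := SetLike.not_le_iff_exists.1 hnle
      obtain ⟨g, hg, hge⟩ := mem_autInducedBy_iff.1 hα
      have hQS := le_right_of_isConj hQ
      have := finite_of_le hQS
      have hgn : g ∈ Subgroup.normalizer (Q : Set Ω) := mem_normalizer_of_forall fun y hy => by
        rw [← hge ⟨y, hy⟩]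
        exact (α ⟨y, hy⟩).2
      have hα' : α = normAut g hgn := MulEquiv.ext fun x => Subtype.ext (hge x)
      refine ⟨Q, hQ, g, mem_coreNormalizer.2 ⟨⟨hg, hgn⟩, hα' ▸ hαc⟩, fun hgQ => hαI ?_⟩
      rw [inn_eq]
      exact mem_autInducedBy_iff.2 ⟨g, hgQ, hge⟩
    · have h1 : ∃ Q, F.IsConj P₀ Q ∧ ¬ centralizerIn S Q ≤ Q := by
        by_contra hcon
        push Not at hcon
        exact hc ⟨hP₀.1, hcon⟩
      obtain ⟨Q, hQ, hCQ⟩ := h1
      obtain ⟨g, hg, hgQ⟩ := SetLike.not_le_iff_exists.1 hCQ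
      have hgN := centralizerIn_le_normalizerIn Q hg
      refine ⟨Q, hQ, g, mem_coreNormalizer.2 ⟨hgN, ?_⟩, hgQ⟩
      rw [show normAut g hgN.2 = 1 from MulEquiv.ext fun x => Subtype.ext (by
        change g * x * g⁻¹ = x
        rw [← hg.2 x x.2, mul_inv_cancel_right])]
      exact one_mem _
  have hP₀lt : P₀ < S := by
    refine lt_of_le_of_ne hP₀.1 ?_
    rintro rfl
    obtain ⟨Q, hQ, g, hg, hgQ⟩ := hnd
    rw [eq_S_of_isConj_S hQ] at hgQ hg
    exact hgQ (normalizerIn_le P₀ (coreNormalizer_le P₀ hg))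
  have hgen' : GeneratedOutside F P₀ := fun D hD =>
    hgen D fun X hX => hD X fun h => hout X h hX
  have hcard := card_eq_of_isConj hPP₀
  have hsat' : SatAbove F p (Nat.card P₀) := by
    intro R hR hlt
    have := Subgroup.card_le_of_le hR
    exact ih (Nat.card S - Nat.card R) (by omega) R hR le_rfl
  obtain ⟨Q, hQ, g, hg, hgQ⟩ := hnd
  exact hasSatMember_of_lt_coreNormalizer hS hP₀ hP₀lt hsat' hgen'
    (lt_coreNormalizer_of_isConj hS hP₀ hP₀lt hsat' hgen' hQ hg hgQ)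

end CfsgLib.Fusion
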