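import Cfsg.Agent.Lib.Fusion.CentricPrimeToP
import Cfsg.Agent.Lib.Fusion.GeneratedSaturationClass

/-!
# The `p'`-residual subsystem
-/

set_option autoImplicit false

open Cfsg Cfsg.FusionSystem

namespace CfsgLib.Fusion

variable {Ω : Type*} [Group Ω] {S : Subgroup Ω} [Finite S] {F : FusionSystem S} {p : ℕ}
  [Fact p.Prime]

/-- The automorphisms of `S` generated by those agreeing on a centric subgroup with a map generated
by automorphisms of `p`-power order of centric subgroups. -/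
def centricAutClosure (F : FusionSystem S) (p : ℕ) : Subgroup (MulAut S) :=
  Subgroup.closure {α | α ∈ F.autGroup S ∧ ∃ (R : Subgroup Ω) (hR : R ≤ S), F.IsCentric R ∧
    (S.subtype.comp α.toMonoidHom).comp (Subgroup.inclusion hR) ∈ (centricPElementSys F p).Hom R}

omit [Finite S] [Fact p.Prime] in
theorem centricAutClosure_le : centricAutClosure F p ≤ F.autGroup S :=
  (Subgroup.closure_le _).2 fun _ h => h.1

/-- The `p'`-residual system: the maps `α ∘ φ₀`. -/
def pPrimeResidualSys (F : FusionSystem S) (p : ℕ) [Fact p.Prime] : FusionSystem S where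
  Hom P := {φ | φ ∈ F.Hom P ∧ ∃ α ∈ centricAutClosure F p, ∃ φ₀ ∈ (centricPElementSys F p).Hom P,
    ∀ (x : P) (hx : φ₀ x ∈ S), φ x = ((α ⟨φ₀ x, hx⟩ : S) : Ω)}
  le_of_mem := fun {P φ} hφ => F.le_of_mem hφ.1
  injective_of_mem := fun {P φ} hφ => F.injective_of_mem hφ.1
  conj_mem := fun {P g} hP hg => by
    refine ⟨F.conj_mem hP hg, 1, one_mem _, conjHom P g, (centricPElementSys F p).conj_mem hP hg, fun x hx => rfl⟩
  comp_mem := by
    intro P Q φ ψ hφ hψ h
    obtain ⟨hφF, α, hα, φ₀, hφ₀, hφe⟩ := hφ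
    obtain ⟨hψF, β, hβ, ψ₀, hψ₀, hψe⟩ := hψ
    obtain ⟨χ, hχ, hχe⟩ := transportClosed_centricPElementSys Q (le_S F hψF) ψ₀ hψ₀ α⁻¹ (inv_mem (centricAutClosure_le hα))
    have hP₁ : ∀ x : P, φ₀ x ∈ (Q.subgroupOf S).map (S.subtype.comp (α⁻¹).toMonoidHom) :=
      fun x => ⟨⟨_, apply_mem_S F hφF x⟩, h x, by
        change ((α⁻¹ ⟨φ x, apply_mem_S F hφF x⟩ : S) : Ω) = φ₀ x
        rw [show (⟨_, apply_mem_S F hφF x⟩ : S) = α ⟨φ₀ x, apply_mem_S (centricPElementSys F p) hφ₀ x⟩ from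
          Subtype.ext (hφe x _), MulAut.inv_apply_self]⟩
    refine ⟨F.comp_mem hφF hψF h, β * α, mul_mem hβ hα, χ.comp (φ₀.codRestrict _ hP₁),
      (centricPElementSys F p).comp_mem hφ₀ hχ hP₁, fun x hx => ?_⟩
    have h1 : φ₀ x = ((α⁻¹ ⟨φ x, apply_mem_S F hφF x⟩ : S) : Ω) := by
      rw [show (⟨_, apply_mem_S F hφF x⟩ : S) = α ⟨φ₀ x, apply_mem_S (centricPElementSys F p) hφ₀ x⟩ from
        Subtype.ext (hφe x _), MulAut.inv_apply_self]
    have h2 : χ.comp (φ₀.codRestrict _ hP₁) x =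
        ((α⁻¹ ⟨ψ₀ ⟨φ x, h x⟩, apply_mem_S (centricPElementSys F p) hψ₀ _⟩ : S) : Ω) := by
      refine Eq.trans ?_ (hχe ⟨φ x, h x⟩ (apply_mem_S (centricPElementSys F p) hψ₀ _) (h1 ▸ hP₁ x))
      exact congrArg χ (Subtype.ext h1)
    change ψ ⟨φ x, h x⟩ = _
    refine (hψe _ (apply_mem_S (centricPElementSys F p) hψ₀ _)).trans ?_
    rw [show (⟨_, hx⟩ : S) = α⁻¹ ⟨ψ₀ ⟨φ x, h x⟩, apply_mem_S (centricPElementSys F p) hψ₀ _⟩ from Subtype.ext h2,
      MulAut.mul_apply, MulAut.apply_inv_self]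
  inv_mem := by
    intro P φ hφ
    obtain ⟨hφF, α, hα, φ₀, hφ₀, hφe⟩ := hφ
    obtain ⟨ψ, hψ, hψe⟩ := F.inv_mem hφF
    obtain ⟨θ, hθ, hθe⟩ := (centricPElementSys F p).inv_mem hφ₀
    obtain ⟨χ, hχ, hχe⟩ := transportClosed_centricPElementSys φ₀.range (range_le_S (centricPElementSys F p) hφ₀) θ hθ α (centricAutClosure_le hα)
    have hP := le_S F hφF
    have hmem : ∀ y : φ.range, (y : Ω) ∈
        (φ₀.range.subgroupOf S).map (S.subtype.comp α.toMonoidHom) := by
      rintro ⟨_, x, rfl⟩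
      exact ⟨⟨φ₀ x, apply_mem_S (centricPElementSys F p) hφ₀ x⟩, ⟨x, rfl⟩, (hφe x _).symm⟩
    refine ⟨ψ, ⟨hψ, α⁻¹, inv_mem hα, χ.comp (φ.range.subtype.codRestrict _ hmem),
      res_mem (centricPElementSys F p) hχ (fun z hz => hmem ⟨z, hz⟩), ?_⟩, hψe⟩
    rintro ⟨_, x, rfl⟩ hy
    have h1 := hχe ⟨φ₀ x, x, rfl⟩ (by rw [hθe]; exact hP x.2)
      ⟨⟨φ₀ x, apply_mem_S (centricPElementSys F p) hφ₀ x⟩, ⟨x, rfl⟩, rfl⟩
    have h2 : χ.comp (φ.range.subtype.codRestrict _ hmem) ⟨φ x, x, rfl⟩ =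
        ((α ⟨(x : Ω), hP x.2⟩ : S) : Ω) := by
      refine Eq.trans (congrArg χ (Subtype.ext ?_)) (h1.trans ?_)
      · exact hφe x _
      · exact congrArg (fun t : S => ((α t : S) : Ω)) (Subtype.ext (hθe x))
    rw [show (⟨_, hy⟩ : S) = α ⟨(x : Ω), hP x.2⟩ from Subtype.ext h2, MulAut.inv_apply_self]
    exact hψe x

theorem pPrimeResidualSys_le : (pPrimeResidualSys F p).IsSubsystemOf F := fun _ _ h => h.1

theorem centricPElementSys_le_residual :
    (centricPElementSys F p).IsSubsystemOf (pPrimeResidualSys F p) := fun _ φ hφ =>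
  ⟨hφ.1, 1, one_mem _, φ, hφ, fun _ _ => rfl⟩

theorem containsCentricPElements_residual :
    ContainsCentricPElements (pPrimeResidualSys F p) F p := fun P hP β hβ hk =>
  (mem_autGroup_iff _ hP.1).2 (centricPElementSys_le_residual P
    ((mem_autGroup_iff _ hP.1).1 (containsCentricPElements_centricPElementSys P hP β hβ hk)))

theorem centricAutClosure_le_residual :
    centricAutClosure F p ≤ (pPrimeResidualSys F p).autGroup S := fun α hα =>
  (mem_autGroup_iff _ le_rfl).2 ⟨(mem_autGroup_iff F le_rfl).1 (centricAutClosure_le hα), α, hα,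
    S.subtype, id_mem _ le_rfl, fun _ _ => rfl⟩

/-- `S` is centric. -/
theorem isCentric_top_sub : F.IsCentric S := by
  refine ⟨le_rfl, fun Q hQ => ?_⟩
  rw [eq_S_of_isConj_S hQ]
  exact centralizerIn_le S

/-- The residual system is saturated. -/
theorem isSaturated_pPrimeResidualSys (hS : IsPGroup p S) (hF : F.IsSaturated p) :
    (pPrimeResidualSys F p).IsSaturated p := by
  set E := pPrimeResidualSys F p with hEdef
  have hEF : E.IsSubsystemOf F := pPrimeResidualSys_le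
  obtain ⟨-, hfr, hcen⟩ := index_prime_to_of_centric_pElements hS hF hEF
    containsCentricPElements_residual
  refine isSaturated_of_generated_on_family hS {P | F.IsCentric P}
    (fun P hP Q hQ => isCentric_of_isConj_centric hP (isConj_of_isSubsystemOf hEF hQ)) ?_ ?_
    (fun P hP hnP => absurd ((hcen P).1 hP) hnP)
  · intro P hP
    have hPS : P ≤ S := hP.1
    obtain ⟨Q, hPQ, hQ⟩ := exists_fullyNormalized F hPS
    obtain ⟨φ, hφ, rfl⟩ := hPQ
    obtain ⟨α, hα, φ₀, hφ₀, he⟩ := hfr P φ hφ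
    -- the conjugate of `P` in `E` is fully normalized in `F`
    set Q' := φ₀.range with hQ'
    have hQ'S : Q' ≤ S := range_le_S E hφ₀
    have hQ'n : F.IsFullyNormalized Q' := by
      refine ⟨hQ'S, fun R hR => ?_⟩
      have hQQ' : F.IsConj φ.range Q' :=
        isConj_trans (isConj_symm ⟨φ, hφ, rfl⟩) ⟨φ₀, hEF P hφ₀, rfl⟩
      refine (hQ.2 R (isConj_trans hQQ' hR)).trans ?_
      have hval : ∀ g : normalizerIn S φ.range,
          ((α⁻¹ ⟨g, normalizerIn_le φ.range g.2⟩ : S) : Ω) ∈ normalizerIn S Q' := by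
        intro g
        refine ⟨(α⁻¹ _).2, ?_⟩
        have := finite_of_le hQ'S
        refine mem_normalizer_of_forall ?_
        rintro _ ⟨x, rfl⟩
        have h1 : (g : Ω) * φ x * (g : Ω)⁻¹ ∈ φ.range :=
          conj_mem_of_mem_normalizer g.2.2 ⟨x, rfl⟩
        obtain ⟨y, hy⟩ := h1
        refine ⟨y, ?_⟩
        have h2 : α ⟨φ₀ y, apply_mem_S E hφ₀ y⟩ = ⟨g, normalizerIn_le φ.range g.2⟩ *
            α ⟨φ₀ x, apply_mem_S E hφ₀ x⟩ * (⟨g, normalizerIn_le φ.range g.2⟩ : S)⁻¹ := by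
          refine Subtype.ext ?_
          rw [← he, hy, Subgroup.coe_mul, Subgroup.coe_mul, Subgroup.coe_inv, ← he]
        have h3 := congrArg (fun t : S => ((α⁻¹ t : S) : Ω)) h2
        simp only [map_mul, map_inv, MulAut.inv_apply_self, Subgroup.coe_mul,
          Subgroup.coe_inv] at h3
        exact h3
      have := finite_of_le (normalizerIn_le (S := S) Q')
      refine Nat.card_le_card_of_injective (fun g => (⟨_, hval g⟩ : normalizerIn S Q')) ?_
      intro a b hab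
      have h3 := (α⁻¹).injective (Subtype.ext (congrArg Subtype.val hab :))
      exact Subtype.ext (congrArg Subtype.val h3 :)
    have := finite_of_le hQ'S
    obtain ⟨hQa, hQr⟩ := fullyAutomized_receptive_of_fullyNormalized hS hF hQ'n
    refine ⟨Q', ⟨φ₀, hφ₀, rfl⟩, ?_, hQ'S, fun X e he' hX => ?_⟩
    · obtain ⟨-, hi⟩ := (isFullyAutomized_iff hS).1 hQa
      refine (isFullyAutomized_iff hS).2 ⟨hQ'S, fun hd => hi (hd.trans ?_)⟩
      rw [← Subgroup.relIndex_mul_relIndex (autInducedBy S Q') (E.autGroup Q') (F.autGroup Q')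
        (autInducedBy_le_autGroup hQ'S) (autGroup_mono hEF Q')]
      exact dvd_mul_right _ _
    · obtain ⟨ψ, hψ, hψe⟩ := hQr.2 X e (hEF X he') hX
      obtain ⟨β, hβ, ψ₀, hψ₀, hψ₀e⟩ := frattini_centricPElementSys hS hF hψ
      obtain ⟨heF, γ, hγ, e₀, he₀, he₀e⟩ := he'
      have hXS : X ≤ S := le_S F heF
      have hXN : X ≤ extender S X e := le_extender heF
      set E₀ := centricPElementSys F p with hE₀
      set Z := (ψ₀.comp (Subgroup.inclusion hXN)).range with hZ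
      have hZS : Z ≤ S := by rintro _ ⟨x, rfl⟩; exact apply_mem_S E₀ hψ₀ _
      have hZc : F.IsCentric Z := by
        have hconj : F.IsConj Q' X := isConj_symm ⟨e, heF, hX⟩
        exact isCentric_of_isConj_centric (isCentric_of_isConj_centric hP
          (isConj_trans ⟨φ₀, hEF P hφ₀, rfl⟩ hconj)) ⟨_, res_mem F hψ₀.1 hXN, rfl⟩
      obtain ⟨θ, hθ, hθe⟩ := E₀.inv_mem (res_mem E₀ hψ₀ hXN)
      have hθX : ∀ z : Z, θ z ∈ X := by
        rintro ⟨_, x, rfl⟩
        rw [hθe]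
        exact x.2
      have hgen : γ⁻¹ * β ∈ centricAutClosure F p := by
        refine Subgroup.subset_closure ⟨mul_mem (inv_mem (centricAutClosure_le hγ)) hβ, Z, hZS,
          hZc, ?_⟩
        refine mem_of_eq rfl (E₀.comp_mem hθ he₀ hθX) ?_
        rintro ⟨_, x, rfl⟩
        have h1 := hψe (x : Ω) x.2 (hXN x.2)
        have h2 := hψ₀e (Subgroup.inclusion hXN x) (apply_mem_S E₀ hψ₀ _)
        have h3 := he₀e x (apply_mem_S E₀ he₀ x)
        have h4 : β ⟨ψ₀ (Subgroup.inclusion hXN x), apply_mem_S E₀ hψ₀ _⟩ =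
            γ ⟨e₀ x, apply_mem_S E₀ he₀ x⟩ := Subtype.ext (h2.symm.trans (h1.trans h3))
        have h5 : (⟨θ ⟨_, x, rfl⟩, hθX ⟨_, x, rfl⟩⟩ : X) = x := Subtype.ext (hθe x)
        change ((γ⁻¹ (β ⟨ψ₀ (Subgroup.inclusion hXN x), _⟩) : S) : Ω) = e₀ ⟨θ ⟨_, x, rfl⟩, _⟩
        rw [h4, MulAut.inv_apply_self, h5]
      refine ⟨ψ, ⟨hψ, β, ?_, ψ₀, hψ₀, hψ₀e⟩, hψe⟩
      have := mul_mem hγ hgen
      rwa [mul_inv_cancel_left] at this
  · intro D hD P φ hφ
    obtain ⟨-, α, hα, φ₀, hφ₀, he⟩ := hφ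
    have hDc : ContainsCentricPElements D F p := fun R hR β hβ hk =>
      (mem_autGroup_iff D hR.1).2 (hD R hR ((mem_autGroup_iff E hR.1).1
        (containsCentricPElements_residual R hR β hβ hk)))
    have h1 : S.subtype.comp α.toMonoidHom ∈ D.Hom S :=
      hD S isCentric_top_sub ((mem_autGroup_iff E le_rfl).1 (centricAutClosure_le_residual hα))
    exact mem_of_eq rfl (D.comp_mem (hφ₀.2 D hDc) h1 fun x => apply_mem_S _ hφ₀ x)
      fun x => he x _

/-- An automorphism of `S` agreeing on a centric subgroup with a map of a saturated subsystem lies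
in the subsystem. -/
theorem mem_autGroup_of_restrict_centric (hS : IsPGroup p S) (hF : F.IsSaturated p)
    {D : FusionSystem S} (hDs : D.IsSaturated p) (hD : D.IsSubsystemOf F) {α : MulAut S}
    (hα : α ∈ F.autGroup S) {R : Subgroup Ω} (hR : F.IsCentric R) (hRS : R ≤ S)
    (hres : (S.subtype.comp α.toMonoidHom).comp (Subgroup.inclusion hRS) ∈ D.Hom R) :
    α ∈ D.autGroup S := by
  suffices H : ∀ (n : ℕ) (R : Subgroup Ω) (hR : F.IsCentric R),
      (S.subtype.comp α.toMonoidHom).comp (Subgroup.inclusion hR.1) ∈ D.Hom R →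
      Nat.card S - Nat.card R ≤ n → α ∈ D.autGroup S from H _ R hR hres le_rfl
  intro n
  induction n using Nat.strong_induction_on with
  | _ n ih =>
  intro R hR hres hn
  rcases eq_or_lt_of_le hR.1 with rfl | hlt
  · exact (mem_autGroup_iff D le_rfl).2 (mem_of_eq rfl hres fun x => rfl)
  have hN := lt_normalizerIn hS hlt
  have := finite_of_le (normalizerIn_le (S := S) R)
  have hc : Nat.card R < Nat.card (normalizerIn S R) :=
    lt_of_not_ge fun h => hN.ne (Subgroup.eq_of_le_of_card_ge hN.le h)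
  have hc2 : Nat.card (normalizerIn S R) ≤ Nat.card S :=
    Subgroup.card_le_of_le (normalizerIn_le R)
  have hαF := (mem_autGroup_iff F le_rfl).1 hα
  have hR2 : F.IsCentric (normalizerIn S R) := isCentric_of_le hN.le (normalizerIn_le R) hR
  refine ih (Nat.card S - Nat.card (normalizerIn S R)) (by omega) (normalizerIn S R) hR2 ?_ le_rfl
  set R' := ((S.subtype.comp α.toMonoidHom).comp (Subgroup.inclusion hR.1)).range with hR'
  obtain ⟨e, he, hee⟩ : ∃ e : R ≃* R', IsIso D e ∧ ∀ x : R, (e x : Ω) =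
      (S.subtype.comp α.toMonoidHom).comp (Subgroup.inclusion hR.1) x := exists_iso_of_mem hres
  have hDc : D.IsCentric R' := isCentric_of_isSubsystemOf hD
    (isCentric_of_isConj_centric hR ⟨_, hD R hres, rfl⟩)
  have hM : normalizerIn S R ≤ extender S R (R'.subtype.comp e.toMonoidHom) := by
    intro g hg
    refine mem_extender_iff.2 ⟨hg.1, hg.2, (α ⟨g, hg.1⟩ : S), (α ⟨g, hg.1⟩).2, fun x => ?_⟩
    change (e (normAut g hg.2 x) : Ω) = ((α ⟨g, hg.1⟩ : S) : Ω) * e x * ((α ⟨g, hg.1⟩ : S) : Ω)⁻¹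
    rw [hee, hee]
    change ((α (Subgroup.inclusion hR.1 (normAut g hg.2 x)) : S) : Ω) = _
    rw [show Subgroup.inclusion hR.1 (normAut g hg.2 x) =
      ⟨g, hg.1⟩ * Subgroup.inclusion hR.1 x * (⟨g, hg.1⟩ : S)⁻¹ from Subtype.ext (by simp)]
    simp
  obtain ⟨ψ, hψ, hψe⟩ := exists_extension (receptive_of_isCentric hS hDs hDc) he hN.le hM
  obtain ⟨z, hzR, -, hz⟩ := eq_comp_conj hS hF hN.le hR (hD _ hψ)
    (res_mem F hαF (normalizerIn_le R)) (fun x hx => by
      have h1 := hψe ⟨x, hx⟩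
      rw [hee] at h1
      exact h1)
  obtain ⟨eψ, heψ, heψe⟩ := exists_iso_of_mem hψ
  have hc : IsIso D (MulAut.conj z : normalizerIn S R ≃* normalizerIn S R) :=
    isIso_of_mem (D.conj_mem (normalizerIn_le R) z.2.1) fun x => by simp
  exact mem_of_eq rfl (hc.trans heψ) fun x => (hz x).trans (heψe _).symm

/-- The residual system is the least saturated subsystem of index prime to `p`. -/
theorem isPPrimeResidual_pPrimeResidualSys (hS : IsPGroup p S) (hF : F.IsSaturated p) :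
    F.IsPPrimeResidual p (pPrimeResidualSys F p) := by
  refine ⟨isSaturated_pPrimeResidualSys hS hF, (index_prime_to_of_centric_pElements hS hF
    pPrimeResidualSys_le containsCentricPElements_residual).1, fun D hDs hD P φ hφ => ?_⟩
  have hDc : ContainsCentricPElements D F p := fun R hR β hβ hk =>
    hD.2 R hR.1 ⟨⟨β, hβ⟩, Subgroup.subset_closure (by
      change ∃ k : ℕ, orderOf (⟨β, hβ⟩ : F.autGroup R) = p ^ k
      rwa [Subgroup.orderOf_mk]), rfl⟩
  obtain ⟨-, α, hα, φ₀, hφ₀, he⟩ := hφ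
  have hαD : α ∈ D.autGroup S := by
    refine (Subgroup.closure_le _).2 ?_ hα
    rintro a ⟨ha, R, hRS, hRc, hres⟩
    exact mem_autGroup_of_restrict_centric hS hF hDs hD.1 ha hRc hRS (hres.2 D hDc)
  exact mem_of_eq rfl (D.comp_mem (hφ₀.2 D hDc) ((mem_autGroup_iff D le_rfl).1 hαD)
    fun x => apply_mem_S _ hφ₀ x) fun x => he x _

end CfsgLib.Fusion
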