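import Cfsg.Agent.Lib.Fusion.Extender
import Cfsg.Agent.Lib.Fusion.Normal
import Cfsg.Agent.Lib.Fusion.Invariant

set_option autoImplicit false

open Cfsg Cfsg.FusionSystem

namespace CfsgLib.Fusion

variable {Ω : Type*} [Group Ω] {S T : Subgroup Ω} [Finite S] {p : ℕ} [Fact p.Prime]
  {F : FusionSystem S} {E : FusionSystem T}

/-- Being fully centralized passes to subsystems on strongly closed subgroups. -/
theorem fullyCentralized_of_stronglyClosed (hS : IsPGroup p S) (hF : F.IsSaturated p)
    (hT : F.StronglyClosed T) (hsub : E.IsSubsystemOf F) {Q : Subgroup Ω} (hQT : Q ≤ T)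
    (hQ : F.IsFullyCentralized Q) : E.IsFullyCentralized Q := by
  refine ⟨hQT, fun R hR => ?_⟩
  obtain ⟨e, he⟩ := isConj_iff.1 (isConj_symm (isConj_of_isSubsystemOf hsub hR))
  let M := R ⊔ centralizerIn S R
  have hM : M ≤ extender S R (Q.subtype.comp e.toMonoidHom) :=
    sup_le (le_extender he) (centralizerIn_le_extender _ _)
  obtain ⟨ψ, hψ, hψe⟩ :=
    exists_extension (receptive_of_fullyCentralized hS hF hQ) he le_sup_left hM
  have hle : centralizerIn T R ≤ centralizerIn S R := inf_le_inf_right _ hT.1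
  have : Finite T := finite_of_le hT.1
  have : Finite (centralizerIn T Q) := finite_of_le (centralizerIn_le Q)
  have hc : ∀ c : centralizerIn T R,
      ψ ⟨c, le_sup_right (a := R) (hle c.2)⟩ ∈ centralizerIn T Q := fun c =>
    ⟨hT.2 (centralizerIn T R) (centralizerIn_le R) _
        (res_mem F hψ (hle.trans le_sup_right)) c,
      (apply_mem_centralizerIn hψ le_sup_left hψe (c := ⟨c, le_sup_right (a := R) (hle c.2)⟩)
        (hle c.2)).2⟩
  refine Nat.card_le_card_of_injective
    (fun c : centralizerIn T R => (⟨_, hc c⟩ : centralizerIn T Q)) ?_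
  intro a b hab
  have := F.injective_of_mem hψ (congrArg Subtype.val hab)
  exact Subtype.ext (congrArg Subtype.val this :)

/-- Being fully normalized passes to subsystems on strongly closed subgroups. -/
theorem fullyNormalized_of_stronglyClosed (hS : IsPGroup p S) (hF : F.IsSaturated p)
    (hT : F.StronglyClosed T) (hsub : E.IsSubsystemOf F) {Q : Subgroup Ω} (hQT : Q ≤ T)
    (hQ : F.IsFullyNormalized Q) : E.IsFullyNormalized Q := by
  refine ⟨hQT, fun R hR => ?_⟩
  obtain ⟨e, h, he, ψ, hψ, hψe, hψN⟩ := exists_hom_normalizerIn_of_fullyNormalized hS hF hQ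
    (isConj_symm (isConj_of_isSubsystemOf hsub hR))
  have hle : normalizerIn T R ≤ normalizerIn S R := inf_le_inf_right _ hT.1
  have : Finite T := finite_of_le hT.1
  have : Finite (normalizerIn T Q) := finite_of_le (normalizerIn_le Q)
  have hc : ∀ c : normalizerIn T R, ψ ⟨c, hle c.2⟩ ∈ normalizerIn T Q := fun c =>
    ⟨hT.2 (normalizerIn T R) (normalizerIn_le R) _ (res_mem F hψ hle) c, (hψN _).2⟩
  refine Nat.card_le_card_of_injective
    (fun c : normalizerIn T R => (⟨_, hc c⟩ : normalizerIn T Q)) ?_
  intro a b hab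
  have := F.injective_of_mem hψ (congrArg Subtype.val hab)
  exact Subtype.ext (congrArg Subtype.val this :)

end CfsgLib.Fusion
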