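import Cfsg.Agent.Lib.Fusion.ResidualExtClimb
import Cfsg.Agent.Lib.Fusion.PPrimeResidual
import Cfsg.Agent.Lib.Fusion.StronglyClosedSub
import Cfsg.Agent.Lib.Fusion.SylowTools

/-!
# The residual of a weakly normal subsystem is normal
-/

set_option autoImplicit false

open Cfsg Cfsg.FusionSystem

namespace CfsgLib.Fusion

variable {Ω : Type*} [Group Ω] {S T : Subgroup Ω} [Finite S] {F : FusionSystem S}
  {E D : FusionSystem T} {p : ℕ} [Fact p.Prime]

/-- The automorphisms of `T` with an extension trivial on `C_S(T)` modulo `T`. -/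
def HasTrivialExt (F : FusionSystem S) (α : MulAut T) : Prop :=
  ∃ β ∈ F.autGroup (T ⊔ centralizerIn S T),
    (∀ x : T, ((β (Subgroup.inclusion le_sup_left x) : ↥(T ⊔ centralizerIn S T)) : Ω) =
      ((α x : T) : Ω)) ∧
    ∀ c : ↥(T ⊔ centralizerIn S T), (c : Ω) ∈ centralizerIn S T →
      (c : Ω)⁻¹ * ((β c : ↥(T ⊔ centralizerIn S T)) : Ω) ∈ T

/-- An automorphism of `T` in `F` extends to `T C_S(T)`. -/
theorem exists_aut_extension (hS : IsPGroup p S) (hF : F.IsSaturated p) (hT : F.StronglyClosed T)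
    {a : MulAut T} (ha : a ∈ F.autGroup T) :
    ∃ β ∈ F.autGroup (T ⊔ centralizerIn S T),
      ∀ x : T, ((β (Subgroup.inclusion le_sup_left x) : ↥(T ⊔ centralizerIn S T)) : Ω) =
        ((a x : T) : Ω) := by
  have hTS := hT.1
  have := finite_of_le hTS
  have hTn : F.IsFullyNormalized T := ⟨hTS, fun Q hQ => by
    obtain ⟨φ, hφ, rfl⟩ := hQ
    rw [(weaklyClosed_of_stronglyClosed hT).2 φ hφ]⟩
  have hMS : T ⊔ centralizerIn S T ≤ S := sup_le hTS (centralizerIn_le T)
  have := finite_of_le hMS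
  have haF := (mem_autGroup_iff F hTS).1 ha
  obtain ⟨ψ, hψ, hψe⟩ := exists_extension
    (fullyAutomized_receptive_of_fullyNormalized hS hF hTn).2 haF le_sup_left
    (sup_le (le_extender haF) (centralizerIn_le_extender _ _))
  obtain ⟨β, hβ, hβe⟩ := exists_iso_of_range hψ
    ((weaklyClosed_of_stronglyClosed (stronglyClosed_sup_centralizerIn hS hF hT)).2 ψ hψ)
  exact ⟨β, (mem_autGroup_iff F hMS).2 hβ, fun x => (hβe _).trans (hψe x)⟩

theorem apply_mem_centralizerIn_of_ext {a : MulAut T} {β : MulAut ↥(T ⊔ centralizerIn S T)}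
    (hTS : T ≤ S)
    (hβ : ∀ x : T, ((β (Subgroup.inclusion le_sup_left x) : ↥(T ⊔ centralizerIn S T)) : Ω) =
      ((a x : T) : Ω))
    {c : ↥(T ⊔ centralizerIn S T)} (hc : (c : Ω) ∈ centralizerIn S T) :
    ((β c : ↥(T ⊔ centralizerIn S T)) : Ω) ∈ centralizerIn S T := by
  refine ⟨sup_le hTS (centralizerIn_le T) (β c).2, fun y hy => ?_⟩
  obtain ⟨x, hx⟩ := a.surjective ⟨y, hy⟩
  have h1 : Subgroup.inclusion le_sup_left x * c = c * Subgroup.inclusion le_sup_left x :=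
    Subtype.ext (hc.2 x x.2)
  have h2 := congrArg (fun t => ((β t : ↥(T ⊔ centralizerIn S T)) : Ω)) h1
  simp only [map_mul, Subgroup.coe_mul, hβ, hx] at h2
  exact h2

/-- They form a subgroup. -/
def trivialExtAut (hTS : T ≤ S) : Subgroup (MulAut T) where
  carrier := {α | α ∈ F.autGroup T ∧ HasTrivialExt F α}
  one_mem' := ⟨one_mem _, 1, one_mem _, fun _ => rfl, fun c _ => by simp⟩
  mul_mem' := by
    rintro a b ⟨ha, β, hβ, hβT, hβC⟩ ⟨hb, γ, hγ, hγT, hγC⟩
    refine ⟨mul_mem ha hb, β * γ, mul_mem hβ hγ, fun x => ?_, fun c hc => ?_⟩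
    · rw [MulAut.mul_apply, show γ (Subgroup.inclusion le_sup_left x) =
        Subgroup.inclusion le_sup_left (b x) from Subtype.ext (hγT x), hβT, MulAut.mul_apply]
    · have h2 := apply_mem_centralizerIn_of_ext hTS hγT hc
      have h3 := T.mul_mem (hγC c hc) (hβC (γ c) h2)
      rw [mul_assoc, mul_inv_cancel_left] at h3
      exact h3
  inv_mem' := by
    rintro a ⟨ha, β, hβ, hβT, hβC⟩
    have hT' : ∀ x : T, ((β⁻¹ (Subgroup.inclusion le_sup_left x) : ↥(T ⊔ centralizerIn S T)) : Ω) =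
        ((a⁻¹ x : T) : Ω) := fun x => by
      have h1 : β (Subgroup.inclusion le_sup_left (a⁻¹ x)) = Subgroup.inclusion le_sup_left x :=
        Subtype.ext (by rw [hβT, MulAut.apply_inv_self]; rfl)
      rw [← h1, MulAut.inv_apply_self]
      rfl
    refine ⟨inv_mem ha, β⁻¹, inv_mem hβ, hT', fun c hc => ?_⟩
    have h2 := T.inv_mem (hβC _ (apply_mem_centralizerIn_of_ext hTS hT' hc))
    rwa [MulAut.apply_inv_self, mul_inv_rev, inv_inv] at h2

theorem conj_mem_trivialExtAut (hS : IsPGroup p S) (hF : F.IsSaturated p) (hT : F.StronglyClosed T)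
    {a b : MulAut T} (ha : a ∈ trivialExtAut (F := F) hT.1) (hb : b ∈ F.autGroup T) :
    b * a * b⁻¹ ∈ trivialExtAut (F := F) hT.1 := by
  obtain ⟨ha0, β, hβ, hβT, hβC⟩ := ha
  obtain ⟨γ, hγ, hγT⟩ := exists_aut_extension hS hF hT hb
  have hγT' : ∀ x : T, ((γ⁻¹ (Subgroup.inclusion le_sup_left x) : ↥(T ⊔ centralizerIn S T)) : Ω) =
      ((b⁻¹ x : T) : Ω) := fun x => by
    have h1 : γ (Subgroup.inclusion le_sup_left (b⁻¹ x)) = Subgroup.inclusion le_sup_left x :=
      Subtype.ext (by rw [hγT, MulAut.apply_inv_self]; rfl)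
    rw [← h1, MulAut.inv_apply_self]
    rfl
  refine ⟨mul_mem (mul_mem hb ha0) (inv_mem hb), γ * β * γ⁻¹,
    mul_mem (mul_mem hγ hβ) (inv_mem hγ), fun x => ?_, fun c hc => ?_⟩
  · simp only [MulAut.mul_apply]
    rw [show γ⁻¹ (Subgroup.inclusion le_sup_left x) = Subgroup.inclusion le_sup_left (b⁻¹ x) from
      Subtype.ext (hγT' x), show β (Subgroup.inclusion le_sup_left (b⁻¹ x)) =
      Subgroup.inclusion le_sup_left (a (b⁻¹ x)) from Subtype.ext (hβT _), hγT]
  · simp only [MulAut.mul_apply]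
    set w := γ⁻¹ c with hw
    have h1 := hβC w (apply_mem_centralizerIn_of_ext hT.1 hγT' hc)
    set z : T := ⟨_, h1⟩ with hz
    have h2 : γ (β w) = c * Subgroup.inclusion le_sup_left (b z) := by
      have h4 : β w = w * Subgroup.inclusion le_sup_left z :=
        Subtype.ext (mul_inv_cancel_left (w : Ω) _).symm
      rw [h4, map_mul, hw, MulAut.apply_inv_self]
      exact congrArg (c * ·) (Subtype.ext (hγT z))
    rw [h2]
    simp

/-- Conjugates of automorphisms of `E` by isomorphisms of `F`. -/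
theorem congr_mem_of_conjClosed (hsub : E.IsSubsystemOf F) (hcc : ConjClosed E F)
    {P Q : Subgroup Ω} {f : P ≃* Q} (hf : IsIso F f) (hP : P ≤ T) (hQ : Q ≤ T) {a : MulAut P}
    (ha : a ∈ E.autGroup P) : MulAut.congr f a ∈ E.autGroup Q := by
  obtain ⟨χ, hχ, hχe⟩ := hcc P P le_rfl hP _ ((mem_autGroup_iff E hP).1 ha) (fun x => (a x).2) _ hf
  have hr : (P.subgroupOf P).map (Q.subtype.comp f.toMonoidHom) = Q :=
    (img_self _).trans (range_subtype_comp f)
  refine (mem_autGroup_iff E hQ).2 (mem_of_eq hr hχ ?_)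
  rintro ⟨_, y, hy, rfl⟩
  refine Eq.trans ?_ (hχe y _).symm
  change ((f (a (f.symm (f y))) : Q) : Ω) = _
  rw [MulEquiv.symm_apply_apply]
  rfl

/-- The maps on centric subgroups with an extension trivial on `C_S(T)` modulo `T`. -/
def HasTrivialExtHom (F : FusionSystem S) {T : Subgroup Ω} (_E : FusionSystem T) {P : Subgroup Ω}
    (φ : P →* Ω) : Prop :=
  ∃ ψ ∈ F.Hom (P ⊔ centralizerIn S T), (∀ x : P, ψ (Subgroup.inclusion le_sup_left x) = φ x) ∧
    ∀ (c : Ω) (hc : c ∈ centralizerIn S T), c⁻¹ * ψ ⟨c, le_sup_right (a := P) hc⟩ ∈ T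

theorem centralizer_inf_mem {R : Subgroup Ω} (hR : IsCentricRelTo F T R) (hRS : R ≤ S)
    {z : Ω} (hz : z ∈ T) (h : ∀ r ∈ R, r * z = z * r) : z ∈ R :=
  hR.2 R (isConj_refl hRS) ⟨hz, h⟩

/-- The image of the extension. -/
theorem apply_mem_sup_of_trivialExt (hE : E.IsInvariantIn F) {P : Subgroup Ω}
    (hP : E.IsCentric P) {φ : P →* Ω} (hφ : φ ∈ E.Hom P)
    {ψ : ↥(P ⊔ centralizerIn S T) →* Ω}
    (hψe : ∀ x : P, ψ (Subgroup.inclusion le_sup_left x) = φ x)
    (hψc : ∀ (c : Ω) (hc : c ∈ centralizerIn S T),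
      c⁻¹ * ψ ⟨c, le_sup_right (a := P) hc⟩ ∈ T) :
    ψ.range ≤ φ.range ⊔ centralizerIn S T := by
  have hTS : T ≤ S := hE.2.1.1
  have hφc : IsCentricRelTo F T φ.range := (isCentricRelTo_of_isCentric hE hP).of_isConj hE.2.1
    ⟨φ, hE.1 P hφ, rfl⟩
  rintro _ ⟨x, rfl⟩
  have hle : P ⊔ centralizerIn S T ≤
      ((φ.range ⊔ centralizerIn S T).comap ψ).map (P ⊔ centralizerIn S T).subtype := by
    refine sup_le (fun y hy => ⟨⟨y, le_sup_left (b := centralizerIn S T) hy⟩, ?_, rfl⟩)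
      fun c hc => ⟨⟨c, le_sup_right (a := P) hc⟩, ?_, rfl⟩
    · exact le_sup_left (b := centralizerIn S T) ⟨⟨y, hy⟩, (hψe ⟨y, hy⟩).symm⟩
    · have hz : c⁻¹ * ψ ⟨c, le_sup_right (a := P) hc⟩ ∈ φ.range := by
        refine centralizer_inf_mem hφc ((range_le_S E hφ).trans hTS) (hψc c hc) ?_
        rintro _ ⟨y, rfl⟩
        have hy : φ y ∈ T := apply_mem_S E hφ y
        have h1 : ψ (Subgroup.inclusion le_sup_left y * ⟨c, le_sup_right (a := P) hc⟩) =
            ψ (⟨c, le_sup_right (a := P) hc⟩ * Subgroup.inclusion le_sup_left y) :=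
          congrArg ψ (Subtype.ext (hc.2 y (hP.1 y.2)))
        rw [map_mul, map_mul, hψe] at h1
        have h2 : φ y * c⁻¹ = c⁻¹ * φ y := by
          rw [eq_inv_mul_iff_mul_eq, ← mul_assoc, ← hc.2 _ hy, mul_inv_cancel_right]
        rw [← mul_assoc, h2, mul_assoc, h1, mul_assoc]
      have := Subgroup.mul_mem_sup (S := φ.range) (T := centralizerIn S T) hz hc
      have h5 := Subgroup.mul_mem (φ.range ⊔ centralizerIn S T)
        (le_sup_right (a := φ.range) hc) (le_sup_left (b := centralizerIn S T) hz)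
      rwa [mul_inv_cancel_left] at h5
  obtain ⟨x', hx', hxe⟩ := hle x.2
  rwa [show x = x' from Subtype.ext hxe.symm]

/-- The maps of `E` with trivial extensions on the centric subgroups. -/
def trivialExtSys (hE : E.IsInvariantIn F) : FusionSystem T where
  Hom P := {φ | φ ∈ E.Hom P ∧ (E.IsCentric P → HasTrivialExtHom F E φ)}
  le_of_mem h := E.le_of_mem h.1
  injective_of_mem h := E.injective_of_mem h.1
  conj_mem := fun {P g} hP hg => by
    have hTS : T ≤ S := hE.2.1.1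
    refine ⟨E.conj_mem hP hg, fun _ => ⟨conjHom _ g, F.conj_mem (sup_le (hP.trans hTS)
      (centralizerIn_le T)) (hTS hg), fun x => rfl, fun c hc => ?_⟩⟩
    change c⁻¹ * (g * c * g⁻¹) ∈ T
    rw [hc.2 g hg, mul_inv_cancel_right, inv_mul_cancel]
    exact T.one_mem
  comp_mem := by
    rintro P Q φ θ ⟨hφ, hφg⟩ ⟨hθ, hθg⟩ h
    refine ⟨E.comp_mem hφ hθ h, fun hPc => ?_⟩
    have hrc : E.IsCentric φ.range := ⟨range_le_S E hφ, fun R hR =>
      hPc.2 R (isConj_trans ⟨φ, hφ, rfl⟩ hR)⟩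
    have hφQ : φ.range ≤ Q := by rintro _ ⟨x, rfl⟩; exact h x
    obtain ⟨ψ₁, hψ₁, hψ₁e, hψ₁c⟩ := hφg hPc
    obtain ⟨ψ₂, hψ₂, hψ₂e, hψ₂c⟩ := hθg (isCentric_of_le hφQ (le_S E hθ) hrc)
    have hv : ∀ x, ψ₁ x ∈ Q ⊔ centralizerIn S T := fun x => sup_le_sup_right hφQ _
      (apply_mem_sup_of_trivialExt hE hPc hφ hψ₁e hψ₁c ⟨x, rfl⟩)
    refine ⟨ψ₂.comp (ψ₁.codRestrict _ hv), F.comp_mem hψ₁ hψ₂ hv, fun x => ?_, fun c hc => ?_⟩
    · change ψ₂ ⟨ψ₁ (Subgroup.inclusion le_sup_left x), _⟩ = θ ⟨φ x, h x⟩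
      rw [← hψ₂e]
      exact congrArg ψ₂ (Subtype.ext (hψ₁e x))
    · set z := c⁻¹ * ψ₁ ⟨c, le_sup_right (a := P) hc⟩ with hz
      have hzQ : z ∈ Q ⊔ centralizerIn S T := Subgroup.mul_mem _
        (Subgroup.inv_mem _ (le_sup_right (a := Q) hc)) (hv _)
      have h1 : ψ₁.codRestrict _ hv ⟨c, le_sup_right (a := P) hc⟩ =
          ⟨c, le_sup_right (a := Q) hc⟩ * ⟨z, hzQ⟩ := Subtype.ext (by simp [hz])
      rw [MonoidHom.comp_apply, h1, map_mul, ← mul_assoc]
      refine T.mul_mem (hψ₂c c hc) (hE.2.1.2 _ inf_le_right _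
        (res_mem F hψ₂ (inf_le_left : (Q ⊔ centralizerIn S T) ⊓ T ≤ _))
        ⟨z, hzQ, hψ₁c c hc⟩)
  inv_mem := by
    rintro P φ ⟨hφ, hφg⟩
    obtain ⟨θ, hθ, hθe⟩ := E.inv_mem hφ
    refine ⟨θ, ⟨hθ, fun hrc => ?_⟩, hθe⟩
    have hPc : E.IsCentric P := ⟨le_S E hφ, fun R hR =>
      hrc.2 R (isConj_trans (isConj_symm ⟨φ, hφ, rfl⟩) hR)⟩
    obtain ⟨ψ, hψ, hψe, hψc⟩ := hφg hPc
    obtain ⟨ω, hω, hωe⟩ := F.inv_mem hψ
    have hle : φ.range ⊔ centralizerIn S T ≤ ψ.range := by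
      have h1 : φ.range ≤ ψ.range := by rintro _ ⟨x, rfl⟩; exact ⟨_, hψe x⟩
      refine sup_le h1 fun c hc => ?_
      have hzr : c⁻¹ * ψ ⟨c, le_sup_right (a := P) hc⟩ ∈ φ.range := by
        have h2 := apply_mem_sup_of_trivialExt hE hPc hφ hψe hψc
          (show ψ ⟨c, le_sup_right (a := P) hc⟩ ∈ ψ.range from ⟨_, rfl⟩)
        refine centralizer_inf_mem ((isCentricRelTo_of_isCentric hE hPc).of_isConj hE.2.1
          ⟨φ, hE.1 P hφ, rfl⟩) ((range_le_S E hφ).trans hE.2.1.1) (hψc c hc) ?_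
        rintro _ ⟨y, rfl⟩
        have h3 : ψ (Subgroup.inclusion le_sup_left y * ⟨c, le_sup_right (a := P) hc⟩) =
            ψ (⟨c, le_sup_right (a := P) hc⟩ * Subgroup.inclusion le_sup_left y) :=
          congrArg ψ (Subtype.ext (hc.2 y (hPc.1 y.2)))
        rw [map_mul, map_mul, hψe] at h3
        have h4 : φ y * c⁻¹ = c⁻¹ * φ y := by
          rw [eq_inv_mul_iff_mul_eq, ← mul_assoc, ← hc.2 _ (apply_mem_S E hφ y),
            mul_inv_cancel_right]
        rw [← mul_assoc, h4, mul_assoc, h3, mul_assoc]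
      have h6 := ψ.range.mul_mem (⟨_, rfl⟩ : ψ ⟨c, le_sup_right (a := P) hc⟩ ∈ ψ.range)
        (ψ.range.inv_mem (h1 hzr))
      rwa [mul_inv_rev, inv_inv, mul_inv_cancel_left] at h6
    refine ⟨ω.comp (Subgroup.inclusion hle), res_mem F hω hle, ?_, fun c hc => ?_⟩
    · rintro ⟨_, x, rfl⟩
      rw [hθe]
      refine Eq.trans ?_ (hωe (Subgroup.inclusion le_sup_left x))
      exact congrArg ω (Subtype.ext (hψe x).symm)
    · -- `ω c = c ω(z)⁻¹`
      set z := c⁻¹ * ψ ⟨c, le_sup_right (a := P) hc⟩ with hz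
      obtain ⟨y, hy⟩ := apply_mem_sup_of_trivialExt hE hPc hφ hψe hψc |>.trans hle
        (show ψ ⟨c, le_sup_right (a := P) hc⟩ ∈ ψ.range from ⟨_, rfl⟩)
      have hzψ : z ∈ ψ.range := ψ.range.mul_mem (ψ.range.inv_mem
        (hle (le_sup_right (a := φ.range) hc))) ⟨_, rfl⟩
      have h1 : (⟨ψ ⟨c, le_sup_right (a := P) hc⟩, _, rfl⟩ : ψ.range) =
          ⟨c, hle (le_sup_right (a := φ.range) hc)⟩ * ⟨z, hzψ⟩ := Subtype.ext (by simp [hz])
      have h2 := (congrArg ω h1).symm.trans (hωe _)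
      rw [map_mul] at h2
      have h3 : ω ⟨z, hzψ⟩ ∈ T := hE.2.1.2 _ inf_le_right _
        (res_mem F hω (inf_le_left : ψ.range ⊓ T ≤ _)) ⟨z, hzψ, hψc c hc⟩
      change c⁻¹ * ω ⟨c, _⟩ ∈ T
      rw [show ω ⟨c, hle (le_sup_right (a := φ.range) hc)⟩ = c * (ω ⟨z, hzψ⟩)⁻¹ from
        eq_mul_inv_of_mul_eq h2, inv_mul_cancel_left]
      exact T.inv_mem h3

/-- Automorphisms of `p`-power order of centric subgroups have trivial extensions. -/
theorem hasTrivialExtHom_of_pElement (hS : IsPGroup p S) (hF : F.IsSaturated p)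
    (hEs : E.IsSaturated p) (hE : E.IsInvariantIn F) {P : Subgroup Ω} (hP : E.IsCentric P)
    {a : MulAut P} (ha : a ∈ E.autGroup P) {k : ℕ} (hk : a ^ p ^ k = 1) :
    HasTrivialExtHom F E (P.subtype.comp a.toMonoidHom) := by
  have hT := hE.2.1
  have hTS := hT.1
  have := finite_of_le hTS
  have hTp := hS.to_le hTS
  have hPS := hP.1.trans hTS
  obtain ⟨R, hPR, hRn⟩ := exists_fullyNormalized F hPS
  obtain ⟨g, hl, hg, ψ, hψ, hψg, -⟩ := exists_hom_normalizerIn_of_fullyNormalized hS hF hRn hPR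
  have hRT : R ≤ T := by
    obtain ⟨φ, hφ, rfl⟩ := hPR
    rintro _ ⟨x, rfl⟩
    exact hT.2 P hP.1 φ hφ x
  have hRc : IsCentricRelTo F T R := (isCentricRelTo_of_isCentric hE hP).of_isConj hT hPR
  have hRS := hRn.1
  have := finite_of_le hRS
  have ha' : MulAut.congr g a ∈ E.autGroup R :=
    congr_mem_of_conjClosed hE.1 (conjClosed_of_isInvariantIn hE) hg hP.1 hRT ha
  have hREn := fullyNormalized_of_stronglyClosed hS hF hT hE.1 hRT hRn
  obtain ⟨-, hi⟩ := (isFullyAutomized_iff hTp).1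
    (fullyAutomized_receptive_of_fullyNormalized hTp hEs hREn).1
  have hpz : IsPGroup p (Subgroup.zpowers (MulAut.congr g a)) := by
    obtain ⟨j, -, hj⟩ := (Nat.dvd_prime_pow Fact.out).1 (orderOf_dvd_of_pow_eq_one
      (show MulAut.congr g a ^ p ^ k = 1 by rw [← map_pow, hk, map_one]))
    exact IsPGroup.of_card (n := j) (by rw [Nat.card_zpowers, hj])
  obtain ⟨b, hb, hbz⟩ := exists_conj_mem_of_le hpz (isPGroup_autInducedBy hTp R)
    (Subgroup.zpowers_le.2 ha') (autInducedBy_le_autGroup hRT) hi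
  obtain ⟨t, ht, hte⟩ := mem_autInducedBy_iff.1 (hbz _ (Subgroup.mem_zpowers _))
  -- extend `b`
  set Y := R ⊔ centralizerIn S R with hY
  have hYS : Y ≤ S := sup_le hRS (centralizerIn_le R)
  have := finite_of_le hYS
  have hbF := (mem_autGroup_iff F hRS).1 (autGroup_mono hE.1 R hb)
  obtain ⟨θ, hθ, hθe⟩ := exists_extension (fullyAutomized_receptive_of_fullyNormalized hS hF hRn).2
    hbF le_sup_left (sup_le (le_extender hbF) (centralizerIn_le_extender _ _) : Y ≤ _)
  have hθC : ∀ (c : Ω) (hc : c ∈ centralizerIn S R),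
      θ ⟨c, le_sup_right (a := R) hc⟩ ∈ centralizerIn S R := fun c hc =>
    apply_mem_centralizerIn (c := ⟨c, le_sup_right (a := R) hc⟩) hθ le_sup_left hθe hc
  have hθY : θ.range ≤ Y := by
    rintro _ ⟨x, rfl⟩
    have hle : Y ≤ (Y.comap θ).map Y.subtype :=
      sup_le (fun y hy => ⟨⟨y, le_sup_left (b := centralizerIn S R) hy⟩, by
        change θ _ ∈ Y
        rw [show (⟨y, le_sup_left (b := centralizerIn S R) hy⟩ : Y) =
          Subgroup.inclusion le_sup_left ⟨y, hy⟩ from rfl, hθe]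
        exact le_sup_left (b := centralizerIn S R) (b ⟨y, hy⟩).2, rfl⟩)
        fun c hc => ⟨⟨c, le_sup_right (a := R) hc⟩, le_sup_right (a := R) (hθC c hc), rfl⟩
    obtain ⟨x', hx', hxe⟩ := hle x.2
    rwa [show x = x' from Subtype.ext hxe.symm]
  obtain ⟨β, hβ, hβe⟩ := exists_iso_of_range hθ (Subgroup.eq_of_le_of_card_ge hθY
    (Nat.card_congr (MonoidHom.ofInjective (F.injective_of_mem hθ)).toEquiv).le)
  have htS := hTS ht
  have htY : t ∈ Subgroup.normalizer (Y : Set Ω) := by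
    refine mem_normalizer_of_forall fun y hy => ?_
    have hle : Y ≤ Y.comap (MulAut.conj t).toMonoidHom := by
      refine sup_le (fun r hr => le_sup_left (b := centralizerIn S R) ?_)
        fun c hc => le_sup_right (a := R) ⟨S.mul_mem (S.mul_mem htS hc.1) (S.inv_mem htS), ?_⟩
      · change t * r * t⁻¹ ∈ R
        rw [← hte ⟨r, hr⟩]
        exact ((b * MulAut.congr g a * b⁻¹) ⟨r, hr⟩).2
      · intro r hr
        obtain ⟨u, hu⟩ := (b * MulAut.congr g a * b⁻¹).surjective ⟨r, hr⟩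
        have hre : r = t * u * t⁻¹ := by rw [← hte u, hu]
        change r * (t * c * t⁻¹) = t * c * t⁻¹ * r
        rw [hre, show t * (u : Ω) * t⁻¹ * (t * c * t⁻¹) = t * ((u : Ω) * c) * t⁻¹ by group,
          hc.2 u u.2]
        group
    exact hle hy
  set ω : MulAut Y := β⁻¹ * normAut t htY * β with hω
  have hωF : ω ∈ F.autGroup Y := by
    have h1 := (mem_autGroup_iff F hYS).2 hβ
    exact mul_mem (mul_mem (inv_mem h1)
      (autInducedBy_le_autGroup hYS (mem_autInducedBy_iff.2 ⟨t, htS, fun _ => rfl⟩))) h1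
  have hωR : ∀ x : R, ((ω (Subgroup.inclusion le_sup_left x) : Y) : Ω) =
      ((MulAut.congr g a x : R) : Ω) := by
    intro x
    rw [hω, MulAut.mul_apply, MulAut.mul_apply]
    have h1 : β (Subgroup.inclusion le_sup_left x) = Subgroup.inclusion le_sup_left (b x) :=
      Subtype.ext ((hβe _).trans (hθe x))
    rw [h1]
    have h2 : normAut t htY (Subgroup.inclusion le_sup_left (b x)) =
        β (Subgroup.inclusion le_sup_left (MulAut.congr g a x)) := by
      refine Subtype.ext ?_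
      rw [normAut_apply]
      refine Eq.trans ?_ ((hβe _).trans (hθe _)).symm
      refine (hte (b x)).symm.trans ?_
      simp only [MulAut.mul_apply, MulAut.inv_apply_self]
    rw [h2, MulAut.inv_apply_self]
    rfl
  have hωC : ∀ (c : Ω) (hc : c ∈ centralizerIn S R),
      c⁻¹ * ((ω ⟨c, le_sup_right (a := R) hc⟩ : Y) : Ω) ∈ R := by
    intro c hc
    set w := β ⟨c, le_sup_right (a := R) hc⟩ with hw
    have hwC : (w : Ω) ∈ centralizerIn S R := (hβe ⟨c, le_sup_right (a := R) hc⟩) ▸ hθC c hc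
    have hz : (w : Ω)⁻¹ * (t * w * t⁻¹) ∈ R := by
      refine centralizer_inf_mem hRc hRS ?_ fun r hr => ?_
      · rw [show (w : Ω)⁻¹ * (t * w * t⁻¹) = ((w : Ω)⁻¹ * t * w) * t⁻¹ by group]
        refine T.mul_mem ?_ (T.inv_mem ht)
        simpa using conj_mem_of_mem_normalizer
          (mem_normalizer_of_stronglyClosed hT (S.inv_mem hwC.1)) ht
      · have h1 : t * (w : Ω) * t⁻¹ ∈ centralizerIn S R := by
          refine ⟨S.mul_mem (S.mul_mem htS hwC.1) (S.inv_mem htS), fun r hr => ?_⟩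
          obtain ⟨u, hu⟩ := (b * MulAut.congr g a * b⁻¹).surjective ⟨r, hr⟩
          rw [show r = t * u * t⁻¹ by rw [← hte u, hu],
            show t * (u : Ω) * t⁻¹ * (t * w * t⁻¹) = t * ((u : Ω) * w) * t⁻¹ by group,
            hwC.2 u u.2]
          group
        exact ((centralizerIn S R).mul_mem ((centralizerIn S R).inv_mem hwC) h1).2 r hr
    set z : R := ⟨_, hz⟩
    have h2 : normAut t htY w = w * Subgroup.inclusion le_sup_left z :=
      Subtype.ext (mul_inv_cancel_left (w : Ω) _).symm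
    have h3 : β (Subgroup.inclusion le_sup_left (b⁻¹ z)) = Subgroup.inclusion le_sup_left z :=
      Subtype.ext ((hβe _).trans ((hθe _).trans (by rw [MulAut.apply_inv_self]; rfl)))
    rw [hω, MulAut.mul_apply, MulAut.mul_apply, ← hw, h2, ← h3, map_mul, hw,
      MulAut.inv_apply_self, MulAut.inv_apply_self]
    simp
  -- pull back along `ψ`
  have hPC : P ⊔ centralizerIn S T ≤ normalizerIn S P := sup_le (fun x hx =>
    ⟨hPS hx, Subgroup.le_normalizer hx⟩) (fun c hc => centralizerIn_le_normalizerIn P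
      ⟨hc.1, fun x hx => hc.2 x (hP.1 hx)⟩)
  set f := ψ.comp (Subgroup.inclusion hPC) with hf
  have hfF : f ∈ F.Hom (P ⊔ centralizerIn S T) := res_mem F hψ hPC
  have hfP : ∀ x : P, f (Subgroup.inclusion le_sup_left x) = g x := fun x => hψg x
  have hfC : ∀ (c : Ω) (hc : c ∈ centralizerIn S T),
      f ⟨c, le_sup_right (a := P) hc⟩ ∈ centralizerIn S R := fun c hc =>
    apply_mem_centralizerIn (c := ⟨c, le_sup_right (a := P) hc⟩) hfF le_sup_left hfP
      ⟨hc.1, fun x hx => hc.2 x (hP.1 hx)⟩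
  have hfY : ∀ x, f x ∈ Y := by
    intro x
    have hle : P ⊔ centralizerIn S T ≤ (Y.comap f).map (P ⊔ centralizerIn S T).subtype :=
      sup_le (fun y hy => ⟨⟨y, le_sup_left (b := centralizerIn S T) hy⟩, by
        change f _ ∈ Y
        rw [show (⟨y, le_sup_left (b := centralizerIn S T) hy⟩ : ↥(P ⊔ centralizerIn S T)) =
          Subgroup.inclusion le_sup_left ⟨y, hy⟩ from rfl, hfP]
        exact le_sup_left (b := centralizerIn S R) (g ⟨y, hy⟩).2, rfl⟩)
        fun c hc => ⟨⟨c, le_sup_right (a := P) hc⟩, le_sup_right (a := R) (hfC c hc), rfl⟩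
    obtain ⟨x', hx', hxe⟩ := hle x.2
    rwa [show x = x' from Subtype.ext hxe.symm]
  set h := (Y.subtype.comp ω.toMonoidHom).comp (f.codRestrict Y hfY) with hh
  have hhF : h ∈ F.Hom (P ⊔ centralizerIn S T) :=
    F.comp_mem hfF ((mem_autGroup_iff F hYS).1 hωF) hfY
  have hRf : ∀ r ∈ R, r ∈ f.range := fun r hr => by
    obtain ⟨x, hx⟩ := g.surjective ⟨r, hr⟩
    exact ⟨_, (hfP x).trans (congrArg Subtype.val hx)⟩
  have hhP : ∀ x : P, h (Subgroup.inclusion le_sup_left x) = g (a x) := fun x => by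
    change ((ω ⟨f (Subgroup.inclusion le_sup_left x), _⟩ : Y) : Ω) = _
    rw [show (⟨f (Subgroup.inclusion le_sup_left x), hfY _⟩ : Y) =
      Subgroup.inclusion le_sup_left (g x) from Subtype.ext (hfP x), hωR]
    change ((g (a (g.symm (g x))) : R) : Ω) = _
    rw [MulEquiv.symm_apply_apply]
  have hhr : ∀ x, h x ∈ f.range := by
    intro x
    have hle : P ⊔ centralizerIn S T ≤ (f.range.comap h).map (P ⊔ centralizerIn S T).subtype :=
      sup_le (fun y hy => ⟨⟨y, le_sup_left (b := centralizerIn S T) hy⟩, by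
        change h _ ∈ f.range
        rw [show (⟨y, le_sup_left (b := centralizerIn S T) hy⟩ : ↥(P ⊔ centralizerIn S T)) =
          Subgroup.inclusion le_sup_left ⟨y, hy⟩ from rfl, hhP]
        exact hRf _ (g (a ⟨y, hy⟩)).2, rfl⟩)
        fun c hc => ⟨⟨c, le_sup_right (a := P) hc⟩, by
          have h1 := f.range.mul_mem (⟨_, rfl⟩ : f ⟨c, le_sup_right (a := P) hc⟩ ∈ f.range)
            (hRf _ (hωC _ (hfC c hc)))
          rw [mul_inv_cancel_left] at h1
          exact h1, rfl⟩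
    obtain ⟨x', hx', hxe⟩ := hle x.2
    rwa [show x = x' from Subtype.ext hxe.symm]
  obtain ⟨fi, hfi, hfie⟩ := F.inv_mem hfF
  refine ⟨fi.comp (h.codRestrict _ hhr), F.comp_mem hhF hfi hhr, fun x => ?_, fun c hc => ?_⟩
  · refine Eq.trans ?_ (hfie (Subgroup.inclusion le_sup_left (a x)))
    exact congrArg fi (Subtype.ext ((hhP x).trans (hfP _).symm))
  · obtain ⟨y, hy⟩ := g.surjective ⟨_, hωC _ (hfC c hc)⟩
    have h1 : h.codRestrict _ hhr ⟨c, le_sup_right (a := P) hc⟩ =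
        ⟨f ⟨c, le_sup_right (a := P) hc⟩, _, rfl⟩ * ⟨f (Subgroup.inclusion le_sup_left y), _, rfl⟩ :=
      Subtype.ext (by
        refine Eq.trans ?_ (congrArg (f ⟨c, le_sup_right (a := P) hc⟩ * ·)
          ((congrArg Subtype.val hy).symm.trans (hfP y).symm))
        exact (mul_inv_cancel_left _ _).symm)
    change c⁻¹ * fi (h.codRestrict _ hhr ⟨c, le_sup_right (a := P) hc⟩) ∈ T
    rw [h1, map_mul, hfie, hfie]
    simpa using hP.1 y.2

/-- The automorphisms of `T` in the residual have trivial extensions. -/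
theorem hasTrivialExt_of_mem_residual (hS : IsPGroup p S) (hF : F.IsSaturated p)
    (hEs : E.IsSaturated p) (hE : E.IsInvariantIn F) {α : MulAut T}
    (hα : α ∈ centricAutClosure E p) : α ∈ trivialExtAut (F := F) hE.2.1.1 := by
  have hT := hE.2.1
  have hTS := hT.1
  have := finite_of_le hTS
  have hTp := hS.to_le hTS
  set X := trivialExtAut (F := F) hTS with hX
  have hGD : (centricPElementSys E p).IsSubsystemOf (trivialExtSys hE) := by
    intro P φ hφ
    refine hφ.2 (trivialExtSys hE) fun R hR β hβ hk => ?_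
    obtain ⟨k, hk⟩ := hk
    exact (mem_autGroup_iff _ hR.1).2 ⟨(mem_autGroup_iff E hR.1).1 hβ, fun _ =>
      hasTrivialExtHom_of_pElement hS hF hEs hE hR hβ (k := k) (hk ▸ pow_orderOf_eq_one β)⟩
  have hI : autInducedBy T T ≤ X := by
    intro a ha
    obtain ⟨t, ht, hte⟩ := mem_autInducedBy_iff.1 ha
    have htn : t ∈ Subgroup.normalizer ((T ⊔ centralizerIn S T : Subgroup Ω) : Set Ω) :=
      le_normalizer_of_stronglyClosed (stronglyClosed_sup_centralizerIn hS hF hT) (hTS ht)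
    refine ⟨autGroup_mono hE.1 T (autInducedBy_le_autGroup le_rfl ha), normAut t htn,
      autInducedBy_le_autGroup (sup_le hTS (centralizerIn_le T))
        (mem_autInducedBy_iff.2 ⟨t, hTS ht, fun _ => rfl⟩), fun x => (hte x).symm, fun c hc => ?_⟩
    change (c : Ω)⁻¹ * (t * c * t⁻¹) ∈ T
    rw [hc.2 t ht, mul_inv_cancel_right, inv_mul_cancel]
    exact T.one_mem
  refine (Subgroup.closure_le X).2 ?_ hα
  rintro a ⟨ha, R, hRT, hRc, hres⟩
  have haF := autGroup_mono hE.1 T ha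
  obtain ⟨-, hext⟩ := hGD R hres
  obtain ⟨ψ, hψ, hψe, hψc⟩ := hext hRc
  set M := T ⊔ centralizerIn S T with hM
  obtain ⟨β, hβ, hβT⟩ : ∃ β ∈ F.autGroup M, ∀ x : T,
      ((β (Subgroup.inclusion le_sup_left x) : M) : Ω) = ((a x : T) : Ω) :=
    exists_aut_extension hS hF hT haF
  have hMS : M ≤ S := sup_le hTS (centralizerIn_le T)
  have hRM : R ⊔ centralizerIn S T ≤ M := sup_le_sup_right hRT _
  have hRcT := isCentricRelTo_of_isCentric hE hRc
  have hβTm : ∀ y : M, (y : Ω) ∈ T → ((β y : M) : Ω) ∈ T := fun y hy => by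
    rw [show y = Subgroup.inclusion le_sup_left (⟨y, hy⟩ : T) from rfl, hβT]
    exact (a _).2
  -- `ψ` lands in `T C_S(T)`
  have hresE : (T.subtype.comp a.toMonoidHom).comp (Subgroup.inclusion hRT) ∈ E.Hom R := hres.1
  have hψM : ∀ x, ψ x ∈ M := fun x => sup_le_sup_right (range_le_S E hresE) _
    (apply_mem_sup_of_trivialExt hE hRc hresE hψe hψc ⟨x, rfl⟩)
  set χ₀ : ↥(R ⊔ centralizerIn S T) →* Ω :=
    (autIncl (β⁻¹ : MulAut M)).comp (ψ.codRestrict M hψM) with hχ₀
  have hχ₀F : χ₀ ∈ F.Hom (R ⊔ centralizerIn S T) :=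
    F.comp_mem hψ ((mem_autGroup_iff F hMS).1 (inv_mem hβ)) hψM
  have hχ₀R : ∀ x : R, χ₀ (Subgroup.inclusion le_sup_left x) = x := fun x => by
    change ((β⁻¹ ⟨ψ (Subgroup.inclusion le_sup_left x), _⟩ : M) : Ω) = x
    rw [show (⟨ψ (Subgroup.inclusion le_sup_left x), hψM _⟩ : M) =
      β (Subgroup.inclusion le_sup_left (Subgroup.inclusion hRT x)) from
        Subtype.ext ((hψe x).trans (hβT _).symm), MulAut.inv_apply_self]
    rfl
  have hχ₀C : ∀ (c : Ω) (hc : c ∈ centralizerIn S T),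
      χ₀ ⟨c, le_sup_right (a := R) hc⟩ ∈ R ⊔ centralizerIn S T := by
    intro c hc
    set z := c⁻¹ * ψ ⟨c, le_sup_right (a := R) hc⟩ with hz
    set w : M := β⁻¹ ⟨c, le_sup_right (a := T) hc⟩ with hw
    have hwC : (w : Ω) ∈ centralizerIn S T := by
      refine apply_mem_centralizerIn_of_ext (a := a⁻¹) hTS (fun x => ?_) hc
      have h1 : β (Subgroup.inclusion le_sup_left (a⁻¹ x)) = Subgroup.inclusion le_sup_left x :=
        Subtype.ext (by rw [hβT, MulAut.apply_inv_self]; rfl)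
      rw [← h1, MulAut.inv_apply_self]
      rfl
    obtain ⟨r, hr⟩ : z ∈ ((T.subtype.comp a.toMonoidHom).comp (Subgroup.inclusion hRT)).range := by
      refine centralizer_inf_mem (hRcT.of_isConj hT ⟨_, hE.1 R hresE, rfl⟩)
        ((range_le_S E hresE).trans hTS) (hψc c hc) ?_
      rintro _ ⟨y, rfl⟩
      have h3 : ψ (Subgroup.inclusion le_sup_left y * ⟨c, le_sup_right (a := R) hc⟩) =
          ψ (⟨c, le_sup_right (a := R) hc⟩ * Subgroup.inclusion le_sup_left y) :=
        congrArg ψ (Subtype.ext (hc.2 y (hRT y.2)))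
      rw [map_mul, map_mul, hψe] at h3
      set v := ((T.subtype.comp a.toMonoidHom).comp (Subgroup.inclusion hRT)) y with hv
      have h4 : v * c⁻¹ = c⁻¹ * v := by
        rw [eq_inv_mul_iff_mul_eq, ← mul_assoc, ← hc.2 v (a _).2, mul_inv_cancel_right]
      rw [hz, ← mul_assoc, h4, mul_assoc, h3, mul_assoc]
    have h1 : (⟨ψ ⟨c, le_sup_right (a := R) hc⟩, hψM _⟩ : M) =
        ⟨c, le_sup_right (a := T) hc⟩ *
          β (Subgroup.inclusion le_sup_left (Subgroup.inclusion hRT r)) := by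
      refine Subtype.ext ?_
      rw [Subgroup.coe_mul, hβT]
      exact (mul_inv_cancel_left c _).symm.trans (congrArg (c * ·) hr.symm)
    change ((β⁻¹ ⟨ψ _, _⟩ : M) : Ω) ∈ _
    rw [h1, map_mul, MulAut.inv_apply_self, Subgroup.coe_mul]
    exact Subgroup.mul_mem _ (le_sup_right (a := R) hwC)
      (le_sup_left (b := centralizerIn S T) r.2)
  have := finite_of_le (sup_le (hRT.trans hTS) (centralizerIn_le T) :
    R ⊔ centralizerIn S T ≤ S)
  obtain ⟨χ, hχ, hχe⟩ := exists_iso_of_range hχ₀F (Subgroup.eq_of_le_of_card_ge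
    (by
      rintro _ ⟨x, rfl⟩
      have hle : R ⊔ centralizerIn S T ≤
          ((R ⊔ centralizerIn S T).comap χ₀).map (R ⊔ centralizerIn S T).subtype :=
        sup_le (fun y hy => ⟨⟨y, le_sup_left (b := centralizerIn S T) hy⟩, by
          change χ₀ ⟨y, le_sup_left (b := centralizerIn S T) hy⟩ ∈ R ⊔ centralizerIn S T
          rw [show (⟨y, le_sup_left (b := centralizerIn S T) hy⟩ : ↥(R ⊔ centralizerIn S T)) =
            Subgroup.inclusion le_sup_left ⟨y, hy⟩ from rfl, hχ₀R]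
          exact le_sup_left (b := centralizerIn S T) hy, rfl⟩)
          fun c hc => ⟨⟨c, le_sup_right (a := R) hc⟩, hχ₀C c hc, rfl⟩
      obtain ⟨x', hx', hxe⟩ := hle x.2
      rwa [show x = x' from Subtype.ext hxe.symm])
    (Nat.card_congr (MonoidHom.ofInjective (F.injective_of_mem hχ₀F)).toEquiv).le)
  obtain ⟨k, γ, hγ, hγT, hγc⟩ := exists_fix_extension_mod hS hF hT hRcT
    ((mem_autGroup_iff F (sup_le (hRT.trans hTS) (centralizerIn_le T))).2 hχ)
    (fun x hx => Subtype.ext ((hχe x).trans (hχ₀R ⟨x, hx⟩)))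
  -- `β^j ∘ χ^j` is the identity on `C_S(T)` modulo `T`
  have hmod : ∀ y : ↥(R ⊔ centralizerIn S T),
      ((β⁻¹ (Subgroup.inclusion hRM y) : M) : Ω)⁻¹ * (χ y : Ω) ∈ T := by
    intro y
    have h1 : (y : Ω)⁻¹ * ψ y ∈ T := by
      obtain ⟨c, hc, r, hr, hcr⟩ : ∃ c ∈ centralizerIn S T, ∃ r ∈ R, c * r = (y : Ω) := by
        have h1 : (y : Ω) ∈ ((centralizerIn S T ⊔ R : Subgroup Ω) : Set Ω) := by
          rw [SetLike.mem_coe, sup_comm]; exact y.2
        rw [Subgroup.coe_mul_of_left_le_normalizer_right _ _ (fun c (hc : c ∈ centralizerIn S T) =>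
          mem_normalizer_of_forall_commute fun r hr => hc.2 r (hRT hr))] at h1
        exact Set.mem_mul.1 h1
      have h2 : y = ⟨c, le_sup_right (a := R) hc⟩ * Subgroup.inclusion le_sup_left ⟨r, hr⟩ :=
        Subtype.ext hcr.symm
      rw [h2, map_mul, hψe, Subgroup.coe_mul, Subgroup.coe_inclusion, mul_inv_rev, mul_assoc,
        ← mul_assoc c⁻¹]
      exact T.mul_mem (T.inv_mem (hRT hr)) (T.mul_mem (hψc c hc) (a _).2)
    have h2 : Subgroup.inclusion hRM y * Subgroup.inclusion le_sup_left (⟨_, h1⟩ : T) =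
        ⟨ψ y, hψM y⟩ := Subtype.ext (mul_inv_cancel_left (y : Ω) _)
    have h3 : (χ y : Ω) = ((β⁻¹ (Subgroup.inclusion hRM y) : M) : Ω) *
        ((β⁻¹ (Subgroup.inclusion le_sup_left (⟨_, h1⟩ : T)) : M) : Ω) := by
      rw [hχe, ← Subgroup.coe_mul, ← map_mul, h2]
      rfl
    rw [h3, inv_mul_cancel_left]
    have h4 : β (Subgroup.inclusion le_sup_left (a⁻¹ (⟨_, h1⟩ : T))) =
        Subgroup.inclusion le_sup_left (⟨_, h1⟩ : T) :=
      Subtype.ext (by rw [hβT, MulAut.apply_inv_self]; rfl)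
    rw [← h4, MulAut.inv_apply_self]
    exact (a⁻¹ _).2
  have hpow : ∀ (j : ℕ) (c : Ω) (hc : c ∈ centralizerIn S T),
      c⁻¹ * (((β ^ j) (Subgroup.inclusion hRM
        ((χ ^ j) ⟨c, le_sup_right (a := R) hc⟩)) : M) : Ω) ∈ T := by
    intro j
    induction j with
    | zero => intro c hc; simp
    | succ j ihj =>
      intro c hc
      set y := (χ ^ j) ⟨c, le_sup_right (a := R) hc⟩ with hy
      set v := Subgroup.inclusion hRM (χ y) with hv
      have h1 : (β⁻¹ (Subgroup.inclusion hRM y))⁻¹ * v ∈ (T.subgroupOf M) := hmod y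
      rw [pow_succ' χ, MulAut.mul_apply, ← hy, ← hv, pow_succ β, MulAut.mul_apply]
      have h2 : (((β⁻¹ (Subgroup.inclusion hRM y))⁻¹ * v : M) : Ω) ∈ T := h1
      have h3 := hβTm _ h2
      have hpowT : ∀ (i : ℕ) (u : M), (u : Ω) ∈ T → (((β ^ i) u : M) : Ω) ∈ T := by
        intro i
        induction i with
        | zero => intro u hu; exact hu
        | succ i ihi => intro u hu; rw [pow_succ', MulAut.mul_apply]; exact hβTm _ (ihi u hu)
      have h4 := hpowT j _ h3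
      rw [map_mul, map_inv, MulAut.apply_inv_self, map_mul, map_inv, Subgroup.coe_mul,
        Subgroup.coe_inv] at h4
      have h5 := T.mul_mem (ihj c hc) h4
      rwa [mul_assoc, mul_inv_cancel_left] at h5
  have haX : a ^ p ^ k ∈ X := by
    refine ⟨pow_mem haF _, β ^ p ^ k * γ, mul_mem (pow_mem hβ _) hγ, fun x => ?_, fun c hc => ?_⟩
    · rw [MulAut.mul_apply, hγT _ x.2]
      have hp' : ∀ (i : ℕ) (x : T), (β ^ i) (Subgroup.inclusion le_sup_left x) =
          Subgroup.inclusion le_sup_left ((a ^ i) x) := by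
        intro i
        induction i with
        | zero => intro x; rfl
        | succ i ihi =>
          intro x
          rw [pow_succ', MulAut.mul_apply, ihi, pow_succ', MulAut.mul_apply]
          exact Subtype.ext (hβT _)
      rw [hp']
      rfl
    · rw [MulAut.mul_apply]
      have h1 := hγc c hc
      have h2 : (((Subgroup.inclusion hRM ((χ ^ p ^ k) ⟨c, le_sup_right (a := R) hc⟩))⁻¹ *
          γ c : M) : Ω) ∈ T := h1
      have hpowT : ∀ (i : ℕ) (u : M), (u : Ω) ∈ T → (((β ^ i) u : M) : Ω) ∈ T := by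
        intro i
        induction i with
        | zero => intro u hu; exact hu
        | succ i ihi => intro u hu; rw [pow_succ', MulAut.mul_apply]; exact hβTm _ (ihi u hu)
      have h3 := hpowT (p ^ k) _ h2
      rw [map_mul, map_inv, Subgroup.coe_mul, Subgroup.coe_inv] at h3
      have h5 := T.mul_mem (hpow (p ^ k) c hc) h3
      rwa [mul_assoc, mul_inv_cancel_left] at h5
  -- `Inn(T)` has index prime to `p`
  obtain ⟨-, hi⟩ := (isFullyAutomized_iff hTp).1
    (fullyAutomized_receptive_of_fullyNormalized hTp hEs isFullyNormalized_self).1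
  set I := autInducedBy T T with hIdef
  have hIn : (I.subgroupOf (E.autGroup T)).Normal := by
    rw [hIdef, ← inn_eq]
    exact inn_subgroupOf_normal E T
  have hXn : (X.subgroupOf (E.autGroup T)).Normal :=
    ⟨fun u hu b => conj_mem_trivialExtAut hS hF hT hu (autGroup_mono hE.1 T b.2)⟩
  have h6 : (QuotientGroup.mk' (X.subgroupOf (E.autGroup T)) ⟨a, ha⟩) ^ p ^ k = 1 := by
    rw [← map_pow]
    exact (QuotientGroup.eq_one_iff _).2 (by
      rw [Subgroup.mem_subgroupOf, SubmonoidClass.coe_pow]; exact haX)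
  have h7 : (orderOf (QuotientGroup.mk' (X.subgroupOf (E.autGroup T)) ⟨a, ha⟩)).Coprime p :=
    ((Fact.out : p.Prime).coprime_iff_not_dvd.2 fun hd => hi (hd.trans ((orderOf_dvd_natCard _).trans
      (Subgroup.index_dvd_of_le (fun u hu => hI hu))))).symm
  have h8 := eq_one_of_pow_prime_of_coprime h6 h7
  exact Subgroup.mem_subgroupOf.1
    ((QuotientGroup.eq_one_iff (N := X.subgroupOf (E.autGroup T)) ⟨a, ha⟩).1 h8)

/-- The residual of a weakly normal subsystem is normal. -/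
theorem isNormalIn_residual_of_weaklyNormal (hS : IsPGroup p S) (hE : E.IsWeaklyNormalIn F p)
    (hD : E.IsPPrimeResidual p D) : D.IsNormalIn F p := by
  obtain ⟨hEs, hF, hinv⟩ := hE
  have hT := hinv.2.1
  have hTS := hT.1
  have := finite_of_le hTS
  have hTp := hS.to_le hTS
  obtain ⟨hDs, ⟨hDE, hDp⟩, hDmin⟩ := hD
  have hDc : ContainsCentricPElements D E p := fun R hR β hβ hk =>
    hDp R hR.1 ⟨⟨β, hβ⟩, Subgroup.subset_closure (by
      change ∃ k : ℕ, orderOf (⟨β, hβ⟩ : E.autGroup R) = p ^ k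
      rwa [Subgroup.orderOf_mk]), rfl⟩
  obtain ⟨-, hfr, -⟩ := index_prime_to_of_centric_pElements hTp hEs hDE hDc
  have hDF : D.IsSubsystemOf F := fun P φ hφ => hinv.1 P (hDE P hφ)
  refine ⟨⟨hDs, hF, hDF, hT, fun P hPT φ hφ α hα => ?_, fun P hP φ hφ => ?_⟩, fun α hα => ?_⟩
  · -- invariance
    set K := pullSys D (autIncl α) (autIncl_injective α) (autIncl_range α) with hK
    have hKs : K.IsSaturated p :=
      (transported_pullSys D _ _ _).isSaturated hTp hDs
    have hKE : K.IsSubsystemOf E := by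
      rintro Q φ ⟨hQ, hφT, ψ, hψ, hψe⟩
      have hQα : imageAlong (autIncl α) Q ≤ T :=
        (Subgroup.map_le_range _ _).trans (autIncl_range α).le
      obtain ⟨χ, hχ, hχe⟩ := hinv.2.2.1 _ hQα ψ (hDE _ hψ) α⁻¹ (inv_mem hα)
      have hmem : ∀ x : Q, (x : Ω) ∈ ((imageAlong (autIncl α) Q).subgroupOf T).map
          (T.subtype.comp (α⁻¹).toMonoidHom) := fun x =>
        ⟨α ⟨x, hQ x.2⟩, ⟨⟨x, hQ x.2⟩, x.2, rfl⟩, congrArg Subtype.val (MulAut.inv_apply_self T α _)⟩
      refine mem_of_eq rfl (res_mem E hχ fun z hz => hmem ⟨z, hz⟩) fun x => ?_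
      set y : imageAlong (autIncl α) Q := ⟨autIncl α ⟨x, hQ x.2⟩, apply_mem_imageAlong x.2⟩
      have h1 : (⟨(y : Ω), hQα y.2⟩ : T) = α ⟨x, hQ x.2⟩ := Subtype.ext rfl
      have h2 := hχe y (apply_mem_S D hψ y) (by
        rw [h1, MulAut.inv_apply_self]; exact hmem x)
      have h3 : (⟨ψ y, apply_mem_S D hψ y⟩ : T) = α ⟨φ x, hφT x⟩ := Subtype.ext (hψe x)
      rw [h3] at h2
      refine (congrArg Subtype.val (MulAut.inv_apply_self T α ⟨φ x, hφT x⟩)).symm.trans
        (h2.symm.trans ?_)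
      refine congrArg χ (Subtype.ext ?_)
      change ((α⁻¹ ⟨(y : Ω), hQα y.2⟩ : T) : Ω) = x
      rw [h1, MulAut.inv_apply_self]
    have hKp : K.HasPrimeToPIndexIn E p := by
      refine ⟨hKE, fun Q hQ => ?_⟩
      rw [Subgroup.map_le_iff_le_comap, Subgroup.closure_le]
      rintro ⟨β, hβ⟩ ⟨k, hk⟩
      have hαF := (mem_autGroup_iff F hTS).1 hα
      have hQα : imageAlong (autIncl α) Q ≤ T :=
        (Subgroup.map_le_range _ _).trans (autIncl_range α).le
      set f := imageEquiv (autIncl_injective α) hQ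
      have hf : IsIso F f := mem_of_eq rfl (res_mem F hαF hQ) fun _ => rfl
      have hβ' : MulAut.congr f β ∈ E.autGroup (imageAlong (autIncl α) Q) :=
        congr_mem_of_conjClosed hinv.1 (conjClosed_of_isInvariantIn hinv) hf hQ hQα hβ
      have hβD : MulAut.congr f β ∈ D.autGroup (imageAlong (autIncl α) Q) :=
        hDp _ hQα ⟨⟨_, hβ'⟩, Subgroup.subset_closure ⟨k, by
          rw [Subgroup.orderOf_mk, MulEquiv.orderOf_eq, ← hk, Subgroup.orderOf_mk]⟩, rfl⟩
      refine (mem_autGroup_iff K hQ).2 ⟨hQ, fun x => hQ (β x).2, _,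
        (mem_autGroup_iff D hQα).1 hβD, fun x => ?_⟩
      change ((f (β (f.symm (f x))) : imageAlong (autIncl α) Q) : Ω) = _
      rw [MulEquiv.symm_apply_apply]
      rfl
    obtain ⟨hP', hφT, ψ, hψ, hψe⟩ := hDmin K hKs hKp P hφ
    exact ⟨ψ, hψ, fun x hφx hαx => hψe x⟩
  · obtain ⟨a, ha, φ₀, hφ₀, he⟩ := hinv.2.2.2 P hP φ hφ
    obtain ⟨b, hb, φ₁, hφ₁, he'⟩ := hfr P φ₀ hφ₀
    refine ⟨a * b, mul_mem ha (autGroup_mono hinv.1 T hb), φ₁, hφ₁, fun x hx => ?_⟩
    rw [he x (apply_mem_S E hφ₀ x), MulAut.mul_apply]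
    exact congrArg (fun t : T => ((a t : T) : Ω)) (Subtype.ext (he' x hx))
  · -- extension
    have hle := hDmin _ (isSaturated_pPrimeResidualSys hTp hEs)
      (isPPrimeResidual_pPrimeResidualSys hTp hEs).2.1
    obtain ⟨-, u, hu, φ₀, hφ₀, he⟩ := hle T ((mem_autGroup_iff D le_rfl).1 hα)
    obtain ⟨v, hv, hve⟩ := exists_iso_of_range hφ₀ (eq_S_of_isConj_S ⟨φ₀, hφ₀, rfl⟩)
    have hvF : (v : MulAut T) ∈ E.autGroup T :=
      (mem_autGroup_iff E le_rfl).2 (mem_of_eq rfl hφ₀.1 fun x => hve x)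
    have hvA : (v : MulAut T) ∈ centricAutClosure E p := Subgroup.subset_closure
      ⟨hvF, T, le_rfl, isCentric_top_sub, mem_of_eq rfl hφ₀ fun x => hve x⟩
    have hαA : α ∈ centricAutClosure E p := by
      rw [show α = u * v from MulEquiv.ext fun x => Subtype.ext
        ((he x (apply_mem_S _ hφ₀ x)).trans
          (congrArg (fun t : T => ((u t : T) : Ω)) (Subtype.ext (hve x).symm)))]
      exact mul_mem hu hvA
    obtain ⟨-, β, hβ, hβT, hβC⟩ := hasTrivialExt_of_mem_residual hS hF hEs hinv hαA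
    refine ⟨β, hβ, hβT, fun c hc => ⟨hβC c hc, ?_⟩⟩
    exact Subgroup.mul_mem _ (Subgroup.inv_mem _ hc.2)
      (apply_mem_centralizerIn_of_ext hTS hβT hc).2

end CfsgLib.Fusion
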