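import Cfsg.Prelude.Def_FusionComponents
import Cfsg.Agent.Lib.Fusion.Normal

/-!
# Factor systems
-/

set_option autoImplicit false

open Cfsg Cfsg.FusionSystem

namespace CfsgLib.Fusion

variable {Ω Ω' : Type*} [Group Ω] [Group Ω'] {S : Subgroup Ω} {S' : Subgroup Ω'}
  {F : FusionSystem S} {θ : S →* Ω'} {S₀ : Subgroup Ω}

theorem preimageAlong_le (θ : S →* Ω') (P' : Subgroup Ω') : preimageAlong θ P' ≤ S :=
  Subgroup.map_subtype_le _

theorem mem_preimageAlong {θ : S →* Ω'} {P' : Subgroup Ω'} {s : S} :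
    (s : Ω) ∈ preimageAlong θ P' ↔ θ s ∈ P' := by
  constructor
  · rintro ⟨t, ht, hts⟩
    rw [← Subtype.ext hts]
    exact ht
  · exact fun h => ⟨s, h, rfl⟩

/-- A map of the system permutes a strongly closed subgroup contained in its source. -/
theorem img_stronglyClosed_eq [Finite S] (h₀ : F.StronglyClosed S₀) {P : Subgroup Ω}
    {φ : P →* Ω} (hφ : φ ∈ F.Hom P) (hP : S₀ ≤ P) : img φ S₀ = S₀ := by
  have := finite_of_le h₀.1
  refine Subgroup.eq_of_le_of_card_ge ?_ (card_img (F.injective_of_mem hφ) hP).ge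
  rintro y hy
  obtain ⟨x, hx, rfl⟩ := mem_img.1 hy
  exact h₀.2 S₀ le_rfl _ (res_mem F hφ hP) ⟨x, hx⟩

/-- An induced map is injective. -/
theorem injective_of_inducedAlong [Finite S] (h₀ : F.StronglyClosed S₀)
    (hker : ∀ s : S, θ s = 1 ↔ (s : Ω) ∈ S₀) (hrange : θ.range = S') {P' : Subgroup Ω'}
    (hP' : P' ≤ S') {φ : preimageAlong θ P' →* Ω} {φ' : P' →* Ω'}
    (hφ : φ ∈ F.Hom (preimageAlong θ P')) (h : InducedAlong θ φ φ') : Function.Injective φ' := by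
  obtain ⟨hP, hφS, hθP, he⟩ := h
  rw [injective_iff_map_eq_one]
  rintro ⟨y, hy⟩ h1
  obtain ⟨s, rfl⟩ := hrange.ge (hP' hy)
  have hs : (s : Ω) ∈ preimageAlong θ P' := mem_preimageAlong.2 hy
  have h2 : θ ⟨φ ⟨s, hs⟩, hφS _⟩ = 1 := (he ⟨s, hs⟩).symm.trans h1
  have hS₀ : S₀ ≤ preimageAlong θ P' := fun x hx =>
    ⟨⟨x, h₀.1 hx⟩, show θ ⟨x, h₀.1 hx⟩ ∈ P' by rw [(hker _).2 hx]; exact one_mem _, rfl⟩
  obtain ⟨z, hz, hze⟩ := mem_img.1 ((img_stronglyClosed_eq h₀ hφ hS₀).ge ((hker _).1 h2))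
  have h3 : z = ⟨s, hs⟩ := F.injective_of_mem hφ hze
  exact Subtype.ext ((hker s).2 (by rw [h3] at hz; exact hz))

/-- The maps of the factor system. -/
def factorHom (F : FusionSystem S) (θ : S →* Ω') (S' P' : Subgroup Ω') : Set (P' →* Ω') :=
  {φ' | P' ≤ S' ∧ ∃ φ ∈ F.Hom (preimageAlong θ P'), InducedAlong θ φ φ'}

/-- The factor system modulo a strongly closed subgroup. -/
def factorSystem [Finite S] (h₀ : F.StronglyClosed S₀)
    (hker : ∀ s : S, θ s = 1 ↔ (s : Ω) ∈ S₀) (hrange : θ.range = S') : FusionSystem S' where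
  Hom := factorHom F θ S'
  le_of_mem := by
    rintro P' φ' ⟨hP', φ, -, hP, hφS, hθP, he⟩
    refine ⟨hP', fun y => ?_⟩
    obtain ⟨s, hs⟩ := hrange.ge (hP' y.2)
    have hs' : (s : Ω) ∈ preimageAlong θ P' := mem_preimageAlong.2 (hs ▸ y.2)
    rw [show y = ⟨θ s, hs ▸ y.2⟩ from Subtype.ext hs.symm]
    exact (he ⟨s, hs'⟩).symm ▸ hrange.le ⟨_, rfl⟩
  injective_of_mem := by
    rintro P' φ' ⟨hP', φ, hφ, h⟩
    exact injective_of_inducedAlong h₀ hker hrange hP' hφ h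
  conj_mem := by
    intro P' g hP' hg
    obtain ⟨s, rfl⟩ := hrange.ge hg
    refine ⟨hP', conjHom _ (s : Ω), F.conj_mem (preimageAlong_le θ P') s.2,
      preimageAlong_le θ P', fun x => S.mul_mem (S.mul_mem s.2 (preimageAlong_le θ P' x.2))
        (S.inv_mem s.2), fun x => ?_, fun x => ?_⟩
    · exact mem_preimageAlong.1 x.2
    · change θ s * θ _ * (θ s)⁻¹ = _
      rw [← map_inv, ← map_mul, ← map_mul]
      rfl
  comp_mem := by
    rintro P' Q' φ' ψ' ⟨hP', φ, hφ, hP, hφS, hθP, he⟩ ⟨hQ', ψ, hψ, hQ, hψS, hθQ, hf⟩ h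
    have hPQ : ∀ x, φ x ∈ preimageAlong θ Q' := fun x =>
      mem_preimageAlong (s := ⟨φ x, hφS x⟩).2 (he x ▸ h _)
    refine ⟨hP', _, F.comp_mem hφ hψ hPQ, hP, fun x => hψS _, hθP, fun x => ?_⟩
    refine Eq.trans ?_ (hf ⟨φ x, hPQ x⟩)
    exact congrArg ψ' (Subtype.ext (he x))
  inv_mem := by
    rintro P' φ' ⟨hP', φ, hφ, hind⟩
    have hinj := injective_of_inducedAlong h₀ hker hrange hP' hφ hind
    obtain ⟨hP, hφS, hθP, he⟩ := hind
    have hS₀ : S₀ ≤ preimageAlong θ P' := fun x hx =>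
      ⟨⟨x, h₀.1 hx⟩, show θ ⟨x, h₀.1 hx⟩ ∈ P' by rw [(hker _).2 hx]; exact one_mem _, rfl⟩
    have hr' : φ'.range ≤ S' := by
      rintro _ ⟨⟨y, hy⟩, rfl⟩
      obtain ⟨s, rfl⟩ := hrange.ge (hP' hy)
      exact (he ⟨s, mem_preimageAlong.2 hy⟩).symm ▸ hrange.le ⟨_, rfl⟩
    have hpre : preimageAlong θ φ'.range = φ.range := by
      ext z
      constructor
      · rintro ⟨s, ⟨⟨y, hy⟩, hye⟩, rfl⟩
        obtain ⟨t, rfl⟩ := hrange.ge (hP' hy)
        have ht : (t : Ω) ∈ preimageAlong θ P' := mem_preimageAlong.2 hy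
        have h1 : θ ((⟨φ ⟨t, ht⟩, hφS _⟩ : S)⁻¹ * s) = 1 := by
          rw [map_mul, map_inv, ← he ⟨t, ht⟩, inv_mul_eq_one]
          exact hye
        obtain ⟨w, -, hw⟩ := mem_img.1 ((img_stronglyClosed_eq h₀ hφ hS₀).ge ((hker _).1 h1))
        refine ⟨⟨t, ht⟩ * w, ?_⟩
        rw [map_mul, hw]
        exact mul_inv_cancel_left _ _
      · rintro ⟨x, rfl⟩
        exact ⟨⟨φ x, hφS x⟩, ⟨⟨_, hθP x⟩, he x⟩, rfl⟩
    obtain ⟨ψ, hψ, hψe⟩ := F.inv_mem hφ
    let ψ₁ : preimageAlong θ φ'.range →* Ω := ψ.comp (Subgroup.inclusion hpre.le)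
    refine ⟨P'.subtype.comp (MonoidHom.ofInjective hinj).symm.toMonoidHom,
      ⟨hr', ψ₁, mem_of_eq hpre.symm hψ fun _ => rfl, preimageAlong_le θ _,
        fun x => apply_mem_S F hψ _, fun x => mem_preimageAlong.1 x.2, fun z => ?_⟩, fun x => ?_⟩
    · obtain ⟨x, hx⟩ := hpre.le z.2
      have h2 : ψ₁ z = x := by
        rw [← hψe x]
        exact congrArg ψ (Subtype.ext hx.symm)
      have h3 : (⟨θ ⟨z, preimageAlong_le θ _ z.2⟩, mem_preimageAlong.1 z.2⟩ : φ'.range) =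
          MonoidHom.ofInjective hinj ⟨_, hθP x⟩ :=
        Subtype.ext ((congrArg θ (Subtype.ext hx.symm)).trans (he x).symm)
      refine (congrArg (fun t => (((MonoidHom.ofInjective hinj).symm t : P') : Ω')) h3).trans ?_
      rw [MulEquiv.symm_apply_apply]
      exact congrArg θ (Subtype.ext h2.symm)
    · change (((MonoidHom.ofInjective hinj).symm (MonoidHom.ofInjective hinj x) : P') : Ω') = x
      rw [MulEquiv.symm_apply_apply]

theorem isFactorSystem_factorSystem [Finite S] (h₀ : F.StronglyClosed S₀)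
    (hker : ∀ s : S, θ s = 1 ↔ (s : Ω) ∈ S₀) (hrange : θ.range = S') :
    F.IsFactorSystem S₀ θ (factorSystem h₀ hker hrange) :=
  ⟨h₀.1, hker, hrange, fun _ _ => Iff.rfl⟩

end CfsgLib.Fusion
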