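import Cfsg.Agent.Lib.Fusion.HypFocal
import Cfsg.Agent.Lib.Fusion.FactorBasic
import Cfsg.Agent.Lib.Fusion.GroupSystem

/-!
# Maps modulo a strongly closed subgroup

Every map of a saturated system agrees, modulo a strongly closed subgroup `T`, with a map defined
on the product of its source with `T`.
-/

set_option autoImplicit false

open Cfsg Cfsg.FusionSystem
open scoped Pointwise

namespace CfsgLib.Fusion

variable {Ω : Type*} [Group Ω] {S : Subgroup Ω} {F : FusionSystem S}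

theorem inv_mul_mem_symm {T : Subgroup Ω} {a b : Ω} (h : a⁻¹ * b ∈ T) : b⁻¹ * a ∈ T := by
  simpa using T.inv_mem h

variable (F) in
/-- The maps agreeing modulo `T` with a map defined also on `T`. -/
def hatSys [Finite S] (T : Subgroup Ω) (hT : F.StronglyClosed T) : FusionSystem S where
  Hom P := {φ | φ ∈ F.Hom P ∧ ∃ ψ ∈ F.Hom (P ⊔ T),
    ∀ x : P, (φ x)⁻¹ * ψ (Subgroup.inclusion le_sup_left x) ∈ T}
  le_of_mem h := F.le_of_mem h.1
  injective_of_mem h := F.injective_of_mem h.1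
  conj_mem {P g} hP hg := ⟨F.conj_mem hP hg, _, F.conj_mem (sup_le hP hT.1) hg, fun x => by simp [mul_assoc]⟩
  comp_mem := by
    rintro P Q φ ψ ⟨hφ, φ', hφ', hφe⟩ ⟨hψ, ψ', hψ', hψe⟩ h
    have hval : ∀ x, φ' x ∈ Q ⊔ T := by
      intro x
      have hle : P ⊔ T ≤ ((Q ⊔ T).comap φ').map (P ⊔ T).subtype := by
        refine sup_le (fun y hy => ⟨Subgroup.inclusion le_sup_left ⟨y, hy⟩, ?_, rfl⟩)
          (fun y hy => ⟨Subgroup.inclusion le_sup_right ⟨y, hy⟩, ?_, rfl⟩)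
        · have h1 := (Q ⊔ T).mul_mem ((le_sup_left : Q ≤ Q ⊔ T) (h ⟨y, hy⟩))
            ((le_sup_right : T ≤ Q ⊔ T) (hφe ⟨y, hy⟩))
          rwa [mul_inv_cancel_left] at h1
        · exact (le_sup_right : T ≤ Q ⊔ T)
            (hT.2 T le_rfl _ (res_mem F hφ' le_sup_right) ⟨y, hy⟩)
      obtain ⟨z, hz, hze⟩ := hle x.2
      rwa [← (Subtype.ext hze : z = x)]
    refine ⟨F.comp_mem hφ hψ h, _, F.comp_mem hφ' hψ' hval, fun x => ?_⟩
    change (ψ ⟨φ x, h x⟩)⁻¹ * ψ' ⟨φ' (Subgroup.inclusion le_sup_left x), _⟩ ∈ T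
    have h2 : ψ' ⟨φ' (Subgroup.inclusion le_sup_left x), hval _⟩ =
        ψ' (Subgroup.inclusion le_sup_left ⟨φ x, h x⟩) *
          ψ' (Subgroup.inclusion le_sup_right ⟨_, hφe x⟩) := by
      rw [← map_mul]
      exact congrArg ψ' (Subtype.ext (mul_inv_cancel_left _ _).symm)
    rw [h2, ← mul_assoc]
    exact T.mul_mem (hψe ⟨φ x, h x⟩)
      (hT.2 T le_rfl _ (res_mem F hψ' le_sup_right) ⟨_, hφe x⟩)
  inv_mem := by
    rintro P φ ⟨hφ, φ', hφ', hφe⟩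
    obtain ⟨χ, hχ, hχe⟩ := F.inv_mem hφ
    obtain ⟨χ', hχ', hχ'e⟩ := F.inv_mem hφ'
    have hTr : T ≤ φ'.range := fun y hy => img_le_range φ' T
      ((img_stronglyClosed_eq hT hφ' le_sup_right).ge hy)
    have hPr : φ.range ≤ φ'.range := by
      rintro _ ⟨x, rfl⟩
      have h1 := Subgroup.mul_mem φ'.range (show φ' (Subgroup.inclusion le_sup_left x) ∈ φ'.range from ⟨_, rfl⟩) (hTr (inv_mul_mem_symm (hφe x)))
      rwa [mul_inv_cancel_left] at h1
    refine ⟨χ, ⟨hχ, _, res_mem F hχ' (sup_le hPr hTr), ?_⟩, hχe⟩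
    rintro ⟨_, x, rfl⟩
    rw [hχe]
    change (x : Ω)⁻¹ * χ' ⟨φ x, _⟩ ∈ T
    have h2 : χ' ⟨φ x, hPr ⟨x, rfl⟩⟩ =
        χ' ⟨φ' (Subgroup.inclusion le_sup_left x), ⟨_, rfl⟩⟩ *
          χ' (Subgroup.inclusion hTr ⟨_, inv_mul_mem_symm (hφe x)⟩) := by
      rw [← map_mul]
      exact congrArg χ' (Subtype.ext (mul_inv_cancel_left _ _).symm)
    rw [h2, hχ'e, ← mul_assoc]
    exact T.mul_mem (by simp) (hT.2 T le_rfl _ (res_mem F hχ' hTr) ⟨_, _⟩)

theorem mem_hatSys [Finite S] {T : Subgroup Ω} {hT : F.StronglyClosed T} {P : Subgroup Ω}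
    {φ : P →* Ω} : φ ∈ (hatSys F T hT).Hom P ↔ φ ∈ F.Hom P ∧ ∃ ψ ∈ F.Hom (P ⊔ T),
      ∀ x : P, (φ x)⁻¹ * ψ (Subgroup.inclusion le_sup_left x) ∈ T := Iff.rfl

variable {p : ℕ} [Fact p.Prime] [Finite S]

/-- Every map agrees modulo a strongly closed `T` with a map defined on the product with `T`. -/
theorem exists_hat (hS : IsPGroup p S) (hF : F.IsSaturated p) {T : Subgroup Ω}
    (hT : F.StronglyClosed T) {P : Subgroup Ω} {φ : P →* Ω} (hφ : φ ∈ F.Hom P) :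
    ∃ ψ ∈ F.Hom (P ⊔ T), ∀ x : P, (φ x)⁻¹ * ψ (Subgroup.inclusion le_sup_left x) ∈ T := by
  suffices h : F ≤ hatSys F T hT from (mem_hatSys.1 (h P hφ)).2
  refine alperin_induction hS hF _ ?_ ?_
  · intro α hα
    obtain ⟨ψ, hψ, hψe⟩ := mem_of_eq_sup (sup_eq_left.2 hT.1).symm ((mem_autGroup_iff F le_rfl).1 hα)
    exact mem_autGroup_of_mem (φ := S.subtype.comp α.toMonoidHom) _
      ⟨(mem_autGroup_iff F le_rfl).1 hα, ψ, hψ, fun x => by rw [hψe]; simp⟩ fun _ => rfl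
  intro R hRS hRn hind α hα
  have hRfin := finite_of_le hRS.le
  have hTS := hT.1
  obtain ⟨hRa, hRr⟩ := fullyAutomized_receptive_of_fullyNormalized hS hF hRn
  obtain ⟨-, Y, hY⟩ := hRa
  let K : Subgroup (F.autGroup R) :=
    { carrier := {β | ∀ x : R, (x : Ω)⁻¹ * ((β : MulAut R) x : Ω) ∈ T}
      one_mem' := fun x => by simp
      mul_mem' := fun {a b} ha hb x => by
        have := T.mul_mem (hb x) (ha ((b : MulAut R) x))
        rwa [mul_assoc, mul_inv_cancel_left] at this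
      inv_mem' := fun {a} ha x => by
        have := T.inv_mem (ha ((a : MulAut R)⁻¹ x))
        rwa [MulAut.apply_inv_self, mul_inv_rev, inv_inv] at this }
  have hKn : K.Normal := ⟨fun a ha b x => by
    have h1 := ha ((b : MulAut R)⁻¹ x)
    have h2 := autGroup_apply_mem hT b.2
      (x := ((b : MulAut R)⁻¹ x)⁻¹ * (a : MulAut R) ((b : MulAut R)⁻¹ x)) h1
    rw [map_mul, map_inv, MulAut.apply_inv_self] at h2
    exact h2⟩
  set A := ((hatSys F T hT).autGroup R).subgroupOf (F.autGroup R) with hA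
  have hKA : K ≤ A := by
    intro β hβ
    refine mem_autGroup_of_mem (φ := R.subtype.comp (β : MulAut R).toMonoidHom) _
      ⟨(mem_autGroup_iff F hRS.le).1 β.2, _, id_mem F (sup_le hRS.le hTS), fun x => ?_⟩
      fun _ => rfl
    exact inv_mul_mem_symm (hβ x)
  let YK : Subgroup (F.autGroup R) := (Y : Subgroup (F.autGroup R)) ⊓ K
  have hNA : Subgroup.normalizer (YK : Set (F.autGroup R)) ≤ A := by
    intro β hβ
    have hβ' : IsIso F (β : MulAut R) := (mem_autGroup_iff F hRS.le).1 β.2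
    by_cases hTR : T ≤ R
    · obtain ⟨ψ, hψ, hψe⟩ := mem_of_eq_sup (sup_eq_left.2 hTR).symm hβ'
      exact mem_autGroup_of_mem (φ := R.subtype.comp (β : MulAut R).toMonoidHom) _
        ⟨hβ', ψ, hψ, fun x => by rw [hψe]; simp⟩ fun _ => rfl
    set M := R ⊔ normalizerIn T R with hM
    have hMext : M ≤ extender S R (R.subtype.comp (β : MulAut R).toMonoidHom) := by
      refine sup_le (le_extender hβ') fun g hg => ?_
      refine mem_extender_iso_iff.2 ⟨hTS hg.1, hg.2, ?_⟩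
      have h1 : normAut g hg.2 ∈ autInducedBy S R :=
        mem_autInducedBy_iff.2 ⟨g, hTS hg.1, fun _ => rfl⟩
      have h0 : (⟨normAut g hg.2, autInducedBy_le_autGroup hRS.le h1⟩ : F.autGroup R) ∈ YK := by
        refine ⟨by rw [hY]; exact h1, fun x => ?_⟩
        change (x : Ω)⁻¹ * (g * (x : Ω) * g⁻¹) ∈ T
        rw [show (x : Ω)⁻¹ * (g * (x : Ω) * g⁻¹) = ((x : Ω)⁻¹ * g * (x : Ω)⁻¹⁻¹) * g⁻¹ by group]
        exact T.mul_mem (conj_mem_of_mem_normalizer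
          (mem_normalizer_of_stronglyClosed hT (S.inv_mem (hRS.le x.2))) hg.1) (T.inv_mem hg.1)
      have h2 := ((Subgroup.mem_normalizer_iff.1 hβ _).1 h0).1
      rw [hY] at h2
      have h3 : ((β * ⟨normAut g hg.2, autInducedBy_le_autGroup hRS.le h1⟩ * β⁻¹ : F.autGroup R) :
        MulAut R) ∈ autInducedBy S R := h2
      convert h3 using 1
      exact MulEquiv.ext fun y => rfl
    obtain ⟨ψ, hψ, hψe⟩ := exists_extension hRr hβ' le_sup_left hMext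
    have hlt : R < M := lt_of_le_not_ge le_sup_left fun h => hTR
      (le_of_normalizer_inter_le hS hRS.le hTS (le_normalizer_of_stronglyClosed hT)
        fun x hx hxn => h (le_sup_right (a := R) ⟨hx, hxn⟩))
    have hMS : M ≤ S := sup_le hRS.le ((normalizerIn_le R).trans hTS)
    have := finite_of_le hMS
    obtain ⟨θ, hθ, hθe⟩ := (mem_hatSys.1 (hind M
      (lt_of_not_ge fun h => hlt.ne (Subgroup.eq_of_le_of_card_ge hlt.le h)) hψ)).2
    refine mem_autGroup_of_mem (φ := R.subtype.comp (β : MulAut R).toMonoidHom) _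
      ⟨hβ', _, res_mem F hθ (sup_le_sup_right le_sup_left T), fun x => ?_⟩ fun _ => rfl
    have h3 := hθe (Subgroup.inclusion le_sup_left x)
    rw [hψe] at h3
    exact h3
  have hi : ¬ p ∣ YK.relIndex K := not_dvd_relIndex_inf Y.2 le_top
    (by rw [Subgroup.relIndex_top_right]; exact Y.not_dvd_index) le_top
    (fun x _ => by rw [Subgroup.normalizer_eq_top K]; trivial)
  obtain ⟨Z, hZ⟩ := (exists_sylow_iff (N := K) (Y.2.to_le inf_le_left : IsPGroup p YK)).2 hi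
  have htop := Sylow.normalizer_sup_eq_top Z
  rw [hZ, Subgroup.subgroupOf, Subgroup.map_comap_eq, Subgroup.range_subtype,
    inf_eq_right.2 (inf_le_right : YK ≤ K)] at htop
  exact (show (⟨α, hα⟩ : F.autGroup R) ∈ A from
    (sup_le hNA hKA) (htop.ge (Subgroup.mem_top _)))

/-- An element of a product with a normalized subgroup is a product. -/
theorem exists_mul_of_mem_sup {A T : Subgroup Ω} (hA : A ≤ Subgroup.normalizer (T : Set Ω))
    {x : Ω} (hx : x ∈ A ⊔ T) : ∃ a ∈ A, ∃ t ∈ T, x = a * t := by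
  rw [← SetLike.mem_coe, Subgroup.coe_mul_of_left_le_normalizer_right A T hA] at hx
  obtain ⟨a, ha, t, ht, rfl⟩ := hx
  exact ⟨a, ha, t, ht, rfl⟩

/-- The product of two strongly closed subgroups is strongly closed. -/
theorem stronglyClosed_sup (hS : IsPGroup p S) (hF : F.IsSaturated p) {T₁ T₂ : Subgroup Ω}
    (h₁ : F.StronglyClosed T₁) (h₂ : F.StronglyClosed T₂) : F.StronglyClosed (T₁ ⊔ T₂) := by
  refine ⟨sup_le h₁.1 h₂.1, fun R hR φ hφ x => ?_⟩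
  obtain ⟨ψ, hψ, hψe⟩ := exists_hat hS hF h₁ hφ
  obtain ⟨a, ha, t, ht, hx⟩ :=
    exists_mul_of_mem_sup (h₂.1.trans (le_normalizer_of_stronglyClosed h₁)) (sup_comm T₁ T₂ ▸ hR x.2)
  have haM : a ∈ R ⊔ T₁ := by
    have h3 := (R ⊔ T₁).mul_mem ((le_sup_left : R ≤ R ⊔ T₁) x.2)
      ((le_sup_right : T₁ ≤ R ⊔ T₁) (T₁.inv_mem ht))
    rwa [hx, mul_inv_cancel_right] at h3
  have e1 : ψ (Subgroup.inclusion le_sup_left x) =
      ψ ⟨a, haM⟩ * ψ (Subgroup.inclusion le_sup_right ⟨t, ht⟩) := by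
    rw [← map_mul]; exact congrArg ψ (Subtype.ext hx)
  have h4 := res_mem F hψ (le_sup_right : T₁ ≤ R ⊔ T₁)
  have h5 : ψ ⟨a, haM⟩ ∈ T₂ := by
    have h6 : R ⊔ T₁ ⊓ T₂ ≤ S := sup_le (le_S F hφ) (inf_le_right.trans h₂.1)
    exact h₂.2 ((R ⊔ T₁) ⊓ T₂) inf_le_right _ (res_mem F hψ inf_le_left) ⟨a, haM, ha⟩
  have h7 : ψ (Subgroup.inclusion le_sup_left x) ∈ T₁ ⊔ T₂ := by
    rw [e1]
    exact Subgroup.mul_mem _ ((le_sup_right : T₂ ≤ T₁ ⊔ T₂) h5)
      ((le_sup_left : T₁ ≤ T₁ ⊔ T₂) (h₁.2 T₁ le_rfl _ h4 ⟨t, ht⟩))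
  have h8 := Subgroup.mul_mem _ h7
    ((le_sup_left : T₁ ≤ T₁ ⊔ T₂) (inv_mul_mem_symm (hψe x)))
  rwa [mul_inv_cancel_left] at h8

/-- `T C_S(T)` is strongly closed for a strongly closed `T`. -/
theorem stronglyClosed_sup_centralizerIn (hS : IsPGroup p S) (hF : F.IsSaturated p)
    {T : Subgroup Ω} (hT : F.StronglyClosed T) : F.StronglyClosed (T ⊔ centralizerIn S T) := by
  refine ⟨sup_le hT.1 (centralizerIn_le T), fun R hR φ hφ x => ?_⟩
  obtain ⟨ψ, hψ, hψe⟩ := exists_hat hS hF hT hφ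
  obtain ⟨a, ha, t, ht, hx⟩ := exists_mul_of_mem_sup
    ((centralizerIn_le T).trans (le_normalizer_of_stronglyClosed hT))
    (sup_comm T (centralizerIn S T) ▸ hR x.2)
  have haM : a ∈ R ⊔ T := by
    have h3 := (R ⊔ T).mul_mem ((le_sup_left : R ≤ R ⊔ T) x.2)
      ((le_sup_right : T ≤ R ⊔ T) (T.inv_mem ht))
    rwa [hx, mul_inv_cancel_right] at h3
  have e1 : ψ (Subgroup.inclusion le_sup_left x) =
      ψ ⟨a, haM⟩ * ψ (Subgroup.inclusion le_sup_right ⟨t, ht⟩) := by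
    rw [← map_mul]; exact congrArg ψ (Subtype.ext hx)
  have h5 : ψ ⟨a, haM⟩ ∈ centralizerIn S T := by
    refine ⟨apply_mem_S F hψ _, fun y hy => ?_⟩
    obtain ⟨z, hz, rfl⟩ := mem_img.1 ((img_stronglyClosed_eq hT hψ le_sup_right).ge hy)
    rw [← map_mul, ← map_mul]
    exact congrArg ψ (Subtype.ext (ha.2 _ hz))
  have h7 : ψ (Subgroup.inclusion le_sup_left x) ∈ T ⊔ centralizerIn S T := by
    rw [e1]
    exact Subgroup.mul_mem _ ((le_sup_right : _ ≤ T ⊔ centralizerIn S T) h5)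
      ((le_sup_left : T ≤ T ⊔ centralizerIn S T)
        (hT.2 T le_rfl _ (res_mem F hψ le_sup_right) ⟨t, ht⟩))
  have h8 := Subgroup.mul_mem _ h7
    ((le_sup_left : T ≤ T ⊔ centralizerIn S T) (inv_mul_mem_symm (hψe x)))
  rwa [mul_inv_cancel_left] at h8

theorem apply_mem_imageAlong' {Ω' : Type*} [Group Ω'] (θ : S →* Ω') {P : Subgroup Ω} {x : Ω}
    (hx : x ∈ S) (hxP : x ∈ P) : θ ⟨x, hx⟩ ∈ imageAlong θ P :=
  ⟨⟨x, hx⟩, hxP, rfl⟩

/-- The factor map is a surjective morphism. -/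
theorem isSurjectiveMorphism_of_isFactorSystem (hS : IsPGroup p S) (hF : F.IsSaturated p)
    {S₀ : Subgroup Ω} (h₀ : F.StronglyClosed S₀) {Ω' : Type*} [Group Ω'] {S' : Subgroup Ω'}
    {θ : S →* Ω'} {E : FusionSystem S'} (hE : F.IsFactorSystem S₀ θ E) :
    F.IsSurjectiveMorphism E θ := by
  obtain ⟨hS₀, hker, hrange, hiff⟩ := hE
  refine ⟨⟨fun s => hrange.le ⟨s, rfl⟩, fun P φ hφ => ?_⟩, hrange, fun P' _ φ' hφ' =>
    ((hiff P' φ').1 hφ').2⟩
  have hP := le_S F hφ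
  have hφS := apply_mem_S F hφ
  obtain ⟨ψ, hψ, hψe⟩ := exists_hat hS hF h₀ hφ
  have hψS := apply_mem_S F hψ
  have hpre : preimageAlong θ (imageAlong θ P) = P ⊔ S₀ := by
    refine le_antisymm ?_ (sup_le (fun y hy => ⟨⟨y, hP hy⟩, ⟨_, hy, rfl⟩, rfl⟩) fun y hy =>
      ⟨⟨y, hS₀ hy⟩, show θ ⟨y, hS₀ hy⟩ ∈ imageAlong θ P by
        rw [(hker _).2 hy]; exact one_mem _, rfl⟩)
    rintro _ ⟨s, ⟨z, hz, hzs⟩, rfl⟩
    have h1 : ((z⁻¹ * s : S) : Ω) ∈ S₀ := (hker _).1 (by rw [map_mul, map_inv, hzs, inv_mul_cancel])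
    have h2 := (P ⊔ S₀).mul_mem ((le_sup_left : P ≤ P ⊔ S₀) hz) ((le_sup_right : S₀ ≤ P ⊔ S₀) h1)
    simpa using h2
  let ψ₁ : preimageAlong θ (imageAlong θ P) →* Ω := ψ.comp (Subgroup.inclusion hpre.le)
  have hψ₁ : ψ₁ ∈ F.Hom _ := mem_of_eq hpre.symm hψ fun _ => rfl
  let π : preimageAlong θ (imageAlong θ P) →* imageAlong θ P :=
    (θ.comp (Subgroup.inclusion (preimageAlong_le θ _))).codRestrict _ fun x =>
      (mem_preimageAlong (θ := θ) (s := ⟨x, preimageAlong_le θ _ x.2⟩)).1 x.2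
  have hπ : Function.Surjective π := by
    rintro ⟨_, s, hs, rfl⟩
    exact ⟨⟨s, mem_preimageAlong.2 ⟨s, hs, rfl⟩⟩, rfl⟩
  let g : preimageAlong θ (imageAlong θ P) →* Ω' :=
    θ.comp (ψ₁.codRestrict S fun _ => apply_mem_S F hψ₁ _)
  have hg : π.ker ≤ g.ker := by
    intro x hx
    refine (hker _).2 ?_
    have h1 : (x : Ω) ∈ S₀ :=
      (hker ⟨x, preimageAlong_le θ _ x.2⟩).1 (congrArg Subtype.val hx)
    exact (img_stronglyClosed_eq h₀ hψ₁ (hpre ▸ le_sup_right)).le (apply_mem_img ψ₁ h1)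
  let φ' : imageAlong θ P →* Ω' := π.liftOfSurjective hπ ⟨g, hg⟩
  have hφ'e : ∀ x, φ' (π x) = g x := π.liftOfRightInverse_comp_apply _ (Function.rightInverse_surjInv hπ) ⟨g, hg⟩
  refine ⟨φ', (hiff _ _).2 ⟨hrange ▸ Subgroup.map_le_range _ _, ψ₁, hψ₁, preimageAlong_le θ _,
    fun _ => apply_mem_S F hψ₁ _, fun x => mem_preimageAlong.1 x.2, hφ'e⟩, hP, hφS,
    fun x => apply_mem_imageAlong' θ (hP x.2) x.2, fun x => ?_⟩
  have hx : (x : Ω) ∈ preimageAlong θ (imageAlong θ P) :=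
    (mem_preimageAlong (θ := θ) (P' := imageAlong θ P) (s := ⟨x, hP x.2⟩)).2 (apply_mem_imageAlong' θ (hP x.2) x.2)
  refine (hφ'e ⟨x, hx⟩).trans ?_
  have h1 : θ ((⟨φ x, hφS x⟩ : S)⁻¹ * ⟨ψ₁ ⟨x, hx⟩, apply_mem_S F hψ₁ _⟩) = 1 :=
    (hker _).2 (hψe x)
  rw [map_mul, map_inv, inv_mul_eq_one] at h1
  exact h1.symm

end CfsgLib.Fusion
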