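import Cfsg.Agent.Lib.Fusion.FunctorTransfer

/-!
# Control of central elements by a functor
-/

set_option autoImplicit false

open Cfsg Cfsg.FusionSystem

namespace CfsgLib.Fusion

universe u

section Fixed

variable {Ω : Type*} [Group Ω] {S : Subgroup Ω} {F : FusionSystem S} {p : ℕ} [Fact p.Prime]
  [Finite S]

variable (F) in
/-- Every map fixes `w` where it is defined. -/
def Fixes (w : Ω) : Prop := ∀ P, ∀ φ ∈ F.Hom P, ∀ x : P, (x : Ω) = w → φ x = w

omit [Fact p.Prime] in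
theorem mem_of_isCentric {P : Subgroup Ω} (hP : F.IsCentric P) {w : Ω}
    (hw : w ∈ centralizerIn S S) : w ∈ P :=
  hP.2 P (isConj_refl hP.1) ⟨hw.1, fun y hy => hw.2 y (hP.1 hy)⟩

/-- Fixed elements of the centre of `S` give maps of the centralizer system. -/
theorem le_centSys_of_fixes (hS : IsPGroup p S) (hF : F.IsSaturated p) {w : Ω}
    (hw : w ∈ centralizerIn S S) (hT : S = centralizerIn S (Subgroup.zpowers w))
    (hwS : Subgroup.zpowers w ≤ S) (hfix : Fixes F w) :
    F ≤ centSys F (Subgroup.zpowers w) hT hwS := by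
  refine alperin hS hF _ fun P hP α hα => ?_
  have hPc : F.IsCentric P := by
    rcases hP with rfl | hP
    · exact isCentricRadical_self hS hF
    · exact hP.1
  have hwP : Subgroup.zpowers w ≤ P := Subgroup.zpowers_le.2 (mem_of_isCentric hPc hw)
  have hαi := (mem_autGroup_iff F hPc.1).1 hα
  obtain ⟨ψ, hψ, hψe⟩ := mem_of_eq_sup (sup_eq_left.2 hwP).symm hαi
  refine mem_autGroup_of_mem (φ := P.subtype.comp α.toMonoidHom) _ ⟨hαi, hT ▸ hPc.1,
    fun x => hT.le (hPc.1 (α x).2), ψ, hψ, fun x => hψe _, fun x => ?_⟩ fun _ => rfl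
  obtain ⟨n, hn⟩ := Subgroup.mem_zpowers_iff.1 x.2
  rw [hψe]
  change (α ⟨x, hwP x.2⟩ : Ω) = x
  rw [show (⟨(x : Ω), hwP x.2⟩ : P) = ⟨w, hwP (Subgroup.mem_zpowers w)⟩ ^ n from
    Subtype.ext (by simp [hn]), map_zpow, Subgroup.coe_zpow]
  have h1 : (α ⟨w, hwP (Subgroup.mem_zpowers w)⟩ : Ω) = w := hfix P _ hαi _ rfl
  rw [h1, hn]

omit [Fact p.Prime] [Finite S] in
theorem fixes_of_le_centSys {w : Ω} {hT : S = centralizerIn S (Subgroup.zpowers w)}
    {hwS : Subgroup.zpowers w ≤ S} (h : F ≤ centSys F (Subgroup.zpowers w) hT hwS) :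
    Fixes F w := by
  intro P φ hφ x hx
  obtain ⟨-, -, -, ψ, -, hψe, hψw⟩ := h P hφ
  rw [← hψe]
  exact (congrArg ψ (Subtype.ext hx)).trans (hψw ⟨w, Subgroup.mem_zpowers w⟩)

/-- The automorphisms of a centric subgroup fix `w` when they fix it modulo `X` and act on `X` as
elements of `S`. -/
theorem fixes_of_fixes_mod (hS : IsPGroup p S) (hF : F.IsSaturated p) {X : Subgroup Ω}
    (hX : F.IsNormal X) (hI : InnerOn F X) {w : Ω} (hw : w ∈ centralizerIn S S)
    (hmod : ∀ P, ∀ φ ∈ F.Hom P, ∀ x : P, (x : Ω) = w → w⁻¹ * φ x ∈ X) : Fixes F w := by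
  classical
  have hwS : Subgroup.zpowers w ≤ S := Subgroup.zpowers_le.2 hw.1
  have hT : S = centralizerIn S (Subgroup.zpowers w) :=
    le_antisymm (le_inf le_rfl fun s hs y hy => by
      obtain ⟨n, rfl⟩ := Subgroup.mem_zpowers_iff.1 hy
      exact (Commute.zpow_left (hw.2 s hs).symm n).eq) inf_le_left
  refine fixes_of_le_centSys (hT := hT) (hwS := hwS) (alperin hS hF _ fun P hP α hα => ?_)
  obtain ⟨hPc, hPn, hXP⟩ : F.IsCentric P ∧ F.IsFullyNormalized P ∧ X ≤ P := by
    rcases hP with rfl | hP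
    · exact ⟨isCentricRadical_self hS hF, isFullyNormalized_self, hX.1⟩
    · exact ⟨hP.1, hP.2.1, le_of_isNormal hS hX hP.1 (isRadical_of_isEssential hS hP)⟩
  have hPS := hPc.1
  have := finite_of_le hPS
  set wP : P := ⟨w, mem_of_isCentric hPc hw⟩ with hwP
  set H : Subgroup (F.autGroup P) :=
    (MulAction.stabilizer (MulAut P) wP).subgroupOf (F.autGroup P) with hH
  have hmemH : ∀ {β : F.autGroup P}, β ∈ H ↔ (β : MulAut P) wP = wP := Iff.rfl
  obtain ⟨-, R, hR⟩ := (fullyAutomized_receptive_of_fullyNormalized hS hF hPn).1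
  have hpi : ¬ p ∣ H.index := by
    intro h
    refine R.not_dvd_index (h.trans (Subgroup.index_dvd_of_le ?_))
    intro β hβ
    rw [hR, Subgroup.mem_subgroupOf, mem_autInducedBy_iff] at hβ
    obtain ⟨g, hg, hge⟩ := hβ
    refine hmemH.2 (Subtype.ext ?_)
    rw [hge, hwP]
    exact (mul_inv_eq_iff_eq_mul.2 (hw.2 g hg))
  have hq : ∀ β : F.autGroup P, ¬ p ∣ orderOf β → β ∈ H := by
    intro β hβ
    have hβF := (mem_autGroup_iff F hPS).1 β.2
    obtain ⟨s, hs, hse⟩ := hI P _ hβF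
    have hsn : s ∈ Subgroup.normalizer (X : Set Ω) :=
      le_normalizer_of_stronglyClosed (stronglyClosed_of_isNormal hX) hs
    have hXfin := finite_of_le hX.1
    set c := normAut s hsn with hc
    have hiter : ∀ (n : ℕ) (x : X), (((β : MulAut P) ^ n) ⟨x, hXP x.2⟩ : P) =
        (⟨((c ^ n) x : X), hXP ((c ^ n) x).2⟩ : P) := by
      intro n
      induction n with
      | zero => intro x; simp
      | succ n ih =>
        intro x
        rw [pow_succ', MulAut.mul_apply, ih]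
        refine Subtype.ext ((hse _ ((c ^ n) x).2).trans ?_)
        rw [pow_succ', MulAut.mul_apply]
        rfl
    have hc1 : c = 1 := by
      have h1 : c ^ orderOf β = 1 := by
        refine MulEquiv.ext fun x => Subtype.ext ?_
        have h2 := hiter (orderOf β) x
        rw [show ((β : MulAut P) ^ orderOf β) = 1 by
          rw [← SubmonoidClass.coe_pow, pow_orderOf_eq_one]; rfl] at h2
        exact (congrArg (fun y : P => (y : Ω)) h2).symm
      obtain ⟨j, hj⟩ := hS ⟨s, hs⟩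
      have h3 : c ^ p ^ j = 1 := by
        have h4 : (⟨s, hsn⟩ : Subgroup.normalizer (X : Set Ω)) ^ p ^ j = 1 :=
          Subtype.ext (by simpa using congrArg Subtype.val hj)
        rw [hc, normAut, ← map_pow, h4, map_one]
      exact (pow_eq_one_iff_of_coprime (m := orderOf β) (n := p ^ j)
        (((Fact.out : p.Prime).coprime_iff_not_dvd.2 hβ).symm.pow_right j)).1 ⟨h1, h3⟩
    have hfixX : ∀ x : P, (x : Ω) ∈ X → (β : MulAut P) x = x := by
      intro x hx
      have h5 := hiter 1 ⟨x, hx⟩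
      rw [hc1, one_pow, pow_one] at h5
      exact h5
    -- `β` moves `w` by an element of `X` that it fixes
    set x₀ : P := wP⁻¹ * (β : MulAut P) wP with hx₀
    have hx₀X : (x₀ : Ω) ∈ X := hmod P _ hβF wP rfl
    have hstep : ∀ n : ℕ, ((β : MulAut P) ^ n) wP = wP * x₀ ^ n := by
      intro n
      induction n with
      | zero => simp
      | succ n ih =>
        rw [pow_succ', MulAut.mul_apply, ih, map_mul, map_pow, hfixX x₀ hx₀X,
          show (β : MulAut P) wP = wP * x₀ by rw [hx₀, mul_inv_cancel_left], mul_assoc,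
          ← pow_succ']
    have h6 := hstep (orderOf β)
    rw [show ((β : MulAut P) ^ orderOf β) = 1 by
      rw [← SubmonoidClass.coe_pow, pow_orderOf_eq_one]; rfl, MulAut.one_apply, left_eq_mul] at h6
    obtain ⟨j, hj⟩ := (hS.to_le hPS) x₀
    have h7 : x₀ = 1 := (pow_eq_one_iff_of_coprime (m := orderOf β) (n := p ^ j)
      (((Fact.out : p.Prime).coprime_iff_not_dvd.2 hβ).symm.pow_right j)).1 ⟨h6, hj⟩
    exact hmemH.2 (inv_mul_eq_one.1 h7).symm
  have htop : H = ⊤ := by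
    rw [← Subgroup.index_eq_one]
    refine Nat.eq_one_iff_not_exists_prime_dvd.2 fun q hqp hdvd => ?_
    have hqne : q ≠ p := fun h => hpi (h ▸ hdvd)
    have := Fact.mk hqp
    obtain ⟨Q⟩ : Nonempty (Sylow q (F.autGroup P)) := inferInstance
    refine Q.not_dvd_index (hdvd.trans (Subgroup.index_dvd_of_le fun β hβ => hq β ?_))
    obtain ⟨j, hj⟩ := Q.2 ⟨β, hβ⟩
    intro hp
    have h8 : orderOf β ∣ q ^ j := orderOf_dvd_of_pow_eq_one (congrArg Subtype.val hj)
    exact hqne ((Nat.prime_dvd_prime_iff_eq (Fact.out : p.Prime) hqp).1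
      ((Fact.out : p.Prime).dvd_of_dvd_pow (hp.trans h8))).symm
  have hαw : α wP = wP := hmemH.1 (htop.ge (Subgroup.mem_top ⟨α, hα⟩))
  have hαi := (mem_autGroup_iff F hPS).1 hα
  have hwP' : Subgroup.zpowers w ≤ P := Subgroup.zpowers_le.2 wP.2
  obtain ⟨ψ, hψ, hψe⟩ := mem_of_eq_sup (sup_eq_left.2 hwP').symm hαi
  refine mem_autGroup_of_mem (φ := P.subtype.comp α.toMonoidHom) _ ⟨hαi, hT ▸ hPS,
    fun x => hT.le (hPS (α x).2), ψ, hψ, fun x => hψe _, fun x => ?_⟩ fun _ => rfl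
  obtain ⟨n, hn⟩ := Subgroup.mem_zpowers_iff.1 x.2
  rw [hψe]
  change (α ⟨x, hwP' x.2⟩ : Ω) = x
  rw [show (⟨(x : Ω), hwP' x.2⟩ : P) = wP ^ n from Subtype.ext (by simp [hn, hwP]), map_zpow, hαw]
  simp [hwP, hn]

end Fixed

variable (W : ∀ (Q : Type u) [Group Q], Subgroup Q) {p : ℕ} [Fact p.Prime]
  (hW1 : ∀ (Q : Type u) [Group Q] [Finite Q], IsPGroup p Q → Nontrivial Q → W Q ≠ ⊥)
  (hW2 : ∀ (Q R : Type u) [Group Q] [Group R] [Finite Q], IsPGroup p Q →
    ∀ φ : Q ≃* R, (W Q).map φ.toMonoidHom = W R)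

include hW1 hW2 in
/-- `k`-th powers of central elements of `S` fixed by `N_F(W S)` are fixed by `F` when this holds
in constrained systems. -/
theorem fixes_of_fixes_local_good (k : ℕ)
    (Good : ∀ (Ω : Type u) [Group Ω] (S : Subgroup Ω), FusionSystem S → Prop)
    (hGsub : ∀ (Ω : Type u) [Group Ω] (S : Subgroup Ω) (F : FusionSystem S) (T : Subgroup Ω)
      (E : FusionSystem T), T ≤ S → E.IsSubsystemOf F → Good Ω S F → Good Ω T E)
    (hGfac : ∀ (Ω : Type u) [Group Ω] (S : Subgroup Ω) [Finite S] (F : FusionSystem S) (X : Subgroup Ω)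
      (Ω' : Type u) [Group Ω'] (S' : Subgroup Ω') (θ : S →* Ω') (E : FusionSystem S'),
      IsPGroup p S → F.IsSaturated p → F.IsNormal X → F.IsFactorSystem X θ E → Good Ω S F → Good Ω' S' E)
    (hbase : ∀ (Ω : Type u) [Group Ω] (S : Subgroup Ω) [Finite S] (F : FusionSystem S),
      IsPGroup p S → F.IsSaturated p → Good Ω S F → centralizerIn S F.core ≤ F.core →
      ∀ z ∈ centralizerIn S S,
        (∀ P, ∀ φ ∈ F.normalizerHom (wImg W S) P, ∀ x : P, (x : Ω) = z ^ k → φ x = z ^ k) →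
        Fixes F (z ^ k))
    {Ω : Type u} [Group Ω] {S : Subgroup Ω} [Finite S] (F : FusionSystem S) :
    IsPGroup p S → F.IsSaturated p → Good Ω S F → ∀ z ∈ centralizerIn S S,
      (∀ P, ∀ φ ∈ F.normalizerHom (wImg W S) P, ∀ x : P, (x : Ω) = z ^ k → φ x = z ^ k) →
      Fixes F (z ^ k) := by
  apply system_induction (C := fun Ω _ S F => IsPGroup p S → F.IsSaturated p → Good Ω S F →
    ∀ z ∈ centralizerIn S S,
      (∀ P, ∀ φ ∈ F.normalizerHom (wImg W S) P, ∀ x : P, (x : Ω) = z ^ k → φ x = z ^ k) →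
      Fixes F (z ^ k))
  clear! Ω
  intro Ω _ S _ F ihq ihs hS hF hG z hz hN₀
  by_cases hc : centralizerIn S F.core ≤ F.core
  · exact hbase Ω S F hS hF hG hc z hz hN₀
  set w := z ^ k with hwdef
  have hw : w ∈ centralizerIn S S := (centralizerIn S S).pow_mem hz k
  have hwS : Subgroup.zpowers w ≤ S := Subgroup.zpowers_le.2 hw.1
  have hT : S = centralizerIn S (Subgroup.zpowers w) :=
    le_antisymm (le_inf le_rfl fun s hs y hy => by
      obtain ⟨n, rfl⟩ := Subgroup.mem_zpowers_iff.1 hy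
      exact (Commute.zpow_left (hw.2 s hs).symm n).eq) inf_le_left
  -- subsystems
  have hsub : ∀ (T : Subgroup Ω) [Finite T] (E : FusionSystem T), T ≤ S → E.IsSaturated p →
      E.IsSubsystemOf F → (¬ ∀ P, F.Hom P ⊆ E.Hom P) → z ∈ T →
      (∀ P, ∀ φ ∈ E.normalizerHom (wImg W T) P, ∀ x : P, (x : Ω) = w → φ x = w) →
      ∀ P, ∀ φ ∈ E.Hom P, φ ∈ (centSys F (Subgroup.zpowers w) hT hwS).Hom P := by
    intro T _ E hTS hE hEF hne hzT hN P φ hφ
    have hzT' : z ∈ centralizerIn T T := ⟨hzT, fun y hy => hz.2 y (hTS hy)⟩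
    have hfix := ihs T E hTS hEF hne (hS.to_le hTS) hE (hGsub Ω S F T E hTS hEF hG) z hzT' hN
    have hwT : w ∈ centralizerIn T T := (centralizerIn T T).pow_mem hzT' k
    obtain ⟨-, -, -, ψ, hψ, hψe, hψw⟩ := le_centSys_of_fixes (hS.to_le hTS) hE hwT
      (le_antisymm (le_inf le_rfl fun s hs y hy => by
        obtain ⟨n, rfl⟩ := Subgroup.mem_zpowers_iff.1 hy
        exact (Commute.zpow_left (hwT.2 s hs).symm n).eq) inf_le_left)
      (Subgroup.zpowers_le.2 hwT.1) hfix P hφ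
    exact ⟨hEF P hφ, hT ▸ (le_S E hφ).trans hTS, fun x => hT.le (hTS (apply_mem_S E hφ x)), ψ,
      hEF _ hψ, hψe, hψw⟩
  have hWn := le_normalizerIn_wImg W hW2 hS
  have hWS : wImg W S ≤ S := wImg_le W S
  have hNE : ∀ P, ∀ φ ∈ F.normalizerHom (wImg W S) P,
      φ ∈ (centSys F (Subgroup.zpowers w) hT hwS).Hom P := by
    intro P φ hφ
    have hWfn : F.IsFullyNormalized (wImg W S) :=
      isFullyNormalized_of_normal hWS fun s hs => (hWn hs).2
    have hTS : normalizerIn S (wImg W S) = S := le_antisymm (normalizerIn_le _) hWn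
    have := finite_of_le (normalizerIn_le (S := S) (wImg W S))
    have hwT : w ∈ centralizerIn (normalizerIn S (wImg W S)) (normalizerIn S (wImg W S)) := by
      rw [hTS]; exact hw
    obtain ⟨-, -, -, ψ, hψ, hψe, hψw⟩ := le_centSys_of_fixes
      (F := normSys F (wImg W S) rfl hWS) (hS.to_le (normalizerIn_le _))
      (isSaturated_normSys hS hF hWfn) hwT
      (le_antisymm (le_inf le_rfl fun s hs y hy => by
        obtain ⟨n, rfl⟩ := Subgroup.mem_zpowers_iff.1 hy
        exact (Commute.zpow_left (hwT.2 s hs).symm n).eq) inf_le_left)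
      (Subgroup.zpowers_le.2 hwT.1) (fun P φ hφ => hN₀ P φ hφ) P hφ
    exact ⟨hφ.1, hT ▸ le_S F hφ.1, fun x => hT.le (apply_mem_S F hφ.1 x), ψ, hψ.1, hψe, hψw⟩
  by_cases hX : F.core = ⊥
  · refine fixes_of_le_centSys (hT := hT) (hwS := hwS) (le_of_ascend hS hF (wImg W)
      (fun T _ => wImg_le W T) (fun T hT => wImg_ne_bot W hW1 hS hT)
      (fun T hT => normalizerIn_le_wImg W hW2 hS hT) _ (fun P φ hφ => ?_)
      fun U hU hUn hUIH P φ hφ => ?_)
    · exact hNE P φ hφ
    have hnot : ¬ F.IsNormal U := fun h => hU (le_bot_iff.1 (hX ▸ le_sSup h))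
    have := finite_of_le (normalizerIn_le (S := S) U)
    refine hsub _ (normSys F U rfl hUn.1) (normalizerIn_le U) (isSaturated_normSys hS hF hUn)
      (normSys_isSubsystemOf hUn.1) (normSys_proper hUn.1 hnot)
      ⟨hz.1, mem_normalizer_of_forall_commute fun y hy => (hz.2 y (hUn.1 hy))⟩
      (fun P ψ hψ x hx => ?_) P φ hφ
    obtain ⟨h1, h2⟩ := normalizerHom_normSys hUn.1 _ P hψ
    obtain ⟨-, -, -, χ, -, hχe, hχw⟩ := hUIH P ψ h1 h2
    rw [← hχe]
    exact (congrArg χ (Subtype.ext hx)).trans (hχw ⟨w, Subgroup.mem_zpowers w⟩)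
  have hXn : F.IsNormal F.core := isNormal_core
  have hXS := hXn.1
  have hXnS := le_normalizer_of_stronglyClosed (stronglyClosed_of_isNormal hXn)
  have hXne : F.core ≠ S := fun h => hc ((centralizerIn_le _).trans h.ge)
  by_cases hinner : ∀ P, F.Hom P ⊆ (innerOnSys F F.core hXS hXnS).Hom P
  · -- pass to the quotient by the core
    refine fixes_of_fixes_mod hS hF hXn (innerOn_of_innerOnSys hinner) hw ?_
    obtain ⟨Ω', _, S', _, θ, E, hS', hlt, hEsat, hE, hθ⟩ := exists_quotient hS hF hXn hX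
    have hS'ne : S' ≠ ⊥ := by
      intro h
      refine hXne (le_antisymm hXS fun s hs => ?_)
      exact (hE.2.1 ⟨s, hs⟩).1 (Subgroup.mem_bot.1 (h ▸ hE.2.2.1.le ⟨_, rfl⟩))
    set U' := wImg W S'
    set U := preimageAlong θ U'
    have hU'S : U' ≤ S' := wImg_le W S'
    have hUS : U ≤ S := preimageAlong_le θ U'
    have hXU : F.core < U := lt_preimageAlong hE hU'S (wImg_ne_bot W hW1 hS' le_rfl hS'ne)
    have hnot : ¬ F.IsNormal U := fun h => hXU.not_ge (le_sSup h)
    have hSU := le_normalizerIn_preimageAlong hE (le_normalizerIn_wImg W hW2 hS')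
    have hUn : F.IsFullyNormalized U := isFullyNormalized_of_normal hUS hSU
    have := finite_of_le (normalizerIn_le (S := S) U)
    have hTU : normalizerIn S U = S := le_antisymm (normalizerIn_le U) (le_inf le_rfl hSU)
    have hUmaps := hsub _ (normSys F U rfl hUS) (normalizerIn_le U) (isSaturated_normSys hS hF hUn)
      (normSys_isSubsystemOf hUS) (normSys_proper hUS hnot) (by rw [hTU]; exact hz.1) (fun P ψ hψ x hx => by
        obtain ⟨-, h2⟩ := normalizerHom_normSys hUS _ P hψ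
        rw [hTU] at h2
        exact hN₀ P ψ h2 x hx)
    set z' : Ω' := θ ⟨z, hz.1⟩ with hz'
    have hwθ : ∀ h : w ∈ S, θ ⟨w, h⟩ = z' ^ k := fun h => by
      rw [hz', ← map_pow]; exact congrArg θ (Subtype.ext rfl)
    have hz'c : z' ∈ centralizerIn S' S' := by
      refine ⟨hE.2.2.1.le ⟨_, rfl⟩, fun y hy => ?_⟩
      obtain ⟨s, rfl⟩ := hE.2.2.1.ge hy
      rw [hz', ← map_mul, ← map_mul]
      exact congrArg θ (Subtype.ext (hz.2 s s.2))
    have hfix := ihq Ω' S' E hlt hS' hEsat (hGfac Ω S F _ Ω' S' θ E hS hF hXn hE hG) z' hz'c ?_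
    · intro P φ hφ x hx
      obtain ⟨φ', hφ', hP, hφS, hθP, hφe⟩ := hθ.1.2 P φ hφ
      have h1 : θ ⟨φ x, hφS x⟩ = θ ⟨w, hw.1⟩ := by
        rw [← hφe x, hwθ]
        exact hfix _ φ' hφ' _ ((congrArg θ (Subtype.ext hx)).trans (hwθ hw.1))
      have h2 : θ ((⟨w, hw.1⟩ : S)⁻¹ * ⟨φ x, hφS x⟩) = 1 := by
        rw [map_mul, map_inv, h1, inv_mul_cancel]
      exact (hE.2.1 _).1 h2
    · intro P' φ' hφ' y hy
      obtain ⟨φ, hφ, hP, hφS, hθP, hφe⟩ := exists_lift_normalizerHom hE hU'S hφ'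
      have hwP : w ∈ preimageAlong θ P' :=
        (mem_preimageAlong (θ := θ) (s := ⟨w, hw.1⟩)).2 (by rw [hwθ, ← hy]; exact y.2)
      have h1 : φ ⟨w, hwP⟩ = w := by
        obtain ⟨-, -, -, χ, -, hχe, hχw⟩ := hUmaps _ φ hφ
        rw [← hχe]
        exact hχw ⟨w, Subgroup.mem_zpowers w⟩
      have h2 : (⟨θ ⟨w, hP hwP⟩, hθP ⟨w, hwP⟩⟩ : P') = y := Subtype.ext ((hwθ _).trans hy.symm)
      rw [← h2, hφe ⟨w, hwP⟩, ← hwθ hw.1]
      exact congrArg θ (Subtype.ext h1)
  · refine fixes_of_le_centSys (hT := hT) (hwS := hwS) ?_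
    have hYS : F.core ⊔ centralizerIn S F.core ≤ S := sup_le hXS (centralizerIn_le _)
    have hYn := le_normalizer_sup_centralizerIn (S := S) hXS hXnS
    have hYfn : F.IsFullyNormalized _ := isFullyNormalized_of_normal hYS hYn
    have hTY : normalizerIn S (F.core ⊔ centralizerIn S F.core) = S :=
      le_antisymm (normalizerIn_le _) (le_inf le_rfl hYn)
    have := finite_of_le (normalizerIn_le (S := S) (F.core ⊔ centralizerIn S F.core))
    refine le_of_split hS hF hXn _ (fun P φ hφ => ?_) (fun P hXP φ hφ hfix => ?_)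
    · refine hsub _ (normSys F _ rfl hYS) (normalizerIn_le _) (isSaturated_normSys hS hF hYfn)
        (normSys_isSubsystemOf hYS) (normSys_proper hYS (not_isNormal_sup_centralizerIn hc))
        (by rw [hTY]; exact hz.1) (fun P ψ hψ x hx => ?_) P φ hφ
      obtain ⟨-, h2⟩ := normalizerHom_normSys hYS _ P hψ
      rw [hTY] at h2
      exact hN₀ P ψ h2 x hx
    · exact hsub S _ le_rfl (isSaturated_innerOnSys hS hF hXn) (fun P φ h => h.1) hinner hz.1
        (fun P ψ hψ x hx => hN₀ P ψ (normalizerHom_mono le_rfl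
          (show (innerOnSys F F.core hXS hXnS).IsSubsystemOf F from fun _ _ h => h.1) _ P hψ) x hx)
        P φ (mem_innerOnSys_of_fixed hXP hφ hfix)

include hW1 hW2 in
/-- `fixes_of_fixes_local_good` without a side condition. -/
theorem fixes_of_fixes_local (k : ℕ)
    (hbase : ∀ (Ω : Type u) [Group Ω] (S : Subgroup Ω) [Finite S] (F : FusionSystem S),
      IsPGroup p S → F.IsSaturated p → centralizerIn S F.core ≤ F.core →
      ∀ z ∈ centralizerIn S S,
        (∀ P, ∀ φ ∈ F.normalizerHom (wImg W S) P, ∀ x : P, (x : Ω) = z ^ k → φ x = z ^ k) →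
        Fixes F (z ^ k))
    {Ω : Type u} [Group Ω] {S : Subgroup Ω} [Finite S] (F : FusionSystem S) :
    IsPGroup p S → F.IsSaturated p → ∀ z ∈ centralizerIn S S,
      (∀ P, ∀ φ ∈ F.normalizerHom (wImg W S) P, ∀ x : P, (x : Ω) = z ^ k → φ x = z ^ k) →
      Fixes F (z ^ k) := fun hS hF =>
  fixes_of_fixes_local_good W hW1 hW2 k (fun _ _ _ _ => True) (fun _ _ _ _ _ _ _ _ _ => trivial)
    (fun _ _ _ _ _ _ _ _ _ _ _ _ _ _ _ _ => trivial)
    (fun Ω _ S _ F' hS hF' _ => hbase Ω S F' hS hF') F hS hF trivial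

end CfsgLib.Fusion
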