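import Cfsg.Agent.Lib.Fusion.Transport
import Cfsg.Agent.Lib.Fusion.Normal

set_option autoImplicit false

open Cfsg Cfsg.FusionSystem

namespace CfsgLib.Fusion

variable {Ω : Type*} [Group Ω] {S : Subgroup Ω} {F : FusionSystem S} {G : Type*} [Group G]
  {ι : S →* G}

/-- An element of `G` conjugating `ι(P)` into `ι(S)` gives a map of the realized system. -/
theorem exists_map_of_conj (h : F.IsRealizedBy ι) {P : Subgroup Ω} (hP : P ≤ S) {g : G}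
    (hg : ∀ x : P, g * ι ⟨x, hP x.2⟩ * g⁻¹ ∈ ι.range) :
    ∃ φ ∈ F.Hom P, ∃ hφ : ∀ x, φ x ∈ S,
      ∀ x : P, ι ⟨φ x, hφ x⟩ = g * ι ⟨x, hP x.2⟩ * g⁻¹ := by
  let f : P →* G := (MulAut.conj g).toMonoidHom.comp (ι.comp (Subgroup.inclusion hP))
  let φ : P →* Ω := (S.subtype.comp (MonoidHom.ofInjective h.1).symm.toMonoidHom).comp
    (f.codRestrict ι.range hg)
  have hφS : ∀ x, φ x ∈ S := fun x => ((MonoidHom.ofInjective h.1).symm _).2
  have he : ∀ x, ι ⟨φ x, hφS x⟩ = g * ι ⟨x, hP x.2⟩ * g⁻¹ := fun x =>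
    congrArg Subtype.val ((MonoidHom.ofInjective h.1).apply_symm_apply _)
  exact ⟨φ, (h.2 P hP φ hφS).2 ⟨g, he⟩, hφS, he⟩

/-- The preimage of a normal subgroup of `G` inside `ι(S)` is normal in the system. -/
theorem isNormal_preimage (h : F.IsRealizedBy ι) {U : Subgroup G} [hU : U.Normal]
    (hUS : U ≤ ι.range) : F.IsNormal ((U.comap ι).map S.subtype) := by
  set Q : Subgroup Ω := (U.comap ι).map S.subtype with hQdef
  have hQS : Q ≤ S := Subgroup.map_subtype_le _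
  refine ⟨hQS, fun P φ hφ => ?_⟩
  have hP := le_S F hφ
  obtain ⟨g, hg⟩ := (h.2 P hP φ (apply_mem_S F hφ)).1 hφ
  have hsup : ∀ x : (P ⊔ Q : Subgroup Ω), g * ι ⟨x, sup_le hP hQS x.2⟩ * g⁻¹ ∈ ι.range := by
    intro x
    have hle : P ⊔ Q ≤ (ι.range.comap ((MulAut.conj g).toMonoidHom.comp ι)).map S.subtype := by
      refine sup_le (fun y hy => ⟨⟨y, hP hy⟩, ⟨_, hg ⟨y, hy⟩⟩, rfl⟩) ?_
      rintro _ ⟨y, hy, rfl⟩
      exact ⟨y, hUS (hU.conj_mem _ hy g), rfl⟩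
    obtain ⟨z, hz, hze⟩ := hle x.2
    rw [show (⟨x, sup_le hP hQS x.2⟩ : S) = z from Subtype.ext hze.symm]
    exact hz
  obtain ⟨ψ, hψ, hψS, hψe⟩ := exists_map_of_conj h (sup_le hP hQS) hsup
  refine ⟨ψ, hψ, fun x => ?_, ?_⟩
  · exact congrArg Subtype.val (h.1 ((hψe (Subgroup.inclusion le_sup_left x)).trans (hg x).symm))
  · change img ψ Q = Q
    ext y
    rw [mem_img]
    constructor
    · rintro ⟨x, ⟨z, hz, hze⟩, rfl⟩
      refine ⟨⟨ψ x, hψS x⟩, ?_, rfl⟩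
      change ι ⟨ψ x, hψS x⟩ ∈ U
      rw [hψe, show (⟨(x : Ω), sup_le hP hQS x.2⟩ : S) = z from Subtype.ext hze.symm]
      exact hU.conj_mem _ hz g
    · rintro ⟨y, hy, rfl⟩
      have h1 : g⁻¹ * ι y * g⁻¹⁻¹ ∈ U := hU.conj_mem _ hy g⁻¹
      obtain ⟨w, hw⟩ := hUS h1
      have hwQ : (w : Ω) ∈ Q := ⟨w, show ι w ∈ U from hw ▸ h1, rfl⟩
      refine ⟨⟨w, le_sup_right (a := P) hwQ⟩, hwQ, congrArg Subtype.val (h.1 (a₁ := ⟨_, hψS _⟩)
        (a₂ := y) ?_)⟩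
      rw [hψe]
      change g * ι w * g⁻¹ = ι y
      rw [hw]
      group

/-- A system with a model is constrained. -/
theorem isConstrained_of_isModel [Finite S] {p : ℕ} [Fact p.Prime] (hS : IsPGroup p S)
    (hM : F.IsModel p G ι) : F.IsConstrained p := by
  obtain ⟨hG, hreal, ⟨T, hT⟩, hC⟩ := hM
  have hUr : (pCore p G : Subgroup G) ≤ ι.range := hT ▸ Cores.pCore_le_sylow T
  have hQ := isNormal_preimage hreal hUr
  refine ⟨isSaturated_of_isRealizedBy hS hreal T hT, _, hQ, hQ.1, fun R hR => ?_⟩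
  obtain ⟨φ, hφ, rfl⟩ := hR
  rw [(weaklyClosed_of_stronglyClosed (stronglyClosed_of_isNormal hQ)).2 φ hφ]
  intro c hc
  refine ⟨⟨c, hc.1⟩, hC fun u hu => ?_, rfl⟩
  obtain ⟨s, rfl⟩ := hUr hu
  rw [← map_mul, ← map_mul]
  exact congrArg ι (Subtype.ext (hc.2 (s : Ω) ⟨s, hu, rfl⟩))

end CfsgLib.Fusion
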