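import Cfsg.Agent.Lib.Fusion.MonomialDet
import Cfsg.Agent.Lib.Fusion.Biset
import Cfsg.Agent.Lib.Fusion.BisetTransfer
import Cfsg.Agent.Lib.Fusion.Centric
import Cfsg.Agent.Lib.Fusion.Normal
import Cfsg.Agent.Lib.Cores.Basic

/-!
# Existence of models of constrained fusion systems

Let `Q` be normal and centric in the saturated system `F`, `A = Aut_F(Q)` and `X` a characteristic
biset. The pairs `(α, γ)` with `α ∈ A` and `γ` a permutation of `X` commuting with the right action
and semilinear for the left action of `Q` form a group `N`. The kernel `C` of `N → A` has a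
transfer `C →* Z(Q)` which commutes with `N` and is a power prime to `p` on `Z(Q)`. The quotient of
`N` by its kernel is the model.
-/

set_option autoImplicit false

open Cfsg Cfsg.FusionSystem

namespace CfsgLib.Fusion

universe u

open MulAction

variable {Ω : Type u} [Group Ω] {S : Subgroup Ω} {F : FusionSystem S}

theorem perm_apply_inv {X : Type*} (e : Equiv.Perm X) (y : X) : e (e⁻¹ y) = y :=
  e.apply_symm_apply y

section Construction

variable (F) (Q : Subgroup Ω) (hQS : Q ≤ S) (X : Type u) [MulAction (S × S) X]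

/-- Pairs of an automorphism of `Q` and a compatible permutation. -/
def pairGroup : Subgroup (MulAut Q × Equiv.Perm X) where
  carrier := {n | n.1 ∈ F.autGroup Q ∧
    (∀ (b : S) (x : X), n.2 (((1 : S), b) • x) = ((1 : S), b) • n.2 x) ∧
    ∀ (q : Q) (x : X), n.2 ((Subgroup.inclusion hQS q, (1 : S)) • x) =
      (Subgroup.inclusion hQS (n.1 q), (1 : S)) • n.2 x}
  one_mem' := ⟨one_mem _, fun _ _ => rfl, fun _ _ => rfl⟩
  mul_mem' := by
    rintro n m ⟨h1, h2, h3⟩ ⟨k1, k2, k3⟩
    refine ⟨mul_mem h1 k1, fun b x => ?_, fun q x => ?_⟩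
    · change n.2 (m.2 _) = _ • n.2 (m.2 x)
      rw [k2, h2]
    · change n.2 (m.2 _) = _ • n.2 (m.2 x)
      rw [k3, h3]
      rfl
  inv_mem' := by
    rintro n ⟨h1, h2, h3⟩
    refine ⟨inv_mem h1, fun b x => ?_, fun q x => ?_⟩
    · apply n.2.injective
      change n.2 (n.2⁻¹ _) = n.2 (_ • n.2⁻¹ x)
      rw [h2, perm_apply_inv, perm_apply_inv]
    · apply n.2.injective
      change n.2 (n.2⁻¹ _) = n.2 (_ • n.2⁻¹ x)
      rw [h3, perm_apply_inv, perm_apply_inv]
      simp

/-- The automorphism component. -/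
def pairProj : pairGroup F Q hQS X →* MulAut Q :=
  (MonoidHom.fst _ _).comp (pairGroup F Q hQS X).subtype

variable (hQn : S ≤ Subgroup.normalizer (Q : Set Ω))

/-- The embedding of `S`. -/
def pairEmb : S →* pairGroup F Q hQS X where
  toFun s := ⟨(normAut (s : Ω) (hQn s.2),
      MulAction.toPermHom (S × S) X (s, 1)), by
    refine ⟨autInducedBy_le_autGroup hQS (mem_autInducedBy_iff.2 ⟨s, s.2, fun _ => rfl⟩),
      fun b x => ?_, fun q x => ?_⟩
    · change ((s, (1 : S)) : S × S) • ((1 : S), b) • x = ((1 : S), b) • (s, (1 : S)) • x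
      rw [smul_smul, smul_smul]
      simp
    · change ((s, (1 : S)) : S × S) • (Subgroup.inclusion hQS q, (1 : S)) • x = _ • (s, (1 : S)) • x
      rw [smul_smul, smul_smul]
      congr 1
      exact Prod.ext (Subtype.ext (by simp)) (by simp)⟩
  map_one' := Subtype.ext (Prod.ext (MulEquiv.ext fun q => Subtype.ext (by simp))
    (Equiv.ext fun x => one_smul (S × S) x))
  map_mul' s t := Subtype.ext (Prod.ext (MulEquiv.ext fun q => Subtype.ext (by simp [mul_assoc]))
    (Equiv.ext fun x => by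
      change ((s * t, (1 : S)) : S × S) • x = (s, (1 : S)) • (t, (1 : S)) • x
      rw [smul_smul]
      simp))

end Construction

variable {p : ℕ} [Fact p.Prime] [Finite S]

/-- **Existence of models.** -/
theorem exists_model_of_normal_centric (hS : IsPGroup p S) (hF : F.IsSaturated p) {Q : Subgroup Ω}
    (hQ : F.IsNormal Q) (hQc : F.IsCentric Q) :
    ∃ (G : Type u) (_ : Group G) (ι : S →* G), F.IsModel p G ι := by
  classical
  have hQS := hQ.1
  have hQsc := stronglyClosed_of_isNormal hQ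
  have hQn : S ≤ Subgroup.normalizer (Q : Set Ω) := le_normalizer_of_stronglyClosed hQsc
  have hQfin := finite_of_le hQS
  have hQr := receptive_of_isCentric hS hF hQc
  have hQF : F.IsFullyNormalized Q := by
    refine ⟨hQS, fun R _ => ?_⟩
    have hT : normalizerIn S Q = S := le_antisymm (normalizerIn_le Q) (le_inf le_rfl hQn)
    exact hT.symm ▸ Subgroup.card_le_of_le (normalizerIn_le R)
  have hQa := (fullyAutomized_receptive_of_fullyNormalized hS hF hQF).1
  have hZQ : ∀ {z : Ω}, z ∈ centralizerIn S Q → z ∈ Q := fun h => hQc.2 Q (isConj_refl hQS) h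
  obtain ⟨X, instX, hXfin, hstab, ⟨m, hcard, hpm⟩, hlift, -⟩ := exists_biset hS hF
  -- the right action is free
  have hfreeR : ∀ (b : S) (x : X), ((1 : S), b) • x = x → b = 1 := by
    intro b x h
    obtain ⟨P, φ, -, hst⟩ := hstab x
    have h1 : ((1 : S), b) ∈ (graphSub φ : Subgroup (S × S)) := hst ▸ mem_stabilizer_iff.2 h
    obtain ⟨h2, h3⟩ := h1
    exact Subtype.ext (h3.symm.trans ((congrArg φ (Subtype.ext rfl)).trans (map_one φ)))
  have hgraph : ∀ {x : X} {a b b' : S}, ((a, b) : S × S) • x = x → ((a, b') : S × S) • x = x →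
      b = b' := fun h h' => right_cancel hfreeR (h.trans h'.symm)
  -- the points fixed by a twisted diagonal of `Q`
  let W : X → MulAut Q → Prop := fun x α =>
    α ∈ F.autGroup Q ∧ ∀ q : Q,
      ((Subgroup.inclusion hQS q, Subgroup.inclusion hQS (α q)) : S × S) • x = x
  have hWu : ∀ {x : X} {α α' : MulAut Q}, W x α → W x α' → α = α' := fun h h' =>
    MulEquiv.ext fun q => Subgroup.inclusion_injective hQS (hgraph (h.2 q) (h'.2 q))
  have hBA : autInducedBy S Q ≤ F.autGroup Q := autInducedBy_le_autGroup hQS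
  have hWb : ∀ {x : X} {α : MulAut Q} (b : S), W x α →
      W (((1 : S), b) • x) (normAut (b : Ω) (hQn b.2) * α) := by
    intro x α b h
    refine ⟨mul_mem (hBA (mem_autInducedBy_iff.2 ⟨b, b.2, fun _ => rfl⟩)) h.1, fun q => ?_⟩
    rw [smul_smul, show ((Subgroup.inclusion hQS q,
        Subgroup.inclusion hQS ((normAut (b : Ω) (hQn b.2) * α) q)) : S × S) * ((1 : S), b) =
      ((1 : S), b) * (Subgroup.inclusion hQS q, Subgroup.inclusion hQS (α q)) from
        Prod.ext (by simp) (Subtype.ext (by simp [mul_assoc])), mul_smul, h.2]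
  have hWγ : ∀ (n : pairGroup F Q hQS X) {x : X} {α : MulAut Q}, W x α →
      W ((n : MulAut Q × Equiv.Perm X).2 x) (α * ((n : MulAut Q × Equiv.Perm X).1)⁻¹) := by
    rintro ⟨⟨a, γ⟩, ha, hb, hq⟩ x α ⟨hα, h⟩
    refine ⟨mul_mem hα (inv_mem ha), fun q => ?_⟩
    have h1 := congrArg γ (h (a⁻¹ q))
    rw [show ((Subgroup.inclusion hQS (a⁻¹ q), Subgroup.inclusion hQS (α (a⁻¹ q))) : S × S) =
      (Subgroup.inclusion hQS (a⁻¹ q), 1) * (1, Subgroup.inclusion hQS (α (a⁻¹ q))) by simp,
      mul_smul, hq, hb, smul_smul] at h1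
    dsimp only at h1
    rw [MulAut.apply_inv_self] at h1
    simpa using h1
  -- representatives of the cosets of `Aut_S(Q)`
  let B : Subgroup (MulAut Q) := autInducedBy S Q
  let rep : MulAut Q → MulAut Q := fun α => (Quotient.mk (QuotientGroup.rightRel B) α).out
  have hrep : ∀ α, ∃ b : S, normAut (b : Ω) (hQn b.2) * α = rep α := by
    intro α
    have h1 : (QuotientGroup.rightRel B).r α (rep α) :=
      Quotient.exact (Quotient.out_eq (Quotient.mk (QuotientGroup.rightRel B) α)).symm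
    obtain ⟨g, hg, hge⟩ := mem_autInducedBy_iff.1 (QuotientGroup.rightRel_apply.1 h1)
    refine ⟨⟨g, hg⟩, ?_⟩
    rw [show normAut g (hQn hg) = rep α * α⁻¹ from
      MulEquiv.ext fun q => Subtype.ext (hge q).symm, inv_mul_cancel_right]
  choose bb hbb using hrep
  have hrepB : ∀ (b : S) (α : MulAut Q), rep (normAut (b : Ω) (hQn b.2) * α) = rep α := by
    intro b α
    refine congrArg Quotient.out (Quotient.sound ?_)
    refine QuotientGroup.rightRel_apply.2 ?_
    rw [mul_inv_rev, mul_inv_cancel_left]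
    exact B.inv_mem (mem_autInducedBy_iff.2 ⟨b, b.2, fun _ => rfl⟩)
  have hreprep : ∀ α, rep (rep α) = rep α := fun α => by
    conv_lhs => rw [← hbb α, hrepB]
  have hrepInj : ∀ {α α' γ : MulAut Q}, rep α = α → rep α' = α' →
      rep (α * γ) = rep (α' * γ) → α = α' := by
    intro α α' γ h h' h''
    rw [← hbb (α * γ), ← hbb (α' * γ), ← mul_assoc, ← mul_assoc] at h''
    have h3 := congrArg rep (mul_right_cancel h'')
    rwa [hrepB, hrepB, h, h'] at h3
  -- the set `Y` and the free action of `Z = C_S(Q)`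
  let Y := {x : X // ∃ α, W x α ∧ rep α = α}
  have : Finite Y := Subtype.finite
  let Z := centralizerIn S Q
  letI : CommGroup Z := { (inferInstance : Group Z) with
    mul_comm := fun a b => Subtype.ext (b.2.2 a (hZQ a.2)) }
  let zS : Z →* S := Subgroup.inclusion (centralizerIn_le Q)
  have hWz : ∀ (z : Z) {x : X} {α : MulAut Q}, W x α → W ((zS z, (1 : S)) • x) α := by
    intro z x α h
    refine ⟨h.1, fun q => ?_⟩
    rw [smul_smul, show ((Subgroup.inclusion hQS q, Subgroup.inclusion hQS (α q)) : S × S) *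
      (zS z, 1) = (zS z, 1) * (Subgroup.inclusion hQS q, Subgroup.inclusion hQS (α q)) from
        Prod.ext (Subtype.ext (z.2.2 q q.2)) (by simp), mul_smul, h.2]
  letI actY : MulAction Z Y :=
    { smul := fun z y => ⟨(zS z, (1 : S)) • y.1, by
        obtain ⟨α, h, h'⟩ := y.2
        exact ⟨α, hWz z h, h'⟩⟩
      one_smul := fun y => Subtype.ext (by
        change ((zS 1, (1 : S)) : S × S) • y.1 = y.1
        rw [map_one]
        exact one_smul (S × S) y.1)
      mul_smul := fun z w y => Subtype.ext (by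
        change ((zS (z * w), (1 : S)) : S × S) • y.1 = (zS z, (1 : S)) • (zS w, (1 : S)) • y.1
        rw [smul_smul, map_mul, Prod.mk_mul_mk, one_mul]) }
  have hfreeY : ∀ (z : Z) (y : Y), z • y = y → z = 1 := by
    intro z y h
    obtain ⟨P, φ, hφ, hst⟩ := hstab y.1
    have h1 : (zS z, (1 : S)) ∈ (graphSub φ : Subgroup (S × S)) :=
      hst ▸ mem_stabilizer_iff.2 (congrArg Subtype.val h)
    obtain ⟨h2, h3⟩ := h1
    have h4 : (⟨_, h2⟩ : P) = 1 := F.injective_of_mem hφ (h3.trans (map_one φ).symm)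
    exact Subtype.ext (congrArg Subtype.val h4 :)
  -- the number of orbits is prime to `p`
  have hr : ¬ p ∣ Nat.card (Quotient (orbitRel Z Y)) := by
    have hΩfin : Finite (RightOrbits S X) := Quotient.finite _
    have hm : Nat.card (RightOrbits S X) = m :=
      Nat.eq_of_mul_eq_mul_left Nat.card_pos ((card_eq_mul hfreeR).symm.trans hcard)
    let _ : MulAction Q (RightOrbits S X) :=
      { smul := fun q ω => actR (Subgroup.inclusion hQS q) ω
        one_smul := fun ω => (congrArg (fun t => actR t ω) (map_one _)).trans (actR_one ω)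
        mul_smul := fun a b ω => (congrArg (fun t => actR t ω) (map_mul _ a b)).trans
          (actR_actR _ _ ω).symm }
    have h1 := (hS.to_le hQS).card_modEq_card_fixedPoints (RightOrbits S X)
    intro hdvd
    refine hpm ((Nat.modEq_zero_iff_dvd).1 ?_)
    rw [← hm]
    refine h1.trans ((Nat.modEq_zero_iff_dvd).2 ?_)
    refine hdvd.trans (dvd_of_eq (Nat.card_congr (Equiv.ofBijective
      (fun o => Quotient.liftOn' o
        (fun y : Y => (⟨rmk y.1, ?_⟩ : MulAction.fixedPoints Q (RightOrbits S X))) ?_) ⟨?_, ?_⟩)))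
    · intro q
      obtain ⟨α, h, -⟩ := y.2
      change actR _ (rmk y.1) = rmk y.1
      rw [actR_rmk]
      conv_rhs => rw [← h.2 q]
      rw [rmk_smul (b := Subgroup.inclusion hQS (α q))]
    · intro a b hab
      obtain ⟨z, hz⟩ := mem_orbit_iff.1 hab
      refine Subtype.ext ?_
      change rmk a.1 = rmk b.1
      rw [← hz]
      change rmk ((zS z, (1 : S)) • b.1) = rmk b.1
      obtain ⟨α, h, -⟩ := b.2
      conv_rhs => rw [← h.2 ⟨z, hZQ z.2⟩]
      rw [rmk_smul (b := Subgroup.inclusion hQS (α ⟨z, hZQ z.2⟩))]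
      rfl
    · intro o o'
      induction o using Quotient.inductionOn' with
      | h a => induction o' using Quotient.inductionOn' with
        | h b =>
          intro hab
          obtain ⟨c, hc⟩ := Quotient.exact (congrArg Subtype.val hab :)
          obtain ⟨α, ha, ha'⟩ := a.2
          obtain ⟨β, hb, hb'⟩ := b.2
          have h1 : normAut (c : Ω) (hQn c.2) * α = β := hWu (hc ▸ hWb c ha) hb
          have h2 : α = β := by rw [← ha', ← hb', ← h1, hrepB]
          rw [← h2, mul_eq_right] at h1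
          have hcZ : (c : Ω) ∈ centralizerIn S Q := by
            refine ⟨c.2, fun y hy => ?_⟩
            have := congrArg (fun t : MulAut Q => ((t ⟨y, hy⟩ : Q) : Ω)) h1
            simp only [normAut_apply, MulAut.one_apply] at this
            exact (mul_inv_eq_iff_eq_mul.1 this).symm
          have hz : ((α⁻¹ : MulAut Q) ⟨c, hZQ hcZ⟩ : Ω) ∈ centralizerIn S Q := by
            refine ⟨hQS ((α⁻¹ : MulAut Q) _).2, fun y hy => ?_⟩
            have h3 : α ⟨y, hy⟩ * ⟨c, hZQ hcZ⟩ = ⟨c, hZQ hcZ⟩ * α ⟨y, hy⟩ :=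
              Subtype.ext (hcZ.2 _ (α ⟨y, hy⟩).2)
            have h4 := congrArg (fun t => ((α⁻¹ : MulAut Q) t : Ω)) h3
            simp only [map_mul, MulAut.inv_apply_self, Subgroup.coe_mul] at h4
            exact h4
          refine Quotient.sound' (mem_orbit_iff.2 ⟨⟨_, hz⟩, Subtype.ext ?_⟩)
          change ((zS ⟨_, hz⟩, (1 : S)) : S × S) • b.1 = a.1
          rw [← hc, smul_smul]
          refine Eq.trans ?_ (ha.2 ((α⁻¹ : MulAut Q) ⟨c, hZQ hcZ⟩))
          congr 1
          refine Prod.ext ((mul_one _).trans (Subtype.ext rfl)) ?_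
          rw [MulAut.apply_inv_self]
          simp
          rfl
    · rintro ⟨ω, hω⟩
      induction ω using Quotient.inductionOn with
      | h x =>
        obtain ⟨P, φ, hφ, hst⟩ := hstab x
        have hPQ : ∀ q : Q, ∃ h : (q : Ω) ∈ P, ∃ b : S, φ ⟨q, h⟩ = b ∧
            ((Subgroup.inclusion hQS q, b) : S × S) • x = x := by
          intro q
          obtain ⟨b, hb⟩ := Quotient.exact (hω q)
          rw [smul_smul, Prod.mk_mul_mk, one_mul, mul_one] at hb
          have h2 : ((Subgroup.inclusion hQS q, b) : S × S) ∈ (graphSub φ : Subgroup (S × S)) :=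
            hst ▸ mem_stabilizer_iff.2 hb
          exact ⟨h2.1, b, h2.2, hb⟩
        have hQP : Q ≤ P := fun q hq => (hPQ ⟨q, hq⟩).1
        obtain ⟨α, hα, hαe⟩ := exists_iso_of_range (res_mem F hφ hQP)
          ((weaklyClosed_of_stronglyClosed hQsc).2 _ (res_mem F hφ hQP))
        have hW : W x α := by
          refine ⟨(mem_autGroup_iff F hQS).2 hα, fun q => ?_⟩
          obtain ⟨h, b, hb1, hb2⟩ := hPQ q
          rwa [show Subgroup.inclusion hQS (α q) = b from Subtype.ext ((hαe q).trans hb1)]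
        refine ⟨Quotient.mk'' ⟨((1 : S), bb α) • x, rep α, hbb α ▸ hWb (bb α) hW, hreprep α⟩,
          Subtype.ext ?_⟩
        exact rmk_right (bb α) x
  -- the group `N`, its kernel `C` over `A`
  set N := pairGroup F Q hQS X
  have hNfin : Finite N := inferInstance
  let π := pairProj F Q hQS X
  let j := pairEmb F Q hQS X hQn
  let C := π.ker
  have hfix : ∀ (c : C) {x : X} {α : MulAut Q}, W x α →
      W (((c : N) : MulAut Q × Equiv.Perm X).2 x) α := by
    intro c x α h
    have := hWγ (c : N) h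
    rwa [show ((c : N) : MulAut Q × Equiv.Perm X).1 = 1 from c.2, inv_one, mul_one] at this
  letI actC : MulAction C Y :=
    { smul := fun c y => ⟨((c : N) : MulAut Q × Equiv.Perm X).2 y.1, by
        obtain ⟨α, h, h'⟩ := y.2
        exact ⟨α, hfix c h, h'⟩⟩
      one_smul := fun y => Subtype.ext rfl
      mul_smul := fun c d y => Subtype.ext rfl }
  have hcomm : ∀ (c : C) (z : Z) (y : Y), c • z • y = z • c • y := by
    intro c z y
    refine Subtype.ext ?_
    have h1 := (c : N).2.2.2 ⟨z, hZQ z.2⟩ y.1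
    rwa [show ((c : N) : MulAut Q × Equiv.Perm X).1 = 1 from c.2] at h1
  obtain ⟨t, htz, hte⟩ := exists_det hfreeY hcomm
  -- scalars
  have hπj : ∀ s : S, π (j s) = normAut (s : Ω) (hQn s.2) := fun s => rfl
  have hjZC : ∀ z : Z, j (zS z) ∈ C := by
    intro z
    rw [MonoidHom.mem_ker, hπj]
    refine MulEquiv.ext fun q => Subtype.ext ?_
    rw [normAut_apply, MulAut.one_apply]
    exact mul_inv_eq_of_eq_mul (z.2.2 q q.2).symm
  have htj : ∀ z : Z, t ⟨j (zS z), hjZC z⟩ = z ^ Nat.card (Quotient (orbitRel Z Y)) := fun z =>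
    htz _ z fun y => rfl
  have hcop : (Nat.card Z).Coprime (Nat.card (Quotient (orbitRel Z Y))) := by
    have : Finite Z := finite_of_le (centralizerIn_le Q)
    obtain ⟨k, hk⟩ := IsPGroup.iff_card.1 (hS.to_le (centralizerIn_le Q))
    rw [hk]
    exact Nat.Coprime.pow_left _ ((Nat.Prime.coprime_iff_not_dvd Fact.out).2 hr)
  -- invariance
  have hinv : ∀ (n : N) (c : C), t c = 1 → ∀ hc : n * c * n⁻¹ ∈ C, t ⟨_, hc⟩ = 1 := by
    intro n c hc1 hc
    have hna : (n : MulAut Q × Equiv.Perm X).1 ∈ F.autGroup Q := n.2.1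
    set a := (n : MulAut Q × Equiv.Perm X).1
    have hmov : ∀ {x : X} {α : MulAut Q}, W x α →
        W (((1 : S), bb (α * a⁻¹)) • (n : MulAut Q × Equiv.Perm X).2 x) (rep (α * a⁻¹)) :=
      fun h => hbb _ ▸ hWb _ (hWγ n h)
    choose al hal hal' using fun y : Y => y.2
    let e₀ : Y → Y := fun y => ⟨((1 : S), bb (al y * a⁻¹)) • (n : MulAut Q × Equiv.Perm X).2 y.1,
      _, hmov (hal y), hreprep _⟩
    have he₀ : Function.Injective e₀ := by
      intro y y' h
      have h1 := congrArg Subtype.val h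
      have h2 : rep (al y * a⁻¹) = rep (al y' * a⁻¹) := hWu (hmov (hal y)) (by
        rw [show ((1 : S), bb (al y * a⁻¹)) • (n : MulAut Q × Equiv.Perm X).2 y.1 = _ from h1]
        exact hmov (hal y'))
      have h3 := hrepInj (hal' y) (hal' y') h2
      simp only [e₀, h3] at h1
      exact Subtype.ext ((n : MulAut Q × Equiv.Perm X).2.injective (MulAction.injective _ h1))
    let e : Y ≃ Y := Equiv.ofBijective e₀ ⟨he₀, Finite.injective_iff_surjective.1 he₀⟩
    let aZ : Z ≃* Z :=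
      { toFun := fun z => ⟨a ⟨z, hZQ z.2⟩, hQS (a _).2, fun y hy => by
          have h3 : a⁻¹ ⟨y, hy⟩ * ⟨z, hZQ z.2⟩ = ⟨z, hZQ z.2⟩ * a⁻¹ ⟨y, hy⟩ :=
            Subtype.ext (z.2.2 _ (a⁻¹ ⟨y, hy⟩).2)
          have h4 := congrArg (fun t => (a t : Ω)) h3
          simpa only [map_mul, MulAut.apply_inv_self, Subgroup.coe_mul] using h4⟩
        invFun := fun z => ⟨(a⁻¹ : MulAut Q) ⟨z, hZQ z.2⟩, hQS ((a⁻¹ : MulAut Q) _).2, fun y hy => by
          have h3 : a ⟨y, hy⟩ * ⟨z, hZQ z.2⟩ = ⟨z, hZQ z.2⟩ * a ⟨y, hy⟩ :=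
            Subtype.ext (z.2.2 _ (a ⟨y, hy⟩).2)
          have h4 := congrArg (fun t => ((a⁻¹ : MulAut Q) t : Ω)) h3
          simpa only [map_mul, MulAut.inv_apply_self, Subgroup.coe_mul] using h4⟩
        left_inv := fun z => Subtype.ext (congrArg Subtype.val (MulAut.inv_apply_self _ a _) :)
        right_inv := fun z => Subtype.ext (congrArg Subtype.val (MulAut.apply_inv_self _ a _) :)
        map_mul' := fun z w => Subtype.ext (congrArg Subtype.val
          (map_mul a ⟨z, hZQ z.2⟩ ⟨w, hZQ w.2⟩) :) }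
    have hez : ∀ (z : Z) (y : Y), e (z • y) = aZ z • e y := by
      intro z y
      have h1 : al (z • y) = al y := hWu (hal (z • y)) (hWz z (hal y))
      refine Subtype.ext ?_
      change ((1 : S), bb (al (z • y) * a⁻¹)) • (n : MulAut Q × Equiv.Perm X).2 ((zS z, (1 : S)) • y.1)
        = (zS (aZ z), (1 : S)) • ((1 : S), bb (al y * a⁻¹)) • (n : MulAut Q × Equiv.Perm X).2 y.1
      rw [h1, show zS z = Subgroup.inclusion hQS ⟨z, hZQ z.2⟩ from rfl, n.2.2.2, smul_smul, smul_smul]
      congr 1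
      exact Prod.ext (by simp only [Prod.fst_mul, one_mul, mul_one]; rfl) (by simp)
    have heg : ∀ y : Y, e (c • y) = (⟨_, hc⟩ : C) • e y := by
      intro y
      have h1 : al (c • y) = al y := hWu (hal (c • y)) (hfix c (hal y))
      refine Subtype.ext ?_
      change ((1 : S), bb (al (c • y) * a⁻¹)) • (n : MulAut Q × Equiv.Perm X).2
          (((c : N) : MulAut Q × Equiv.Perm X).2 y.1) =
        ((n * c * n⁻¹ : N) : MulAut Q × Equiv.Perm X).2
          (((1 : S), bb (al y * a⁻¹)) • (n : MulAut Q × Equiv.Perm X).2 y.1)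
      rw [h1, (n * c * n⁻¹ : N).2.2.1]
      congr 1
      change _ = (n : MulAut Q × Equiv.Perm X).2 (((c : N) : MulAut Q × Equiv.Perm X).2
        ((n : MulAut Q × Equiv.Perm X).2⁻¹ ((n : MulAut Q × Equiv.Perm X).2 y.1)))
      exact congrArg _ (congrArg _ (Equiv.symm_apply_apply _ _).symm)
    rw [hte c ⟨_, hc⟩ aZ e hez heg, hc1, map_one]
  let K : Subgroup N := t.ker.map C.subtype
  have hKn : K.Normal := by
    refine ⟨?_⟩
    rintro _ ⟨c, hc, rfl⟩ n
    exact ⟨⟨_, (MonoidHom.normal_ker π).conj_mem c c.2 n⟩, hinv n c hc _, rfl⟩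
  -- the model
  have hKC : K ≤ C := Subgroup.map_subtype_le _
  let π' : N ⧸ K →* MulAut Q := QuotientGroup.lift K π hKC
  have hπ' : ∀ n : N, π' (QuotientGroup.mk' K n) = π n := fun n => rfl
  let ι : S →* N ⧸ K := (QuotientGroup.mk' K).comp j
  have hι : Function.Injective ι := by
    rw [injective_iff_map_eq_one]
    intro s hs
    obtain ⟨c, hc, hcs⟩ := (QuotientGroup.eq_one_iff (j s)).1 hs
    have hsC : j s ∈ C := hcs ▸ c.2
    have hsZ : (s : Ω) ∈ centralizerIn S Q := by
      refine ⟨s.2, fun y hy => ?_⟩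
      have := congrArg (fun t : MulAut Q => ((t ⟨y, hy⟩ : Q) : Ω)) (MonoidHom.mem_ker.1 hsC)
      rw [hπj] at this
      simp only [normAut_apply, MulAut.one_apply] at this
      exact (mul_inv_eq_iff_eq_mul.1 this).symm
    have h1 : c = ⟨j (zS ⟨s, hsZ⟩), hjZC _⟩ := Subtype.ext hcs
    have h2 : (⟨s, hsZ⟩ : Z) ^ Nat.card (Quotient (orbitRel Z Y)) = 1 := by
      rw [← htj, ← h1]
      exact hc
    have h3 := (powCoprime hcop).injective (h2.trans (one_pow _).symm :
      (powCoprime hcop) (⟨s, hsZ⟩ : Z) = (powCoprime hcop) 1)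
    exact Subtype.ext (congrArg Subtype.val h3 :)
  have hkerπ : ∀ g : N ⧸ K, π' g = 1 → ∃ z : Z, ι (zS z) = g := by
    intro g hg
    obtain ⟨n, rfl⟩ := QuotientGroup.mk'_surjective K g
    obtain ⟨z, hz⟩ := (powCoprime hcop).surjective (t ⟨n, hg⟩)
    refine ⟨z, QuotientGroup.eq.2 ⟨(⟨j (zS z), hjZC z⟩ : C)⁻¹ * ⟨n, hg⟩, ?_, rfl⟩⟩
    change t _ = 1
    rw [map_mul, map_inv, htj, inv_mul_eq_one]
    exact hz
  -- every map is conjugation
  have hlift' : ∀ {P : Subgroup Ω} {ψ : ↥(P ⊔ Q) →* Ω}, ψ ∈ F.Hom (P ⊔ Q) →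
      ∀ α : MulAut Q, (∀ q : Q, ψ (Subgroup.inclusion le_sup_right q) = α q) →
      ∃ n : N, π n = α ∧ ∀ (u : S) (hu : (u : Ω) ∈ P ⊔ Q) (v : S), ψ ⟨u, hu⟩ = v →
        n * j u = j v * n := by
    intro P ψ hψ α hα
    obtain ⟨γ, hγ⟩ := hlift _ ψ hψ
    have hαA : α ∈ F.autGroup Q :=
      mem_autGroup_of_mem F (res_mem F hψ (le_sup_right : Q ≤ P ⊔ Q)) fun q => (hα q).symm
    refine ⟨⟨(α, γ), hαA, fun b x => ?_, fun q x => ?_⟩, rfl, fun u hu v hv => ?_⟩
    · exact hγ 1 1 b (P ⊔ Q).one_mem x (map_one ψ)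
    · exact hγ _ _ 1 ((le_sup_right : Q ≤ P ⊔ Q) q.2) x (hα q)
    refine Subtype.ext (Prod.ext (MulEquiv.ext fun q => Subtype.ext ?_) (Equiv.ext fun x => ?_))
    · change (α (normAut (u : Ω) (hQn u.2) q) : Ω) = normAut (v : Ω) (hQn v.2) (α q)
      rw [normAut_apply, ← hα, ← hα, ← hv, ← map_inv, ← map_mul, ← map_mul]
      exact congrArg ψ (Subtype.ext rfl)
    · change γ (((u, (1 : S)) : S × S) • x) = (v, (1 : S)) • γ x
      exact hγ u v 1 hu x hv
  refine ⟨N ⧸ K, inferInstance, ι, inferInstance, ⟨hι, fun P hP φ hφS => ⟨fun hφ => ?_, ?_⟩⟩, ?_, ?_⟩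
  · obtain ⟨ψ, hψ, hψe, hψQ⟩ := hQ.2 P φ hφ
    obtain ⟨α, hα, hαe⟩ := exists_iso_of_range (res_mem F hψ (le_sup_right : Q ≤ P ⊔ Q))
      ((weaklyClosed_of_stronglyClosed hQsc).2 _ (res_mem F hψ le_sup_right))
    obtain ⟨n, -, hn⟩ := hlift' hψ α fun q => (hαe q).symm
    refine ⟨QuotientGroup.mk' K n, fun x => ?_⟩
    rw [eq_mul_inv_iff_mul_eq]
    change QuotientGroup.mk' K (j _) * _ = _ * QuotientGroup.mk' K (j _)
    rw [← map_mul, ← map_mul, hn ⟨x, hP x.2⟩ ((le_sup_left : P ≤ P ⊔ Q) x.2) ⟨φ x, hφS x⟩ (hψe x)]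
  · rintro ⟨g, hg⟩
    set α := π' g with hα
    have hαA : α ∈ F.autGroup Q := by
      obtain ⟨n, rfl⟩ := QuotientGroup.mk'_surjective K g
      exact n.2.1
    have hαiso : IsIso F α := (mem_autGroup_iff F hQS).1 hαA
    have hext : P ⊔ Q ≤ extender S Q (Q.subtype.comp α.toMonoidHom) := by
      refine sup_le (fun x hx => ?_) (le_extender hαiso)
      refine mem_extender_iso_iff.2 ⟨hP hx, hQn (hP hx), ?_⟩
      refine mem_autInducedBy_iff.2 ⟨φ ⟨x, hx⟩, hφS _, fun q => ?_⟩
      have h1 := congrArg π' (hg ⟨x, hx⟩)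
      rw [map_mul, map_mul, map_inv, eq_mul_inv_iff_mul_eq] at h1
      have h2 := congrArg (fun t : MulAut Q => ((t (α⁻¹ q) : Q) : Ω)) h1
      rw [← hα] at h2
      simp only [MulAut.mul_apply, MulAut.apply_inv_self] at h2
      exact h2.symm
    obtain ⟨ψ, hψ, hψe⟩ := exists_extension hQr hαiso le_sup_right hext
    have hψS := apply_mem_S F hψ
    obtain ⟨n, hnα, hn⟩ := hlift' hψ α hψe
    obtain ⟨z, hz⟩ := hkerπ ((QuotientGroup.mk' K n)⁻¹ * g) (by
      rw [map_mul, map_inv, hπ', hnα, ← hα, inv_mul_cancel])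
    have hzPQ : (zS z : Ω) ∈ P ⊔ Q := (le_sup_right : Q ≤ P ⊔ Q) (hZQ z.2)
    have hφeq : ∀ x : P, φ x = ψ (⟨zS z, hzPQ⟩ * Subgroup.inclusion le_sup_left x * ⟨zS z, hzPQ⟩⁻¹) := by
      intro x
      set w : ↥(P ⊔ Q) := ⟨zS z, hzPQ⟩ * Subgroup.inclusion le_sup_left x * ⟨zS z, hzPQ⟩⁻¹
      have h1 := hn ⟨w, sup_le hP hQS w.2⟩ w.2 ⟨ψ w, hψS w⟩ rfl
      have h2 : ι ⟨φ x, hφS x⟩ = ι ⟨ψ w, hψS w⟩ := by
        rw [hg, show g = QuotientGroup.mk' K n * ι (zS z) from by rw [hz, mul_inv_cancel_left]]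
        have h3 := congrArg (QuotientGroup.mk' K) h1
        rw [map_mul, map_mul] at h3
        change QuotientGroup.mk' K n * ι _ = ι _ * QuotientGroup.mk' K n at h3
        rw [eq_comm, ← mul_inv_eq_iff_eq_mul.2 h3,
          show (⟨(w : Ω), sup_le hP hQS w.2⟩ : S) = zS z * ⟨x, hP x.2⟩ * (zS z)⁻¹ from rfl,
          map_mul, map_mul, map_inv]
        group
      exact congrArg Subtype.val (hι h2)
    have hz' : ∀ x : P, conjHom P (zS z : Ω) x ∈ P ⊔ Q := fun x =>
      Subgroup.mul_mem _ (Subgroup.mul_mem _ hzPQ ((le_sup_left : P ≤ P ⊔ Q) x.2))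
        (Subgroup.inv_mem _ hzPQ)
    have h4 := F.comp_mem (F.conj_mem hP (zS z).2) hψ hz'
    exact mem_of_eq rfl h4 fun x => (hφeq x).trans (congrArg ψ (Subtype.ext rfl))
  · -- the image of `S` is a Sylow subgroup
    have hr' : ι.range = B.comap π' := by
      refine le_antisymm ?_ fun g hg => ?_
      · rintro _ ⟨s, rfl⟩
        exact mem_autInducedBy_iff.2 ⟨s, s.2, fun _ => rfl⟩
      · obtain ⟨b, hb, hbe⟩ := mem_autInducedBy_iff.1 hg
        obtain ⟨z, hz⟩ := hkerπ ((ι ⟨b, hb⟩)⁻¹ * g) (by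
          rw [map_mul, map_inv, inv_mul_eq_one]
          exact MulEquiv.ext fun q => Subtype.ext (hbe q).symm)
        exact ⟨⟨b, hb⟩ * zS z, by rw [map_mul, hz, mul_inv_cancel_left]⟩
    have hpi : IsPGroup p ι.range := hS.of_surjective ι.rangeRestrict ι.rangeRestrict_surjective
    refine ⟨hpi.toSylow ?_, IsPGroup.toSylow_coe _ _⟩
    have hle : π'.range ≤ F.autGroup Q := by
      rintro _ ⟨g, rfl⟩
      obtain ⟨n, rfl⟩ := QuotientGroup.mk'_surjective K g
      exact n.2.1
    have hge : F.autGroup Q ≤ π'.range := by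
      intro α hα
      obtain ⟨ψ, hψ, hψe⟩ := mem_of_eq_sup (sup_idem Q).symm ((mem_autGroup_iff F hQS).1 hα)
      obtain ⟨n, hn, -⟩ := hlift' hψ α fun q => hψe _
      exact ⟨QuotientGroup.mk' K n, hn⟩
    rw [hr', Subgroup.index_comap, le_antisymm hle hge]
    exact ((isFullyAutomized_iff hS).1 hQa).2
  · -- the centralizer of `O_p`
    let Q' : Subgroup (N ⧸ K) := (Q.subgroupOf S).map ι
    have hconj : ∀ (n : N) (q : Q), n * j (Subgroup.inclusion hQS q) * n⁻¹ =
        j (Subgroup.inclusion hQS ((n : MulAut Q × Equiv.Perm X).1 q)) := by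
      intro n q
      rw [mul_inv_eq_iff_eq_mul]
      refine Subtype.ext (Prod.ext (MulEquiv.ext fun y => Subtype.ext ?_) (Equiv.ext fun x => ?_))
      · change ((n : MulAut Q × Equiv.Perm X).1 (normAut (q : Ω) _ y) : Ω) =
          normAut ((n : MulAut Q × Equiv.Perm X).1 q : Ω) _ ((n : MulAut Q × Equiv.Perm X).1 y)
        rw [show normAut (q : Ω) (hQn (hQS q.2)) y = q * y * q⁻¹ from Subtype.ext (normAut_apply _ _ _),
          map_mul, map_mul, map_inv]
        rfl
      · exact n.2.2.2 q x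
    have hQ'n : Q'.Normal := by
      refine ⟨?_⟩
      rintro _ ⟨s, hs, rfl⟩ g
      obtain ⟨n, rfl⟩ := QuotientGroup.mk'_surjective K g
      refine ⟨Subgroup.inclusion hQS ((n : MulAut Q × Equiv.Perm X).1 ⟨s, hs⟩),
        ((n : MulAut Q × Equiv.Perm X).1 ⟨s, hs⟩).2, ?_⟩
      exact (congrArg (QuotientGroup.mk' K) (hconj n ⟨s, hs⟩)).symm.trans (by
        rw [map_mul, map_mul, map_inv]; rfl)
    have hQ'le : Q' ≤ pCore p (N ⧸ K) :=
      Cores.le_pCore (hn := hQ'n) ((hS.to_subgroup (Q.subgroupOf S)).map ι)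
    intro c hc
    refine hQ'le ?_
    obtain ⟨n, rfl⟩ := QuotientGroup.mk'_surjective K c
    have h1 : π' (QuotientGroup.mk' K n) = 1 := by
      rw [hπ']
      refine MulEquiv.ext fun q => Subgroup.inclusion_injective hQS (hι ?_)
      change QuotientGroup.mk' K (j (Subgroup.inclusion hQS ((n : MulAut Q × Equiv.Perm X).1 q))) =
        QuotientGroup.mk' K (j _)
      rw [← hconj, map_mul, map_mul, map_inv, mul_inv_eq_iff_eq_mul]
      exact (hc _ (hQ'le ⟨_, q.2, rfl⟩)).symm
    obtain ⟨z, hz⟩ := hkerπ _ h1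
    exact ⟨zS z, hZQ z.2, hz⟩

/-- A constrained system has a model. -/
theorem exists_model (hS : IsPGroup p S) (hF : F.IsConstrained p) :
    ∃ (G : Type u) (_ : Group G) (ι : S →* G), F.IsModel p G ι := by
  obtain ⟨Q, hQ, hQc⟩ := hF.2
  exact exists_model_of_normal_centric hS hF.1 hQ hQc

end CfsgLib.Fusion
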