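import Cfsg.Agent.Lib.Fusion.FunctorCenter
import Cfsg.Agent.Lib.Fusion.ModelExists
import Cfsg.Agent.Lib.Fusion.ModelConstrained
import Mathlib.GroupTheory.Focal

/-!
# The constrained case of control by a functor
-/

set_option autoImplicit false

open Cfsg Cfsg.FusionSystem

namespace CfsgLib.Fusion

universe u

variable (W : ∀ (Q : Type u) [Group Q], Subgroup Q) {p : ℕ} [Fact p.Prime]
  {Ω : Type u} [Group Ω] {S : Subgroup Ω} [Finite S] {F : FusionSystem S}

/-- A system with centric core has a model. -/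
theorem exists_model_of_core (hS : IsPGroup p S) (hF : F.IsSaturated p)
    (hc : centralizerIn S F.core ≤ F.core) :
    ∃ (G : Type u) (_ : Group G) (ι : S →* G), F.IsModel p G ι := by
  have hX : F.IsNormal F.core := isNormal_core
  refine exists_model_of_normal_centric hS hF hX ⟨hX.1, fun Q hQ => ?_⟩
  obtain ⟨φ, hφ, rfl⟩ := hQ
  rw [(weaklyClosed_of_stronglyClosed (stronglyClosed_of_isNormal hX)).2 φ hφ]
  exact hc

variable (hW2 : ∀ (Q R : Type u) [Group Q] [Group R] [Finite Q], IsPGroup p Q →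
    ∀ φ : Q ≃* R, (W Q).map φ.toMonoidHom = W R)

include hW2 in
/-- The functor value on the Sylow subgroup of a model. -/
theorem map_wImg_sylow (hS : IsPGroup p S) {G : Type u} [Group G] {ι : S →* G}
    (hι : Function.Injective ι) {P : Subgroup G} (hP : P = ι.range) :
    (W ↥P).map P.subtype = ((wImg W S).subgroupOf S).map ι := by
  subst hP
  have h := hW2 S ι.range hS (MonoidHom.ofInjective hι)
  rw [← h, Subgroup.map_map, wImg, Subgroup.subgroupOf,
    Subgroup.comap_map_eq_self_of_injective S.subtype_injective]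
  rfl

include hW2 in
/-- An element normalizing the functor value gives maps of `N_F(W S)`. -/
theorem exists_normalizerHom_of_conj (hS : IsPGroup p S) {G : Type u} [Group G] {ι : S →* G}
    (hr : F.IsRealizedBy ι) {g : G}
    (hg : g ∈ Subgroup.normalizer ((((wImg W S).subgroupOf S).map ι : Subgroup G) : Set G))
    {a : S} (ha : g * ι a * g⁻¹ ∈ ι.range) :
    ∃ φ ∈ F.normalizerHom (wImg W S) (Subgroup.zpowers (a : Ω)),
      ∃ h : φ ⟨a, Subgroup.mem_zpowers _⟩ ∈ S,
        ι ⟨φ ⟨a, Subgroup.mem_zpowers _⟩, h⟩ = g * ι a * g⁻¹ := by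
  have hWS : wImg W S ≤ S := wImg_le W S
  have hP : Subgroup.zpowers (a : Ω) ≤ S := Subgroup.zpowers_le.2 a.2
  have hM : Subgroup.zpowers (a : Ω) ⊔ wImg W S ≤ S := sup_le hP hWS
  let C : Subgroup S := (ι.range.comap (MulAut.conj g).toMonoidHom).comap ι
  have hC : Subgroup.zpowers (a : Ω) ⊔ wImg W S ≤ C.map S.subtype := by
    refine sup_le (Subgroup.zpowers_le.2 ⟨a, ha, rfl⟩) fun y hy => ⟨⟨y, hWS hy⟩, ?_, rfl⟩
    obtain ⟨z, -, hze⟩ := conj_mem_of_mem_normalizer hg
      (Subgroup.mem_map_of_mem ι (show (⟨y, hWS hy⟩ : S) ∈ (wImg W S).subgroupOf S from hy))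
    exact ⟨z, hze⟩
  obtain ⟨ψ, hψ, hψS, hψe⟩ := exists_map_of_conj hr hM (g := g) fun x => by
    obtain ⟨c, hc, hce⟩ := hC x.2
    rw [show (⟨(x : Ω), hM x.2⟩ : S) = c from Subtype.ext hce.symm]
    exact hc
  have hn := le_normalizerIn_wImg W hW2 hS
  refine ⟨ψ.comp (Subgroup.inclusion le_sup_left), mem_normalizerHom_of_img hψ le_sup_left
    le_sup_right ?_ (fun _ => rfl) (hP.trans hn) (fun x => hn (hψS _)), hψS _, ?_⟩
  · have := finite_of_le hWS
    refine Subgroup.eq_of_le_of_card_ge ?_ (card_img (F.injective_of_mem hψ) le_sup_right).ge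
    intro y hy
    obtain ⟨x, hx, rfl⟩ := mem_img.1 hy
    obtain ⟨z, hz, hze⟩ := conj_mem_of_mem_normalizer hg
      (Subgroup.mem_map_of_mem ι (show (⟨x, hWS hx⟩ : S) ∈ (wImg W S).subgroupOf S from hx))
    have h1 : (⟨ψ x, hψS x⟩ : S) = z := hr.1 ((hψe x).trans hze.symm)
    have h2 : ψ x = z := congrArg Subtype.val h1
    rw [h2]
    exact hz
  · exact hψe _

include hW2 in
/-- Commutators inside the Sylow subgroup of the normalizer of the functor value are focal. -/
theorem commutator_normalizer_inf_le (hS : IsPGroup p S) {G : Type u} [Group G] [Finite G]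
    {ι : S →* G} (hr : F.IsRealizedBy ι) (P : Sylow p G) (hP : (P : Subgroup G) = ι.range)
    {N : Subgroup G}
    (hN : N = Subgroup.normalizer ((((wImg W S).subgroupOf S).map ι : Subgroup G) : Set G)) :
    (commutator ↥N).map N.subtype ⊓ ι.range ≤
      ((focalLocal F (wImg W S)).subgroupOf S).map ι := by
  have hPN : (P : Subgroup G) ≤ N := by
    rw [hP, hN]
    rintro _ ⟨s, rfl⟩
    have := finite_of_le (wImg_le W S)
    refine mem_normalizer_of_forall ?_
    rintro _ ⟨x, hx, rfl⟩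
    refine ⟨s * x * s⁻¹, ?_, by rw [map_mul, map_mul, map_inv]⟩
    exact Subgroup.mem_subgroupOf.2
      (conj_mem_of_mem_normalizer (le_normalizerIn_wImg W hW2 hS s.2).2 hx)
  rintro y ⟨⟨n, hn, rfl⟩, hy⟩
  have h1 : n ∈ commutator N ⊓ (P.subtype hPN : Subgroup N) := by
    refine ⟨hn, ?_⟩
    change (n : G) ∈ (P : Subgroup G)
    rw [hP]
    exact hy
  rw [Subgroup.commutator_inf_eq_focalSubgroup (P.subtype hPN),
    Subgroup.focalSubgroup_def] at h1
  revert h1
  suffices hle : Subgroup.closure { g : N | g ∈ (P.subtype hPN : Subgroup N) ∧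
      ∃ x ∈ (P.subtype hPN : Subgroup N), ∃ u : N, g = x * u * x⁻¹ * u⁻¹ } ≤
      (((focalLocal F (wImg W S)).subgroupOf S).map ι).comap N.subtype from fun h => hle h
  refine (Subgroup.closure_le _).2 ?_
  rintro _ ⟨hmem, x, hx, u, rfl⟩
  change ((x * u * x⁻¹ * u⁻¹ : N) : G) ∈ (P : Subgroup G) at hmem
  change (x : G) ∈ (P : Subgroup G) at hx
  rw [hP] at hmem hx
  obtain ⟨a, ha⟩ := hx
  have hconj : (u : G) * ι a⁻¹ * (u : G)⁻¹ ∈ ι.range := by
    have h2 := ι.range.mul_mem (ι.range.inv_mem (show ι a ∈ ι.range from ⟨a, rfl⟩)) hmem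
    convert h2 using 1
    rw [map_inv, ha]
    simp [mul_assoc]
  obtain ⟨φ, hφ, hS', hφe⟩ := exists_normalizerHom_of_conj W hW2 hS hr (hN ▸ u.2) hconj
  refine ⟨a * ⟨_, hS'⟩, ?_, ?_⟩
  · have h3 : ((a⁻¹ : S) : Ω)⁻¹ * φ ⟨(a⁻¹ : S), Subgroup.mem_zpowers _⟩ ∈
        focalLocal F (wImg W S) := Subgroup.subset_closure ⟨_, φ, ⟨_, _⟩, hφ, rfl⟩
    refine Subgroup.mem_subgroupOf.2 ?_
    simpa using h3
  · rw [map_mul, hφe, map_inv, ha]
    simp [mul_assoc]

end CfsgLib.Fusion
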