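import Mathlib
import Cfsg.Agent.Lib.Fusion.Extender
import Cfsg.Agent.Lib.Fusion.NormSys
import Cfsg.Agent.Lib.Fusion.GroupSystem

/-!
# Saturation of normalizer and centralizer systems (`K`-normalizer form)
-/

set_option autoImplicit false

open Cfsg Cfsg.FusionSystem

namespace CfsgLib.Fusion

variable {Ω : Type*} [Group Ω]

/-- The automorphisms of `R` stabilizing `P` and inducing an element of `K` on `Q`. -/
def pairStab (R P Q : Subgroup Ω) (hQ : Q ≤ R) (K : Subgroup (MulAut Q)) : Subgroup (MulAut R) where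
  carrier := {α | (∀ x : R, (x : Ω) ∈ P ↔ (α x : Ω) ∈ P) ∧
    ∃ k ∈ K, ∀ x : Q, (α (Subgroup.inclusion hQ x) : Ω) = k x}
  one_mem' := ⟨fun _ => Iff.rfl, 1, K.one_mem, fun _ => rfl⟩
  mul_mem' := by
    rintro a b ⟨ha, k, hk, hke⟩ ⟨hb, l, hl, hle⟩
    refine ⟨fun x => (hb x).trans (ha (b x)), k * l, K.mul_mem hk hl, fun x => ?_⟩
    rw [MulAut.mul_apply, MulAut.mul_apply]
    rw [← hke]
    exact congrArg (fun t : R => ((a t : R) : Ω)) (Subtype.ext (hle x))
  inv_mem' := by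
    rintro a ⟨ha, k, hk, hke⟩
    refine ⟨fun x => ?_, k⁻¹, K.inv_mem hk, fun x => ?_⟩
    · conv_lhs => rw [← MulAut.apply_inv_self R a x]
      exact (ha (a⁻¹ x)).symm
    · have h1 : a (Subgroup.inclusion hQ (k⁻¹ x)) = Subgroup.inclusion hQ x := by
        refine Subtype.ext ?_
        rw [hke, MulAut.apply_inv_self]
        rfl
      rw [← h1, MulAut.inv_apply_self]
      rfl

theorem mem_pairStab {R P Q : Subgroup Ω} {hQ : Q ≤ R} {K : Subgroup (MulAut Q)} {α : MulAut R} :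
    α ∈ pairStab R P Q hQ K ↔ (∀ x : R, (x : Ω) ∈ P ↔ (α x : Ω) ∈ P) ∧
      ∃ k ∈ K, ∀ x : Q, (α (Subgroup.inclusion hQ x) : Ω) = k x := Iff.rfl

variable {S : Subgroup Ω} {F : FusionSystem S} {p : ℕ} [Fact p.Prime] [Finite S]

variable (F) in
/-- The maps of the `K`-normalizer system of `Q`. -/
def KHom (Q : Subgroup Ω) (K : Subgroup (MulAut Q)) (T P : Subgroup Ω) : Set (P →* Ω) :=
  {φ | φ ∈ F.Hom P ∧ P ≤ T ∧ (∀ x : P, φ x ∈ T) ∧ ∃ ψ ∈ F.Hom (P ⊔ Q),
    (∀ x : P, ψ (Subgroup.inclusion le_sup_left x) = φ x) ∧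
    ∃ k ∈ K, ∀ x : Q, ψ (Subgroup.inclusion le_sup_right x) = k x}

/-- Saturation of `K`-normalizer systems. -/
theorem isSaturated_kNormalizer (hS : IsPGroup p S) (hF : F.IsSaturated p) {Q : Subgroup Ω}
    (K : Subgroup (MulAut Q)) {T : Subgroup Ω}
    (hT : ∀ g, g ∈ T ↔ g ∈ S ∧ ∃ hg : g ∈ Subgroup.normalizer (Q : Set Ω), normAut g hg ∈ K)
    (hQ : F.IsReceptive Q)
    (hK : ¬ p ∣ (autInducedBy S Q ⊓ K).relIndex (F.autGroup Q ⊓ K))
    (E : FusionSystem T) (hE : ∀ P, E.Hom P = KHom F Q K T P) : E.IsSaturated p := by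
  classical
  have hQS := hQ.1
  have := finite_of_le hQS
  have hTS : T ≤ S := fun g hg => ((hT g).1 hg).1
  have hTfin : Finite T := finite_of_le hTS
  have hTp : IsPGroup p T := hS.to_le hTS
  intro P hPT
  have hPS := hPT.trans hTS
  set R := P ⊔ Q with hR
  have hRS : R ≤ S := sup_le hPS hQS
  have := finite_of_le hRS
  have hQR : Q ≤ R := le_sup_right
  obtain ⟨R₁, hRR₁, hR₁n⟩ := exists_fullyNormalized F hRS
  obtain ⟨hR₁a, hR₁r⟩ := fullyAutomized_receptive_of_fullyNormalized hS hF hR₁n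
  obtain ⟨f₀, hf₀⟩ := isConj_iff.1 hRR₁
  have := finite_of_le hR₁n.1
  -- the group `A` and one of its Sylow subgroups
  set A := F.autGroup R ⊓ pairStab R P Q hQR K
  obtain ⟨U⟩ : Nonempty (Sylow p A) := inferInstance
  set U' := (U : Subgroup A).map A.subtype
  obtain ⟨β, hβ, hβU⟩ := exists_conj_mem_of_le
    (U := U'.map (MulAut.congr f₀).toMonoidHom) (T := autInducedBy S R₁) (N := F.autGroup R₁)
    ((U.2.map _).map _) (isPGroup_autInducedBy hS R₁)
    (by
      rintro _ ⟨_, ⟨a, -, rfl⟩, rfl⟩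
      exact congr_mem_autGroup hf₀ a.2.1)
    (autInducedBy_le_autGroup hR₁n.1) ((isFullyAutomized_iff hS).1 hR₁a).2
  set f : R ≃* R₁ := f₀.trans β with hfdef
  have hf : IsIso F f := hf₀.trans ((mem_autGroup_iff F hR₁n.1).1 hβ)
  have hfU : ∀ a ∈ U', MulAut.congr f a ∈ autInducedBy S R₁ := fun a ha => by
    have h1 := hβU _ (Subgroup.mem_map_of_mem _ ha)
    convert h1 using 1
    exact MulEquiv.ext fun x => rfl
  -- the images of `P` and `Q`
  set P₂ := img (R₁.subtype.comp f.toMonoidHom) P with hP₂def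
  set Q₂ := img (R₁.subtype.comp f.toMonoidHom) Q with hQ₂def
  obtain ⟨fP, hfP, hfPe⟩ : ∃ fP : P ≃* P₂, IsIso F fP ∧
      ∀ x : P, (fP x : Ω) = f (Subgroup.inclusion le_sup_left x) := hf.exists_res le_sup_left
  obtain ⟨fQ, hfQ, hfQe⟩ : ∃ fQ : Q ≃* Q₂, IsIso F fQ ∧
      ∀ x : Q, (fQ x : Ω) = f (Subgroup.inclusion hQR x) := hf.exists_res hQR
  have hR₁eq : R₁ = P₂ ⊔ Q₂ := by
    have h1 : (R₁.subtype.comp f.toMonoidHom).range = P₂ ⊔ Q₂ := by
      rw [← img_self, img_sup _ le_sup_left le_sup_right]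
    rw [← h1, range_subtype_comp]
  have hP₂R : P₂ ≤ R₁ := hR₁eq ▸ le_sup_left
  have hQ₂R : Q₂ ≤ R₁ := hR₁eq ▸ le_sup_right
  -- `M`
  let M : Subgroup Ω :=
    { carrier := {g | ∃ hg : g ∈ normalizerIn S R₁,
        MulAut.congr f.symm (normAut g hg.2) ∈ pairStab R P Q hQR K}
      one_mem' := ⟨one_mem _, by
        rw [show normAut (1 : Ω) (one_mem (normalizerIn S R₁)).2 = (1 : MulAut R₁) from
          MulEquiv.ext fun x => Subtype.ext (by simp), map_one]
        exact one_mem _⟩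
      mul_mem' := by
        rintro a b ⟨ha, ha'⟩ ⟨hb, hb'⟩
        refine ⟨mul_mem ha hb, ?_⟩
        rw [show normAut (a * b) (mul_mem ha hb).2 = normAut a ha.2 * normAut b hb.2 from
          MulEquiv.ext fun x => Subtype.ext (by simp [mul_assoc]), map_mul]
        exact mul_mem ha' hb'
      inv_mem' := by
        rintro a ⟨ha, ha'⟩
        refine ⟨inv_mem ha, ?_⟩
        rw [show normAut a⁻¹ (inv_mem ha).2 = (normAut a ha.2)⁻¹ from eq_inv_of_mul_eq_one_left
          (MulEquiv.ext fun x => Subtype.ext (by simp [mul_assoc])), map_inv]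
        exact inv_mem ha' }
  have hMS : M ≤ normalizerIn S R₁ := fun g ⟨hg, _⟩ => hg
  -- the transported automorphism lies in `A`
  have hMA : ∀ g (hg : g ∈ M), MulAut.congr f.symm (normAut g (hMS hg).2) ∈ A := by
    intro g hg
    obtain ⟨h1, h2⟩ := hg
    exact ⟨congr_mem_autGroup hf.symm (autInducedBy_le_autGroup hR₁n.1
      (mem_autInducedBy_iff.2 ⟨g, h1.1, fun _ => rfl⟩)), h2⟩
  have hMQ : ∀ g ∈ M, ∃ hg : g ∈ Subgroup.normalizer (Q₂ : Set Ω),
      MulAut.congr fQ.symm (normAut g hg) ∈ K := by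
    intro g hg
    obtain ⟨hg', hgK⟩ := hg
    obtain ⟨-, k, hk, hke⟩ := mem_pairStab.1 hgK
    have hconj : ∀ x : Q, g * (fQ x : Ω) * g⁻¹ = fQ (k x) := by
      intro x
      have h1 : MulAut.congr f.symm (normAut g hg'.2) (Subgroup.inclusion hQR x) =
          Subgroup.inclusion hQR (k x) := Subtype.ext (hke x)
      have h2 := congrArg (fun t => (f t : Ω)) h1
      change ((f (f.symm (normAut g hg'.2 (f (Subgroup.inclusion hQR x)))) : R₁) : Ω) = _ at h2
      rw [MulEquiv.apply_symm_apply, normAut_apply] at h2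
      rw [hfQe, hfQe]
      exact h2
    have hn : g ∈ Subgroup.normalizer (Q₂ : Set Ω) := by
      have := finite_of_le (hQ₂R.trans hR₁n.1)
      refine mem_normalizer_of_forall fun y hy => ?_
      obtain ⟨x, hx⟩ := fQ.surjective ⟨y, hy⟩
      have h3 := hconj x
      rw [hx] at h3
      exact h3 ▸ (fQ (k x)).2
    refine ⟨hn, ?_⟩
    convert hk using 1
    refine MulEquiv.ext fun x => ?_
    change fQ.symm (normAut g hn (fQ x)) = k x
    rw [MulEquiv.symm_apply_eq]
    exact Subtype.ext (hconj x)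
  have hMQ' : M ⊔ Q₂ ≤ normalizerIn S Q₂ :=
    sup_le (fun g hg => ⟨(hMS hg).1, (hMQ g hg).1⟩) (le_normalizerIn (hQ₂R.trans hR₁n.1))
  -- the map `χ`
  let UM : Subgroup (MulAut Q) := ((M.subgroupOf (Subgroup.normalizer (Q₂ : Set Ω))).map
    Q₂.normalizerMonoidHom).map (MulAut.congr fQ.symm).toMonoidHom
  have := finite_of_le (hQ₂R.trans hR₁n.1)
  have hUM : IsPGroup p UM := (((hS.to_le fun g hg => (hMS hg).1).comap_subtype).map _).map _
  have hUMA : UM ≤ F.autGroup Q ⊓ K := by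
    rintro _ ⟨_, ⟨g, hg, rfl⟩, rfl⟩
    obtain ⟨hn, hgK⟩ := hMQ g hg
    exact ⟨congr_mem_autGroup hfQ.symm (autInducedBy_le_autGroup (hQ₂R.trans hR₁n.1)
      (mem_autInducedBy_iff.2 ⟨g, (hMS hg).1, fun _ => rfl⟩)), hgK⟩
  obtain ⟨a, ha, haU⟩ := exists_conj_mem_of_le (U := UM) (T := autInducedBy S Q ⊓ K)
    (N := F.autGroup Q ⊓ K) hUM ((isPGroup_autInducedBy hS Q).to_le inf_le_left) hUMA
    (inf_le_inf_right K (autInducedBy_le_autGroup hQS)) hK
  set e : Q₂ ≃* Q := fQ.symm.trans a with hedef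
  have he : IsIso F e := hfQ.symm.trans ((mem_autGroup_iff F hQS).1 ha.1)
  have hext : M ⊔ Q₂ ≤ extender S Q₂ (Q.subtype.comp e.toMonoidHom) := by
    refine sup_le (fun g hg => ?_) (le_extender he)
    refine mem_extender_iso_iff.2 ⟨(hMS hg).1, (hMQ g hg).1, ?_⟩
    exact (haU _ ⟨_, ⟨⟨g, (hMQ g hg).1⟩, hg, rfl⟩, rfl⟩).1
  obtain ⟨χ, hχ, hχe⟩ := exists_extension hQ he (le_sup_right : Q₂ ≤ M ⊔ Q₂) hext
  have hχM : ∀ g : ↥(M ⊔ Q₂), (g : Ω) ∈ M → χ g ∈ T := by
    intro g hg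
    obtain ⟨hgn, hgK⟩ := hMQ g hg
    refine (hT _).2 ⟨apply_mem_S F hχ g,
      (apply_mem_normalizerIn hχ le_sup_right hχe (fun y hy => (hMQ' hy).2) g).2, ?_⟩
    have h1 : ∀ hn, normAut (χ g) hn = a * MulAut.congr fQ.symm (normAut (g : Ω) hgn) * a⁻¹ := by
      intro hn
      refine MulEquiv.ext fun y => Subtype.ext ?_
      obtain ⟨z, rfl⟩ := e.surjective y
      rw [normAut_apply, ← hχe, ← map_inv, ← map_mul, ← map_mul,
        show g * Subgroup.inclusion le_sup_right z * g⁻¹ =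
          Subgroup.inclusion le_sup_right (normAut (g : Ω) hgn z) from Subtype.ext (by simp), hχe]
      simp [hedef]
    rw [h1]
    exact K.mul_mem (K.mul_mem ha.2 hgK) (K.inv_mem ha.2)
  -- elements of `P` and `Q`
  have hP₂M : P₂ ≤ M := by
    intro g hg
    obtain ⟨x, hx⟩ := fP.surjective ⟨g, hg⟩
    obtain ⟨-, hxQ, hxK⟩ := (hT x).1 (hPT x.2)
    have hgR : g ∈ R₁ := hP₂R hg
    have hgn : g ∈ normalizerIn S R₁ := ⟨hR₁n.1 hgR, Subgroup.le_normalizer hgR⟩
    refine ⟨hgn, ?_⟩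
    have hxg : f (Subgroup.inclusion le_sup_left x) = ⟨g, hgR⟩ :=
      Subtype.ext ((hfPe x).symm.trans (congrArg Subtype.val hx))
    have hcg : ∀ y : R, (MulAut.congr f.symm (normAut g hgn.2) y : Ω) = (x : Ω) * y * (x : Ω)⁻¹ := by
      intro y
      change ((f.symm (normAut g hgn.2 (f y)) : R) : Ω) = _
      have h1 : normAut g hgn.2 (f y) = f (Subgroup.inclusion le_sup_left x * y *
          (Subgroup.inclusion le_sup_left x)⁻¹) := by
        rw [map_mul, map_mul, map_inv, hxg]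
        exact Subtype.ext (by simp)
      rw [h1, MulEquiv.symm_apply_apply]
      rfl
    refine mem_pairStab.2 ⟨fun y => ?_, normAut (x : Ω) hxQ, hxK, fun y => ?_⟩
    · rw [hcg]
      exact Subgroup.mem_normalizer_iff.1 (Subgroup.le_normalizer x.2) y
    · rw [hcg]
      rfl
  have hR₁M : R₁ ≤ M ⊔ Q₂ := hR₁eq.trans_le (sup_le_sup_right hP₂M _)
  -- the images in `S`
  set R' := (χ.comp (Subgroup.inclusion hR₁M)).range
  obtain ⟨χR, hχR, hχRe⟩ : ∃ χR : R₁ ≃* R', IsIso F χR ∧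
      ∀ x : R₁, (χR x : Ω) = (χ.comp (Subgroup.inclusion hR₁M)) x :=
    exists_iso_of_mem (res_mem F hχ hR₁M)
  set f' : R ≃* R' := f.trans χR with hf'def
  have hf' : IsIso F f' := hf.trans hχR
  have hf'Q : ∀ x : Q, (f' (Subgroup.inclusion hQR x) : Ω) = a x := by
    intro x
    change ((χR (f (Subgroup.inclusion hQR x))) : Ω) = _
    rw [hχRe, MonoidHom.comp_apply]
    have : Subgroup.inclusion hR₁M (f (Subgroup.inclusion hQR x)) =
        Subgroup.inclusion le_sup_right (fQ x) := Subtype.ext (hfQe x).symm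
    rw [this, hχe]
    simp [hedef]
  set P' := img (R'.subtype.comp f'.toMonoidHom) P
  obtain ⟨gP, hgP, hgPe⟩ : ∃ gP : P ≃* P', IsIso F gP ∧
      ∀ x : P, (gP x : Ω) = f' (Subgroup.inclusion le_sup_left x) := hf'.exists_res le_sup_left
  have hP'T : P' ≤ T := by
    intro y hy
    obtain ⟨x, hxy⟩ := gP.surjective ⟨y, hy⟩
    rw [show y = (gP x : Ω) from (congrArg Subtype.val hxy).symm, hgPe]
    change ((χR (f (Subgroup.inclusion le_sup_left x))) : Ω) ∈ T
    rw [hχRe, MonoidHom.comp_apply]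
    exact hχM _ (hP₂M (show (f (Subgroup.inclusion le_sup_left x) : Ω) ∈ P₂ from hfPe x ▸ (fP x).2))
  have hR'eq : R' = P' ⊔ Q := by
    have h1 : (R'.subtype.comp f'.toMonoidHom).range = P' ⊔ img (R'.subtype.comp f'.toMonoidHom) Q := by
      rw [← img_self, img_sup _ le_sup_left le_sup_right]
    rw [← range_subtype_comp f', h1]
    congr 1
    ext y
    rw [mem_img]
    constructor
    · rintro ⟨x, hx, rfl⟩
      change (f' x : Ω) ∈ Q
      rw [show (f' x : Ω) = a ⟨x, hx⟩ from hf'Q ⟨x, hx⟩]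
      exact (a ⟨x, hx⟩).2
    · intro hy
      obtain ⟨x, hx⟩ := a.surjective ⟨y, hy⟩
      exact ⟨Subgroup.inclusion hQR x, x.2, (hf'Q x).trans (congrArg Subtype.val hx)⟩
  have hQR' : Q ≤ R' := hR'eq ▸ le_sup_right
  have hP'R' : P' ≤ R' := hR'eq ▸ le_sup_left
  have hR'S : R' ≤ S := hf'.le_right
  have := finite_of_le hR'S
  -- the group `A'`
  set A' := F.autGroup R' ⊓ pairStab R' P' Q hQR' K
  have hAmap : A.map (MulAut.congr f').toMonoidHom = A' := by
    have hfwd : ∀ α : MulAut R, α ∈ pairStab R P Q hQR K ↔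
        MulAut.congr f' α ∈ pairStab R' P' Q hQR' K := by
      intro α
      rw [mem_pairStab, mem_pairStab]
      have hPmem : ∀ x : R, (x : Ω) ∈ P ↔ (f' x : Ω) ∈ P' := by
        intro x
        constructor
        · exact fun hx => apply_mem_img (R'.subtype.comp f'.toMonoidHom) hx
        · intro hx
          obtain ⟨z, hz, hzx⟩ := mem_img.1 hx
          rwa [← f'.injective (Subtype.ext hzx)]
      refine and_congr ⟨fun h y => ?_, fun h x => ?_⟩ ⟨?_, ?_⟩
      · obtain ⟨x, rfl⟩ := f'.surjective y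
        rw [← hPmem, h x, hPmem]
        simp
      · rw [hPmem, h (f' x)]
        simp [hPmem]
      · rintro ⟨k, hk, hke⟩
        refine ⟨a * k * a⁻¹, K.mul_mem (K.mul_mem ha.2 hk) (K.inv_mem ha.2), fun y => ?_⟩
        obtain ⟨x, rfl⟩ := a.surjective y
        have h1 : Subgroup.inclusion hQR' (a x) = f' (Subgroup.inclusion hQR x) :=
          Subtype.ext (hf'Q x).symm
        change ((f' (α (f'.symm (Subgroup.inclusion hQR' (a x))))) : Ω) = _
        rw [h1, MulEquiv.symm_apply_apply,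
          show α (Subgroup.inclusion hQR x) = Subgroup.inclusion hQR (k x) from Subtype.ext (hke x),
          hf'Q]
        simp
      · rintro ⟨k, hk, hke⟩
        refine ⟨a⁻¹ * k * a, K.mul_mem (K.mul_mem (K.inv_mem ha.2) hk) ha.2, fun x => ?_⟩
        have h1 : Subgroup.inclusion hQR' (a x) = f' (Subgroup.inclusion hQR x) :=
          Subtype.ext (hf'Q x).symm
        have h2 := hke (a x)
        change ((f' (α (f'.symm (Subgroup.inclusion hQR' (a x))))) : Ω) = _ at h2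
        rw [h1, MulEquiv.symm_apply_apply] at h2
        have h3 : f' (α (Subgroup.inclusion hQR x)) =
            f' (Subgroup.inclusion hQR ((a⁻¹ * k * a) x)) :=
          Subtype.ext (h2.trans ((hf'Q _).trans (by simp)).symm)
        exact congrArg Subtype.val (f'.injective h3)
    refine le_antisymm ?_ fun β hβ => ?_
    · rintro _ ⟨α, hα, rfl⟩
      exact ⟨congr_mem_autGroup hf' hα.1, (hfwd α).1 hα.2⟩
    · have h4 : MulAut.congr f' (MulAut.congr f'.symm β) = β := MulEquiv.ext fun x => by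
        simp [MulAut.congr]
      exact ⟨MulAut.congr f'.symm β, ⟨congr_mem_autGroup hf'.symm hβ.1,
        (hfwd _).2 (h4.symm ▸ hβ.2)⟩, h4⟩
  -- restriction to `P'`
  have hstab : ∀ α : A', ∀ x : P', ((α : MulAut R') (Subgroup.inclusion hP'R' x) : Ω) ∈ P' :=
    fun α x => (α.2.2.1 _).1 x.2
  have := finite_of_le (hP'R'.trans hR'S)
  let r : A' →* MulAut P' :=
    { toFun := fun α => MulEquiv.ofBijective
        (MonoidHom.mk' (fun x : P' => (⟨_, hstab α x⟩ : P')) fun x y => Subtype.ext (by simp))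
        (Finite.injective_iff_bijective.1 fun x y h => by
          have h1 : (α : MulAut R') (Subgroup.inclusion hP'R' x) =
              (α : MulAut R') (Subgroup.inclusion hP'R' y) :=
            Subtype.ext (congrArg (fun t : P' => (t : Ω)) h)
          exact Subgroup.inclusion_injective hP'R' ((α : MulAut R').injective h1))
      map_one' := MulEquiv.ext fun x => Subtype.ext rfl
      map_mul' := fun α β => MulEquiv.ext fun x => Subtype.ext rfl }
  have hr : ∀ (α : A') (x : P'), ((r α x : P') : Ω) = (α : MulAut R') (Subgroup.inclusion hP'R' x) :=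
    fun _ _ => rfl
  set V := (U'.map (MulAut.congr f').toMonoidHom).subgroupOf A'
  have hVi : ¬ p ∣ V.index := by
    have h1 : ¬ p ∣ U'.relIndex A := by
      rw [Subgroup.relIndex, show U'.subgroupOf A = (U : Subgroup A) from
        Subgroup.comap_map_eq_self_of_injective A.subtype_injective _]
      exact U.not_dvd_index
    rw [← Subgroup.relIndex_map_map_of_injective U' A (f := (MulAut.congr f').toMonoidHom)
      (MulAut.congr f').injective, hAmap] at h1
    exact h1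
  have hVp : IsPGroup p V := ((U.2.map _).map _).comap_subtype
  have hVT : ∀ α ∈ V, r α ∈ autInducedBy T P' := by
    intro α hα
    obtain ⟨α₀, hα₀, hαe⟩ := hα
    obtain ⟨g, hg, hge⟩ := mem_autInducedBy_iff.1 (hfU α₀ hα₀)
    have hgn : g ∈ normalizerIn S R₁ := ⟨hg, mem_normalizer_of_aut hge⟩
    have hgM : g ∈ M := by
      refine ⟨hgn, ?_⟩
      have h1 : MulAut.congr f.symm (normAut g hgn.2) = α₀ := by
        rw [show normAut g hgn.2 = MulAut.congr f α₀ from MulEquiv.ext fun x => Subtype.ext (hge x).symm]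
        exact MulEquiv.ext fun x => by simp [MulAut.congr]
      rw [h1]
      obtain ⟨b, -, rfl⟩ := hα₀
      exact b.2.2
    refine mem_autInducedBy_iff.2 ⟨χ ⟨g, le_sup_left (b := Q₂) hgM⟩, hχM _ hgM, fun x => ?_⟩
    rw [hr, show ((α : MulAut R') : MulAut R') = MulAut.congr f' α₀ from hαe.symm]
    obtain ⟨y, hy⟩ := f'.surjective (Subgroup.inclusion hP'R' x)
    rw [← hy]
    change ((χR (f (α₀ (f'.symm (f' y))))) : Ω) = _
    rw [MulEquiv.symm_apply_apply, show (x : Ω) = (f' y : Ω) from (congrArg Subtype.val hy).symm]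
    change ((χR (f (α₀ y))) : Ω) = χ _ * ((χR (f y)) : Ω) * (χ _)⁻¹
    rw [hχRe, hχRe, MonoidHom.comp_apply, MonoidHom.comp_apply, ← map_inv, ← map_mul, ← map_mul]
    refine congrArg χ (Subtype.ext ?_)
    have h1 := hge (f y)
    rw [show MulAut.congr f α₀ (f y) = f (α₀ y) by simp [MulAut.congr]] at h1
    exact h1
  have hEaut : E.autGroup P' = r.range := by
    ext α
    constructor
    · intro hα
      have h1 := (mem_autGroup_iff E hP'T).1 hα
      rw [IsIso, hE] at h1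
      obtain ⟨-, -, -, ψ, hψ, hψe, k, hk, hψk⟩ := h1
      obtain ⟨ψ', hψ', hψ'e⟩ := mem_of_eq_sup hR'eq.symm hψ
      have hrange : ψ'.range = R' := by
        refine Subgroup.eq_of_le_of_card_ge ?_ (Nat.card_congr
          (MonoidHom.ofInjective (F.injective_of_mem hψ')).toEquiv).le
        rintro _ ⟨z, rfl⟩
        rw [hψ'e]
        have h2 : ψ.range ≤ R' := by
          rw [range_ext_eq hψe]
          refine sup_le ?_ ?_
          · rintro _ ⟨x, rfl⟩
            exact hP'R' (α x).2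
          · intro y hy
            obtain ⟨w, hw, rfl⟩ := mem_img.1 hy
            rw [show w = Subgroup.inclusion le_sup_right (⟨(w : Ω), hw⟩ : Q) from rfl, hψk]
            exact hQR' (k _).2
        exact h2 ⟨_, rfl⟩
      obtain ⟨β, hβ, hβe⟩ := exists_iso_of_range hψ' hrange
      have hβA : β ∈ A' := by
        refine ⟨(mem_autGroup_iff F hR'S).2 hβ, mem_pairStab.2 ⟨fun z => ?_, k, hk, fun x => ?_⟩⟩
        · have hfor : ∀ z : R', (z : Ω) ∈ P' → (β z : Ω) ∈ P' := fun z hz => by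
            rw [hβe, hψ'e]
            exact (hψe ⟨z, hz⟩).symm ▸ (α ⟨z, hz⟩).2
          refine ⟨hfor z, fun hz => ?_⟩
          obtain ⟨w, hw⟩ := α.surjective ⟨_, hz⟩
          have h2 : β (Subgroup.inclusion hP'R' w) = β z := Subtype.ext (by
            rw [hβe, hψ'e]
            exact (hψe w).trans (congrArg Subtype.val hw))
          exact β.injective h2 ▸ w.2
        · rw [hβe, hψ'e]
          exact hψk x
      refine ⟨⟨β, hβA⟩, MulEquiv.ext fun x => Subtype.ext ?_⟩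
      rw [hr, hβe, hψ'e]
      exact hψe x
    · rintro ⟨β, rfl⟩
      refine (mem_autGroup_iff E hP'T).2 ?_
      rw [IsIso, hE]
      obtain ⟨hβF, -, k, hk, hke⟩ := β.2
      obtain ⟨ψ, hψ, hψe⟩ := mem_of_eq_sup hR'eq ((mem_autGroup_iff F hR'S).1 hβF)
      refine ⟨mem_of_eq rfl (res_mem F ((mem_autGroup_iff F hR'S).1 hβF) hP'R') fun x => rfl, hP'T,
        fun x => hP'T ((r β) x).2, ψ, hψ, fun x => hψe _, k, hk, fun x => (hψe _).trans (hke x)⟩
  have hPP' : E.IsConj P P' := by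
    refine isConj_iff.2 ⟨gP, ?_⟩
    rw [IsIso, hE]
    refine ⟨hgP, hPT, fun x => hP'T (gP x).2, R'.subtype.comp f'.toMonoidHom, hf',
      fun x => (hgPe x).symm, a, ha.2, fun x => hf'Q x⟩
  refine ⟨P', hPP', (isFullyAutomized_iff hTp).2 ⟨hP'T, ?_⟩, hP'T, ?_⟩
  · rw [hEaut]
    intro hd
    refine hVi (hd.trans ?_)
    have h1 : V.map r ≤ autInducedBy T P' := by
      rintro _ ⟨α, hα, rfl⟩
      exact hVT α hα
    refine (Subgroup.relIndex_dvd_of_le_left _ h1).trans ?_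
    rw [MonoidHom.range_eq_map, Subgroup.relIndex_map_map, Subgroup.relIndex]
    rw [top_sup_eq, ← Subgroup.relIndex, Subgroup.relIndex_top_right]
    exact Subgroup.index_dvd_of_le le_sup_left
  intro P'' φ hφ hφr
  have hφ' := hφ
  rw [hE] at hφ'
  set R'' := P'' ⊔ Q
  obtain ⟨hφF, hP''T, -, ψ, hψ, hψe, k, hk, hψk⟩ := hφ'
  have hP''S := hP''T.trans hTS
  have := finite_of_le hP''S
  have hψr : ψ.range = R' := by
    rw [range_ext_eq hψe, hφr, hR'eq]
    congr 1
    ext y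
    rw [mem_img]
    constructor
    · rintro ⟨x, hx, rfl⟩
      rw [show x = Subgroup.inclusion le_sup_right (⟨(x : Ω), hx⟩ : Q) from rfl, hψk]
      exact (k _).2
    · intro hy
      exact ⟨Subgroup.inclusion le_sup_right (k.symm ⟨y, hy⟩), (k.symm ⟨y, hy⟩).2, by
        rw [hψk, MulEquiv.apply_symm_apply]⟩
  obtain ⟨φt, hφt, hφte⟩ := exists_iso_of_range hψ hψr
  set N := extender T P'' φ
  have hN : ∀ g ∈ N, ∃ hg : g ∈ Subgroup.normalizer (R'' : Set Ω),
      MulAut.congr φt (normAut g hg) ∈ A' ∧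
        ∀ hA, r ⟨MulAut.congr φt (normAut g hg), hA⟩ ∈ autInducedBy T P' := by
    intro g hg
    obtain ⟨hgT, hgn, h, hhT, hhe⟩ := mem_extender_iff.1 hg
    obtain ⟨hgS, hgQ, hgK⟩ := (hT g).1 hgT
    have := finite_of_le (sup_le hP''S hQS : R'' ≤ S)
    have hgR : g ∈ Subgroup.normalizer (R'' : Set Ω) := by
      refine mem_normalizer_of_forall fun y hy => ?_
      suffices h : R'' ≤ R''.comap (MulAut.conj g).toMonoidHom from h hy
      exact sup_le (fun x hx => Subgroup.mem_sup_left (conj_mem_of_mem_normalizer hgn hx))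
        (fun x hx => Subgroup.mem_sup_right (conj_mem_of_mem_normalizer hgQ hx))
    set τ := MulAut.congr φt (normAut g hgR) with hτ
    have hτP : ∀ x : P'', (τ (φt (Subgroup.inclusion le_sup_left x)) : Ω) = φ (normAut g hgn x) := by
      intro x
      change ((φt (normAut g hgR (φt.symm (φt (Subgroup.inclusion le_sup_left x))))) : Ω) = _
      rw [MulEquiv.symm_apply_apply, hφte, ← hψe]
      exact congrArg ψ (Subtype.ext (by simp))
    have hτQ : ∀ x : Q, (τ (Subgroup.inclusion hQR' (k x)) : Ω) = k (normAut g hgQ x) := by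
      intro x
      have h1 : φt (Subgroup.inclusion le_sup_right x) = Subgroup.inclusion hQR' (k x) :=
        Subtype.ext ((hφte _).trans (hψk x))
      rw [← h1]
      change ((φt (normAut g hgR (φt.symm (φt (Subgroup.inclusion le_sup_right x))))) : Ω) = _
      rw [MulEquiv.symm_apply_apply, hφte, ← hψk]
      exact congrArg ψ (Subtype.ext (by simp))
    have hτA : τ ∈ A' := by
      refine ⟨congr_mem_autGroup hφt (autInducedBy_le_autGroup (sup_le hP''S hQS)
        (mem_autInducedBy_iff.2 ⟨g, hgS, fun _ => rfl⟩)), mem_pairStab.2 ⟨fun z => ?_,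
        k * normAut g hgQ * k⁻¹, K.mul_mem (K.mul_mem hk hgK) (K.inv_mem hk), fun y => ?_⟩⟩
      · have hfor : ∀ z : R', (z : Ω) ∈ P' → (τ z : Ω) ∈ P' := by
          intro z hz
          rw [← hφr] at hz ⊢
          obtain ⟨x, hx⟩ := hz
          rw [show z = φt (Subgroup.inclusion le_sup_left x) from
            Subtype.ext (hx.symm.trans ((hψe x).symm.trans (hφte _).symm)), hτP]
          exact ⟨_, rfl⟩
        refine ⟨hfor z, fun hz => ?_⟩
        rw [← hφr] at hz ⊢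
        obtain ⟨x, hx⟩ := hz
        refine ⟨(normAut g hgn)⁻¹ x, ?_⟩
        have h2 : τ z = τ (φt (Subgroup.inclusion le_sup_left ((normAut g hgn)⁻¹ x))) :=
          Subtype.ext (by rw [hτP, MulAut.apply_inv_self, hx])
        rw [τ.injective h2, hφte, hψe]
      · obtain ⟨x, rfl⟩ := k.surjective y
        rw [hτQ]
        simp
    refine ⟨hgR, hτA, fun hA => mem_autInducedBy_iff.2 ⟨h, hhT, fun z => ?_⟩⟩
    rw [hr]
    obtain ⟨x, hx⟩ : ∃ x : P'', φ x = (z : Ω) := by
      have := hφr.ge z.2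
      exact this
    rw [show Subgroup.inclusion hP'R' z = φt (Subgroup.inclusion le_sup_left x) from
      Subtype.ext (hx.symm.trans ((hψe x).symm.trans (hφte _).symm)), hτP, hhe x, hx]
  -- conjugate into `V` inside the kernel
  choose hgR hgA hgr using hN
  let NR : N →* A' := MonoidHom.mk'
    (fun g => ⟨MulAut.congr φt (normAut (g : Ω) (hgR g g.2)), hgA g g.2⟩) fun g h => Subtype.ext (by
      exact (congrArg (MulAut.congr φt) (MulEquiv.ext fun x => Subtype.ext (by simp [mul_assoc]) :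
        normAut ((g * h : N) : Ω) (hgR _ (g * h).2) =
          normAut (g : Ω) (hgR g g.2) * normAut (h : Ω) (hgR h h.2))).trans (map_mul _ _ _))
  set L := (autInducedBy T P').comap r
  have hVL : V ≤ L := fun α hα => hVT α hα
  have hNL : NR.range ≤ L := by
    rintro _ ⟨g, rfl⟩
    exact hgr g g.2 _
  have hNp : IsPGroup p N := hTp.to_le ((extender_le_normalizerIn _ _).trans (normalizerIn_le _))
  have hVL' : ¬ p ∣ V.relIndex L := fun h => hVi (h.trans (Subgroup.relIndex_dvd_index_of_le hVL))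
  have hLC : L ≤ V ⊔ r.ker := by
    have h1 : ¬ p ∣ (V.map r).relIndex (L.map r) := not_dvd_relIndex_map r hVL hVL'
    have hLp : IsPGroup p (L.map r) :=
      (isPGroup_autInducedBy hTp P').to_le (Subgroup.map_comap_le _ _)
    have h2 : V.map r = L.map r := eq_of_le_of_not_dvd hLp (Subgroup.map_mono hVL) le_rfl h1
    rw [← Subgroup.comap_map_eq, h2]
    exact Subgroup.le_comap_map _ _
  have hNRp : IsPGroup p NR.range := by
    rw [MonoidHom.range_eq_map]
    exact (hNp.to_subgroup ⊤).map _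
  obtain ⟨l, hl, hlV⟩ := exists_conj_mem_of_le hNRp hVp hNL hVL hVL'
  obtain ⟨v, hv, c, hc, rfl⟩ := Subgroup.mem_sup_of_normal_right.1 (hLC hl)
  have hcN : ∀ g : N, c * NR g * c⁻¹ ∈ V := by
    intro g
    have h1 := V.mul_mem (V.mul_mem (V.inv_mem hv) (hlV _ ⟨g, rfl⟩)) hv
    simpa [mul_assoc] using h1
  -- extend through `R₁`
  set φ₁ : R'' ≃* R₁ := (φt.trans (c : MulAut R')).trans χR.symm with hφ₁def
  have hφ₁ : IsIso F φ₁ :=
    (hφt.trans ((mem_autGroup_iff F hR'S).1 c.2.1)).trans hχR.symm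
  have hM' : ∀ g : N, ∃ m ∈ M, ∀ x : R'', (φ₁ (normAut (g : Ω) (hgR g g.2) x) : Ω) =
      m * (φ₁ x : Ω) * m⁻¹ := by
    intro g
    obtain ⟨α₀, hα₀, hαe⟩ := hcN g
    obtain ⟨m, hm, hme⟩ := mem_autInducedBy_iff.1 (hfU α₀ hα₀)
    have hmn : m ∈ normalizerIn S R₁ := ⟨hm, mem_normalizer_of_aut hme⟩
    have hmM : m ∈ M := by
      refine ⟨hmn, ?_⟩
      have h1 : MulAut.congr f.symm (normAut m hmn.2) = α₀ := by
        rw [show normAut m hmn.2 = MulAut.congr f α₀ from MulEquiv.ext fun x => Subtype.ext (hme x).symm]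
        exact MulEquiv.ext fun x => by simp [MulAut.congr]
      rw [h1]
      obtain ⟨b, -, rfl⟩ := hα₀
      exact b.2.2
    refine ⟨m, hmM, fun x => ?_⟩
    have h2 : (MulAut.congr f' α₀ : MulAut R') ((c : MulAut R') (φt x)) =
        (c : MulAut R') (φt (normAut (g : Ω) (hgR g g.2) x)) := by
      rw [show MulAut.congr f' α₀ = ((c * NR g * c⁻¹ : A') : MulAut R') from hαe]
      simp [NR, MulAut.congr]
    rw [← hme (φ₁ x)]
    refine congrArg Subtype.val ?_
    change χR.symm ((c : MulAut R') (φt (normAut (g : Ω) (hgR g g.2) x))) = f (α₀ (f.symm (φ₁ x)))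
    rw [← h2, MulEquiv.symm_apply_eq]
    simp [hφ₁def, hf'def, MulAut.congr]
  have hR''S : R'' ≤ S := sup_le hP''S hQS
  have hext₁ : N ⊔ R'' ≤ extender S R'' (R₁.subtype.comp φ₁.toMonoidHom) := by
    refine sup_le (fun g hg => ?_) (le_extender hφ₁)
    obtain ⟨m, hm, hme⟩ := hM' ⟨g, hg⟩
    exact mem_extender_iff.2 ⟨hTS (extender_le_normalizerIn _ _ hg).1, hgR g hg, m, (hMS hm).1, hme⟩
  obtain ⟨ψ₁, hψ₁, hψ₁e⟩ := exists_extension hR₁r hφ₁ (le_sup_right : R'' ≤ N ⊔ R'') hext₁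
  have hψ₁M : ∀ g : ↥(N ⊔ R''), (g : Ω) ∈ N → ψ₁ g ∈ M := by
    intro g hg
    obtain ⟨m, hm, hme⟩ := hM' ⟨g, hg⟩
    have hgnR := hgR g hg
    have hconj : ∀ y : R₁, ψ₁ g * (y : Ω) * (ψ₁ g)⁻¹ = m * (y : Ω) * m⁻¹ := by
      intro y
      obtain ⟨x, rfl⟩ := φ₁.surjective y
      rw [← hme x, ← hψ₁e, ← map_inv, ← map_mul, ← map_mul, ← hψ₁e]
      exact congrArg ψ₁ (Subtype.ext (by simp))
    have hn : ψ₁ g ∈ normalizerIn S R₁ := ⟨apply_mem_S F hψ₁ g, mem_normalizer_of_forall fun y hy => by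
      rw [hconj ⟨y, hy⟩]
      exact conj_mem_of_mem_normalizer (hMS hm).2 hy⟩
    refine ⟨hn, ?_⟩
    rw [show normAut (ψ₁ g) hn.2 = normAut m (hMS hm).2 from MulEquiv.ext fun y => Subtype.ext (hconj y)]
    exact (hMA m hm).2
  have hψ₁range : ∀ g : ↥(N ⊔ R''), ψ₁ g ∈ M ⊔ Q₂ := by
    intro g
    have h1 : img ψ₁ (N ⊔ R'') ≤ M ⊔ Q₂ := by
      rw [img_sup ψ₁ le_sup_left le_sup_right]
      refine sup_le ?_ ?_
      · intro y hy
        obtain ⟨z, hz, rfl⟩ := mem_img.1 hy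
        exact Subgroup.mem_sup_left (hψ₁M z hz)
      · intro y hy
        obtain ⟨z, hz, rfl⟩ := mem_img.1 hy
        rw [show z = Subgroup.inclusion le_sup_right (⟨(z : Ω), hz⟩ : R'') from rfl, hψ₁e]
        exact hR₁M (φ₁ _).2
    exact h1 (apply_mem_img ψ₁ g.2)
  set Ψ := χ.comp (ψ₁.codRestrict _ hψ₁range)
  have hΨ : Ψ ∈ F.Hom (N ⊔ R'') := F.comp_mem hψ₁ hχ hψ₁range
  have hΨR : ∀ x : R'', Ψ (Subgroup.inclusion le_sup_right x) = ((c : MulAut R') (φt x) : Ω) := by
    intro x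
    change χ ⟨ψ₁ _, _⟩ = _
    have h1 : (⟨ψ₁ (Subgroup.inclusion le_sup_right x), hψ₁range _⟩ : ↥(M ⊔ Q₂)) =
        Subgroup.inclusion hR₁M (φ₁ x) := Subtype.ext (hψ₁e x)
    rw [h1, ← MonoidHom.comp_apply, ← hχRe]
    simp [hφ₁def]
  have hP''N : P'' ≤ N := le_extender (F := E) hφ
  have hNT : N ≤ T := (extender_le_normalizerIn _ _).trans (normalizerIn_le _)
  have hle : N ⊔ Q ≤ N ⊔ R'' := sup_le_sup_left le_sup_right N
  have hle' : N ≤ N ⊔ R'' := le_sup_left
  obtain ⟨-, kc, hkc, hkce⟩ := c.2.2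
  refine ⟨Ψ.comp (Subgroup.inclusion hle'), ?_, fun x hxP hxN => ?_⟩
  · rw [hE]
    refine ⟨res_mem F hΨ hle', hNT, fun g => hχM _ (hψ₁M _ g.2),
      Ψ.comp (Subgroup.inclusion hle), res_mem F hΨ hle, fun g => rfl,
      kc * k, K.mul_mem hkc hk, fun x => ?_⟩
    have h1 : Subgroup.inclusion hle (Subgroup.inclusion le_sup_right x) =
        Subgroup.inclusion le_sup_right (Subgroup.inclusion (le_sup_right : Q ≤ R'') x) := rfl
    rw [MonoidHom.comp_apply, h1, hΨR]
    rw [show φt (Subgroup.inclusion le_sup_right x) = Subgroup.inclusion hQR' (k x) from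
      Subtype.ext ((hφte _).trans (hψk x)), hkce]
    rfl
  · have h1 : Subgroup.inclusion hle' ⟨x, hxN⟩ =
        Subgroup.inclusion le_sup_right (Subgroup.inclusion (le_sup_left : P'' ≤ R'') ⟨x, hxP⟩) := rfl
    rw [MonoidHom.comp_apply, h1, hΨR]
    have h2 : φt (Subgroup.inclusion le_sup_left ⟨x, hxP⟩) =
        Subgroup.inclusion hP'R' ⟨φ ⟨x, hxP⟩, hφr.le ⟨_, rfl⟩⟩ :=
      Subtype.ext ((hφte _).trans (hψe _))
    rw [h2, ← hr, hc]
    rfl

end CfsgLib.Fusion

namespace CfsgLib.Fusion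

variable {Ω : Type*} [Group Ω] {S : Subgroup Ω} {F : FusionSystem S} {p : ℕ} [Fact p.Prime] [Finite S]

/-- **The normalizer system of a fully normalized subgroup is saturated.** -/
theorem isSaturated_normalizerSystem (hS : IsPGroup p S) (hF : F.IsSaturated p) {Q : Subgroup Ω}
    (hQ : F.IsFullyNormalized Q) (E : FusionSystem (normalizerIn S Q))
    (hE : F.IsNormalizerSystem Q E) : E.IsSaturated p := by
  obtain ⟨ha, hr⟩ := fullyAutomized_receptive_of_fullyNormalized hS hF hQ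
  have := finite_of_le hQ.1
  refine isSaturated_kNormalizer hS hF (Q := Q) (⊤ : Subgroup (MulAut Q))
    (T := normalizerIn S Q) (fun g => ⟨fun h => ?_, fun ⟨h1, h2, _⟩ => ⟨h1, h2⟩⟩) hr
    (by simpa using ((isFullyAutomized_iff hS).1 ha).2) E fun P => ?_
  · exact ⟨h.1, h.2, trivial⟩
  rw [hE P]
  ext φ
  constructor
  · rintro ⟨hφ, hP, hφN, ψ, hψ, hψe, hψQ⟩
    obtain ⟨k, -, hke⟩ := exists_iso_of_range (res_mem F hψ (le_sup_right : Q ≤ P ⊔ Q))
      ((range_comp_inclusion ψ le_sup_right).trans hψQ)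
    exact ⟨hφ, hP, hφN, ψ, hψ, hψe, k, trivial, fun x => (hke x).symm⟩
  · rintro ⟨hφ, hP, hφN, ψ, hψ, hψe, k, -, hke⟩
    refine ⟨hφ, hP, hφN, ψ, hψ, hψe, ?_⟩
    change img ψ Q = Q
    ext y
    rw [mem_img]
    constructor
    · rintro ⟨x, hx, rfl⟩
      rw [show x = Subgroup.inclusion le_sup_right (⟨(x : Ω), hx⟩ : Q) from rfl, hke]
      exact (k _).2
    · intro hy
      exact ⟨Subgroup.inclusion le_sup_right (k.symm ⟨y, hy⟩), (k.symm ⟨y, hy⟩).2, by
        rw [hke, MulEquiv.apply_symm_apply]⟩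

/-- **The centralizer system of a fully centralized subgroup is saturated.** -/
theorem isSaturated_centralizerSystem (hS : IsPGroup p S) (hF : F.IsSaturated p) {Q : Subgroup Ω}
    (hQ : F.IsFullyCentralized Q) (E : FusionSystem (centralizerIn S Q))
    (hE : F.IsCentralizerSystem Q E) : E.IsSaturated p := by
  have := finite_of_le hQ.1
  have hT : ∀ g, g ∈ centralizerIn S Q ↔ g ∈ S ∧
      ∃ hg : g ∈ Subgroup.normalizer (Q : Set Ω), normAut g hg ∈ (⊥ : Subgroup (MulAut Q)) := by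
    intro g
    constructor
    · intro h
      refine ⟨h.1, mem_normalizer_of_forall_commute h.2, Subgroup.mem_bot.2 ?_⟩
      refine MulEquiv.ext fun x => Subtype.ext ?_
      rw [normAut_apply, ← h.2 x x.2, mul_inv_cancel_right]
      rfl
    · rintro ⟨h1, h2, h3⟩
      refine ⟨h1, fun y hy => ?_⟩
      have h4 := congrArg (fun a : MulAut Q => ((a ⟨y, hy⟩ : Q) : Ω)) (Subgroup.mem_bot.1 h3)
      simp only [normAut_apply, MulAut.one_apply] at h4
      exact (mul_inv_eq_iff_eq_mul.1 h4).symm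
  refine isSaturated_kNormalizer hS hF ⊥ hT (receptive_of_fullyCentralized hS hF hQ) ?_ E fun P => ?_
  · rw [inf_bot_eq, inf_bot_eq, Subgroup.relIndex_self]
    exact (Fact.out : p.Prime).not_dvd_one
  rw [hE P]
  ext φ
  constructor
  · rintro ⟨hφ, hP, hφN, ψ, hψ, hψe, hψQ⟩
    exact ⟨hφ, hP, hφN, ψ, hψ, hψe, 1, Subgroup.mem_bot.2 rfl, hψQ⟩
  · rintro ⟨hφ, hP, hφN, ψ, hψ, hψe, k, hk, hke⟩
    obtain rfl := Subgroup.mem_bot.1 hk
    exact ⟨hφ, hP, hφN, ψ, hψ, hψe, hke⟩

end CfsgLib.Fusion
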