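import Cfsg.Prelude.Def_FusionReduction
import Cfsg.Prelude.Def_PLocal
import Cfsg.Agent.Lib.Fusion.FunctorModel
import Cfsg.Agent.Lib.Fusion.FunctorCenter
import Cfsg.Agent.Lib.Fusion.NormalizerSat
import Cfsg.Agent.Lib.LocalEven.AbelianReplacement

/-!
# Generation by the centralizer of `℧¹(Z S)` and the normalizer of `J(S)`
-/

set_option autoImplicit false

open Cfsg Cfsg.FusionSystem
open scoped commutatorElement

namespace CfsgLib.Fusion

universe u

/-! ### The functor -/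

theorem exists_maxAbelian (Q : Type*) [Group Q] [Finite Q] : ∃ A, A ∈ maxAbelianSubgroups Q := by
  obtain ⟨A, hA, hmax⟩ := Set.exists_max_image {A : Subgroup Q | IsMulCommutative A}
    (fun A => Nat.card A) (Set.toFinite _) ⟨⊥, ⟨⟨fun a b => Subsingleton.elim _ _⟩⟩⟩
  exact ⟨A, hA, fun B hB => hmax B hB⟩

theorem thompsonSubgroupA_ne_bot {Q : Type u} [Group Q] [Finite Q] [Nontrivial Q] :
    thompsonSubgroupA Q ≠ ⊥ := by
  intro h
  obtain ⟨A, hA⟩ := exists_maxAbelian Q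
  obtain ⟨x, hx⟩ := exists_ne (1 : Q)
  have h1 : A = ⊥ := le_bot_iff.1 (h ▸ le_sSup hA)
  have h2 := hA.2 (Subgroup.zpowers x) inferInstance
  rw [h1, Subgroup.card_bot] at h2
  exact hx (Subgroup.mem_bot.1 ((Subgroup.eq_bot_of_card_le _ h2) ▸ Subgroup.mem_zpowers x))

theorem map_mem_maxAbelian {Q R : Type*} [Group Q] [Group R] (φ : Q ≃* R) {A : Subgroup Q}
    (hA : A ∈ maxAbelianSubgroups Q) : A.map φ.toMonoidHom ∈ maxAbelianSubgroups R := by
  have := hA.1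
  refine ⟨inferInstance, fun B hB => ?_⟩
  have : IsMulCommutative B := hB
  rw [← Subgroup.card_map_of_injective (K := B) (f := φ.symm.toMonoidHom) φ.symm.injective,
    Subgroup.card_map_of_injective (K := A) (f := φ.toMonoidHom) φ.injective]
  exact hA.2 _ inferInstance

theorem map_thompsonSubgroupA {Q R : Type u} [Group Q] [Group R] (φ : Q ≃* R) :
    (thompsonSubgroupA Q).map φ.toMonoidHom = thompsonSubgroupA R := by
  refine le_antisymm ?_ (sSup_le fun B hB => ?_)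
  · rw [Subgroup.map_le_iff_le_comap]
    exact sSup_le fun A hA => Subgroup.map_le_iff_le_comap.1 (le_sSup (map_mem_maxAbelian φ hA))
  · intro b hb
    exact ⟨φ.symm b, le_sSup (s := maxAbelianSubgroups Q) (map_mem_maxAbelian φ.symm hB)
      ⟨b, hb, rfl⟩, φ.apply_symm_apply b⟩

/-! ### Replacement -/

/-- An abelian subgroup of largest order not centralizing a normal abelian subgroup `K` may be
taken normalized by `K`. -/
theorem exists_maxAbelian_normalizer {Q : Type*} [Group Q] [Finite Q] {p : ℕ} [Fact p.Prime]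
    (hQ : IsPGroup p Q) {K : Subgroup Q} [hKn : K.Normal]
    (hK : ∀ a ∈ K, ∀ b ∈ K, a * b = b * a) {A : Subgroup Q} (hA : A ∈ maxAbelianSubgroups Q)
    (hAK : ¬ A ≤ Subgroup.centralizer (K : Set Q)) :
    ∃ A' ∈ maxAbelianSubgroups Q, ¬ A' ≤ Subgroup.centralizer (K : Set Q) ∧
      K ≤ Subgroup.normalizer (A' : Set Q) := by
  suffices h : ∀ (n : ℕ) (A : Subgroup Q), A ∈ maxAbelianSubgroups Q →
      ¬ A ≤ Subgroup.centralizer (K : Set Q) → Nat.card Q - Nat.card ↥(A ⊓ K) = n →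
      ∃ A' ∈ maxAbelianSubgroups Q, ¬ A' ≤ Subgroup.centralizer (K : Set Q) ∧
        K ≤ Subgroup.normalizer (A' : Set Q) from h _ A hA hAK rfl
  clear hAK hA A
  intro n
  induction n using Nat.strong_induction_on with
  | _ n ih =>
  intro A hA hAK hn
  by_cases hKA : K ≤ Subgroup.normalizer (A : Set Q)
  · exact ⟨A, hA, hAK, hKA⟩
  have hAnK : A ≤ Subgroup.normalizer (K : Set Q) := by
    rw [Subgroup.normalizer_eq_top]
    exact le_top
  set D := K ⊓ Subgroup.normalizer (A : Set Q) with hD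
  have hDA : D ⊔ A ≤ Subgroup.normalizer (A : Set Q) := sup_le inf_le_right Subgroup.le_normalizer
  have hlt : D ⊔ A < K ⊔ A := lt_of_le_of_ne (sup_le_sup_right inf_le_left _) fun h =>
    hKA ((le_sup_left.trans h.ge).trans hDA)
  obtain ⟨x, ⟨hxH, hxn⟩, hxD⟩ := SetLike.exists_of_lt
    (lt_normalizerIn (hQ.to_subgroup (K ⊔ A)) hlt)
  rw [sup_comm K A] at hxH
  obtain ⟨a, ha, v, hv, rfl⟩ := exists_mul_of_mem_sup hAnK hxH
  have hvn : v ∈ Subgroup.normalizer ((D ⊔ A : Subgroup Q) : Set Q) := by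
    have h1 := (Subgroup.normalizer _).mul_mem ((Subgroup.normalizer _).inv_mem
      (Subgroup.le_normalizer (show a ∈ D ⊔ A from Subgroup.mem_sup_right ha))) hxn
    rwa [inv_mul_cancel_left] at h1
  have hvA : v ∉ Subgroup.normalizer (A : Set Q) := fun h =>
    hxD ((D ⊔ A).mul_mem (Subgroup.mem_sup_right ha) (Subgroup.mem_sup_left ⟨hv, h⟩))
  set A₁ := A.map (MulAut.conj v).toMonoidHom with hA₁
  have hA₁n : A₁ ≤ Subgroup.normalizer (A : Set Q) := by
    rintro _ ⟨b, hb, rfl⟩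
    exact hDA (conj_mem_of_mem_normalizer hvn (Subgroup.mem_sup_right hb))
  obtain ⟨W, hW, hWle, hlt'⟩ := LocalEven.exists_maxAbelian_inf_lt hA hK hAnK (x := v)
    (fun b hb => by
      rw [show v * b * v⁻¹ * b⁻¹ = v * (b * v⁻¹ * b⁻¹) by group]
      exact K.mul_mem hv (hKn.conj_mem _ (K.inv_mem hv) b))
    (fun h => hvA (mem_normalizer_of_forall fun y hy => h.le ⟨y, hy, rfl⟩))
  by_cases hWK : W ≤ Subgroup.centralizer (K : Set Q)
  · refine absurd ?_ hKA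
    have hab : IsMulCommutative ↥(W ⊔ K) := by
      have := Subgroup.isMulCommutative_closure (k := (W : Set Q) ∪ K) (by
        rintro a (ha | ha) b (hb | hb)
        · exact congrArg Subtype.val (hW.1.is_comm.comm (⟨a, ha⟩ : W) ⟨b, hb⟩)
        · exact (hWK ha b hb).symm
        · exact hWK hb a ha
        · exact hK a ha b hb)
      rwa [Subgroup.closure_union, Subgroup.closure_eq, Subgroup.closure_eq] at this
    have heq : W = W ⊔ K := Subgroup.eq_of_le_of_card_ge le_sup_left (hW.2 _ hab)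
    exact (le_sup_right.trans heq.ge).trans (hWle.trans (sup_le Subgroup.le_normalizer hA₁n))
  · refine ih _ ?_ W hW hWK rfl
    have h1 := Subgroup.card_le_card_group (W ⊓ K)
    omega

theorem exists_pow_notMem {G : Type*} [Group G] {p : ℕ} {P O : Subgroup G} (hP : IsPGroup p P)
    {a : G} (ha : a ∈ P) (haO : a ∉ O) :
    ∃ j : ℕ, a ^ p ^ j ∉ O ∧ (a ^ p ^ j) ^ p ∈ O := by
  classical
  have hex : ∃ j : ℕ, a ^ p ^ j ∈ O := by
    obtain ⟨j, hj⟩ := hP ⟨a, ha⟩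
    exact ⟨j, by rw [show a ^ p ^ j = 1 from congrArg Subtype.val hj]; exact one_mem _⟩
  have h1 : Nat.find hex ≠ 0 := fun h => haO (by
    have := Nat.find_spec hex
    rwa [h, pow_zero, pow_one] at this)
  obtain ⟨j, hj⟩ := Nat.exists_eq_succ_of_ne_zero h1
  refine ⟨j, Nat.find_min hex (by omega), ?_⟩
  rw [← pow_mul, ← pow_succ]
  convert Nat.find_spec hex using 3
  exact hj.symm

/-- An abelian subgroup of largest order outside `O` gives an element fixing `p`-th powers of the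
central elements of `O`. -/
theorem exists_fixing_element {G : Type*} [Group G] [Finite G] {p : ℕ} [Fact p.Prime]
    {P O : Subgroup G} (hP : IsPGroup p P) [O.Normal] (hOP : O ≤ P) {A : Subgroup P}
    (hA : A ∈ maxAbelianSubgroups P) (hAO : ¬ A.map P.subtype ≤ O) :
    ∃ g ∈ P, g ∉ O ∧ g ^ p ∈ O ∧
      ∀ v ∈ O, (∀ o ∈ O, o * v = v * o) → g * v ^ p = v ^ p * g := by
  set K : Subgroup P := (O ⊓ Subgroup.centralizer (O : Set G)).subgroupOf P with hKdef
  have hKc : ∀ a ∈ K, ∀ b ∈ K, a * b = b * a := fun a ha b hb => Subtype.ext (hb.2 (a : G) ha.1)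
  have hKn : K.Normal := Subgroup.Normal.subgroupOf inferInstance P
  by_cases hAK : A ≤ Subgroup.centralizer (K : Set P)
  · obtain ⟨_, ⟨a, ha, rfl⟩, haO⟩ := SetLike.not_le_iff_exists.1 hAO
    obtain ⟨j, hj, hjp⟩ := exists_pow_notMem hP a.2 haO
    refine ⟨_, P.pow_mem a.2 _, hj, hjp, fun v hv hvc => ?_⟩
    have h1 : Commute v (a : G) :=
      congrArg Subtype.val (hAK ha ⟨v, hOP hv⟩ ⟨hv, hvc⟩)
    exact (h1.symm.pow_pow _ _).eq
  obtain ⟨A', hA', hA'K, hKA'⟩ := exists_maxAbelian_normalizer hP hKc hA hAK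
  obtain ⟨a, ha, haK⟩ := SetLike.not_le_iff_exists.1 hA'K
  have haO : (a : G) ∉ O := fun h => haK fun k hk => Subtype.ext (hk.2 (a : G) h).symm
  obtain ⟨j, hj, hjp⟩ := exists_pow_notMem hP a.2 haO
  refine ⟨_, P.pow_mem a.2 _, hj, hjp, fun v hv hvc => ?_⟩
  set g : P := a ^ p ^ j with hg
  have hgA : g ∈ A' := A'.pow_mem ha _
  have hgv : ((g : G)) = (a : G) ^ p ^ j := Subgroup.coe_pow _ _ _
  rw [← hgv] at hjp ⊢
  set vP : P := ⟨v, hOP hv⟩
  have hvK : vP ∈ K := ⟨hv, hvc⟩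
  set d : P := g * vP * g⁻¹ * vP⁻¹ with hd
  have hdA : d ∈ A' := by
    rw [hd, show g * vP * g⁻¹ * vP⁻¹ = g * (vP * g⁻¹ * vP⁻¹) by group]
    exact A'.mul_mem hgA (conj_mem_of_mem_normalizer (hKA' hvK) (A'.inv_mem hgA))
  have hdK : d ∈ K := by
    rw [hd]
    exact K.mul_mem (hKn.conj_mem _ hvK g) (K.inv_mem hvK)
  have hgd : g * d * g⁻¹ = d := by
    rw [show g * d = d * g from congrArg Subtype.val (hA'.1.is_comm.comm (⟨g, hgA⟩ : A') ⟨d, hdA⟩),
      mul_inv_cancel_right]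
  have hiter : ∀ i : ℕ, g ^ i * vP * (g ^ i)⁻¹ = d ^ i * vP := by
    intro i
    induction i with
    | zero => simp
    | succ i ih =>
      calc g ^ (i + 1) * vP * (g ^ (i + 1))⁻¹ = g * (g ^ i * vP * (g ^ i)⁻¹) * g⁻¹ := by
            rw [pow_succ' g i]; group
        _ = (g * d * g⁻¹) ^ i * (g * vP * g⁻¹) := by rw [ih, conj_pow]; group
        _ = d ^ i * (d * vP) := by rw [hgd, hd, inv_mul_cancel_right]
        _ = d ^ (i + 1) * vP := (mul_assoc _ _ _).symm.trans (by rw [← pow_succ])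
  have hdp : d ^ p = 1 := by
    have h1 := hiter p
    have h2 : g ^ p * vP = vP * g ^ p := Subtype.ext (by simpa using hvc _ hjp)
    rw [h2, mul_inv_cancel_right, right_eq_mul] at h1
    exact h1
  have h3 : g * vP ^ p * g⁻¹ = vP ^ p := by
    rw [← conj_pow, show g * vP * g⁻¹ = d * vP by rw [hd, inv_mul_cancel_right],
      (show Commute d vP from hKc d hdK vP hvK).mul_pow, hdp, one_mul]
  have h4 := congrArg Subtype.val (mul_inv_eq_iff_eq_mul.1 h3)
  simpa [vP] using h4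

/-! ### Subsystems -/

/-- The maps of `E` inside `T`. -/
def restrictSys {Ω : Type*} [Group Ω] {S : Subgroup Ω} (E : FusionSystem S) (T : Subgroup Ω)
    (hT : T ≤ S) : FusionSystem T where
  Hom P := {φ | φ ∈ E.Hom P ∧ P ≤ T ∧ ∀ x, φ x ∈ T}
  le_of_mem h := ⟨h.2.1, h.2.2⟩
  injective_of_mem h := E.injective_of_mem h.1
  conj_mem {P g} hP hg := ⟨E.conj_mem (hP.trans hT) (hT hg), hP,
    fun x => T.mul_mem (T.mul_mem hg (hP x.2)) (T.inv_mem hg)⟩
  comp_mem hφ hψ h := ⟨E.comp_mem hφ.1 hψ.1 h, hφ.2.1, fun x => hψ.2.2 _⟩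
  inv_mem := by
    rintro P φ ⟨hφ, hP, hφT⟩
    obtain ⟨ψ, hψ, hψe⟩ := E.inv_mem hφ
    refine ⟨ψ, ⟨hψ, ?_, ?_⟩, hψe⟩
    · rintro _ ⟨x, rfl⟩
      exact hφT x
    · rintro ⟨_, x, rfl⟩
      rw [hψe]
      exact hP x.2

theorem isSaturated_centSys {Ω : Type*} [Group Ω] {S : Subgroup Ω} {F : FusionSystem S} {p : ℕ}
    [Fact p.Prime] [Finite S] (hS : IsPGroup p S) (hF : F.IsSaturated p) {Q T : Subgroup Ω}
    (hT : T = centralizerIn S Q) (hQS : Q ≤ S) (hQ : F.IsFullyCentralized Q) :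
    (centSys F Q hT hQS).IsSaturated p := by
  subst hT
  exact isSaturated_centralizerSystem hS hF hQ _ fun _ => rfl

/-- `℧¹` of the centre. -/
def agemoCenter {Ω : Type*} [Group Ω] (p : ℕ) (S : Subgroup Ω) : Subgroup Ω :=
  powerClosure p 1 (S ⊓ Subgroup.centralizer (S : Set Ω))

theorem agemoCenter_le {Ω : Type*} [Group Ω] (p : ℕ) (S : Subgroup Ω) :
    agemoCenter p S ≤ S ⊓ Subgroup.centralizer (S : Set Ω) :=
  (Subgroup.closure_le _).2 fun y ⟨x, hx, hy⟩ => hy ▸ Subgroup.pow_mem _ hx _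

theorem agemoCenter_le_of_le {Ω : Type*} [Group Ω] {p : ℕ} {S T : Subgroup Ω} (hTS : T ≤ S)
    (hZ : S ⊓ Subgroup.centralizer (S : Set Ω) ≤ T) : agemoCenter p S ≤ agemoCenter p T := by
  refine Subgroup.closure_mono ?_
  rintro y ⟨x, hx, rfl⟩
  exact ⟨x, ⟨hZ hx, fun s hs => hx.2 s (hTS hs)⟩, rfl⟩

section Constrained

variable {Ω : Type u} [Group Ω] {S : Subgroup Ω} [Finite S] {F : FusionSystem S} {p : ℕ}
  [Fact p.Prime]

omit [Fact p.Prime] in
/-- An element of a model normalizing `ι(D)` gives maps of `N_F(D)`. -/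
theorem exists_normalizerHom_of_normalizes {G : Type*} [Group G] {ι : S →* G}
    (hr : F.IsRealizedBy ι) {D : Subgroup Ω} (hD : D ≤ S) (hDn : S ≤ normalizerIn S D) {g : G}
    (hg : ∀ d : S, (d : Ω) ∈ D → ∃ d' : S, (d' : Ω) ∈ D ∧ ι d' = g * ι d * g⁻¹) {P : Subgroup Ω}
    (hP : P ≤ S) (hgP : ∀ x : P, g * ι ⟨x, hP x.2⟩ * g⁻¹ ∈ ι.range) :
    ∃ φ ∈ F.normalizerHom D P, ∃ hφ : ∀ x, φ x ∈ S,
      ∀ x : P, ι ⟨φ x, hφ x⟩ = g * ι ⟨x, hP x.2⟩ * g⁻¹ := by
  have hM : P ⊔ D ≤ S := sup_le hP hD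
  let C : Subgroup S := (ι.range.comap (MulAut.conj g).toMonoidHom).comap ι
  have hC : P ⊔ D ≤ C.map S.subtype := by
    refine sup_le (fun y hy => ⟨⟨y, hP hy⟩, hgP ⟨y, hy⟩, rfl⟩) fun y hy => ⟨⟨y, hD hy⟩, ?_, rfl⟩
    obtain ⟨d', -, hd'⟩ := hg ⟨y, hD hy⟩ hy
    exact ⟨d', hd'⟩
  obtain ⟨ψ, hψ, hψS, hψe⟩ := exists_map_of_conj hr hM (g := g) fun x => by
    obtain ⟨c, hc, hce⟩ := hC x.2
    rw [show (⟨(x : Ω), hM x.2⟩ : S) = c from Subtype.ext hce.symm]
    exact hc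
  refine ⟨ψ.comp (Subgroup.inclusion le_sup_left), mem_normalizerHom_of_img hψ le_sup_left
    le_sup_right ?_ (fun _ => rfl) (hP.trans hDn) (fun x => hDn (hψS _)), fun x => hψS _,
    fun x => hψe _⟩
  have := finite_of_le hD
  refine Subgroup.eq_of_le_of_card_ge ?_ (card_img (F.injective_of_mem hψ) le_sup_right).ge
  intro y hy
  obtain ⟨x, hx, rfl⟩ := mem_img.1 hy
  obtain ⟨d', hd', hd'e⟩ := hg ⟨x, hD hx⟩ hx
  have h1 : (⟨ψ x, hψS x⟩ : S) = d' := hr.1 ((hψe x).trans hd'e.symm)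
  have h2 : ψ x = d' := congrArg Subtype.val h1
  rw [h2]
  exact hd'

/-- The constrained case: every map is a map of `C_F(V)` after a map of the normalizer of a
subgroup that is not normal, or a map of `N_F(J S)`. -/
theorem le_of_constrained (hS : IsPGroup p S) (hF : F.IsSaturated p)
    (hc : centralizerIn S F.core ≤ F.core) (E : FusionSystem S)
    (hC : ∀ P, F.centralizerHom (agemoCenter p S) P ⊆ E.Hom P)
    (hJ : ∀ P, F.normalizerHom (wImg thompsonSubgroupA S) P ⊆ E.Hom P)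
    (hD : ∀ D, D ≤ S → S ≤ normalizerIn S D → ¬ F.IsNormal D →
      ∀ P, F.normalizerHom D P ⊆ E.Hom P) :
    ∀ P, F.Hom P ⊆ E.Hom P := by
  intro P φ hφ
  have hP := le_S F hφ
  have hφS := apply_mem_S F hφ
  obtain ⟨G, _, ι, hG, hr, ⟨P₀, hP₀⟩, hcons⟩ := exists_model_of_core hS hF hc
  have hM : F.IsModel p G ι := ⟨hG, hr, ⟨P₀, hP₀⟩, hcons⟩
  obtain ⟨g, hg⟩ := (hr.2 P hP φ hφS).1 hφ
  set O : Subgroup G := pCore p G with hO
  have hOP : O ≤ (P₀ : Subgroup G) := Cores.pCore_le_sylow P₀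
  have hJS : wImg thompsonSubgroupA S ≤ S := wImg_le _ S
  have hJmap := map_wImg_sylow (S := S) thompsonSubgroupA (p := p)
    (fun Q R _ _ _ _ φ => map_thompsonSubgroupA φ) hS hr.1 hP₀
  by_cases hall : ∀ A ∈ maxAbelianSubgroups ↥(P₀ : Subgroup G),
      A.map (P₀ : Subgroup G).subtype ≤ O
  · -- `J` is normal in the model
    obtain ⟨ψ, hψ, hψS, hψe⟩ := exists_normalizerHom_of_normalizes hr hJS
      (le_normalizerIn_wImg thompsonSubgroupA (p := p)
        (fun Q R _ _ _ _ φ => map_thompsonSubgroupA φ) hS) (g := g) (fun d hd => by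
        have h0 : ι d ∈ (thompsonSubgroupA ↥(P₀ : Subgroup G)).map (P₀ : Subgroup G).subtype :=
          hJmap.ge ⟨d, hd, rfl⟩
        have hle : (thompsonSubgroupA ↥(P₀ : Subgroup G)).map (P₀ : Subgroup G).subtype ≤
            (((thompsonSubgroupA ↥(P₀ : Subgroup G)).map (P₀ : Subgroup G).subtype)).comap
              (MulAut.conj g).toMonoidHom := by
          rw [thompsonSubgroupA, Subgroup.map_le_iff_le_comap]
          refine sSup_le fun A hA a ha => ?_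
          have hAO := hall A hA
          have hconj : ∀ b ∈ A, g * (b : G) * g⁻¹ ∈ (P₀ : Subgroup G) := fun b hb =>
            hOP ((inferInstance : O.Normal).conj_mem _ (hAO ⟨b, hb, rfl⟩) g)
          let f : A →* ↥(P₀ : Subgroup G) := ((MulAut.conj g).toMonoidHom.comp
            ((P₀ : Subgroup G).subtype.comp A.subtype)).codRestrict _ fun b => hconj b b.2
          have hf : Function.Injective f := fun b c h => Subtype.ext (Subtype.ext
            ((MulAut.conj g).injective (congrArg Subtype.val h)))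
          have := hA.1
          have hfA : f.range ∈ maxAbelianSubgroups ↥(P₀ : Subgroup G) := ⟨inferInstance,
            fun B hB => (hA.2 B hB).trans (Nat.card_congr (MonoidHom.ofInjective hf).toEquiv).le⟩
          exact ⟨f ⟨a, ha⟩, le_sSup hfA ⟨_, rfl⟩, rfl⟩
        obtain ⟨d', hd', hd'e⟩ := hJmap.le (hle h0)
        exact ⟨d', hd', hd'e⟩) hP fun x => ⟨_, hg x⟩
    have h1 : ψ = φ := MonoidHom.ext fun x =>
      congrArg Subtype.val (hr.1 ((hψe x).trans (hg x).symm) :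
        (⟨ψ x, hψS x⟩ : S) = ⟨φ x, hφS x⟩)
    exact hJ P (h1 ▸ hψ)
  push_neg at hall
  obtain ⟨A, hA, hAO⟩ := hall
  obtain ⟨g₁, hg₁P, hg₁O, -, hg₁v⟩ := exists_fixing_element P₀.2 hOP hA hAO
  have hOn : O.Normal := inferInstance
  let Sv : Set G := {y | ∃ v ∈ O, (∀ o ∈ O, o * v = v * o) ∧ y = v ^ p}
  set K : Subgroup G := Subgroup.centralizer Sv with hK
  have hKn : K.Normal := by
    refine ⟨fun k hk a => ?_⟩
    rintro _ ⟨v, hv, hvc, rfl⟩
    have hv' : a⁻¹ * v * a ∈ O := by simpa using hOn.conj_mem _ hv a⁻¹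
    have h1 := hk _ ⟨_, hv', fun o ho => by
      have h2 := hvc _ (hOn.conj_mem _ ho a)
      calc o * (a⁻¹ * v * a) = a⁻¹ * ((a * o * a⁻¹) * v) * a := by group
        _ = a⁻¹ * (v * (a * o * a⁻¹)) * a := by rw [h2]
        _ = _ := by group, rfl⟩
    rw [show (a⁻¹ * v * a) ^ p = a⁻¹ * v ^ p * a by
      simpa using conj_pow (a := a⁻¹) (b := v) (i := p)] at h1
    calc v ^ p * (a * k * a⁻¹) = a * ((a⁻¹ * v ^ p * a) * k) * a⁻¹ := by group
      _ = a * (k * (a⁻¹ * v ^ p * a)) * a⁻¹ := by rw [h1]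
      _ = _ := by group
  have hKnle : ∀ H : Subgroup G, H ≤ Subgroup.normalizer (K : Set G) := fun H x _ => by
    rw [Subgroup.normalizer_eq_top]; trivial
  have hg₁K : g₁ ∈ K := by
    rintro _ ⟨v, hv, hvc, rfl⟩
    exact (hg₁v v hv hvc).symm
  -- `K` centralizes `ι(V)`
  have hKV : ∀ w ∈ agemoCenter p S, ∀ (hw : w ∈ S), ∀ k ∈ K, k * ι ⟨w, hw⟩ = ι ⟨w, hw⟩ * k := by
    intro w hw hwS k hk
    have hle : agemoCenter p S ≤ ((Subgroup.centralizer {k}).comap ι).map S.subtype := by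
      refine (Subgroup.closure_le _).2 ?_
      rintro _ ⟨z, hz, rfl⟩
      refine ⟨⟨z, hz.1⟩ ^ p ^ 1, ?_, rfl⟩
      have hzc : ∀ y ∈ (P₀ : Subgroup G), y * ι ⟨z, hz.1⟩ = ι ⟨z, hz.1⟩ * y := by
        rw [hP₀]
        rintro _ ⟨s, rfl⟩
        rw [← map_mul, ← map_mul]
        exact congrArg ι (Subtype.ext (hz.2 s s.2))
      have hzO : ι ⟨z, hz.1⟩ ∈ O := hcons fun y hy => hzc y (hOP hy)
      rw [SetLike.mem_coe, Subgroup.mem_comap, Subgroup.mem_centralizer_singleton_iff, map_pow,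
        pow_one]
      exact hk _ ⟨_, hzO, fun o ho => hzc o (hOP ho), rfl⟩
    obtain ⟨s, hs, hse⟩ := hle hw
    rw [show (⟨w, hwS⟩ : S) = s from Subtype.ext hse.symm]
    exact (Subgroup.mem_centralizer_singleton_iff.1 hs).symm
  set D₀ : Subgroup G := (P₀ : Subgroup G) ⊓ K with hD₀
  set D : Subgroup Ω := (D₀.comap ι).map S.subtype with hDdef
  have hDS : D ≤ S := Subgroup.map_subtype_le _
  have hDn : S ≤ normalizerIn S D := le_inf le_rfl fun s hs => by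
    have := finite_of_le hDS
    refine mem_normalizer_of_forall ?_
    rintro _ ⟨d, hd, rfl⟩
    refine ⟨⟨s, hs⟩ * d * ⟨s, hs⟩⁻¹, ?_, rfl⟩
    rw [SetLike.mem_coe, Subgroup.mem_comap, map_mul, map_mul, map_inv]
    exact ⟨(P₀ : Subgroup G).mul_mem ((P₀ : Subgroup G).mul_mem (hP₀ ▸ ⟨_, rfl⟩) hd.1)
      ((P₀ : Subgroup G).inv_mem (hP₀ ▸ ⟨_, rfl⟩)), hKn.conj_mem _ hd.2 _⟩
  have hDnot : ¬ F.IsNormal D := by
    intro h
    have hn := map_normal_of_isModel hM h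
    have hsub : (D.subgroupOf S).map ι = D₀ := by
      rw [hDdef, Subgroup.subgroupOf, Subgroup.comap_map_eq_self_of_injective S.subtype_injective,
        Subgroup.map_comap_eq, ← hP₀, inf_eq_right.2 inf_le_left]
    rw [hsub] at hn
    exact hg₁O (Cores.le_pCore (hn := hn) (P₀.2.to_le inf_le_left) ⟨hg₁P, hg₁K⟩)
  -- Frattini argument
  have hi : ¬ p ∣ ((P₀ : Subgroup G) ⊓ K).relIndex K := not_dvd_relIndex_inf P₀.2 le_top
    (by rw [Subgroup.relIndex_top_right]; exact P₀.not_dvd_index) le_top (hKnle ⊤)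
  obtain ⟨Rs, hRs⟩ := (exists_sylow_iff (N := K) (P₀.2.to_le inf_le_left :
    IsPGroup p ↥((P₀ : Subgroup G) ⊓ K))).2 hi
  have hsup := Sylow.normalizer_sup_eq_top Rs
  rw [hRs, Subgroup.subgroupOf, Subgroup.map_comap_eq, Subgroup.range_subtype,
    inf_eq_right.2 (inf_le_right : (P₀ : Subgroup G) ⊓ K ≤ K)] at hsup
  rw [sup_comm] at hsup
  obtain ⟨b, hb, a, ha, hba⟩ : ∃ b ∈ K, ∃ a ∈ Subgroup.normalizer (D₀ : Set G), g = b * a := by
    have h1 : g ∈ K ⊔ Subgroup.normalizer (D₀ : Set G) := hsup.ge (Subgroup.mem_top g)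
    rw [← SetLike.mem_coe, Subgroup.coe_mul_of_right_le_normalizer_left K _ (hKnle _)] at h1
    obtain ⟨b, hb, a, ha, hba⟩ := h1
    exact ⟨b, hb, a, ha, hba.symm⟩
  set H := Subgroup.normalizer (D₀ : Set G) ⊓ (K ⊔ (P₀ : Subgroup G)) with hH
  have hP₀D : (P₀ : Subgroup G) ≤ Subgroup.normalizer (D₀ : Set G) := fun x hx =>
    mem_normalizer_of_forall fun y hy => ⟨(P₀ : Subgroup G).mul_mem
      ((P₀ : Subgroup G).mul_mem hx hy.1) ((P₀ : Subgroup G).inv_mem hx), hKn.conj_mem _ hy.2 x⟩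
  let f : P →* G := (MulAut.conj a).toMonoidHom.comp (ι.comp (Subgroup.inclusion hP))
  have hfR : IsPGroup p f.range :=
    (hS.to_le hP).of_surjective f.rangeRestrict f.rangeRestrict_surjective
  have hfH : f.range ≤ H := by
    rintro _ ⟨x, rfl⟩
    refine ⟨(Subgroup.normalizer _).mul_mem ((Subgroup.normalizer _).mul_mem ha
      (hP₀D (hP₀ ▸ ⟨_, rfl⟩))) ((Subgroup.normalizer _).inv_mem ha), ?_⟩
    change a * ι ⟨x, hP x.2⟩ * a⁻¹ ∈ _
    rw [show a * ι ⟨x, hP x.2⟩ * a⁻¹ = b⁻¹ * (g * ι ⟨x, hP x.2⟩ * g⁻¹) * b by rw [hba]; group,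
      ← hg]
    exact Subgroup.mul_mem _ (Subgroup.mul_mem _ (Subgroup.mem_sup_left (K.inv_mem hb))
      (Subgroup.mem_sup_right (hP₀ ▸ ⟨_, rfl⟩))) (Subgroup.mem_sup_left hb)
  obtain ⟨h, hh, hconj⟩ := exists_conj_mem_of_le hfR P₀.2 hfH (le_inf hP₀D le_sup_right)
    (fun hd => P₀.not_dvd_index (hd.trans (Subgroup.relIndex_dvd_index_of_le
      (le_inf hP₀D le_sup_right))))
  obtain ⟨k, hk, q, hq, hkq⟩ : ∃ k ∈ K, ∃ q ∈ (P₀ : Subgroup G), h = q * k := by
    have h1 : h ∈ (P₀ : Subgroup G) ⊔ K := by rw [sup_comm]; exact hh.2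
    rw [← SetLike.mem_coe, Subgroup.coe_mul_of_left_le_normalizer_right _ K (hKnle _)] at h1
    obtain ⟨q, hq, k, hk, hqk⟩ := h1
    exact ⟨k, hk, q, hq, hqk.symm⟩
  have hkD : k ∈ Subgroup.normalizer (D₀ : Set G) := by
    rw [show k = q⁻¹ * h by rw [hkq, inv_mul_cancel_left]]
    exact (Subgroup.normalizer _).mul_mem ((Subgroup.normalizer _).inv_mem (hP₀D hq)) hh.1
  obtain ⟨φ₁, hφ₁, hφ₁S, hφ₁e⟩ := exists_normalizerHom_of_normalizes hr hDS hDn (g := k * a)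
    (fun d hd => by
      obtain ⟨t, ht, hte⟩ := hd
      have h1 := conj_mem_of_mem_normalizer ((Subgroup.normalizer _).mul_mem hkD ha) ht
      obtain ⟨d', hd'⟩ := hP₀.le h1.1
      exact ⟨d', ⟨d', show ι d' ∈ D₀ from hd' ▸ h1, rfl⟩,
        hd'.trans (by rw [show d = t from Subtype.ext hte.symm])⟩) hP fun x => by
      have h1 := hconj (f x) ⟨x, rfl⟩
      have h2 := (P₀ : Subgroup G).mul_mem ((P₀ : Subgroup G).mul_mem
        ((P₀ : Subgroup G).inv_mem hq) h1) hq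
      rw [← hP₀]
      convert h2 using 1
      change _ = q⁻¹ * (h * (a * ι ⟨x, hP x.2⟩ * a⁻¹) * h⁻¹) * q
      rw [hkq]
      group
  have hφ₁F := hφ₁.1
  obtain ⟨χ, hχ, hχe⟩ := F.inv_mem hφ₁F
  have hR : φ₁.range ≤ S := by
    rintro _ ⟨x, rfl⟩
    exact hφ₁S x
  have hcomp : ∀ y, χ y ∈ P := by
    rintro ⟨_, x, rfl⟩
    rw [hχe]
    exact x.2
  set φ₂ := φ.comp (χ.codRestrict P hcomp) with hφ₂
  have hφ₂e : ∀ x : P, φ₂ ⟨φ₁ x, x, rfl⟩ = φ x := fun x =>
    congrArg φ (Subtype.ext (hχe x))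
  have hφ₂E : φ₂ ∈ E.Hom φ₁.range := by
    refine hC _ ?_
    have hVS : agemoCenter p S ≤ S := (agemoCenter_le p S).trans inf_le_left
    have hSC : S ≤ centralizerIn S (agemoCenter p S) := le_inf le_rfl fun s hs y hy =>
      (((agemoCenter_le p S) hy).2 s hs).symm
    have hb' : ∀ x : φ₁.range, b * k⁻¹ * ι ⟨x, hR x.2⟩ * (b * k⁻¹)⁻¹ =
        ι ⟨φ₂ x, apply_mem_S F (F.comp_mem hχ hφ hcomp) x⟩ := by
      rintro ⟨_, x, rfl⟩
      rw [show (⟨φ₂ ⟨φ₁ x, x, rfl⟩, apply_mem_S F (F.comp_mem hχ hφ hcomp) _⟩ : S) =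
        ⟨φ x, hφS x⟩ from Subtype.ext (hφ₂e x), hg]
      change b * k⁻¹ * ι ⟨φ₁ x, hφ₁S x⟩ * (b * k⁻¹)⁻¹ = _
      rw [hφ₁e, hba]
      group
    have hsupS : φ₁.range ⊔ agemoCenter p S ≤ S := sup_le hR hVS
    have hfixV : ∀ y (hy : y ∈ agemoCenter p S),
        b * k⁻¹ * ι ⟨y, hVS hy⟩ * (b * k⁻¹)⁻¹ = ι ⟨y, hVS hy⟩ := fun y hy => by
      rw [hKV y hy (hVS hy) _ (K.mul_mem hb (K.inv_mem hk)), mul_inv_cancel_right]
    obtain ⟨ψ, hψ, hψS, hψe⟩ := exists_map_of_conj hr hsupS (g := b * k⁻¹) fun x => by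
      have hle : φ₁.range ⊔ agemoCenter p S ≤
          ((ι.range.comap (MulAut.conj (b * k⁻¹)).toMonoidHom).comap ι).map S.subtype :=
        sup_le (fun y hy => ⟨⟨y, hR hy⟩, ⟨_, (hb' ⟨y, hy⟩).symm⟩, rfl⟩)
          fun y hy => ⟨⟨y, hVS hy⟩, ⟨_, (hfixV y hy).symm⟩, rfl⟩
      obtain ⟨c, hc, hce⟩ := hle x.2
      rw [show (⟨(x : Ω), hsupS x.2⟩ : S) = c from Subtype.ext hce.symm]
      exact hc
    exact ⟨F.comp_mem hχ hφ hcomp, hR.trans hSC,
      fun x => hSC (apply_mem_S F (F.comp_mem hχ hφ hcomp) x), ψ, hψ,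
      fun x => congrArg Subtype.val (hr.1 ((hψe _).trans (hb' x)) :
        (⟨ψ (Subgroup.inclusion le_sup_left x), hψS _⟩ : S) =
          ⟨φ₂ x, apply_mem_S F (F.comp_mem hχ hφ hcomp) x⟩),
      fun x => congrArg Subtype.val (hr.1 ((hψe _).trans (hfixV x x.2)) :
        (⟨ψ (Subgroup.inclusion le_sup_right x), hψS _⟩ : S) = ⟨x, hVS x.2⟩)⟩
  refine mem_of_eq rfl (E.comp_mem (hD D hDS hDn hDnot _ hφ₁) hφ₂E fun x => ⟨x, rfl⟩) fun x => ?_
  exact (hφ₂e x).symm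

end Constrained

section Inner

variable {Ω : Type u} [Group Ω] {S : Subgroup Ω} [Finite S] {F : FusionSystem S} {p : ℕ}
  [Fact p.Prime] {X : Subgroup Ω} {Ω' : Type u} [Group Ω'] {S' : Subgroup Ω'} {θ : S →* Ω'}
  {E' : FusionSystem S'}

omit [Fact p.Prime] in
/-- A lift of a map of the factor system has the full preimage as its range. -/
theorem range_eq_preimageAlong (hX : F.IsNormal X) (hI : InnerOn F X)
    (hE' : F.IsFactorSystem X θ E') {P' : Subgroup Ω'} (hP' : P' ≤ S') {φ : preimageAlong θ P' →* Ω}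
    (hφ : φ ∈ F.Hom _) {φ' : P' →* Ω'} (hind : InducedAlong θ φ φ') :
    φ.range = preimageAlong θ φ'.range := by
  obtain ⟨hP, hφS, hθP, hφe⟩ := hind
  have hXP : X ≤ preimageAlong θ P' := le_preimageAlong hE' P'
  obtain ⟨s, hs, hse⟩ := hI _ φ hφ
  have hXs : X ≤ φ.range := by
    intro y hy
    have h1 : s⁻¹ * y * s⁻¹⁻¹ ∈ X := conj_mem_of_mem_normalizer
      (le_normalizer_of_stronglyClosed (stronglyClosed_of_isNormal hX) (S.inv_mem hs)) hy
    exact ⟨⟨_, hXP h1⟩, by rw [hse _ h1]; group⟩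
  refine le_antisymm ?_ fun y hy => ?_
  · rintro _ ⟨x, rfl⟩
    exact (mem_preimageAlong (θ := θ) (s := ⟨φ x, hφS x⟩)).2 (hφe x ▸ ⟨_, rfl⟩)
  · have hyS := preimageAlong_le θ _ hy
    obtain ⟨u, hu⟩ := (mem_preimageAlong (θ := θ) (s := ⟨y, hyS⟩)).1 hy
    obtain ⟨t, ht⟩ := hE'.2.2.1.ge (hP' u.2)
    have htP : (t : Ω) ∈ preimageAlong θ P' := mem_preimageAlong.2 (ht ▸ u.2)
    have h1 : θ (⟨φ ⟨t, htP⟩, hφS _⟩⁻¹ * ⟨y, hyS⟩) = 1 := by
      rw [map_mul, map_inv, ← hφe ⟨t, htP⟩, ← hu, inv_mul_eq_one]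
      exact congrArg φ' (Subtype.ext ht)
    have h2 : (φ ⟨t, htP⟩)⁻¹ * y ∈ φ.range := hXs ((hE'.2.1 _).1 h1)
    simpa using φ.range.mul_mem (⟨⟨t, htP⟩, rfl⟩ : φ ⟨t, htP⟩ ∈ φ.range) h2

variable (F θ E') in
/-- The maps of the factor system with a lift in `E`. -/
def liftedSys (hX : F.IsNormal X) (hI : InnerOn F X) (hE' : F.IsFactorSystem X θ E')
    (E : FusionSystem S) : FusionSystem S' where
  Hom P' := {φ' | φ' ∈ E'.Hom P' ∧ ∃ φ ∈ F.Hom (preimageAlong θ P'),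
    φ ∈ E.Hom (preimageAlong θ P') ∧ InducedAlong θ φ φ'}
  le_of_mem h := E'.le_of_mem h.1
  injective_of_mem h := E'.injective_of_mem h.1
  conj_mem := by
    intro P' g hP' hg
    obtain ⟨s, rfl⟩ := hE'.2.2.1.ge hg
    have hP := preimageAlong_le θ P'
    refine ⟨E'.conj_mem hP' hg, conjHom _ (s : Ω), F.conj_mem hP s.2, E.conj_mem hP s.2, hP,
      fun x => S.mul_mem (S.mul_mem s.2 (hP x.2)) (S.inv_mem s.2), fun x => ?_, fun x => ?_⟩
    · exact mem_preimageAlong.1 x.2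
    · change θ s * θ _ * (θ s)⁻¹ = _
      rw [← map_inv, ← map_mul, ← map_mul]
      rfl
  comp_mem := by
    rintro P' Q' φ' ψ' ⟨hφ', φ, hφ, hφE, hP, hφS, hθP, hφe⟩ ⟨hψ', ψ, hψ, hψE, hQ, hψS, hθQ, hψe⟩ h
    have hmem : ∀ x, φ x ∈ preimageAlong θ Q' := fun x =>
      (mem_preimageAlong (θ := θ) (s := ⟨φ x, hφS x⟩)).2 (hφe x ▸ h _)
    refine ⟨E'.comp_mem hφ' hψ' h, _, F.comp_mem hφ hψ hmem, E.comp_mem hφE hψE hmem, hP,
      fun x => hψS _, hθP, fun x => ?_⟩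
    change ψ' ⟨φ' ⟨_, _⟩, _⟩ = θ ⟨ψ ⟨φ x, _⟩, _⟩
    rw [← hψe]
    exact congrArg ψ' (Subtype.ext (hφe x))
  inv_mem := by
    rintro P' φ' ⟨hφ', φ, hφ, hφE, hind⟩
    have hP' := le_S E' hφ'
    have hrange := range_eq_preimageAlong hX hI hE' hP' hφ hind
    obtain ⟨hP, hφS, hθP, hφe⟩ := hind
    obtain ⟨ψ', hψ', hψ'e⟩ := E'.inv_mem hφ'
    obtain ⟨ψ, hψ, hψe⟩ := F.inv_mem hφ
    obtain ⟨ψE, hψE, hψEe⟩ := E.inv_mem hφE
    have hψψ : ψ = ψE := by
      refine MonoidHom.ext ?_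
      rintro ⟨_, x, rfl⟩
      exact (hψe x).trans (hψEe x).symm
    obtain ⟨χ, hχ, hχe⟩ := mem_of_eq_sup hrange hψ
    obtain ⟨χ₂, hχ₂, hχ₂e⟩ := mem_of_eq_sup hrange hψE
    have hχχ : χ₂ = χ := MonoidHom.ext fun x => by rw [hχe, hχ₂e, hψψ]
    refine ⟨ψ', ⟨hψ', χ, hχ, hχχ ▸ hχ₂, preimageAlong_le θ _, apply_mem_S F hχ,
      fun x => mem_preimageAlong.1 x.2, fun x => ?_⟩, hψ'e⟩
    obtain ⟨w, hw⟩ := hrange.ge x.2
    have h1 : θ ⟨(x : Ω), preimageAlong_le θ _ x.2⟩ = φ' ⟨_, hθP w⟩ := by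
      rw [hφe]
      exact congrArg θ (Subtype.ext hw.symm)
    rw [show (⟨θ ⟨(x : Ω), preimageAlong_le θ _ x.2⟩, mem_preimageAlong.1 x.2⟩ : φ'.range) =
      ⟨φ' ⟨_, hθP w⟩, _, rfl⟩ from Subtype.ext h1, hψ'e]
    refine congrArg θ (Subtype.ext ?_)
    change (w : Ω) = χ x
    rw [hχe, show (⟨(x : Ω), hrange.ge x.2⟩ : φ.range) = ⟨φ w, w, rfl⟩ from Subtype.ext hw.symm,
      hψe]

omit [Fact p.Prime] in
theorem map_agemoCenter_le (hE' : F.IsFactorSystem X θ E') {v : Ω} (hv : v ∈ agemoCenter p S)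
    (hvS : v ∈ S) : θ ⟨v, hvS⟩ ∈ agemoCenter p S' := by
  have hle : agemoCenter p S ≤ preimageAlong θ (agemoCenter p S') := by
    refine (Subgroup.closure_le _).2 ?_
    rintro _ ⟨z, hz, rfl⟩
    refine ⟨⟨z, hz.1⟩ ^ p ^ 1, ?_, rfl⟩
    rw [SetLike.mem_coe, Subgroup.mem_comap, map_pow]
    refine Subgroup.subset_closure ⟨θ ⟨z, hz.1⟩, ⟨hE'.2.2.1.le ⟨_, rfl⟩, fun y hy => ?_⟩, rfl⟩
    obtain ⟨s, rfl⟩ := hE'.2.2.1.ge hy
    rw [← map_mul, ← map_mul]
    exact congrArg θ (Subtype.ext (hz.2 s s.2))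
  exact (mem_preimageAlong (θ := θ) (s := ⟨v, hvS⟩)).1 (hle hv)

/-- A `p'`-automorphism acting on `X` as an element of `S` fixes it pointwise. -/
theorem fixed_of_coprime (hS : IsPGroup p S) (hX : F.IsNormal X) (hI : InnerOn F X)
    {P : Subgroup Ω} (hXP : X ≤ P) {β : MulAut P} (hβ : β ∈ F.autGroup P)
    (hβp : ¬ p ∣ orderOf β) (hPS : P ≤ S) : ∀ x : P, (x : Ω) ∈ X → β x = x := by
  have hβF := (mem_autGroup_iff F hPS).1 hβ
  obtain ⟨s, hs, hse⟩ := hI P _ hβF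
  have hsn : s ∈ Subgroup.normalizer (X : Set Ω) :=
    le_normalizer_of_stronglyClosed (stronglyClosed_of_isNormal hX) hs
  have hXfin := finite_of_le hX.1
  set c := normAut s hsn with hc
  have hiter : ∀ (n : ℕ) (x : X), ((β ^ n) ⟨x, hXP x.2⟩ : P) =
      (⟨((c ^ n) x : X), hXP ((c ^ n) x).2⟩ : P) := by
    intro n
    induction n with
    | zero => intro x; simp
    | succ n ih =>
      intro x
      rw [pow_succ', MulAut.mul_apply, ih]
      refine Subtype.ext ((hse _ ((c ^ n) x).2).trans ?_)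
      rw [pow_succ', MulAut.mul_apply]
      rfl
  have hc1 : c = 1 := by
    have h1 : c ^ orderOf β = 1 := by
      refine MulEquiv.ext fun x => Subtype.ext ?_
      have h2 := hiter (orderOf β) x
      rw [pow_orderOf_eq_one] at h2
      exact (congrArg (fun y : P => (y : Ω)) h2).symm
    obtain ⟨j, hj⟩ := hS ⟨s, hs⟩
    have h3 : c ^ p ^ j = 1 := by
      have h4 : (⟨s, hsn⟩ : Subgroup.normalizer (X : Set Ω)) ^ p ^ j = 1 :=
        Subtype.ext (by simpa using congrArg Subtype.val hj)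
      rw [hc, normAut, ← map_pow, h4, map_one]
    exact (pow_eq_one_iff_of_coprime (m := orderOf β) (n := p ^ j)
      (((Fact.out : p.Prime).coprime_iff_not_dvd.2 hβp).symm.pow_right j)).1 ⟨h1, h3⟩
  intro x hx
  have h5 := hiter 1 ⟨x, hx⟩
  rw [hc1, one_pow, pow_one] at h5
  exact h5

/-- A `p'`-automorphism fixes what it fixes modulo the pointwise fixed `X`. -/
theorem eq_self_of_coprime {P : Subgroup Ω} (hP : IsPGroup p P) {β : MulAut P}
    (hβp : ¬ p ∣ orderOf β) (hfix : ∀ x : P, (x : Ω) ∈ X → β x = x) {w : P}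
    (hw : ((w⁻¹ * β w : P) : Ω) ∈ X) : β w = w := by
  have hstep : ∀ n : ℕ, (β ^ n) w = w * (w⁻¹ * β w) ^ n := by
    intro n
    induction n with
    | zero => simp
    | succ n ih =>
      rw [pow_succ', MulAut.mul_apply, ih, map_mul, map_pow, hfix _ hw]
      nth_rw 1 [show β w = w * (w⁻¹ * β w) by rw [mul_inv_cancel_left]]
      rw [mul_assoc, ← pow_succ']
  have h6 := hstep (orderOf β)
  rw [pow_orderOf_eq_one, MulAut.one_apply, left_eq_mul] at h6
  obtain ⟨j, hj⟩ := hP (w⁻¹ * β w)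
  exact (inv_mul_eq_one.1 ((pow_eq_one_iff_of_coprime (m := orderOf β) (n := p ^ j)
    (((Fact.out : p.Prime).coprime_iff_not_dvd.2 hβp).symm.pow_right j)).1 ⟨h6, hj⟩)).symm

theorem orderOf_pow_coprime {M : Type*} [Monoid M] {α : M} (h : IsOfFinOrder α) :
    ∃ a : ℕ, ¬ p ∣ orderOf (α ^ p ^ a) := by
  obtain ⟨a, r, hr, hn⟩ := Nat.exists_eq_pow_mul_and_not_dvd h.orderOf_pos.ne' p
    (Fact.out : p.Prime).ne_one
  refine ⟨a, fun hd => hr (hd.trans (orderOf_dvd_of_pow_eq_one ?_))⟩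
  rw [← pow_mul, ← hn, pow_orderOf_eq_one]

/-- The factor system is lifted into `E` when its two local pieces are. -/
theorem centralizerHom_le_liftedSys (hS : IsPGroup p S) (hS' : IsPGroup p S') [Finite S']
    (hE'sat : E'.IsSaturated p) (hX : F.IsNormal X) (hI : InnerOn F X)
    (hE' : F.IsFactorSystem X θ E') (E : FusionSystem S)
    (hC : ∀ P, F.centralizerHom (agemoCenter p S) P ⊆ E.Hom P) (P' : Subgroup Ω') :
    E'.centralizerHom (agemoCenter p S') P' ⊆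
      (liftedSys F θ E' hX hI hE' E).Hom P' := by
  classical
  set V' := agemoCenter p S' with hV'
  have hV'S : V' ≤ S' := (agemoCenter_le p S').trans inf_le_left
  have hT : S' = centralizerIn S' V' := le_antisymm (le_inf le_rfl fun s hs y hy =>
    (((agemoCenter_le p S') hy).2 s hs).symm) inf_le_left
  have hV'fc : E'.IsFullyCentralized V' := by
    refine ⟨hV'S, fun R hR => ?_⟩
    rw [← hT]
    exact Subgroup.card_le_of_le (centralizerIn_le R)
  set C := centSys E' V' hT hV'S with hCdef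
  have hCsat : C.IsSaturated p := isSaturated_centSys hS' hE'sat hT hV'S hV'fc
  refine alperin hS' hCsat (liftedSys F θ E' hX hI hE' E) (fun R hR => ?_) P'
  obtain ⟨hRc, hRn⟩ : C.IsCentric R ∧ C.IsFullyNormalized R := by
    rcases hR with rfl | hR
    · exact ⟨isCentricRadical_self hS' hCsat, isFullyNormalized_self⟩
    · exact ⟨hR.1, hR.2.1⟩
  have hRS := hRc.1
  have := finite_of_le hRS
  set H : Subgroup (C.autGroup R) :=
    ((liftedSys F θ E' hX hI hE' E).autGroup R).subgroupOf (C.autGroup R) with hH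
  obtain ⟨-, Rs, hRs⟩ := (fullyAutomized_receptive_of_fullyNormalized hS' hCsat hRn).1
  have hpi : ¬ p ∣ H.index := fun h => Rs.not_dvd_index (h.trans (Subgroup.index_dvd_of_le (by
    intro β hβ
    rw [hRs, Subgroup.mem_subgroupOf] at hβ
    exact autInducedBy_le_autGroup hRS hβ)))
  have hq : ∀ β : C.autGroup R, ¬ p ∣ orderOf β → β ∈ H := by
    intro β hβ
    have hβC := (mem_autGroup_iff C hRS).1 β.2
    obtain ⟨-, φ, hφ, hind⟩ := (hE'.2.2.2 R _).1 hβC.1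
    have hrange := range_eq_preimageAlong hX hI hE' hRS hφ hind
    rw [range_subtype_comp] at hrange
    obtain ⟨hP, hφS, hθP, hφe⟩ := hind
    set P := preimageAlong θ R with hPdef
    have hPfin := finite_of_le hP
    obtain ⟨α, hα, hαe⟩ := exists_iso_of_range hφ hrange
    have hαG : α ∈ F.autGroup P := (mem_autGroup_iff F hP).2 hα
    have hαθ : ∀ x : P, θ ⟨α x, hP (α x).2⟩ = ((β : MulAut R) ⟨_, hθP x⟩ : R) := fun x =>
      (congrArg θ (Subtype.ext (hαe x))).trans (hφe x).symm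
    have hpow : ∀ (n : ℕ) (x : P),
        θ ⟨(α ^ n) x, hP ((α ^ n) x).2⟩ = (((β : MulAut R) ^ n) ⟨_, hθP x⟩ : R) := by
      intro n
      induction n with
      | zero => intro x; simp
      | succ n ih =>
        intro x
        simp only [pow_succ', MulAut.mul_apply]
        rw [hαθ]
        exact congrArg Subtype.val (congrArg (β : MulAut R) (Subtype.ext (ih x)))
    obtain ⟨a, ha⟩ := orderOf_pow_coprime (p := p) (isOfFinOrder_of_finite α)
    set γ := α ^ p ^ a with hγ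
    have hγG : γ ∈ F.autGroup P := (F.autGroup P).pow_mem hαG _
    have hXP : X ≤ P := le_preimageAlong hE' R
    have hfix := fixed_of_coprime hS hX hI hXP hγG ha hP
    have hVP : agemoCenter p S ≤ P := fun v hv => by
      refine (mem_preimageAlong (θ := θ) (s := ⟨v, ((agemoCenter_le p S) hv).1⟩)).2
        (hRc.2 R (isConj_refl hRS) ?_)
      have h1 := map_agemoCenter_le hE' hv ((agemoCenter_le p S) hv).1
      exact ⟨hV'S h1, fun y hy => ((agemoCenter_le p S') h1).2 y (hRS hy)⟩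
    have hγV : ∀ x : P, (x : Ω) ∈ agemoCenter p S → γ x = x := by
      intro x hx
      refine eq_self_of_coprime (hS.to_le hP) ha hfix ?_
      refine (hE'.2.1 ⟨_, hP (x⁻¹ * γ x).2⟩).1 ?_
      have hR' : ∀ (k : ℕ), (((β : MulAut R) ^ k) ⟨_, hθP x⟩ : R) = ⟨_, hθP x⟩ := by
        have h2 : (β : MulAut R) ⟨_, hθP x⟩ = ⟨_, hθP x⟩ := by
          obtain ⟨-, -, -, ψ, -, hψe, hψV⟩ := hβC
          refine Subtype.ext ?_
          have hxV' := map_agemoCenter_le hE' hx (hP x.2)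
          refine Eq.trans ?_ (hψV ⟨_, hxV'⟩)
          exact ((hψe ⟨_, hθP x⟩).symm.trans (congrArg ψ (Subtype.ext rfl)))
        intro k
        induction k with
        | zero => simp
        | succ k ihk => rw [pow_succ', MulAut.mul_apply, ihk, h2]
      have h3 := (hpow (p ^ a) x).trans (congrArg Subtype.val (hR' (p ^ a)))
      rw [show (⟨((x⁻¹ * γ x : P) : Ω), hP (x⁻¹ * γ x).2⟩ : S) =
        (⟨x, hP x.2⟩ : S)⁻¹ * ⟨γ x, hP (γ x).2⟩ from Subtype.ext rfl, map_mul, map_inv, h3,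
        inv_mul_cancel]
    have hγiso := (mem_autGroup_iff F hP).1 hγG
    have hSC : S ≤ centralizerIn S (agemoCenter p S) := le_inf le_rfl fun s hs y hy =>
      (((agemoCenter_le p S) hy).2 s hs).symm
    have hγE : P.subtype.comp γ.toMonoidHom ∈ E.Hom P := by
      obtain ⟨ψ, hψ, hψe⟩ := mem_of_eq_sup (sup_eq_left.2 hVP).symm hγiso
      exact hC P ⟨hγiso, hP.trans hSC, fun x => hSC (hP (γ x).2), ψ, hψ, fun x => hψe _,
        fun x => (hψe _).trans (congrArg Subtype.val (hγV ⟨x, hVP x.2⟩ x.2))⟩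
    -- the power lies in `H`, hence so does `β`
    have hβpow : β ^ p ^ a ∈ H := by
      refine Subgroup.mem_subgroupOf.2 ((mem_autGroup_iff _ hRS).2 ?_)
      have hβa := (mem_autGroup_iff C hRS).1 ((β ^ p ^ a : C.autGroup R)).2
      refine ⟨hβa.1, _, hγiso, hγE, hP, fun x => hP (γ x).2, hθP, fun x => ?_⟩
      exact (hpow (p ^ a) x).symm
    have hco : Nat.Coprime (p ^ a) (orderOf β) :=
      Nat.Coprime.pow_left _ ((Fact.out : p.Prime).coprime_iff_not_dvd.2 hβ)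
    obtain ⟨m, hm⟩ := exists_pow_eq_self_of_coprime hco
    rw [← hm]
    exact H.pow_mem hβpow m
  have htop : H = ⊤ := by
    rw [← Subgroup.index_eq_one]
    refine Nat.eq_one_iff_not_exists_prime_dvd.2 fun q hqp hdvd => ?_
    have hqne : q ≠ p := fun h => hpi (h ▸ hdvd)
    have := Fact.mk hqp
    obtain ⟨Q⟩ : Nonempty (Sylow q (C.autGroup R)) := inferInstance
    refine Q.not_dvd_index (hdvd.trans (Subgroup.index_dvd_of_le fun β hβ => hq β ?_))
    obtain ⟨j, hj⟩ := Q.2 ⟨β, hβ⟩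
    intro hp
    have h8 : orderOf β ∣ q ^ j := orderOf_dvd_of_pow_eq_one (congrArg Subtype.val hj)
    exact hqne ((Nat.prime_dvd_prime_iff_eq (Fact.out : p.Prime) hqp).1
      ((Fact.out : p.Prime).dvd_of_dvd_pow (hp.trans h8))).symm
  exact fun α hα => htop.ge (Subgroup.mem_top ⟨α, hα⟩)

/-- If the factor system is lifted into `E`, so is the system. -/
theorem le_of_liftedSys (hS : IsPGroup p S) (hF : F.IsSaturated p) (hX : F.IsNormal X)
    (hI : InnerOn F X) (hE' : F.IsFactorSystem X θ E') (hθ : F.IsSurjectiveMorphism E' θ)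
    (E : FusionSystem S) (h : E' ≤ liftedSys F θ E' hX hI hE' E) : F ≤ E := by
  refine alperin hS hF E fun R hR α hα => ?_
  obtain ⟨hXR, hK⟩ : X ≤ R ∧
      (pCore p (F.autGroup R)).map (F.autGroup R).subtype ≤ Cfsg.Inn R := by
    rcases hR with rfl | hR
    · refine ⟨hX.1, ?_⟩
      obtain ⟨-, Rs, hRs⟩ :=
        (fullyAutomized_receptive_of_fullyNormalized hS hF isFullyNormalized_self).1
      rintro _ ⟨β, hβ, rfl⟩
      have h1 := hRs.le (Cores.pCore_le_sylow Rs hβ)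
      rwa [Subgroup.mem_subgroupOf, ← inn_eq] at h1
    · have hrad := isRadical_of_isEssential hS hR
      exact ⟨le_of_isNormal hS hX hR.1 hrad, hrad.2.le⟩
  have hRS : R ≤ S := by
    rcases hR with rfl | hR
    · exact le_rfl
    · exact hR.1.1
  have := finite_of_le hRS
  have hαF := (mem_autGroup_iff F hRS).1 hα
  set R' := imageAlong θ R with hR'
  obtain ⟨φ', hφ', _hR₀, hαS, hθR, hαe⟩ := hθ.1.2 R _ hαF
  have hpre : preimageAlong θ R' = R := by
    refine le_antisymm (fun y hy => ?_) fun y hy =>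
      (mem_preimageAlong (θ := θ) (s := ⟨y, hRS hy⟩)).2 ⟨_, hy, rfl⟩
    obtain ⟨t, ht, hte⟩ := (mem_preimageAlong (θ := θ) (s := ⟨y, preimageAlong_le θ _ hy⟩)).1 hy
    have h1 : ((t⁻¹ * ⟨y, preimageAlong_le θ _ hy⟩ : S) : Ω) ∈ R :=
      hXR ((hE'.2.1 _).1 (by rw [map_mul, map_inv, hte, inv_mul_cancel]))
    simpa using R.mul_mem ht h1
  obtain ⟨hφ'E', φ, hφ, hφE, hP, hφS, hθP, hφe⟩ := h R' hφ'
  have hrange : φ.range = R := by
    rw [range_eq_preimageAlong hX hI hE' (le_S E' hφ'E') hφ ⟨hP, hφS, hθP, hφe⟩]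
    have h1 : φ'.range = R' := by
      refine le_antisymm ?_ ?_
      · rintro _ ⟨⟨_, t, ht, rfl⟩, rfl⟩
        exact ⟨⟨α ⟨t, ht⟩, hαS ⟨t, ht⟩⟩, (α ⟨t, ht⟩).2, (hαe ⟨t, ht⟩).symm⟩
      · rintro _ ⟨t, ht, rfl⟩
        refine ⟨⟨_, hθR (α.symm ⟨t, ht⟩)⟩, (hαe _).trans (congrArg θ (Subtype.ext ?_))⟩
        change (α (α.symm ⟨t, ht⟩) : Ω) = t
        rw [α.apply_symm_apply]
    rw [h1, hpre]
  obtain ⟨χ, hχ, hχe⟩ := mem_of_eq_sup hpre hφ
  obtain ⟨χ₂, hχ₂, hχ₂e⟩ := mem_of_eq_sup hpre hφE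
  have hχrange : χ.range = R := by
    refine le_antisymm ?_ fun y hy => ?_
    · rintro _ ⟨x, rfl⟩
      rw [hχe]
      exact hrange.le ⟨_, rfl⟩
    · obtain ⟨w, hw⟩ := hrange.ge hy
      exact ⟨⟨w, hpre.le w.2⟩, by rw [hχe]; exact hw⟩
  obtain ⟨β, hβ, hβe⟩ := exists_iso_of_range hχ hχrange
  have hβG : β ∈ F.autGroup R := (mem_autGroup_iff F hRS).2 hβ
  have hβE : β ∈ E.autGroup R := mem_autGroup_of_mem E hχ₂ fun x => by rw [hβe, hχe, hχ₂e]
  -- automorphisms trivial modulo `X`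
  let K : Subgroup (F.autGroup R) :=
    { carrier := {γ | ∀ x : R,
        θ ⟨((γ : MulAut R) x : Ω), hRS ((γ : MulAut R) x).2⟩ = θ ⟨x, hRS x.2⟩}
      one_mem' := fun x => rfl
      mul_mem' := fun {γ δ} hγ hδ x => (hγ _).trans (hδ x)
      inv_mem' := fun {γ} hγ x => by
        have := hγ ((γ : MulAut R).symm x)
        simp only [MulEquiv.apply_symm_apply] at this
        exact this.symm }
  have hKn : K.Normal := by
    refine ⟨fun γ hγ δ x => ?_⟩
    obtain ⟨δ', -, _hR₁, hδS, hδR, hδe⟩ := hθ.1.2 R _ ((mem_autGroup_iff F hRS).1 δ.2)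
    set y := (δ : MulAut R).symm x
    have h1 : (δ : MulAut R) y = x := MulEquiv.apply_symm_apply _ _
    have h2 := (hδe ((γ : MulAut R) y)).symm.trans
      ((congrArg δ' (Subtype.ext (hγ y))).trans (hδe y))
    change θ ⟨((δ : MulAut R) ((γ : MulAut R) y) : Ω), _⟩ = _
    refine h2.trans (congrArg θ (Subtype.ext ?_))
    exact congrArg (fun r : R => (r : Ω)) h1
  have hKp : IsPGroup p K := by
    intro γ
    obtain ⟨a, ha⟩ := orderOf_pow_coprime (p := p)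
      (isOfFinOrder_of_finite ((γ : F.autGroup R) : MulAut R))
    set δ := ((γ : F.autGroup R) : MulAut R) ^ p ^ a with hδ
    have hδG : δ ∈ F.autGroup R := (F.autGroup R).pow_mem (γ : F.autGroup R).2 _
    have hfix := fixed_of_coprime hS hX hI hXR hδG ha hRS
    refine ⟨a, Subtype.ext (Subtype.ext ?_)⟩
    refine MulEquiv.ext fun x => ?_
    have h1 : ((γ ^ p ^ a : K) : F.autGroup R) ∈ K := (γ ^ p ^ a).2
    refine eq_self_of_coprime (hS.to_le hRS) ha hfix ?_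
    refine (hE'.2.1 ⟨_, hRS (x⁻¹ * δ x).2⟩).1 ?_
    rw [show (⟨((x⁻¹ * δ x : R) : Ω), hRS (x⁻¹ * δ x).2⟩ : S) =
      (⟨x, hRS x.2⟩ : S)⁻¹ * ⟨δ x, hRS (δ x).2⟩ from Subtype.ext rfl, map_mul, map_inv]
    have h2 : θ ⟨δ x, hRS (δ x).2⟩ = θ ⟨x, hRS x.2⟩ := h1 x
    rw [h2, inv_mul_cancel]
  set γ : F.autGroup R := ⟨β⁻¹ * α, (F.autGroup R).mul_mem ((F.autGroup R).inv_mem hβG) hα⟩
    with hγdef
  have hγK : γ ∈ K := by
    intro x
    obtain ⟨β', -, _hR₂, hβS, hβR, hβ'e⟩ := hθ.1.2 R _ hβ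
    have hβφ : ∀ y : R, θ ⟨β y, hRS (β y).2⟩ = φ' ⟨_, hθR y⟩ := fun y => by
      have h1 : (β y : Ω) = φ ⟨y, hpre.ge y.2⟩ := (hβe y).trans (hχe y)
      exact (congrArg θ (Subtype.ext h1)).trans (hφe ⟨y, hpre.ge y.2⟩).symm
    set z := (β⁻¹ * α : MulAut R) x with hz
    have hz1 : β z = α x := by rw [hz, MulAut.mul_apply]; exact MulEquiv.apply_symm_apply β _
    change θ ⟨(z : Ω), _⟩ = _
    have h2 : φ' ⟨_, hθR z⟩ = φ' ⟨_, hθR x⟩ := by
      rw [← hβφ z, hαe x]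
      exact congrArg θ (Subtype.ext (congrArg (fun r : R => (r : Ω)) hz1))
    exact congrArg Subtype.val (E'.injective_of_mem hφ' h2)
  have hγE : (γ : MulAut R) ∈ E.autGroup R :=
    inn_le_autGroup hRS (hK ⟨γ, Cores.le_pCore (hn := hKn) hKp hγK, rfl⟩)
  have h3 := (E.autGroup R).mul_mem hβE hγE
  rwa [show β * (γ : MulAut R) = α by simp [hγdef]] at h3

end Inner

variable {p : ℕ} [Fact p.Prime]

/-- `F` is generated by `C_F(℧¹ Z(S))` and `N_F(J S)`. -/
theorem hom_le_of_centralizer_normalizer {Ω : Type u} [Group Ω] {S : Subgroup Ω} [Finite S]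
    (F : FusionSystem S) : IsPGroup p S → F.IsSaturated p → ∀ E : FusionSystem S,
      (∀ P, F.centralizerHom (agemoCenter p S) P ⊆ E.Hom P) →
      (∀ P, F.normalizerHom (wImg thompsonSubgroupA S) P ⊆ E.Hom P) → ∀ P, F.Hom P ⊆ E.Hom P := by
  apply system_induction (C := fun Ω _ S F => IsPGroup p S → F.IsSaturated p →
    ∀ E : FusionSystem S, (∀ P, F.centralizerHom (agemoCenter p S) P ⊆ E.Hom P) →
      (∀ P, F.normalizerHom (wImg thompsonSubgroupA S) P ⊆ E.Hom P) → ∀ P, F.Hom P ⊆ E.Hom P)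
  clear! Ω
  intro Ω _ S _ F ihq ihs hS hF E hC hN₀
  have hW2 : ∀ (Q R : Type u) [Group Q] [Group R] [Finite Q], IsPGroup p Q →
      ∀ φ : Q ≃* R, (thompsonSubgroupA Q).map φ.toMonoidHom = thompsonSubgroupA R :=
    fun Q R _ _ _ _ φ => map_thompsonSubgroupA φ
  have hW1 : ∀ (Q : Type u) [Group Q] [Finite Q], IsPGroup p Q → Nontrivial Q →
      thompsonSubgroupA Q ≠ ⊥ := fun Q _ _ _ _ => thompsonSubgroupA_ne_bot
  have hsub : ∀ (T : Subgroup Ω) [Finite T] (F₁ : FusionSystem T), T ≤ S → F₁.IsSaturated p →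
      F₁.IsSubsystemOf F → (¬ ∀ P, F.Hom P ⊆ F₁.Hom P) →
      S ⊓ Subgroup.centralizer (S : Set Ω) ≤ T →
      (∀ P, ∀ φ ∈ F₁.normalizerHom (wImg thompsonSubgroupA T) P, φ ∈ E.Hom P) →
      ∀ P, ∀ φ ∈ F₁.Hom P, φ ∈ E.Hom P := by
    intro T _ F₁ hTS hF₁ hsubF hne hZT hN P φ hφ
    refine (ihs T F₁ hTS hsubF hne (hS.to_le hTS) hF₁ (restrictSys E T hTS) ?_ ?_ P hφ).1
    · rintro Q ψ ⟨hψ, hQ, hψT, ψ₁, hψ₁, hψ₁e, hψ₁V⟩
      refine ⟨hC Q ?_, le_S F₁ hψ, apply_mem_S F₁ hψ⟩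
      have hV := agemoCenter_le_of_le (p := p) hTS hZT
      have hSC : S ≤ centralizerIn S (agemoCenter p S) := le_inf le_rfl fun s hs y hy =>
        (((agemoCenter_le p S) hy).2 s hs).symm
      exact ⟨hsubF _ hψ, ((le_S F₁ hψ).trans hTS).trans hSC,
        fun x => hSC (hTS (apply_mem_S F₁ hψ x)), _,
        res_mem F (hsubF _ hψ₁) (sup_le_sup_left hV Q), fun x => hψ₁e x,
        fun x => hψ₁V ⟨x, hV x.2⟩⟩
    · intro Q ψ hψ
      exact ⟨hN Q ψ hψ, le_S F₁ hψ.1, apply_mem_S F₁ hψ.1⟩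
  have hnormal : ∀ D, D ≤ S → S ≤ normalizerIn S D → ¬ F.IsNormal D →
      ∀ P, F.normalizerHom D P ⊆ E.Hom P := by
    intro D hDS hDn hnot P φ hφ
    have hTD : normalizerIn S D = S := le_antisymm (normalizerIn_le _) hDn
    have := finite_of_le (normalizerIn_le (S := S) D)
    refine hsub _ (normSys F D rfl hDS) (normalizerIn_le D) (isSaturated_normSys hS hF
      (isFullyNormalized_of_normal hDS (hDn.trans inf_le_right))) (normSys_isSubsystemOf hDS)
      (normSys_proper hDS hnot) (inf_le_left.trans hTD.ge) (fun Q ψ hψ => ?_) P φ hφ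
    obtain ⟨-, h2⟩ := normalizerHom_normSys hDS _ Q hψ
    rw [hTD] at h2
    exact hN₀ Q h2
  intro P φ hφ
  suffices h : F ≤ E from h P hφ
  by_cases hX : F.core = ⊥
  · refine le_of_ascend hS hF (wImg thompsonSubgroupA) (fun T _ => wImg_le _ T)
      (fun T hT => wImg_ne_bot _ hW1 hS hT) (fun T hT => normalizerIn_le_wImg _ hW2 hS hT) E
      (fun Q ψ hψ => hN₀ Q hψ) fun U hU hUn hUIH Q ψ hψ => ?_
    have hnot : ¬ F.IsNormal U := fun h => hU (le_bot_iff.1 (hX ▸ le_sSup h))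
    have := finite_of_le (normalizerIn_le (S := S) U)
    refine hsub _ (normSys F U rfl hUn.1) (normalizerIn_le U) (isSaturated_normSys hS hF hUn)
      (normSys_isSubsystemOf hUn.1) (normSys_proper hUn.1 hnot)
      (fun z hz => ⟨hz.1, mem_normalizer_of_forall_commute fun y hy => (hz.2 y (hUn.1 hy))⟩)
      (fun P' χ hχ => ?_) Q ψ hψ
    obtain ⟨h1, h2⟩ := normalizerHom_normSys hUn.1 _ P' hχ
    exact hUIH P' χ h1 h2
  by_cases hc : centralizerIn S F.core ≤ F.core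
  · exact le_of_constrained hS hF hc E hC hN₀ hnormal
  have hXn : F.IsNormal F.core := isNormal_core
  have hXS := hXn.1
  have hXnS := le_normalizer_of_stronglyClosed (stronglyClosed_of_isNormal hXn)
  by_cases hinner : ∀ P, F.Hom P ⊆ (innerOnSys F F.core hXS hXnS).Hom P
  · have hI := innerOn_of_innerOnSys hinner
    obtain ⟨Ω', _, S', _, θ, E', hS', hlt, hEsat, hE', hθ⟩ := exists_quotient hS hF hXn hX
    refine le_of_liftedSys hS hF hXn hI hE' hθ E fun P' φ' hφ' => ?_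
    refine ihq Ω' S' E' hlt hS' hEsat (liftedSys F θ E' hXn hI hE' E)
      (centralizerHom_le_liftedSys hS hS' hEsat hXn hI hE' E hC) (fun Q' ψ' hψ' => ?_) P' hφ'
    have hU'S : wImg thompsonSubgroupA S' ≤ S' := wImg_le _ S'
    have hS'ne : S' ≠ ⊥ := by
      intro h
      refine hc ((centralizerIn_le _).trans fun s hs => ?_)
      exact (hE'.2.1 ⟨s, hs⟩).1 (Subgroup.mem_bot.1 (h ▸ hE'.2.2.1.le ⟨_, rfl⟩))
    have hlt' := lt_preimageAlong hE' hU'S (wImg_ne_bot _ hW1 hS' le_rfl hS'ne)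
    obtain ⟨ψ, hψ, hind⟩ := exists_lift_normalizerHom hE' hU'S hψ'
    refine ⟨hψ'.1, ψ, hψ.1, hnormal _ (preimageAlong_le θ _) (le_inf le_rfl
      (le_normalizerIn_preimageAlong hE' (le_normalizerIn_wImg _ hW2 hS')))
      (fun h => hlt'.not_ge (le_sSup h)) _ hψ, hind⟩
  refine le_of_split hS hF hXn E (hnormal _ (sup_le hXS (centralizerIn_le _))
    (le_inf le_rfl (le_normalizer_sup_centralizerIn hXS hXnS))
    (not_isNormal_sup_centralizerIn hc)) fun Q hXQ ψ hψ hfix => ?_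
  refine hsub S (innerOnSys F F.core hXS hXnS) le_rfl (isSaturated_innerOnSys hS hF hXn)
    (fun _ _ h => h.1) hinner inf_le_left (fun Q' χ hχ => ?_) Q ψ
    (mem_innerOnSys_of_fixed hXQ hψ hfix)
  exact hN₀ Q' (normalizerHom_mono le_rfl
    (show (innerOnSys F F.core hXS hXnS).IsSubsystemOf F from fun _ _ h => h.1) _ Q' hχ)

end CfsgLib.Fusion
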