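import Cfsg.Agent.Lib.Fusion.FactorHat
import Cfsg.Agent.Lib.Fusion.FactorBasic
import Cfsg.Agent.Lib.Fusion.HypFocal
import Cfsg.Agent.Lib.Transfer.Basic

/-!
# Hyperfocal subgroups and strongly closed subgroups
-/

set_option autoImplicit false

open Cfsg Cfsg.FusionSystem

namespace CfsgLib.Fusion

variable {Ω : Type*} [Group Ω] {S : Subgroup Ω} {F : FusionSystem S} [Finite S]
  {p : ℕ} [Fact p.Prime] {T : Subgroup Ω}

/-- Elements of `O^p(Aut_F(P))` agree modulo a strongly closed subgroup `T` with elements of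
`O^p(Aut_F(PT))`. -/
theorem exists_pResidual_sup (hS : IsPGroup p S) (hF : F.IsSaturated p) (hT : F.StronglyClosed T)
    {P : Subgroup Ω} (hP : P ≤ S) {α : F.autGroup P} (hα : α ∈ pResidual p (F.autGroup P)) :
    ∃ β ∈ pResidual p (F.autGroup (P ⊔ T)), ∀ x : P,
      (((α : MulAut P) x : P) : Ω)⁻¹ *
        (((β : MulAut ↥(P ⊔ T)) (Subgroup.inclusion le_sup_left x) : ↥(P ⊔ T)) : Ω) ∈ T := by
  have hQS : P ⊔ T ≤ S := sup_le hP hT.1
  have := finite_of_le hP
  have := finite_of_le hQS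
  have hT2 : ∀ (b : F.autGroup (P ⊔ T)) (t : ↥(P ⊔ T)), (t : Ω) ∈ T →
      (((b : MulAut ↥(P ⊔ T)) t : ↥(P ⊔ T)) : Ω) ∈ T :=
    fun b t ht => autGroup_apply_mem hT b.2 ht
  let M : Subgroup (F.autGroup P × F.autGroup (P ⊔ T)) :=
    { carrier := {ab | ∀ x : P, (((ab.1 : MulAut P) x : P) : Ω)⁻¹ *
        (((ab.2 : MulAut ↥(P ⊔ T)) (Subgroup.inclusion le_sup_left x) : ↥(P ⊔ T)) : Ω) ∈ T}
      one_mem' := fun x => by simp
      mul_mem' := fun {a b} ha hb x => by
        have h1 := hT2 a.2 ((Subgroup.inclusion le_sup_left ((b.1 : MulAut P) x))⁻¹ *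
          (b.2 : MulAut ↥(P ⊔ T)) (Subgroup.inclusion le_sup_left x)) (hb x)
        rw [map_mul, map_inv, Subgroup.coe_mul, Subgroup.coe_inv] at h1
        have h2 := T.mul_mem (ha ((b.1 : MulAut P) x)) h1
        rwa [mul_assoc, mul_inv_cancel_left] at h2
      inv_mem' := fun {a} ha x => by
        have h0 := T.inv_mem (ha ((a.1 : MulAut P)⁻¹ x))
        rw [mul_inv_rev, inv_inv, MulAut.apply_inv_self] at h0
        have h1 := hT2 a.2⁻¹ (((a.2 : MulAut ↥(P ⊔ T))
          (Subgroup.inclusion le_sup_left ((a.1 : MulAut P)⁻¹ x)))⁻¹ *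
            Subgroup.inclusion le_sup_left x) h0
        simpa using h1 }
  let π₁ : M →* F.autGroup P := (MonoidHom.fst _ _).comp M.subtype
  let π₂ : M →* F.autGroup (P ⊔ T) := (MonoidHom.snd _ _).comp M.subtype
  have hsurj : Function.Surjective π₁ := by
    intro a
    obtain ⟨ψ, hψ, hψe⟩ := exists_hat hS hF hT ((mem_autGroup_iff F hP).1 a.2)
    have hψr : ψ.range = P ⊔ T := by
      refine Subgroup.eq_of_le_of_card_ge ?_
        (Nat.card_congr (MonoidHom.ofInjective (F.injective_of_mem hψ)).toEquiv).le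
      have hPm : P ≤ ((P ⊔ T).comap ψ).map (P ⊔ T).subtype := by
        intro y hy
        refine ⟨Subgroup.inclusion le_sup_left ⟨y, hy⟩, ?_, rfl⟩
        have h1 := (P ⊔ T).mul_mem ((le_sup_left : P ≤ P ⊔ T) ((a : MulAut P) ⟨y, hy⟩).2)
          ((le_sup_right : T ≤ P ⊔ T) (hψe ⟨y, hy⟩))
        change ((a : MulAut P) ⟨y, hy⟩ : Ω) * ((((a : MulAut P) ⟨y, hy⟩ : P) : Ω)⁻¹ * _) ∈ _ at h1
        rwa [mul_inv_cancel_left] at h1
      have hTm : T ≤ ((P ⊔ T).comap ψ).map (P ⊔ T).subtype := fun y hy =>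
        ⟨Subgroup.inclusion le_sup_right ⟨y, hy⟩,
          (le_sup_right : T ≤ P ⊔ T) (hT.2 T le_rfl _ (res_mem F hψ le_sup_right) ⟨y, hy⟩), rfl⟩
      rintro _ ⟨z, rfl⟩
      obtain ⟨w, hw, hwz⟩ := sup_le hPm hTm z.2
      rwa [← (Subtype.ext hwz : w = z)]
    obtain ⟨e, he, hee⟩ := exists_iso_of_range hψ hψr
    refine ⟨⟨⟨a, ⟨e, (mem_autGroup_iff F hQS).2 he⟩⟩, fun x => ?_⟩, rfl⟩
    rw [hee]
    exact hψe x
  obtain ⟨m, hm, hme⟩ := (Transfer.map_pResidual_of_surjective π₁ hsurj).ge hα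
  refine ⟨π₂ m, Transfer.map_pResidual_le π₂ ⟨m, hm, rfl⟩, fun x => ?_⟩
  have h := m.2 x
  rw [← hme]
  exact h

/-- The generators of the hyperfocal subgroup can be taken on subgroups containing `T`. -/
theorem hyperfocalSubgroup_le_of_generators (hS : IsPGroup p S) (hF : F.IsSaturated p)
    (hT : F.StronglyClosed T) (H : Subgroup Ω) (hTH : T ≤ H)
    (hH : ∀ Q : Subgroup Ω, T ≤ Q → Q ≤ S → ∀ β ∈ pResidual p (F.autGroup Q), ∀ x : Q,
      (x : Ω)⁻¹ * (((β : MulAut Q) x : Q) : Ω) ∈ H) :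
    F.hyperfocalSubgroup p ≤ H := by
  refine (Subgroup.closure_le _).2 ?_
  rintro _ ⟨P, α, x, hP, hα, rfl⟩
  obtain ⟨β, hβ, hβe⟩ := exists_pResidual_sup hS hF hT hP hα
  have h1 := hH _ le_sup_right (sup_le hP hT.1) β hβ (Subgroup.inclusion le_sup_left x)
  have h2 := H.mul_mem h1 (H.inv_mem (hTH (hβe x)))
  rw [mul_inv_rev, inv_inv, Subgroup.coe_inclusion, mul_assoc, mul_inv_cancel_left] at h2
  exact h2

/-- The hyperfocal subgroup acts on a strongly closed subgroup `T` as `O^p(Aut_F(T))Inn(T)`. -/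
theorem hyperfocal_conj_strongly_closed (hS : IsPGroup p S) (hF : F.IsSaturated p)
    (hT : F.StronglyClosed T) {x : Ω} (hx : x ∈ F.hyperfocalSubgroup p) :
    ∃ α ∈ ((pResidual p (F.autGroup T)).map (F.autGroup T).subtype ⊔ Cfsg.Inn T :
      Subgroup (MulAut T)), ∀ t : T, ((α t : T) : Ω) = x * (t : Ω) * x⁻¹ := by
  set K : Subgroup (MulAut T) :=
    (pResidual p (F.autGroup T)).map (F.autGroup T).subtype ⊔ Cfsg.Inn T
  let H : Subgroup Ω :=
    { carrier := {x | ∃ α ∈ K, ∀ t : T, ((α t : T) : Ω) = x * (t : Ω) * x⁻¹}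
      one_mem' := ⟨1, K.one_mem, fun t => by simp⟩
      mul_mem' := by
        rintro a b ⟨α, hα, hαe⟩ ⟨β, hβ, hβe⟩
        exact ⟨α * β, K.mul_mem hα hβ, fun t => by
          rw [MulAut.mul_apply, hαe, hβe]; group⟩
      inv_mem' := by
        rintro a ⟨α, hα, hαe⟩
        refine ⟨α⁻¹, K.inv_mem hα, fun t => ?_⟩
        have h := hαe (α⁻¹ t)
        rw [MulAut.apply_inv_self] at h
        rw [h]; group }
  refine hyperfocalSubgroup_le_of_generators hS hF hT H ?_ ?_ hx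
  · intro t ht
    exact ⟨MulAut.conj ⟨t, ht⟩, Subgroup.mem_sup_right (MonoidHom.mem_range.2 ⟨_, rfl⟩),
      fun u => by simp⟩
  intro Q hTQ hQS β hβ y
  have hfinQ := finite_of_le hQS
  have hfinT := finite_of_le hT.1
  let r : F.autGroup Q →* F.autGroup T :=
    { toFun := fun b => ⟨MulEquiv.ofBijective
        ((Q.subtype.comp ((b : MulAut Q).toMonoidHom.comp (Subgroup.inclusion hTQ))).codRestrict
          T fun t => autGroup_apply_mem hT b.2 t.2)
        (Finite.injective_iff_bijective.1 (fun a c hac => by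
          have h := congrArg Subtype.val hac
          exact Subgroup.inclusion_injective hTQ ((b : MulAut Q).injective (Subtype.ext h)))),
        mem_autGroup_of_mem F (res_mem F ((mem_autGroup_iff F hQS).1 b.2) hTQ) fun _ => rfl⟩
      map_one' := Subtype.ext (MulEquiv.ext fun t => Subtype.ext rfl)
      map_mul' := fun a b => Subtype.ext (MulEquiv.ext fun t => Subtype.ext rfl) }
  have hr : ∀ (b : F.autGroup Q) (t : T), (((r b : MulAut T) t : T) : Ω) =
      ((b : MulAut Q) (Subgroup.inclusion hTQ t) : Q) := fun b t => rfl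
  have hyn : (y : Ω) ∈ Subgroup.normalizer (T : Set Ω) :=
    mem_normalizer_of_stronglyClosed hT (hQS y.2)
  have hcA : normAut (y : Ω) hyn ∈ F.autGroup T :=
    autInducedBy_le_autGroup hT.1 (mem_autInducedBy_iff.2 ⟨y, hQS y.2, fun _ => rfl⟩)
  set c : F.autGroup T := ⟨_, hcA⟩
  have hrb : r β ∈ pResidual p (F.autGroup T) := Transfer.map_pResidual_le r ⟨β, hβ, rfl⟩
  refine ⟨((c⁻¹ * r β * c * (r β)⁻¹ : F.autGroup T) : MulAut T), Subgroup.mem_sup_left
    ⟨_, Subgroup.mul_mem _ (Transfer.pResidual_normal_inst.conj_mem' _ hrb c)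
      (Subgroup.inv_mem _ hrb), rfl⟩, fun t => ?_⟩
  obtain ⟨u, rfl⟩ := (r β : MulAut T).surjective t
  simp only [Subgroup.coe_mul, Subgroup.coe_inv, MulAut.mul_apply, MulAut.inv_apply_self]
  have h1 : ((r β : MulAut T) ((c : MulAut T) u) : Ω) =
      ((β : MulAut Q) y : Q) * ((r β : MulAut T) u : Ω) * (((β : MulAut Q) y : Q) : Ω)⁻¹ := by
    rw [hr, hr]
    rw [← Subgroup.coe_inv, ← Subgroup.coe_mul, ← Subgroup.coe_mul, ← map_inv, ← map_mul,
      ← map_mul]
    rfl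
  have h2 : ((((c : MulAut T)⁻¹) ((r β : MulAut T) ((c : MulAut T) u)) : T) : Ω) =
      (y : Ω)⁻¹ * ((r β : MulAut T) ((c : MulAut T) u) : Ω) * y := by
    set w := (r β : MulAut T) ((c : MulAut T) u)
    have h := congrArg Subtype.val (MulAut.apply_inv_self T (c : MulAut T) w)
    change (y : Ω) * ((((c : MulAut T)⁻¹) w : T) : Ω) * (y : Ω)⁻¹ = w at h
    rw [← h]; group
  rw [h2, h1]
  group

variable {Ω' : Type*} [Group Ω'] {S' : Subgroup Ω'} {θ : S →* Ω'} {E : FusionSystem S'}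

/-- The hyperfocal subgroup of a factor system is the image of that of the system. -/
theorem hyperfocalSubgroup_factor (hS : IsPGroup p S) (hF : F.IsSaturated p)
    (hT : F.StronglyClosed T) (hE : F.IsFactorSystem T θ E) :
    E.hyperfocalSubgroup p = ((F.hyperfocalSubgroup p).subgroupOf S).map θ := by
  obtain ⟨hTS, hker, hrange, hiff⟩ := hE
  subst hrange
  refine le_antisymm ((Subgroup.closure_le _).2 ?_) ?_
  · rintro _ ⟨P', α, z, hP', hα, rfl⟩
    have : Finite θ.range := Finite.of_surjective _ θ.rangeRestrict_surjective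
    have := finite_of_le hP'
    set Q := preimageAlong θ P'
    have hQS : Q ≤ S := preimageAlong_le θ P'
    have := finite_of_le hQS
    let M : Subgroup (F.autGroup Q × E.autGroup P') :=
      { carrier := {ab | ∀ (q : Q) (hq : θ ⟨q, hQS q.2⟩ ∈ P'),
          (((ab.2 : MulAut P') ⟨_, hq⟩ : P') : Ω') =
            θ ⟨((ab.1 : MulAut Q) q : Q), hQS ((ab.1 : MulAut Q) q).2⟩}
        one_mem' := fun q hq => by simp
        mul_mem' := fun {a b} ha hb q hq => by
          have hq' := (mem_preimageAlong (θ := θ) (s := ⟨_, hQS ((b.1 : MulAut Q) q).2⟩)).1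
            ((b.1 : MulAut Q) q).2
          have h1 : (b.2 : MulAut P') ⟨_, hq⟩ = ⟨_, hq'⟩ := Subtype.ext (hb q hq)
          change ((((a.2 : MulAut P') ((b.2 : MulAut P') ⟨_, hq⟩)) : P') : Ω') = _
          rw [h1, ha ((b.1 : MulAut Q) q) hq']
          rfl
        inv_mem' := fun {a} ha q hq => by
          have hq' := (mem_preimageAlong (θ := θ)
            (s := ⟨_, hQS ((a.1 : MulAut Q)⁻¹ q).2⟩)).1 ((a.1 : MulAut Q)⁻¹ q).2
          have h := ha _ hq'
          simp only [MulAut.apply_inv_self] at h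
          have h1 : (a.2 : MulAut P') ⟨_, hq'⟩ = ⟨_, hq⟩ := Subtype.ext h
          change ((((a.2 : MulAut P')⁻¹) ⟨_, hq⟩ : P') : Ω') = _
          rw [← h1, MulAut.inv_apply_self]
          rfl }
    let π : M →* E.autGroup P' := (MonoidHom.snd _ _).comp M.subtype
    let π₁ : M →* F.autGroup Q := (MonoidHom.fst _ _).comp M.subtype
    have hsurj : Function.Surjective π := by
      intro a
      obtain ⟨-, φ, hφ, hPS, hφS, hθP, he⟩ := (hiff P' _).1 ((mem_autGroup_iff E hP').1 a.2)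
      have hφr : φ.range = Q := by
        refine Subgroup.eq_of_le_of_card_ge ?_
          (Nat.card_congr (MonoidHom.ofInjective (F.injective_of_mem hφ)).toEquiv).le
        rintro _ ⟨q, rfl⟩
        refine (mem_preimageAlong (θ := θ) (s := ⟨_, hφS q⟩)).2 ?_
        rw [← he q]
        exact ((a : MulAut P') _).2
      obtain ⟨e, he', hee⟩ := exists_iso_of_range hφ hφr
      refine ⟨⟨⟨⟨e, (mem_autGroup_iff F hQS).2 he'⟩, a⟩, fun q hq => ?_⟩, rfl⟩
      refine (he q).trans ?_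
      exact congrArg θ (Subtype.ext (hee q).symm)
    obtain ⟨m, hm, hme⟩ := (Transfer.map_pResidual_of_surjective π hsurj).ge hα
    obtain ⟨s, hs⟩ := hP' z.2
    have hsQ : (s : Ω) ∈ Q := mem_preimageAlong.2 (hs ▸ z.2)
    have hmem : (⟨_, hsQ⟩ : Q).1⁻¹ * ((π₁ m : MulAut Q) ⟨_, hsQ⟩ : Q) ∈ F.hyperfocalSubgroup p :=
      Subgroup.subset_closure ⟨Q, π₁ m, ⟨_, hsQ⟩, hQS,
        Transfer.map_pResidual_le π₁ ⟨m, hm, rfl⟩, rfl⟩
    refine ⟨s⁻¹ * ⟨_, hQS ((π₁ m : MulAut Q) ⟨_, hsQ⟩).2⟩, hmem, ?_⟩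
    rw [map_mul, map_inv, hs, ← hme]
    congr 1
    have h := m.2 ⟨_, hsQ⟩ (hs ▸ z.2)
    refine h.symm.trans ?_
    exact congrArg (fun t => (((π m : MulAut P') t : P') : Ω')) (Subtype.ext hs)
  · rw [Subgroup.map_le_iff_le_comap]
    intro s hs
    have hle : F.hyperfocalSubgroup p ≤
        ((E.hyperfocalSubgroup p).comap θ).map S.subtype := by
      refine hyperfocalSubgroup_le_of_generators hS hF hT _ (fun t ht => ?_) ?_
      · refine ⟨⟨t, hTS ht⟩, ?_, rfl⟩
        change θ ⟨t, hTS ht⟩ ∈ E.hyperfocalSubgroup p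
        rw [(hker _).2 ht]; exact one_mem _
      intro Q hTQ hQS β hβ y
      let a : S := ⟨y, hQS y.2⟩
      let b : S := ⟨_, hQS ((β : MulAut Q) y).2⟩
      refine ⟨a⁻¹ * b, ?_, rfl⟩
      change θ (a⁻¹ * b) ∈ E.hyperfocalSubgroup p
      rw [map_mul, map_inv]
      have := finite_of_le hQS
      set P' := imageAlong θ Q
      have hP' : P' ≤ θ.range := Subgroup.map_le_range _ _
      have : Finite θ.range := Finite.of_surjective _ θ.rangeRestrict_surjective
      have := finite_of_le hP'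
      have hpre : preimageAlong θ P' = Q := by
        refine le_antisymm ?_ fun q hq => ⟨⟨q, hQS hq⟩, ⟨_, hq, rfl⟩, rfl⟩
        rintro _ ⟨u, ⟨w, hw, hwu⟩, rfl⟩
        have h1 : ((w⁻¹ * u : S) : Ω) ∈ T :=
          (hker _).1 (by rw [map_mul, map_inv, hwu, inv_mul_cancel])
        have h2 := Q.mul_mem hw (hTQ h1)
        simpa using h2
      let M : Subgroup (F.autGroup Q × E.autGroup P') :=
        { carrier := {ab | ∀ q : Q,
            (((ab.2 : MulAut P') ⟨θ ⟨q, hQS q.2⟩, ⟨_, q.2, rfl⟩⟩ : P') : Ω') =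
              θ ⟨((ab.1 : MulAut Q) q : Q), hQS ((ab.1 : MulAut Q) q).2⟩}
          one_mem' := fun q => by simp
          mul_mem' := fun {a b} ha hb q => by
            change ((((a.2 : MulAut P') ((b.2 : MulAut P') _)) : P') : Ω') = _
            rw [show (b.2 : MulAut P') ⟨θ ⟨q, hQS q.2⟩, ⟨_, q.2, rfl⟩⟩ =
              ⟨θ ⟨_, hQS ((b.1 : MulAut Q) q).2⟩, ⟨_, ((b.1 : MulAut Q) q).2, rfl⟩⟩ from
                Subtype.ext (hb q), ha]
            rfl
          inv_mem' := fun {a} ha q => by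
            have h := ha ((a.1 : MulAut Q)⁻¹ q)
            have h1 : (a.2 : MulAut P')
                ⟨θ ⟨_, hQS ((a.1 : MulAut Q)⁻¹ q).2⟩, ⟨_, ((a.1 : MulAut Q)⁻¹ q).2, rfl⟩⟩ =
                ⟨θ ⟨q, hQS q.2⟩, ⟨_, q.2, rfl⟩⟩ := Subtype.ext (by simpa using h)
            change ((((a.2 : MulAut P')⁻¹) _ : P') : Ω') = _
            rw [← h1, MulAut.inv_apply_self]
            rfl }
      let π : M →* F.autGroup Q := (MonoidHom.fst _ _).comp M.subtype
      let π₂ : M →* E.autGroup P' := (MonoidHom.snd _ _).comp M.subtype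
      have hsurj : Function.Surjective π := by
        intro a
        obtain ⟨φ', hφ', hPS, hφS, hθP, he⟩ :=
          (isSurjectiveMorphism_of_isFactorSystem hS hF hT
            ⟨hTS, hker, rfl, hiff⟩).1.2 _ _ ((mem_autGroup_iff F hQS).1 a.2)
        have hφr : φ'.range = P' := by
          refine Subgroup.eq_of_le_of_card_ge ?_
            (Nat.card_congr (MonoidHom.ofInjective (E.injective_of_mem hφ')).toEquiv).le
          rintro _ ⟨⟨_, u, hu, rfl⟩, rfl⟩
          exact ⟨⟨_, hφS ⟨u, hu⟩⟩, ((a : MulAut Q) ⟨u, hu⟩).2, (he ⟨u, hu⟩).symm⟩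
        obtain ⟨e, he', hee⟩ := exists_iso_of_range hφ' hφr
        refine ⟨⟨⟨a, ⟨e, (mem_autGroup_iff E hP').2 he'⟩⟩, fun q => ?_⟩, rfl⟩
        exact (hee _).trans (he q)
      obtain ⟨m, hm, hme⟩ := (Transfer.map_pResidual_of_surjective π hsurj).ge hβ
      refine Subgroup.subset_closure ⟨P', π₂ m, ⟨θ ⟨y, hQS y.2⟩, ⟨_, y.2, rfl⟩⟩, hP',
        Transfer.map_pResidual_le π₂ ⟨m, hm, rfl⟩, ?_⟩
      congr 1
      refine Eq.trans ?_ (m.2 y).symm
      subst hme
      rfl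
    obtain ⟨s', hs', hse⟩ := hle hs
    rw [← Subtype.ext hse]
    exact hs'

end CfsgLib.Fusion
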