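import Cfsg.Agent.Lib.Fusion.Transport
import Cfsg.Agent.Lib.Fusion.Normal
import Cfsg.Agent.Lib.Fusion.Alperin

/-!
# The inner system; simple systems on abelian groups
-/

set_option autoImplicit false

open Cfsg Cfsg.FusionSystem

namespace CfsgLib.Fusion

variable {Ω : Type*} [Group Ω] {S : Subgroup Ω} {p : ℕ} [Fact p.Prime] [Finite S]

omit [Fact p.Prime] [Finite S] in
theorem isRealizedBy_inner : (innerFusionSystem S).IsRealizedBy (MonoidHom.id S) := by
  refine ⟨Function.injective_id, fun P hP φ hφ => ⟨?_, ?_⟩⟩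
  · rintro ⟨-, g, hg, h⟩
    exact ⟨⟨g, hg⟩, fun x => Subtype.ext (h x)⟩
  · rintro ⟨⟨g, hg⟩, h⟩
    exact ⟨hP, g, hg, fun x => congrArg Subtype.val (h x)⟩

/-- The inner system is saturated. -/
theorem isSaturated_inner (hS : IsPGroup p S) : (innerFusionSystem S).IsSaturated p := by
  have ht : ¬ p ∣ (⊤ : Subgroup S).index := by
    rw [Subgroup.index_top]
    exact (Fact.out : p.Prime).not_dvd_one
  exact isSaturated_of_isRealizedBy hS isRealizedBy_inner
    ((hS.of_equiv Subgroup.topEquiv.symm).toSylow ht)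
    ((IsPGroup.toSylow_coe _ _).trans (MonoidHom.range_eq_top.2 Function.surjective_id).symm)

/-- On an abelian group the inner system of a strongly closed subgroup is normal. -/
theorem isNormalIn_inner_of_comm (hS : IsPGroup p S) {F : FusionSystem S} (hF : F.IsSaturated p)
    (hab : ∀ x ∈ S, ∀ y ∈ S, x * y = y * x) {T : Subgroup Ω} (hT : F.StronglyClosed T) :
    (innerFusionSystem T).IsNormalIn F p := by
  have hTS := hT.1
  have := finite_of_le hTS
  have hid : ∀ {g x : Ω}, g ∈ S → x ∈ S → g * x * g⁻¹ = x := fun hg hx => by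
    rw [hab _ hg _ hx, mul_inv_cancel_right]
  refine ⟨⟨isSaturated_inner (hS.to_le hTS), hF, fun P φ hφ => ?_, hT, ?_, ?_⟩, ?_⟩
  · obtain ⟨hP, g, hg, hge⟩ := hφ
    exact innerFusionSystem_le F P ⟨hP.trans hTS, g, hTS hg, hge⟩
  · intro P hPT φ hφ α _
    obtain ⟨-, g, hg, hge⟩ := hφ
    refine ⟨Subgroup.subtype _, ⟨?_, 1, T.one_mem, fun x => by rw [one_mul, inv_one, mul_one]; rfl⟩, fun x hφx hαx => ?_⟩
    · rintro _ ⟨z, -, rfl⟩
      exact (α z).2
    · change ((α _ : T) : Ω) = _
      exact congrArg (fun t : T => ((α t : T) : Ω))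
        (Subtype.ext ((hge x).trans (hid (hTS hg) (hTS (hPT x.2)))).symm)
  · intro P hPT φ hφ
    have hPS := hPT.trans hTS
    obtain ⟨e, he, hee⟩ := exists_iso_of_range hφ (rfl : φ.range = φ.range)
    have hQ : F.IsFullyCentralized φ.range := by
      have := finite_of_le (centralizerIn_le (S := S) φ.range)
      refine ⟨range_le_S F hφ, fun R _ => Subgroup.card_le_of_le ((centralizerIn_le R).trans ?_)⟩
      exact fun x hx => ⟨hx, fun y hy => hab y (range_le_S F hφ hy) x hx⟩
    have hM : S ≤ extender S P (φ.range.subtype.comp e.toMonoidHom) := fun x hx =>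
      centralizerIn_le_extender _ _ ⟨hx, fun y hy => hab y (hPS hy) x hx⟩
    obtain ⟨ψ, hψ, hψe⟩ := exists_extension (receptive_of_fullyCentralized hS hF hQ) he hPS hM
    obtain ⟨α, hα, hαe⟩ := exists_iso_of_range (res_mem F hψ hTS)
      ((weaklyClosed_of_stronglyClosed hT).2 _ (res_mem F hψ hTS))
    refine ⟨α, (mem_autGroup_iff F hTS).2 hα, P.subtype, ⟨hPT, 1, T.one_mem, fun x => by rw [one_mul, inv_one, mul_one]; rfl⟩,
      fun x hx => ?_⟩
    rw [hαe]
    exact ((hψe x).trans (hee x)).symm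
  · intro α hα
    refine ⟨1, one_mem _, fun x => ?_, fun c hc => ?_⟩
    · obtain ⟨-, g, hg, hge⟩ := (mem_autGroup_iff _ le_rfl).1 hα
      exact ((hge x).trans (hid (hTS hg) (hTS x.2))).symm
    · simp

/-- A simple system on an abelian group is the inner system on a group of order `p`. -/
theorem isSimple_iff_of_comm (hS : IsPGroup p S) {F : FusionSystem S} (hF : F.IsSaturated p)
    (hab : ∀ x ∈ S, ∀ y ∈ S, x * y = y * x) :
    F.IsSimple p ↔ (Nat.card S = p ∧ ∀ P, F.Hom P = (innerFusionSystem S).Hom P) := by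
  constructor
  · rintro ⟨-, hS1, hsimp⟩
    have hSS : F.StronglyClosed S := ⟨le_rfl, fun R _ φ hφ x => apply_mem_S F hφ x⟩
    have hinner : ∀ P, F.Hom P = (innerFusionSystem S).Hom P := by
      rcases hsimp S _ (isNormalIn_inner_of_comm hS hF hab hSS) with h | ⟨-, h⟩
      · exact absurd h hS1
      · exact fun P => (h P).symm
    refine ⟨?_, hinner⟩
    obtain ⟨k, hk⟩ := IsPGroup.iff_card.1 hS
    have hk0 : k ≠ 0 := by
      rintro rfl
      rw [pow_zero] at hk
      exact hS1 (Subgroup.eq_bot_of_card_eq S hk)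
    obtain ⟨x, hx⟩ := exists_prime_orderOf_dvd_card' p (hk ▸ dvd_pow_self p hk0)
    have hTS : Subgroup.zpowers (x : Ω) ≤ S := Subgroup.zpowers_le.2 x.2
    have hT : F.StronglyClosed (Subgroup.zpowers (x : Ω)) := by
      refine ⟨hTS, fun R hR φ hφ y => ?_⟩
      rw [hinner] at hφ
      obtain ⟨-, g, hg, hge⟩ := hφ
      rw [hge, hab g hg _ (hTS (hR y.2)), mul_inv_cancel_right]
      exact hR y.2
    have hxo : orderOf (x : Ω) = p := (Subgroup.orderOf_coe x).trans hx
    rcases hsimp _ _ (isNormalIn_inner_of_comm hS hF hab hT) with h | ⟨h, -⟩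
    · rw [Subgroup.zpowers_eq_bot] at h
      rw [h, orderOf_one] at hxo
      exact absurd hxo.symm (Fact.out : p.Prime).ne_one
    · rw [← h, Nat.card_zpowers, hxo]
  · rintro ⟨hcard, hinner⟩
    have hp := (Fact.out : p.Prime)
    refine ⟨hF, fun h => hp.ne_one (by rw [← hcard, h, Subgroup.card_bot]), fun T E hE => ?_⟩
    have hTS := hE.1.2.2.2.1.1
    rcases (hp.eq_one_or_self_of_dvd _ (hcard ▸ Subgroup.card_dvd_of_le hTS)) with h | h
    · exact Or.inl (Subgroup.eq_bot_of_card_eq T h)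
    · obtain rfl : T = S := Subgroup.eq_of_le_of_card_ge hTS (by rw [hcard, h])
      refine Or.inr ⟨rfl, fun P => Set.Subset.antisymm (hE.1.2.2.1 P) ?_⟩
      rw [hinner]
      exact innerFusionSystem_le E P

end CfsgLib.Fusion
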