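import Cfsg.Agent.Lib.Fusion.PPowerDegree
import Cfsg.Agent.Lib.Fusion.HypFocal
import Cfsg.Agent.Lib.Fusion.GroupSystem

/-!
# Existence of saturated subsystems of `p`-power index
-/

set_option autoImplicit false

open Cfsg Cfsg.FusionSystem MulAction
open scoped commutatorElement

namespace CfsgLib.Fusion

variable {Ω : Type*} [Group Ω] {S : Subgroup Ω} [Finite S] {F : FusionSystem S} {p : ℕ}
  [Fact p.Prime]

/-- All conjugates of `P` have their centralizers in `S` inside `T`. -/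
def CentralizersWithin (F : FusionSystem S) (T P : Subgroup Ω) : Prop :=
  ∀ ψ : P →* Ω, ψ ∈ F.Hom P → centralizerIn S ψ.range ≤ T

theorem CentralizersWithin.mono {T P Q : Subgroup Ω} (h : CentralizersWithin F T P) (hPQ : P ≤ Q) :
    CentralizersWithin F T Q := by
  intro ψ hψ c hc
  refine h _ (res_mem F hψ hPQ) ⟨hc.1, ?_⟩
  rintro _ ⟨x, rfl⟩
  exact hc.2 _ ⟨_, rfl⟩

theorem CentralizersWithin.range {T P : Subgroup Ω} (h : CentralizersWithin F T P) {φ : P →* Ω}
    (hφ : φ ∈ F.Hom P) : CentralizersWithin F T φ.range := by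
  intro ψ hψ c hc
  refine h _ (F.comp_mem hφ hψ fun x => ⟨x, rfl⟩) ⟨hc.1, ?_⟩
  rintro _ ⟨x, rfl⟩
  exact hc.2 _ ⟨_, rfl⟩

/-- In a group of exponent `p` and order `p` any nontrivial element generates. -/
theorem exists_zpow_eq_of_card_prime {A : Type*} [Group A] (hA : Nat.card A = p) {a : A}
    (ha : a ≠ 1) (b : A) : ∃ k : ℤ, a ^ k = b :=
  Subgroup.mem_zpowers_iff.1 (mem_zpowers_of_prime_card hA ha)

/-- The degree. -/
theorem exists_pPower_degree (hS : IsPGroup p S) (hF : F.IsSaturated p) {A : Type*} [CommGroup A]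
    (hA : ∀ a : A, a ^ p = 1) (θ : S →* A)
    (hθ : ∀ (P : Subgroup Ω) (φ : P →* Ω), φ ∈ F.Hom P →
      ∀ (a b : S) (h : (a : Ω) ∈ P), φ ⟨a, h⟩ = b → θ a = θ b)
    {T : Subgroup Ω} (hker : ∀ a : S, θ a = 1 ↔ (a : Ω) ∈ T) :
    ∃ (m : ℕ) (Θ : ∀ P : Subgroup Ω, (P →* Ω) → A), ¬ p ∣ m ∧
      (∀ (P Q : Subgroup Ω) (φ : P →* Ω) (ψ : Q →* Ω), CentralizersWithin F T P → φ ∈ F.Hom P →
        ψ ∈ F.Hom Q → ∀ h : ∀ x : P, φ x ∈ Q,
          Θ P (ψ.comp (φ.codRestrict Q h)) = Θ Q ψ * Θ P φ) ∧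
      (∀ (P : Subgroup Ω) (g : S), CentralizersWithin F T P → P ≤ S →
        Θ P (conjHom P g) = θ g ^ m) := by
  classical
  obtain ⟨X, _, _, hstab, ⟨m, hm, hpm⟩, hreal, -⟩ := exists_biset (F := F) hS hF
  have hst : ∀ x : X, ∃ (P : Subgroup Ω) (φ : P →* Ω), φ ∈ F.Hom P ∧
      ∀ a b : S, (a, b) • x = x ↔ ∃ h : (a : Ω) ∈ P, φ ⟨a, h⟩ = b := by
    intro x
    obtain ⟨P, φ, hφ, hx⟩ := hstab x
    refine ⟨P, φ, hφ, fun a b => ?_⟩
    rw [← mem_stabilizer_iff, hx, mem_graphSub]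
  have hfree : ∀ (b : S) (x : X), ((1 : S), b) • x = x → b = 1 := by
    intro b x hb
    obtain ⟨P, φ, -, hx⟩ := hst x
    obtain ⟨h, hb⟩ := (hx 1 b).1 hb
    exact Subtype.ext (hb.symm.trans (map_one φ))
  let _ : MulAction (S × S) A :=
    { smul := fun ab y => θ ab.1 * y * (θ ab.2)⁻¹
      one_smul := fun y => by change θ 1 * y * (θ 1)⁻¹ = y; simp
      mul_smul := fun ab cd y => by
        change θ (ab.1 * cd.1) * y * (θ (ab.2 * cd.2))⁻¹ =
          θ ab.1 * (θ cd.1 * y * (θ cd.2)⁻¹) * (θ ab.2)⁻¹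
        rw [map_mul, map_mul, mul_inv_rev]
        simp only [mul_assoc] }
  obtain ⟨h, hh⟩ := exists_equivariant (G := S × S) X A (fun x => ⟨1, fun ab hab => by
    obtain ⟨P, φ, hφ, hx⟩ := hst x
    obtain ⟨ha, hab⟩ := (hx ab.1 ab.2).1 hab
    rw [mem_stabilizer_iff]
    change θ ab.1 * 1 * (θ ab.2)⁻¹ = 1
    rw [hθ P φ hφ ab.1 ab.2 ha hab, mul_one, mul_inv_cancel]⟩)
  have hh' : ∀ (a b : S) (x : X), h ((a, b) • x) = θ a * h x * (θ b)⁻¹ := fun a b x => hh (a, b) x
  have : Finite (RightOrbits S X) := Quotient.finite _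
  have := Fintype.ofFinite (RightOrbits S X)
  have hcard : Nat.card (RightOrbits S X) = m :=
    Nat.eq_of_mul_eq_mul_left Nat.card_pos ((card_eq_mul hfree).symm.trans hm)
  -- the bijections realizing a map
  let Real : ∀ P : Subgroup Ω, (P →* Ω) → (X ≃ X) → Prop := fun P φ α =>
    ∀ (a a' b : S) (hP : (a : Ω) ∈ P) (x : X), φ ⟨a, hP⟩ = a' →
      α ((a, b) • x) = (a', b) • α x
  have hright : ∀ (P : Subgroup Ω) (φ : P →* Ω) (α : X ≃ X), Real P φ α →
      ∀ (b : S) (x : X), α (((1 : S), b) • x) = ((1 : S), b) • α x :=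
    fun P φ α hα b x => hα 1 1 b P.one_mem x (map_one φ)
  have huniq : ∀ (P : Subgroup Ω) (φ : P →* Ω), φ ∈ F.Hom P → CentralizersWithin F T P →
      ∀ α β : X ≃ X, Real P φ α → Real P φ β →
        orbitDet (G := S) h α = orbitDet (G := S) h β := by
    intro P φ hφ hPC α β hα hβ
    have hγ : ∀ a ∈ P.subgroupOf S, ∀ (b : S) (x : X),
        (α.trans β.symm) ((a, b) • x) = (a, b) • (α.trans β.symm) x := by
      intro a ha b x
      apply β.injective
      rw [Equiv.trans_apply, Equiv.apply_symm_apply,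
        hβ a ⟨φ ⟨a, ha⟩, apply_mem_S F hφ _⟩ b ha _ rfl, Equiv.trans_apply,
        Equiv.apply_symm_apply]
      exact hα a _ b ha x rfl
    have h1 : orbitDet (G := S) h (α.trans β.symm) = 1 := by
      refine orbitDet_centralizer hh' hA hfree (hS.to_subgroup _) hγ fun x hx c hc => ?_
      obtain ⟨Q, ψ, hψ, hxq⟩ := hst x
      have hPQ : P ≤ Q := fun y hy => by
        obtain ⟨b, hb⟩ := hx ⟨y, le_S F hφ hy⟩ hy
        exact ((hxq _ b).1 hb).1
      refine (hker c).2 (hPC _ (res_mem F hψ hPQ) ⟨c.2, ?_⟩)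
      rintro _ ⟨y, rfl⟩
      obtain ⟨b, hb⟩ := hx ⟨y, le_S F hφ y.2⟩ y.2
      obtain ⟨hyQ, hb'⟩ := (hxq _ b).1 hb
      have h2 := congrArg Subtype.val (hc _ y.2 b hb)
      rw [Subgroup.coe_mul, Subgroup.coe_mul, ← hb'] at h2
      exact h2.symm
    have h2 := orbitDet_mul hh' (α := α.trans β.symm) (β := β)
      (fun b x => hγ 1 (one_mem _) b x) (hright P φ β hβ)
    rwa [Equiv.trans_assoc, Equiv.symm_trans_self, Equiv.trans_refl, h1, mul_one] at h2
  let Θ : ∀ P : Subgroup Ω, (P →* Ω) → A := fun P φ =>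
    if hφ : ∃ α, Real P φ α then orbitDet (G := S) h hφ.choose else 1
  have hΘ : ∀ (P : Subgroup Ω) (φ : P →* Ω), φ ∈ F.Hom P → CentralizersWithin F T P →
      ∀ α, Real P φ α → Θ P φ = orbitDet (G := S) h α := by
    intro P φ hφ hPC α hα
    have hex : ∃ α, Real P φ α := ⟨α, hα⟩
    exact (dif_pos hex).trans (huniq P φ hφ hPC _ _ hex.choose_spec hα)
  refine ⟨m, Θ, hpm, fun P Q φ ψ hPC hφ hψ hv => ?_, fun P g hPC hP => ?_⟩
  · obtain ⟨α, hα⟩ := hreal P φ hφ
    obtain ⟨β, hβ⟩ := hreal Q ψ hψ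
    have hQC : CentralizersWithin F T Q := (hPC.range hφ).mono (by
      rintro _ ⟨x, rfl⟩
      exact hv x)
    rw [hΘ P φ hφ hPC α hα, hΘ Q ψ hψ hQC β hβ,
      ← orbitDet_mul hh' (hright P φ α hα) (hright Q ψ β hβ)]
    refine hΘ P _ (F.comp_mem hφ hψ hv) hPC _ fun a a' b ha x he => ?_
    have hmid : φ ⟨a, ha⟩ ∈ Q := hv _
    rw [Equiv.trans_apply, hα a ⟨φ ⟨a, ha⟩, apply_mem_S F hφ _⟩ b ha x rfl,
      hβ ⟨φ ⟨a, ha⟩, apply_mem_S F hφ _⟩ a' b hmid _ he]
    rfl
  · rw [← hcard, ← orbitDet_left hh' g]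
    refine hΘ P _ (F.conj_mem hP g.2) hPC _ fun a a' b ha x he => ?_
    have h2 : a' = g * a * g⁻¹ := Subtype.ext (he.symm.trans (by simp [conjHom]))
    simp only [MulAction.toPerm_apply, smul_smul, Prod.mk_mul_mk, one_mul, mul_one, h2,
      inv_mul_cancel_right]

/-- A subsystem over the kernel of an invariant character of exponent `p`. -/
theorem exists_saturated_pPowerIndex_of_character (hS : IsPGroup p S) (hF : F.IsSaturated p)
    {A : Type*} [CommGroup A] (hA : ∀ a : A, a ^ p = 1) (θ : S →* A)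
    (hsurj : Function.Surjective θ) (hcard : Nat.card A = p)
    (hθ : ∀ (P : Subgroup Ω) (φ : P →* Ω), φ ∈ F.Hom P →
      ∀ (a b : S) (h : (a : Ω) ∈ P), φ ⟨a, h⟩ = b → θ a = θ b)
    {T : Subgroup Ω} (hTS : T ≤ S) (hker : ∀ a : S, θ a = 1 ↔ (a : Ω) ∈ T)
    (hT : F.hyperfocalSubgroup p ≤ T) :
    ∃ E : FusionSystem T, E.IsSaturated p ∧ E.HasPPowerIndexIn F p := by
  obtain ⟨m, Θ, hpm, hcomp, hconj⟩ := exists_pPower_degree hS hF hA θ hθ hker
  have := finite_of_le hTS
  have hpT : IsPGroup p T := hS.to_le hTS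
  have hval : ∀ {P : Subgroup Ω} {φ : P →* Ω}, φ ∈ F.Hom P → P ≤ T → ∀ x : P, φ x ∈ T :=
    fun {P φ} hφ hPT x => (hker ⟨φ x, apply_mem_S F hφ x⟩).1
      ((hθ P φ hφ ⟨x, le_S F hφ x.2⟩ ⟨φ x, apply_mem_S F hφ x⟩ x.2 rfl).symm.trans
        ((hker _).2 (hPT x.2)))
  have hone : ∀ {P : Subgroup Ω}, CentralizersWithin F T P → P ≤ S → Θ P P.subtype = 1 := by
    intro P hPC hP
    have h1 := hconj P 1 hPC hP
    rwa [OneMemClass.coe_one, map_one, one_pow,
      show conjHom P 1 = P.subtype from MonoidHom.ext fun x => by simp [conjHom]] at h1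
  let E : FusionSystem T :=
    { Hom := fun P => {φ | φ ∈ F.Hom P ∧ P ≤ T ∧ (CentralizersWithin F T P → Θ P φ = 1)}
      le_of_mem := fun {P φ} hφ => ⟨hφ.2.1, hval hφ.1 hφ.2.1⟩
      injective_of_mem := fun {P φ} hφ => F.injective_of_mem hφ.1
      conj_mem := fun {P g} hP hg => ⟨F.conj_mem (hP.trans hTS) (hTS hg), hP, fun hPC => by
        rw [show conjHom P g = conjHom P ((⟨g, hTS hg⟩ : S) : Ω) from rfl,
          hconj P _ hPC (hP.trans hTS), (hker _).2 hg, one_pow]⟩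
      comp_mem := by
        intro P Q φ ψ hφ hψ hv
        refine ⟨F.comp_mem hφ.1 hψ.1 hv, hφ.2.1, fun hPC => ?_⟩
        rw [hcomp P Q φ ψ hPC hφ.1 hψ.1 hv, hφ.2.2 hPC, mul_one,
          hψ.2.2 ((hPC.range hφ.1).mono fun y hy => by obtain ⟨x, rfl⟩ := hy; exact hv x)]
      inv_mem := by
        intro P φ hφ
        obtain ⟨ψ, hψ, hψe⟩ := F.inv_mem hφ.1
        refine ⟨ψ, ⟨hψ, fun y hy => ?_, fun hRC => ?_⟩, hψe⟩
        · obtain ⟨x, rfl⟩ := hy
          exact hval hφ.1 hφ.2.1 x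
        have hPC : CentralizersWithin F T P := (hRC.range hψ).mono (by
          rintro _ ⟨⟨_, x, rfl⟩, rfl⟩
          rw [hψe]
          exact x.2)
        have h1 := hcomp P φ.range φ ψ hPC hφ.1 hψ fun x => ⟨x, rfl⟩
        rw [show ψ.comp (φ.codRestrict φ.range fun x => ⟨x, rfl⟩) = P.subtype from
          MonoidHom.ext hψe, hone hPC (le_S F hφ.1), hφ.2.2 hPC, mul_one] at h1
        exact h1.symm }
  -- an element with prescribed power of its image
  have hpow : ∀ a : A, ∃ g : S, θ g ^ m = a := by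
    intro a
    obtain ⟨g, hg⟩ := hsurj a
    obtain ⟨j, hj⟩ := exists_pow_eq_self_of_coprime (x := a) (n := m)
      (((Fact.out : p.Prime).coprime_iff_not_dvd.2 hpm).symm.coprime_dvd_right
        (orderOf_dvd_of_pow_eq_one (hA a)))
    exact ⟨g ^ j, by rw [map_pow, hg, ← pow_mul, mul_comm, pow_mul, hj]⟩
  have hfrat : ∀ {P : Subgroup Ω} {φ : P →* Ω}, φ ∈ F.Hom P → P ≤ T →
      ∃ g : S, (conjHom φ.range g).comp φ.rangeRestrict ∈ E.Hom P := by
    intro P φ hφ hPT
    have hF1 : ∀ g : S, (conjHom φ.range g).comp φ.rangeRestrict ∈ F.Hom P := fun g =>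
      F.comp_mem hφ (F.conj_mem (range_le_S F hφ) g.2) fun x => ⟨x, rfl⟩
    by_cases hPC : CentralizersWithin F T P
    · obtain ⟨g, hg⟩ := hpow (Θ P φ)⁻¹
      refine ⟨g, hF1 g, hPT, fun _ => ?_⟩
      rw [show (conjHom φ.range g).comp φ.rangeRestrict =
          (conjHom φ.range g).comp (φ.codRestrict φ.range fun x => ⟨x, rfl⟩) from rfl,
        hcomp P φ.range φ _ hPC hφ (F.conj_mem (range_le_S F hφ) g.2) fun x => ⟨x, rfl⟩,
        hconj _ g (hPC.range hφ) (range_le_S F hφ), hg, inv_mul_cancel]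
    · exact ⟨1, hF1 1, hPT, fun h => absurd h hPC⟩
  -- outside the family a centralizer leaves `T`
  have houtside : ∀ {Q : Subgroup Ω}, F.IsFullyNormalized Q → ¬ CentralizersWithin F T Q →
      ∃ u : S, (u : Ω) ∈ centralizerIn S Q ∧ θ u ≠ 1 := by
    intro Q hQ hQC
    simp only [CentralizersWithin, not_forall] at hQC
    obtain ⟨ψ, hψ, hle⟩ := hQC
    obtain ⟨c, hc, hcT⟩ := SetLike.not_le_iff_exists.1 hle
    obtain ⟨e, he⟩ := isConj_iff.1 (isConj_symm (⟨ψ, hψ, rfl⟩ : F.IsConj Q ψ.range))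
    obtain ⟨χ, hχ, hχe⟩ := exists_extension (fullyAutomized_receptive_of_fullyNormalized hS hF hQ).2
      he le_sup_left (sup_le (le_extender he) (centralizerIn_le_extender _ _))
    have hcM : c ∈ ψ.range ⊔ centralizerIn S ψ.range := Subgroup.mem_sup_right hc
    refine ⟨⟨χ ⟨c, hcM⟩, apply_mem_S F hχ _⟩, apply_mem_centralizerIn hχ le_sup_left hχe hc, ?_⟩
    rw [← hθ _ χ hχ ⟨c, hc.1⟩ ⟨_, apply_mem_S F hχ ⟨c, hcM⟩⟩ hcM rfl]
    exact fun h => hcT ((hker _).1 h)
  refine ⟨E, fun P hPT => ?_, fun P φ hφ => hφ.1, hT, fun P hPT => ?_⟩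
  · obtain ⟨Q₀, hPQ₀, hQ₀⟩ := exists_fullyNormalized F (hPT.trans hTS)
    obtain ⟨φ, hφ, rfl⟩ := hPQ₀
    obtain ⟨g, hg⟩ := hfrat hφ hPT
    set Q := ((conjHom φ.range g).comp φ.rangeRestrict).range with hQdef
    have hQeq : Q = conjSub (g : Ω) φ.range := by
      rw [hQdef, MonoidHom.range_comp, MonoidHom.range_eq_top.2 φ.rangeRestrict_surjective,
        ← MonoidHom.range_eq_map, range_conjHom]
    have hPQ : E.IsConj P Q := ⟨_, hg, rfl⟩
    have hQT : Q ≤ T := le_right_of_isConj hPQ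
    have hQn : F.IsFullyNormalized Q := by
      refine ⟨hQT.trans hTS, fun R hR => ?_⟩
      have h1 : F.IsConj φ.range Q := hQeq ▸ isConj_conjSub F (range_le_S F hφ) g.2
      refine (hQ₀.2 R (isConj_trans h1 hR)).trans ?_
      have := finite_of_le (hQT.trans hTS)
      have := finite_of_le (normalizerIn_le (S := S) Q)
      refine Nat.card_le_card_of_injective (fun n : normalizerIn S φ.range =>
        (⟨(g : Ω) * n * (g : Ω)⁻¹, S.mul_mem (S.mul_mem g.2 n.2.1) (S.inv_mem g.2),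
          mem_normalizer_of_forall fun y hy => ?_⟩ : normalizerIn S Q)) fun a b hab => ?_
      · rw [hQeq, mem_conjSub] at hy ⊢
        have h2 := (Subgroup.mem_normalizer_iff.1 n.2.2 _).1 hy
        convert h2 using 1
        group
      · exact Subtype.ext (mul_left_cancel (mul_right_cancel (congrArg Subtype.val hab :)))
    have hQr := fullyAutomized_receptive_of_fullyNormalized hS hF hQn
    refine ⟨Q, hPQ, ⟨hQT, ?_⟩, hQT, fun R ψ hψ hr => ?_⟩
    · -- fully automized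
      have hQS := hQT.trans hTS
      have := finite_of_le hQS
      obtain ⟨-, Y, hY⟩ := hQr.1
      have hle : E.autGroup Q ≤ F.autGroup Q := fun α hα =>
        (mem_autGroup_iff F hQS).2 ((mem_autGroup_iff E hQT).1 hα).1
      have hTle : autInducedBy T Q ≤ E.autGroup Q := autInducedBy_le_autGroup hQT
      have key : ∀ α : MulAut Q, α ∈ autInducedBy S Q → α ∈ E.autGroup Q → α ∈ autInducedBy T Q := by
        intro α hαS hαE
        obtain ⟨s, hs, hse⟩ := mem_autInducedBy_iff.1 hαS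
        by_cases hQC : CentralizersWithin F T Q
        · refine mem_autInducedBy_iff.2 ⟨s, ?_, hse⟩
          have h1 := ((mem_autGroup_iff E hQT).1 hαE).2.2 hQC
          rw [show Q.subtype.comp α.toMonoidHom = conjHom Q ((⟨s, hs⟩ : S) : Ω) from
            MonoidHom.ext fun x => hse x, hconj Q _ hQC hQS] at h1
          refine (hker ⟨s, hs⟩).1 (orderOf_eq_one_iff.1 (Nat.eq_one_of_dvd_coprimes
            ((Fact.out : p.Prime).coprime_iff_not_dvd.2 hpm)
            (orderOf_dvd_of_pow_eq_one (hA _)) (orderOf_dvd_of_pow_eq_one h1)))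
        · obtain ⟨u, huC, hu⟩ := houtside hQn hQC
          -- a power of `u` moves `s` into `T`
          obtain ⟨k, hk⟩ := exists_zpow_eq_of_card_prime hcard hu (θ ⟨s, hs⟩)⁻¹
          have hwC : ((u ^ k : S) : Ω) ∈ centralizerIn S Q := by
            rw [Subgroup.coe_zpow]
            exact Subgroup.zpow_mem _ huC k
          refine mem_autInducedBy_iff.2 ⟨s * ((u ^ k : S) : Ω), ?_, fun x => ?_⟩
          · refine (hker (⟨s, hs⟩ * u ^ k)).1 ?_
            rw [map_mul, map_zpow, hk, mul_inv_cancel]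
          · rw [hse]
            have h2 := hwC.2 x x.2
            calc s * (x : Ω) * s⁻¹ = s * ((x : Ω) * ((u ^ k : S) : Ω)) * ((u ^ k : S) : Ω)⁻¹ * s⁻¹ := by
                  group
              _ = s * (((u ^ k : S) : Ω) * (x : Ω)) * ((u ^ k : S) : Ω)⁻¹ * s⁻¹ := by rw [h2]
              _ = s * ((u ^ k : S) : Ω) * x * (s * ((u ^ k : S) : Ω))⁻¹ := by group
      have hrel : ((autInducedBy T Q).subgroupOf (E.autGroup Q)) =
          ((autInducedBy S Q).subgroupOf (E.autGroup Q)) :=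
        le_antisymm (Subgroup.comap_mono (autInducedBy_mono hTS))
          fun α hα => key α hα α.2
      -- the subgroup is normal
      have hnormal : ((E.autGroup Q).subgroupOf (F.autGroup Q)).Normal := by
        refine ⟨fun a ha b => ?_⟩
        rw [Subgroup.mem_subgroupOf, mem_autGroup_iff E hQT] at ha ⊢
        refine ⟨(mem_autGroup_iff F hQS).1 (b * a * b⁻¹).2, hQT, fun hQC => ?_⟩
        let z : MulAut Q → A := fun α => Θ Q (Q.subtype.comp α.toMonoidHom)
        have hz : ∀ α β : F.autGroup Q, z (α * β : F.autGroup Q) = z α * z β := fun α β =>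
          hcomp Q Q _ _ hQC ((mem_autGroup_iff F hQS).1 β.2) ((mem_autGroup_iff F hQS).1 α.2)
            fun x => ((β : MulAut Q) x).2
        let Z : F.autGroup Q →* A := MonoidHom.mk' (fun α => z α) hz
        change Z (b * a * b⁻¹) = 1
        rw [map_mul, map_mul, map_inv, show Z a = 1 from ha.2.2 hQC, mul_one, mul_inv_cancel]
      obtain ⟨R, hR⟩ : ∃ R : Sylow p (E.autGroup Q),
          (R : Subgroup (E.autGroup Q)) = (autInducedBy S Q).subgroupOf (E.autGroup Q) := by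
        have h1 : IsPGroup p ((autInducedBy S Q).subgroupOf (E.autGroup Q)) :=
          (isPGroup_autInducedBy hS Q).comap_subtype
        refine ⟨h1.toSylow (fun hdvd => ?_), IsPGroup.toSylow_coe h1 _⟩
        have hnorm : F.autGroup Q ≤ Subgroup.normalizer (E.autGroup Q : Set (MulAut Q)) :=
          (Subgroup.normal_subgroupOf_iff_le_normalizer hle).1 hnormal
        refine not_dvd_relIndex_inf (isPGroup_autInducedBy hS Q) (autInducedBy_le_autGroup hQS)
          ?_ hle hnorm ((Subgroup.inf_relIndex_right (autInducedBy S Q) (E.autGroup Q)).symm ▸ hdvd)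
        rw [Subgroup.relIndex, ← hY]
        exact Y.not_dvd_index
      exact ⟨R, hR.trans hrel.symm⟩
    · -- receptive
      have hψR := hψ
      obtain ⟨χ, hχ, hχe⟩ := hQr.2.2 R ψ hψ.1 hr
      have hle : extender T R ψ ≤ extender S R ψ := by
        intro s hs
        obtain ⟨hsT, hsn, t, ht, hte⟩ := mem_extender_iff.1 hs
        exact mem_extender_iff.2 ⟨hTS hsT, hsn, t, hTS ht, hte⟩
      have hNT : extender T R ψ ≤ T := fun s hs => (mem_extender_iff.1 hs).1
      have hRN : R ≤ extender T R ψ := le_extender hψ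
      set N := extender T R ψ
      have hχ' := res_mem F hχ hle
      have hagree : ∀ (x : Ω) (hx : x ∈ R) (hN : x ∈ N),
          χ.comp (Subgroup.inclusion hle) ⟨x, hN⟩ = ψ ⟨x, hx⟩ := fun x hx hN => hχe x hx _
      by_cases hNC : CentralizersWithin F T N
      · by_cases hRC : CentralizersWithin F T R
        · refine ⟨_, ⟨hχ', hNT, fun _ => ?_⟩, hagree⟩
          have h1 := hcomp R N R.subtype _ hRC (id_mem F (hRN.trans (hNT.trans hTS))) hχ'
            fun x => hRN x.2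
          rw [hone hRC (hRN.trans (hNT.trans hTS)), mul_one,
            show (χ.comp (Subgroup.inclusion hle)).comp (R.subtype.codRestrict N fun x => hRN x.2) =
              ψ from MonoidHom.ext fun x => hagree x x.2 _, hψR.2.2 hRC] at h1
          exact h1.symm
        · have hQC : ¬ CentralizersWithin F T Q := fun h => hRC (by
            obtain ⟨e, he, hee⟩ := exists_iso_of_range hψ.1 hr
            have h1 := h.range he.symm
            rwa [range_subtype_comp] at h1)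
          obtain ⟨u, huC, hu⟩ := houtside hQn hQC
          obtain ⟨g', hg'⟩ := hpow (Θ N (χ.comp (Subgroup.inclusion hle)))⁻¹
          obtain ⟨j, hj⟩ := exists_zpow_eq_of_card_prime hcard hu (θ g')
          have hv : ∀ x : N, χ.comp (Subgroup.inclusion hle) x ∈
              (χ.comp (Subgroup.inclusion hle)).range := fun x => ⟨x, rfl⟩
          have hc : conjHom (χ.comp (Subgroup.inclusion hle)).range ((u ^ j : S) : Ω) ∈
              F.Hom _ := F.conj_mem (range_le_S F hχ') (u ^ j).2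
          refine ⟨_, ⟨F.comp_mem hχ' hc hv, hNT, fun _ => ?_⟩, fun x hx hN => ?_⟩
          · rw [hcomp N _ _ _ hNC hχ' hc hv, hconj _ _ (hNC.range hχ') (range_le_S F hχ'),
              map_zpow, hj, hg', inv_mul_cancel]
          · change ((u ^ j : S) : Ω) * χ.comp (Subgroup.inclusion hle) ⟨x, hN⟩ *
              ((u ^ j : S) : Ω)⁻¹ = ψ ⟨x, hx⟩
            rw [hagree x hx hN, Subgroup.coe_zpow,
              ← (Subgroup.zpow_mem _ huC j).2 _ (hr ▸ ⟨_, rfl⟩ : ψ ⟨x, hx⟩ ∈ Q),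
              mul_inv_cancel_right]
      · exact ⟨_, ⟨hχ', hNT, fun h => absurd h hNC⟩, hagree⟩
  · rw [Subgroup.map_le_iff_le_comap, pResidual, Subgroup.closure_le]
    intro α hα
    have hPS := hPT.trans hTS
    refine (mem_autGroup_iff E hPT).2 ⟨(mem_autGroup_iff F hPS).1 α.2, hPT, fun hPC => ?_⟩
    let Z : F.autGroup P →* A := MonoidHom.mk'
      (fun β => Θ P (P.subtype.comp (β : MulAut P).toMonoidHom)) fun β γ =>
      hcomp P P _ _ hPC ((mem_autGroup_iff F hPS).1 γ.2) ((mem_autGroup_iff F hPS).1 β.2)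
        fun x => ((γ : MulAut P) x).2
    exact orderOf_eq_one_iff.1 (Nat.eq_one_of_dvd_coprimes (a := p) (b := orderOf α)
      (Nat.Coprime.symm hα) (orderOf_dvd_of_pow_eq_one (hA _)) (orderOf_map_dvd Z α))

/-- Existence of a saturated subsystem of `p`-power index. -/
theorem exists_saturated_pPowerIndex (hS : IsPGroup p S) (hF : F.IsSaturated p) {T : Subgroup Ω}
    (hTS : T ≤ S) (hT : F.hyperfocalSubgroup p ≤ T) :
    ∃ E : FusionSystem T, E.IsSaturated p ∧ E.HasPPowerIndexIn F p := by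
  suffices h : ∀ (n : ℕ) (U : Subgroup Ω), U ≤ S → T ≤ U → Nat.card U - Nat.card T ≤ n →
      ∀ H : FusionSystem U, H.IsSaturated p → H.HasPPowerIndexIn F p →
        ∃ E : FusionSystem T, E.IsSaturated p ∧ E.HasPPowerIndexIn F p by
    refine h _ S le_rfl hTS le_rfl F hF ⟨fun _ _ h => h, hyperfocalSubgroup_le p, fun P hP => ?_⟩
    exact Subgroup.map_subtype_le _
  intro n
  induction n using Nat.strong_induction_on with
  | _ n ih =>
  intro U hUS hTU hn H hH hHF
  have := finite_of_le hUS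
  have hU : IsPGroup p U := hS.to_le hUS
  rcases eq_or_lt_of_le hTU with rfl | hlt
  · exact ⟨H, hH, hHF⟩
  -- a subgroup of index `p`
  obtain ⟨k, hk⟩ := IsPGroup.iff_card.1 hU
  have := finite_of_le hTS
  obtain ⟨i, hi⟩ := IsPGroup.iff_card.1 (hS.to_le hTS)
  have hik : i < k := by
    have hc : Nat.card T < Nat.card U := lt_of_not_ge fun h => hlt.ne
      (Subgroup.eq_of_le_of_card_ge hTU h)
    rw [hi, hk] at hc
    exact (Nat.pow_lt_pow_iff_right (Fact.out : p.Prime).one_lt).1 hc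
  obtain ⟨k, rfl⟩ := Nat.exists_eq_succ_of_ne_zero (show k ≠ 0 by omega)
  obtain ⟨M, hMc, hTM⟩ := Sylow.exists_subgroup_card_pow_prime_le (G := U) p
    (n := i) (m := k) (hk ▸ pow_dvd_pow p (Nat.le_succ k)) (T.subgroupOf U)
    ((Nat.card_congr (Subgroup.subgroupOfEquivOfLe hTU).toEquiv).trans hi) (by omega)
  have hindex : M.index = p := by
    have h1 := M.card_mul_index
    rw [hMc, hk, pow_succ] at h1
    exact Nat.eq_of_mul_eq_mul_left (pow_pos (Fact.out : p.Prime).pos _) h1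
  have : M.Normal := Subgroup.normal_of_index_eq_minFac_card (by
    rw [hindex, hk, Nat.Prime.pow_minFac (Fact.out : p.Prime) (Nat.succ_ne_zero k)])
  have hq : Nat.card (U ⧸ M) = p := hindex
  have : IsCyclic (U ⧸ M) := isCyclic_of_prime_card hq
  let _ : CommGroup (U ⧸ M) := IsCyclic.commGroup
  have hA : ∀ a : U ⧸ M, a ^ p = 1 := fun a => hq ▸ pow_card_eq_one'
  let θ : U →* U ⧸ M := QuotientGroup.mk' M
  have hker : ∀ a : U, θ a = 1 ↔ (a : Ω) ∈ M.map U.subtype := fun a => by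
    refine (QuotientGroup.eq_one_iff a).trans ⟨fun h => ⟨a, h, rfl⟩, ?_⟩
    rintro ⟨b, hb, hba⟩
    exact U.subtype_injective hba ▸ hb
  have hTM' : T ≤ M.map U.subtype := fun x hx => ⟨⟨x, hTU hx⟩, hTM hx, rfl⟩
  have hhyp : H.hyperfocalSubgroup p ≤ T := by
    refine le_trans ((Subgroup.closure_le _).2 ?_) hT
    rintro _ ⟨P, α, x, hP, hα, rfl⟩
    have hle : H.autGroup P ≤ F.autGroup P := fun β hβ =>
      mem_autGroup_of_mem F (hHF.1 P ((mem_autGroup_iff H hP).1 hβ)) fun _ => rfl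
    exact Subgroup.subset_closure ⟨P, Subgroup.inclusion hle α, x, hP.trans hUS,
      Transfer.map_pResidual_le _ ⟨α, hα, rfl⟩, rfl⟩
  have hθ : ∀ (P : Subgroup Ω) (φ : P →* Ω), φ ∈ H.Hom P →
      ∀ (a b : U) (h : (a : Ω) ∈ P), φ ⟨a, h⟩ = b → θ a = θ b := by
    intro P φ hφ a b h hab
    have h1 : (a : Ω)⁻¹ * b ∈ H.focalSubgroup :=
      Subgroup.subset_closure ⟨P, φ, ⟨a, h⟩, hφ, by rw [hab]⟩
    have h2 : H.focalSubgroup ≤ M.map U.subtype := by
      rw [focalSubgroup_eq hU hH]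
      refine sup_le (hhyp.trans hTM') (Subgroup.commutator_le.2 fun x hx y hy => ?_)
      refine (hker ⟨⁅x, y⁆, ?_⟩).1 ?_
      · exact U.mul_mem (U.mul_mem (U.mul_mem hx hy) (U.inv_mem hx)) (U.inv_mem hy)
      · change θ ⁅(⟨x, hx⟩ : U), ⟨y, hy⟩⁆ = 1
        rw [map_commutatorElement, commutatorElement_eq_one_iff_mul_comm, mul_comm]
    have h3 := (hker (a⁻¹ * b)).2 (h2 h1)
    rwa [map_mul, map_inv, inv_mul_eq_one] at h3
  obtain ⟨E, hEs, hEH⟩ := exists_saturated_pPowerIndex_of_character hU hH hA θ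
    (QuotientGroup.mk'_surjective M) hq hθ (Subgroup.map_subtype_le M) hker (hhyp.trans hTM')
  have hMle : M.map U.subtype ≤ U := Subgroup.map_subtype_le M
  refine ih _ ?_ _ (hMle.trans hUS) hTM' le_rfl E hEs
    ⟨fun P φ hφ => hHF.1 P (hEH.1 P hφ), hT.trans hTM', fun P hP => ?_⟩
  · have h1 : Nat.card (M.map U.subtype) = p ^ k := by
      rw [Subgroup.card_map_of_injective U.subtype_injective, hMc]
    rw [h1]
    have h2 : p ^ k < p ^ (k + 1) := Nat.pow_lt_pow_succ (Fact.out : p.Prime).one_lt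
    have h3 : p ^ i ≤ p ^ k := Nat.pow_le_pow_right (Fact.out : p.Prime).pos (by omega)
    rw [hk, hi] at hn
    rw [hi]
    change p ^ (k + 1) - p ^ i ≤ n at hn
    omega
  · rw [Subgroup.map_le_iff_le_comap, pResidual, Subgroup.closure_le]
    intro α hα
    have hαH : (α : MulAut P) ∈ H.autGroup P :=
      hHF.2.2 P (hP.trans hMle) ⟨α, Subgroup.subset_closure hα, rfl⟩
    refine hEH.2.2 P hP ⟨⟨α, hαH⟩, Subgroup.subset_closure ?_, rfl⟩
    change (orderOf (⟨(α : MulAut P), hαH⟩ : H.autGroup P)).Coprime p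
    rw [Subgroup.orderOf_mk, Subgroup.orderOf_coe]
    exact hα

end CfsgLib.Fusion
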