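import Cfsg.Agent.Lib.Fusion.PPowerIndexUnique
import Cfsg.Agent.Lib.Fusion.FactorHat
import Cfsg.Agent.Lib.Fusion.HypFocal
import Cfsg.Agent.Lib.Fusion.Invariant
import Cfsg.Agent.Lib.Transfer.Basic

/-!
# Subsystems of `p`-power index are normal
-/

set_option autoImplicit false

open Cfsg Cfsg.FusionSystem

namespace CfsgLib.Fusion

variable {Ω : Type*} [Group Ω] {S T : Subgroup Ω} [Finite S] {F : FusionSystem S}
  {E : FusionSystem T} {p : ℕ} [Fact p.Prime]

/-- A normal subgroup containing the hyperfocal subgroup is strongly closed. -/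
theorem stronglyClosed_of_hyperfocal_le (hS : IsPGroup p S) (hF : F.IsSaturated p) (hTS : T ≤ S)
    (hTn : S ≤ Subgroup.normalizer (T : Set Ω)) (hT : F.hyperfocalSubgroup p ≤ T) :
    F.StronglyClosed T := by
  refine ⟨hTS, fun R hR φ hφ x => ?_⟩
  obtain ⟨g, hg, h⟩ := exists_conj_mod_hyperfocal hS hF hφ
  have h1 := conj_mem_of_mem_normalizer (hTn hg) (hR x.2)
  have h2 := T.mul_mem h1 (hT (h x))
  rwa [mul_inv_cancel_left] at h2

/-- Transport of the maps of `E` along the automorphisms of `T` in `F`. -/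
def TransportClosed (E : FusionSystem T) (F : FusionSystem S) : Prop :=
  ∀ (P : Subgroup Ω) (hPT : P ≤ T) (φ : P →* Ω), φ ∈ E.Hom P → ∀ α ∈ F.autGroup T,
    ∃ χ ∈ E.Hom ((P.subgroupOf T).map (T.subtype.comp α.toMonoidHom)),
      ∀ (x : P) (hφx : φ x ∈ T)
        (hαx : ((α ⟨x, hPT x.2⟩ : T) : Ω) ∈ (P.subgroupOf T).map (T.subtype.comp α.toMonoidHom)),
        χ ⟨(α ⟨x, hPT x.2⟩ : T), hαx⟩ = ((α ⟨φ x, hφx⟩ : T) : Ω)

/-- An automorphism of `R` in `F` of order prime to `p` gives one on an invariant subgroup. -/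
theorem exists_coprime_restrict {R P : Subgroup Ω} (hRS : R ≤ S) (hPR : P ≤ R) {β : MulAut R}
    (hβ : β ∈ F.autGroup R) (hinv : ∀ x : R, (x : Ω) ∈ P ↔ (β x : Ω) ∈ P)
    (hco : (orderOf β).Coprime p) :
    ∃ b ∈ F.autGroup P, (orderOf b).Coprime p ∧
      ∀ x : P, (b x : Ω) = β (Subgroup.inclusion hPR x) := by
  let H : Subgroup (MulAut R) :=
    { carrier := {γ | ∀ x : R, (x : Ω) ∈ P ↔ (γ x : Ω) ∈ P}
      one_mem' := fun x => Iff.rfl
      mul_mem' := fun {a b} ha hb x => (hb x).trans (ha (b x))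
      inv_mem' := fun {a} ha x => by rw [ha (a⁻¹ x), MulAut.apply_inv_self] }
  let r : H →* MulAut P :=
    { toFun := fun γ =>
        { toFun := fun x => ⟨(γ : MulAut R) (Subgroup.inclusion hPR x), (γ.2 _).1 x.2⟩
          invFun := fun x => ⟨(γ : MulAut R)⁻¹ (Subgroup.inclusion hPR x), ((γ⁻¹).2 _).1 x.2⟩
          left_inv := fun x => Subtype.ext (by
            change (((γ : MulAut R)⁻¹ ((γ : MulAut R) (Subgroup.inclusion hPR x)) : R) : Ω) = x
            rw [MulAut.inv_apply_self]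
            rfl)
          right_inv := fun x => Subtype.ext (by
            change (((γ : MulAut R) ((γ : MulAut R)⁻¹ (Subgroup.inclusion hPR x)) : R) : Ω) = x
            rw [MulAut.apply_inv_self]
            rfl)
          map_mul' := fun x y => Subtype.ext (by
            simp only [map_mul, Subgroup.coe_mul]) }
      map_one' := MulEquiv.ext fun x => Subtype.ext rfl
      map_mul' := fun a b => MulEquiv.ext fun x => Subtype.ext rfl }
  refine ⟨r ⟨β, hinv⟩, ?_, ?_, fun x => rfl⟩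
  · exact mem_autGroup_of_mem (φ := (R.subtype.comp β.toMonoidHom).comp (Subgroup.inclusion hPR)) F
      (res_mem F ((mem_autGroup_iff F hRS).1 hβ) hPR) fun x => rfl
  · refine Nat.Coprime.coprime_dvd_left (orderOf_map_dvd r _) ?_
    rw [← Subgroup.orderOf_coe]
    exact hco

omit [Finite S] in
/-- Elements of order prime to `p` of `Aut_F(P)`, `P ≤ T`, lie in a subsystem of `p`-power
index. -/
theorem mem_autGroup_of_coprime_pPowerIndex (hE : E.HasPPowerIndexIn F p) {P : Subgroup Ω}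
    (hP : P ≤ T) {b : MulAut P} (hb : b ∈ F.autGroup P) (hco : (orderOf b).Coprime p) :
    b ∈ E.autGroup P :=
  hE.2.2 P hP ⟨⟨b, hb⟩, Subgroup.subset_closure (by
    change (orderOf (⟨b, hb⟩ : F.autGroup P)).Coprime p
    rwa [Subgroup.orderOf_mk]), rfl⟩

/-- The automizer of a fully normalized subgroup is generated by the elements of order prime to `p`
and those induced by the ambient group. -/
theorem autGroup_le_of_coprime_of_induced (hS : IsPGroup p S) (hF : F.IsSaturated p)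
    {R : Subgroup Ω} (hR : F.IsFullyNormalized R) {A : Subgroup (MulAut R)}
    (hco : ∀ b ∈ F.autGroup R, (orderOf b).Coprime p → b ∈ A) (hind : autInducedBy S R ≤ A) :
    F.autGroup R ≤ A := by
  have := finite_of_le hR.1
  obtain ⟨-, Y, hY⟩ := (fullyAutomized_receptive_of_fullyNormalized hS hF hR).1
  intro α hα
  have htop := Transfer.pResidual_sup_sylow (G := F.autGroup R) Y
  have h1 : (⟨α, hα⟩ : F.autGroup R) ∈ A.subgroupOf (F.autGroup R) := by
    refine (?_ : _ ≤ A.subgroupOf (F.autGroup R)) (htop.ge (Subgroup.mem_top _))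
    refine sup_le ?_ ?_
    · refine (Subgroup.closure_le _).2 fun b hb => hco b b.2 ?_
      rw [Subgroup.orderOf_coe]
      exact hb
    · rw [hY]
      exact Subgroup.comap_mono hind
  exact h1

/-- Transport along `Aut_F(T)` holds for a saturated subsystem of `p`-power index. -/
theorem transportClosed_of_hasPPowerIndex (hS : IsPGroup p S) (hTS : T ≤ S)
    (hEs : E.IsSaturated p) (hE : E.HasPPowerIndexIn F p) : TransportClosed E F := by
  have := finite_of_le hTS
  have hT := hS.to_le hTS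
  intro P hPT φ hφ α hα
  let im : Subgroup Ω → Subgroup Ω := fun P =>
    (P.subgroupOf T).map (T.subtype.comp α.toMonoidHom)
  have himT : ∀ P, im P ≤ T := fun P => by rintro _ ⟨x, -, rfl⟩; exact (α x).2
  have hmem : ∀ {P : Subgroup Ω} (hP : P ≤ T) (x : P), ((α ⟨x, hP x.2⟩ : T) : Ω) ∈ im P :=
    fun hP x => ⟨⟨x, hP x.2⟩, x.2, rfl⟩
  have hαF := (mem_autGroup_iff F hTS).1 hα
  -- the system of maps whose transports lie in `E`
  let D : FusionSystem T :=
    { Hom := fun P => {φ | φ ∈ E.Hom P ∧ ∃ χ ∈ E.Hom (im P), ∀ (x : P) (hx : (x : Ω) ∈ T)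
        (hαx : ((α ⟨x, hx⟩ : T) : Ω) ∈ im P) (hφx : φ x ∈ T),
          χ ⟨(α ⟨x, hx⟩ : T), hαx⟩ = ((α ⟨φ x, hφx⟩ : T) : Ω)}
      le_of_mem := fun {P φ} hφ => E.le_of_mem hφ.1
      injective_of_mem := fun {P φ} hφ => E.injective_of_mem hφ.1
      conj_mem := fun {P g} hP hg => by
        refine ⟨E.conj_mem hP hg, conjHom _ ((α ⟨g, hg⟩ : T) : Ω),
          E.conj_mem (himT P) (α _).2, fun x hx hαx hφx => ?_⟩
        change ((α ⟨g, hg⟩ : T) : Ω) * ((α ⟨x, hx⟩ : T) : Ω) * ((α ⟨g, hg⟩ : T) : Ω)⁻¹ = _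
        rw [show (⟨conjHom P g x, hφx⟩ : T) = ⟨g, hg⟩ * ⟨x, hx⟩ * (⟨g, hg⟩ : T)⁻¹ from
          Subtype.ext rfl, map_mul, map_mul, map_inv]
        rfl
      comp_mem := by
        intro P Q φ ψ hφ hψ h
        obtain ⟨hφE, χ₁, hχ₁, he₁⟩ := hφ
        obtain ⟨hψE, χ₂, hχ₂, he₂⟩ := hψ
        have hr : ∀ y, χ₁ y ∈ im Q := by
          rintro ⟨_, ⟨⟨x, hxT⟩, hx, rfl⟩⟩
          have h1 := he₁ ⟨x, hx⟩ hxT ⟨⟨x, hxT⟩, hx, rfl⟩ (apply_mem_S E hφE _)
          change χ₁ ⟨((α ⟨x, hxT⟩ : T) : Ω), _⟩ ∈ im Q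
          rw [h1]
          exact ⟨_, h ⟨x, hx⟩, rfl⟩
        refine ⟨E.comp_mem hφE hψE h, _, E.comp_mem hχ₁ hχ₂ hr, fun x hx hαx hφx => ?_⟩
        have h1 := he₁ x hx hαx (apply_mem_S E hφE x)
        have h2 := he₂ ⟨φ x, h x⟩ (apply_mem_S E hφE x) ⟨_, h x, rfl⟩ hφx
        refine Eq.trans ?_ h2
        exact congrArg χ₂ (Subtype.ext h1)
      inv_mem := by
        intro P φ hφ
        obtain ⟨hφE, χ, hχ, he⟩ := hφ
        obtain ⟨ψ, hψ, hψe⟩ := E.inv_mem hφE
        obtain ⟨θ, hθ, hθe⟩ := E.inv_mem hχ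
        have hP := le_S E hφE
        have hr : im φ.range = χ.range := by
          ext y
          constructor
          · rintro ⟨w, ⟨x, hxw⟩, rfl⟩
            refine ⟨⟨_, hmem hP x⟩, ?_⟩
            rw [he x (hP x.2) (hmem hP x) (apply_mem_S E hφE x)]
            exact congrArg (fun t : T => ((α t : T) : Ω)) (Subtype.ext hxw)
          · rintro ⟨⟨_, ⟨⟨x, hxT⟩, hx, rfl⟩⟩, rfl⟩
            have h1 := he ⟨x, hx⟩ hxT ⟨⟨x, hxT⟩, hx, rfl⟩ (apply_mem_S E hφE _)
            change χ ⟨((α ⟨x, hxT⟩ : T) : Ω), _⟩ ∈ im φ.range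
            rw [h1]
            exact ⟨_, ⟨⟨x, hx⟩, rfl⟩, rfl⟩
        refine ⟨ψ, ⟨hψ, θ.comp (Subgroup.inclusion hr.le), mem_of_eq hr.symm hθ fun _ => rfl,
          ?_⟩, hψe⟩
        rintro ⟨_, x, rfl⟩ hx hαx hψx
        have h1 := he x (hP x.2) (hmem hP x) (apply_mem_S E hφE x)
        have h2 := hθe ⟨_, hmem hP x⟩
        have h3 : (⟨ψ ⟨φ x, ⟨x, rfl⟩⟩, hψx⟩ : T) = ⟨x, hP x.2⟩ := Subtype.ext (hψe x)
        rw [h3]
        refine Eq.trans ?_ h2
        exact congrArg θ (Subtype.ext h1.symm) }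
  suffices hle : E ≤ D by
    obtain ⟨χ, hχ, he⟩ := (hle P hφ).2
    exact ⟨χ, hχ, fun x hφx hαx => he x _ hαx hφx⟩
  refine alperin hT hEs D fun R hR => ?_
  have hRT : R ≤ T := by
    rcases hR with rfl | hR
    · exact le_rfl
    · exact hR.1.1
  have hn : E.IsFullyNormalized R := by
    rcases hR with rfl | hR
    · exact isFullyNormalized_self
    · exact hR.2.1
  have := finite_of_le (hRT.trans hTS)
  refine autGroup_le_of_coprime_of_induced hT hEs hn ?_ (fun b hb => autInducedBy_le_autGroup hRT hb)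
  intro b hb hco
  have hbE := (mem_autGroup_iff E hRT).1 hb
  obtain ⟨e, he, hee⟩ := exists_iso_of_range (res_mem F hαF hRT)
    (show ((T.subtype.comp α.toMonoidHom).comp (Subgroup.inclusion hRT)).range = im R by
      ext y
      constructor
      · rintro ⟨x, rfl⟩; exact hmem hRT x
      · rintro ⟨x, hx, rfl⟩; exact ⟨⟨x, hx⟩, rfl⟩)
  have hbF : b ∈ F.autGroup R := autGroup_mono hE.1 R hb
  have hc : (orderOf ((autEquiv he ⟨b, hbF⟩ : F.autGroup (im R)) : MulAut (im R))).Coprime p := by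
    rw [Subgroup.orderOf_coe, MulEquiv.orderOf_eq, Subgroup.orderOf_mk]
    exact hco
  have hcE := (mem_autGroup_iff E (himT R)).1
    (mem_autGroup_of_coprime_pPowerIndex hE (himT R) (SetLike.coe_mem _) hc)
  refine mem_autGroup_of_mem (φ := R.subtype.comp b.toMonoidHom) _ ?_ fun x => rfl
  refine ⟨hbE, _, hcE, fun x hx hαx hφx => ?_⟩
  change (((autEquiv he ⟨b, hbF⟩ : F.autGroup (im R)) : MulAut (im R)) ⟨_, hαx⟩ : Ω) = _
  have h1 : (⟨((α ⟨x, hx⟩ : T) : Ω), hαx⟩ : im R) = e x := Subtype.ext (hee x).symm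
  rw [h1, autEquiv_apply, MulEquiv.symm_apply_apply, hee]
  rfl

/-- The Frattini condition for a saturated subsystem of `p`-power index. -/
theorem frattini_of_hasPPowerIndex (hS : IsPGroup p S) (hF : F.IsSaturated p)
    (hT : F.StronglyClosed T) (hE : E.HasPPowerIndexIn F p) (htr : TransportClosed E F)
    {P : Subgroup Ω} (hP : P ≤ T) {φ : P →* Ω} (hφ : φ ∈ F.Hom P) :
    ∃ α ∈ F.autGroup T, ∃ φ₀ ∈ E.Hom P, ∀ (x : P) (hx : φ₀ x ∈ T),
      φ x = ((α ⟨φ₀ x, hx⟩ : T) : Ω) := by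
  have hTS := hT.1
  let good : ∀ (P : Subgroup Ω), (P →* Ω) → Prop := fun P φ =>
    ∃ α ∈ F.autGroup T, ∃ φ₀ ∈ E.Hom (P ⊓ T), ∀ (x : ↥(P ⊓ T)) (hx : φ₀ x ∈ T),
      φ (Subgroup.inclusion inf_le_left x) = ((α ⟨φ₀ x, hx⟩ : T) : Ω)
  let D : FusionSystem S :=
    { Hom := fun P => {φ | φ ∈ F.Hom P ∧ good P φ}
      le_of_mem := fun {P φ} hφ => F.le_of_mem hφ.1
      injective_of_mem := fun {P φ} hφ => F.injective_of_mem hφ.1
      conj_mem := fun {P g} hP hg => by
        refine ⟨F.conj_mem hP hg, normAut g (le_normalizer_of_stronglyClosed hT hg),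
          autInducedBy_le_autGroup hTS (mem_autInducedBy_iff.2 ⟨g, hg, fun _ => rfl⟩),
          (P ⊓ T).subtype, id_mem E inf_le_right, fun x hx => rfl⟩
      comp_mem := by
        intro P Q φ ψ hφ hψ h
        obtain ⟨hφF, α, hα, φ₀, hφ₀, hφe⟩ := hφ
        obtain ⟨hψF, β, hβ, ψ₀, hψ₀, hψe⟩ := hψ
        have hQT : Q ⊓ T ≤ T := inf_le_right
        obtain ⟨χ, hχ, hχe⟩ := htr (Q ⊓ T) hQT ψ₀ hψ₀ α⁻¹ (inv_mem hα)
        have hφT : ∀ x : ↥(P ⊓ T), φ (Subgroup.inclusion inf_le_left x) ∈ T := fun x =>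
          hT.2 (P ⊓ T) inf_le_right _ (res_mem F hφF inf_le_left) x
        have hP₁ : ∀ x : ↥(P ⊓ T), φ₀ x ∈ ((Q ⊓ T).subgroupOf T).map (T.subtype.comp (α⁻¹).toMonoidHom) := fun x =>
          ⟨⟨_, hφT x⟩, ⟨h _, hφT x⟩, by
            change ((α⁻¹ ⟨φ (Subgroup.inclusion inf_le_left x), hφT x⟩ : T) : Ω) = φ₀ x
            rw [show (⟨_, hφT x⟩ : T) = α ⟨φ₀ x, apply_mem_S E hφ₀ x⟩ from
              Subtype.ext (hφe x _), MulAut.inv_apply_self]⟩
        refine ⟨F.comp_mem hφF hψF h, β * α, mul_mem hβ hα, χ.comp (φ₀.codRestrict _ hP₁),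
          E.comp_mem hφ₀ hχ hP₁, fun x hx => ?_⟩
        let y : ↥(Q ⊓ T) := ⟨φ (Subgroup.inclusion inf_le_left x), h _, hφT x⟩
        have h1 : φ₀ x = ((α⁻¹ ⟨y, hQT y.2⟩ : T) : Ω) := by
          rw [show (⟨(y : Ω), hQT y.2⟩ : T) = α ⟨φ₀ x, apply_mem_S E hφ₀ x⟩ from
            Subtype.ext (hφe x _), MulAut.inv_apply_self]
        have h2 : χ.comp (φ₀.codRestrict _ hP₁) x =
            ((α⁻¹ ⟨ψ₀ y, apply_mem_S E hψ₀ y⟩ : T) : Ω) := by
          refine Eq.trans ?_ (hχe y (apply_mem_S E hψ₀ y) (h1 ▸ hP₁ x))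
          exact congrArg χ (Subtype.ext h1)
        change ψ ⟨φ (Subgroup.inclusion inf_le_left x), h _⟩ = _
        refine (hψe y (apply_mem_S E hψ₀ y)).trans ?_
        rw [show (⟨_, hx⟩ : T) = α⁻¹ ⟨ψ₀ y, apply_mem_S E hψ₀ y⟩ from Subtype.ext h2,
          MulAut.mul_apply, MulAut.apply_inv_self]
      inv_mem := by
        intro P φ hφ
        obtain ⟨hφF, α, hα, φ₀, hφ₀, hφe⟩ := hφ
        obtain ⟨ψ, hψ, hψe⟩ := F.inv_mem hφF
        obtain ⟨θ, hθ, hθe⟩ := E.inv_mem hφ₀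
        have hr : φ₀.range ≤ T := range_le_S E hφ₀
        obtain ⟨χ, hχ, hχe⟩ := htr φ₀.range hr θ hθ α hα
        have hP := le_S F hφF
        have hφr : ∀ y : ↥(φ.range ⊓ T), ∃ x : ↥(P ⊓ T),
            φ (Subgroup.inclusion inf_le_left x) = y := by
          intro y
          obtain ⟨x, hx⟩ := y.2.1
          refine ⟨⟨x, x.2, ?_⟩, hx⟩
          have hyT : (y : Ω) ∈ T := y.2.2
          have h1 := hT.2 (φ.range ⊓ T) inf_le_right _ (res_mem F hψ inf_le_left)
            ⟨y, y.2⟩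
          change ψ ⟨(y : Ω), _⟩ ∈ T at h1
          rwa [show (⟨(y : Ω), y.2.1⟩ : φ.range) = ⟨φ x, x, rfl⟩ from Subtype.ext hx.symm,
            hψe x] at h1
        have hmem : ∀ y : ↥(φ.range ⊓ T), (y : Ω) ∈
            (φ₀.range.subgroupOf T).map (T.subtype.comp α.toMonoidHom) := by
          intro y
          obtain ⟨x, hx⟩ := hφr y
          exact ⟨⟨φ₀ x, apply_mem_S E hφ₀ x⟩, ⟨x, rfl⟩, ((hφe x _).symm.trans hx)⟩
        refine ⟨ψ, ⟨hψ, α⁻¹, inv_mem hα,
          χ.comp ((φ.range ⊓ T).subtype.codRestrict _ hmem), ?_, fun y hy => ?_⟩, hψe⟩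
        · exact res_mem E hχ (fun z hz => hmem ⟨z, hz⟩)
        obtain ⟨x, hx⟩ := hφr y
        have h1 := hχe ⟨φ₀ x, x, rfl⟩ (by rw [hθe]; exact x.2.2)
          ⟨⟨φ₀ x, apply_mem_S E hφ₀ x⟩, ⟨x, rfl⟩, rfl⟩
        have h2 : χ.comp ((φ.range ⊓ T).subtype.codRestrict _ hmem) y =
            ((α ⟨(x : Ω), x.2.2⟩ : T) : Ω) := by
          refine Eq.trans (congrArg χ (Subtype.ext ?_)) (h1.trans ?_)
          · exact hx.symm.trans (hφe x _)
          · exact congrArg (fun t : T => ((α t : T) : Ω)) (Subtype.ext (hθe x))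
        rw [show (⟨_, hy⟩ : T) = α ⟨(x : Ω), x.2.2⟩ from Subtype.ext h2, MulAut.inv_apply_self]
        change ψ ⟨(y : Ω), _⟩ = (x : Ω)
        rw [show (⟨(y : Ω), y.2.1⟩ : φ.range) = ⟨φ (Subgroup.inclusion inf_le_left x), _, rfl⟩ from
          Subtype.ext hx.symm]
        exact hψe _ }
  suffices hle : F ≤ D by
    obtain ⟨α, hα, φ₀, hφ₀, he⟩ := (hle P hφ).2
    refine ⟨α, hα, φ₀.comp (Subgroup.inclusion (le_inf le_rfl hP)),
      res_mem E hφ₀ (le_inf le_rfl hP), fun x hx => ?_⟩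
    exact he (Subgroup.inclusion (le_inf le_rfl hP) x) hx
  refine alperin hS hF D fun R hR => ?_
  have hn : F.IsFullyNormalized R := by
    rcases hR with rfl | hR
    · exact isFullyNormalized_self
    · exact hR.2.1
  have hRS := hn.1
  refine autGroup_le_of_coprime_of_induced hS hF hn ?_ fun b hb => autInducedBy_le_autGroup hRS hb
  intro b hb hco
  have hinv : ∀ x : R, (x : Ω) ∈ R ⊓ T ↔ (b x : Ω) ∈ R ⊓ T := by
    intro x
    refine ⟨fun h => ⟨(b x).2, autGroup_apply_mem hT hb h.2⟩, fun h => ⟨x.2, ?_⟩⟩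
    simpa using autGroup_apply_mem hT (inv_mem hb) h.2
  obtain ⟨c, hc, hcco, hce⟩ := exists_coprime_restrict hRS inf_le_left hb hinv hco
  have hcE := (mem_autGroup_iff E inf_le_right).1
    (mem_autGroup_of_coprime_pPowerIndex hE inf_le_right hc hcco)
  refine mem_autGroup_of_mem (φ := R.subtype.comp b.toMonoidHom) _ ?_ fun x => rfl
  refine ⟨(mem_autGroup_iff F hRS).1 hb, 1, one_mem _, _, hcE, fun x hx => ?_⟩
  exact (hce x).symm

/-- A saturated subsystem of `p`-power index over a normal subgroup is normal. -/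
theorem isNormalIn_of_hasPPowerIndex (hS : IsPGroup p S) (hF : F.IsSaturated p) (hTS : T ≤ S)
    (hTn : S ≤ Subgroup.normalizer (T : Set Ω)) (hEs : E.IsSaturated p)
    (hE : E.HasPPowerIndexIn F p) : E.IsNormalIn F p := by
  have hT := stronglyClosed_of_hyperfocal_le hS hF hTS hTn hE.2.1
  have htr := transportClosed_of_hasPPowerIndex hS hTS hEs hE
  refine ⟨⟨hEs, hF, hE.1, hT, htr, fun P hP φ hφ => frattini_of_hasPPowerIndex hS hF hT hE htr hP hφ⟩,
    ?_⟩
  have := finite_of_le hTS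
  set M := T ⊔ centralizerIn S T with hM
  have hMcl := stronglyClosed_sup_centralizerIn hS hF hT
  have hMS : M ≤ S := hMcl.1
  have := finite_of_le hMS
  let X : Subgroup (MulAut T) :=
    { carrier := {α | ∃ β ∈ F.autGroup M,
        (∀ x : T, ((β (Subgroup.inclusion le_sup_left x) : M) : Ω) = ((α x : T) : Ω)) ∧
        ∀ c : M, (c : Ω) ∈ centralizerIn S T →
          (c : Ω)⁻¹ * ((β c : M) : Ω) ∈ T ⊓ Subgroup.centralizer (T : Set Ω)}
      one_mem' := ⟨1, one_mem _, fun _ => rfl, fun c _ => by simp⟩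
      mul_mem' := by
        rintro a b ⟨β, hβ, hβT, hβC⟩ ⟨γ, hγ, hγT, hγC⟩
        refine ⟨β * γ, mul_mem hβ hγ, fun x => ?_, fun c hc => ?_⟩
        · rw [MulAut.mul_apply, show γ (Subgroup.inclusion le_sup_left x) =
            Subgroup.inclusion le_sup_left (b x) from Subtype.ext (hγT x), hβT, MulAut.mul_apply]
        · have h1 := hγC c hc
          have h2 : ((γ c : M) : Ω) ∈ centralizerIn S T := by
            have := (centralizerIn S T).mul_mem hc ⟨hTS h1.1, h1.2⟩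
            rwa [mul_inv_cancel_left] at this
          have h3 := mul_mem h1 (hβC (γ c) h2)
          rw [mul_assoc, mul_inv_cancel_left] at h3
          exact h3
      inv_mem' := by
        rintro a ⟨β, hβ, hβT, hβC⟩
        refine ⟨β⁻¹, inv_mem hβ, fun x => ?_, fun c hc => ?_⟩
        · have h1 : β (Subgroup.inclusion le_sup_left (a⁻¹ x)) = Subgroup.inclusion le_sup_left x :=
            Subtype.ext (by rw [hβT, MulAut.apply_inv_self]; rfl)
          rw [← h1, MulAut.inv_apply_self]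
          rfl
        · have hcC : ((β⁻¹ c : M) : Ω) ∈ centralizerIn S T := by
            refine ⟨hMS (β⁻¹ c).2, fun y hy => ?_⟩
            have h1 : β (Subgroup.inclusion le_sup_left ⟨y, hy⟩ * β⁻¹ c) =
                β (β⁻¹ c * Subgroup.inclusion le_sup_left ⟨y, hy⟩) := by
              rw [map_mul, map_mul, MulAut.apply_inv_self]
              refine Subtype.ext ?_
              rw [Subgroup.coe_mul, Subgroup.coe_mul, hβT]
              exact hc.2 _ (a ⟨y, hy⟩).2
            exact congrArg Subtype.val (β.injective h1)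
          have h2 := inv_mem (hβC (β⁻¹ c) hcC)
          rwa [MulAut.apply_inv_self, mul_inv_rev, inv_inv] at h2 }
  suffices hX : E.autGroup T ≤ X from fun α hα => hX hα
  refine autGroup_le_of_coprime_of_induced (hS.to_le hTS) hEs isFullyNormalized_self ?_ ?_
  · intro a ha hco
    have hTn' : F.IsFullyNormalized T := by
      refine ⟨hTS, fun Q hQ => ?_⟩
      obtain ⟨φ, hφ, rfl⟩ := hQ
      rw [(weaklyClosed_of_stronglyClosed hT).2 φ hφ]
    have haF := (mem_autGroup_iff F hTS).1 (autGroup_mono hE.1 T ha)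
    have hext : M ≤ extender S T (T.subtype.comp a.toMonoidHom) := by
      refine sup_le (le_extender haF) fun g hg => ?_
      refine mem_extender_iff.2 ⟨hg.1, mem_normalizer_of_forall_commute hg.2, 1, S.one_mem,
        fun x => ?_⟩
      rw [show normAut g (mem_normalizer_of_forall_commute hg.2) x = x from Subtype.ext (by
        change g * x * g⁻¹ = x
        rw [← hg.2 x x.2, mul_inv_cancel_right])]
      simp
    obtain ⟨ψ, hψ, hψe⟩ := exists_extension
      (fullyAutomized_receptive_of_fullyNormalized hS hF hTn').2 haF le_sup_left hext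
    obtain ⟨b, hb, hbe⟩ := exists_iso_of_range hψ ((weaklyClosed_of_stronglyClosed hMcl).2 ψ hψ)
    have hbT : ∀ x : T, (b (Subgroup.inclusion le_sup_left x) : Ω) = ((a x : T) : Ω) := fun x =>
      (hbe _).trans (hψe x)
    have hbpow : ∀ (n : ℕ) (x : T),
        ((b : MulAut M) ^ n) (Subgroup.inclusion le_sup_left x) =
          Subgroup.inclusion le_sup_left ((a ^ n) x) := by
      intro n
      induction n with
      | zero => intro x; rfl
      | succ n ih =>
        intro x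
        rw [pow_succ', pow_succ', MulAut.mul_apply, MulAut.mul_apply, ih]
        exact Subtype.ext (hbT _)
    have hbA : (b : MulAut M) ∈ F.autGroup M := (mem_autGroup_iff F hMS).2 hb
    obtain ⟨k, r, hr, hbo⟩ := Nat.exists_eq_pow_mul_and_not_dvd
      (orderOf_pos (b : MulAut M)).ne' p (Fact.out : p.Prime).ne_one
    obtain ⟨j, hj⟩ := exists_pow_eq_self_of_coprime (x := a) (hco.symm.pow_left k)
    set β : MulAut M := (b : MulAut M) ^ (p ^ k * j) with hβ
    have hβco : (orderOf β).Coprime p := by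
      refine Nat.Coprime.coprime_dvd_left ?_ ((Fact.out : p.Prime).coprime_iff_not_dvd.2 hr).symm
      refine orderOf_dvd_of_pow_eq_one ?_
      rw [hβ, ← pow_mul, mul_right_comm, ← hbo, pow_mul, pow_orderOf_eq_one, one_pow]
    have hβF : β ∈ F.autGroup M := pow_mem hbA _
    refine ⟨β, hβF, fun x => ?_, fun c hc => ⟨hE.2.1 ?_, ?_⟩⟩
    · rw [hβ, hbpow, pow_mul, hj]
      rfl
    · exact Subgroup.subset_closure ⟨M, ⟨β, hβF⟩, c, hMS, Subgroup.subset_closure (by
        change (orderOf (⟨β, hβF⟩ : F.autGroup M)).Coprime p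
        rwa [Subgroup.orderOf_mk]), rfl⟩
    · refine Subgroup.mul_mem _ (Subgroup.inv_mem _ hc.2) fun y hy => ?_
      have hβT : ∀ x : T, β (Subgroup.inclusion le_sup_left x) =
          Subgroup.inclusion le_sup_left (a x) := fun x => by rw [hβ, hbpow, pow_mul, hj]
      obtain ⟨x, hx⟩ := a.surjective ⟨y, hy⟩
      have h1 : Subgroup.inclusion le_sup_left x * c = c * Subgroup.inclusion le_sup_left x :=
        Subtype.ext (hc.2 x x.2)
      have h2 := congrArg (fun m => ((β m : M) : Ω)) h1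
      simp only [map_mul, hβT, Subgroup.coe_mul, Subgroup.coe_inclusion, hx] at h2
      exact h2
  · intro a ha
    obtain ⟨g, hg, hge⟩ := mem_autInducedBy_iff.1 ha
    have hgn : g ∈ Subgroup.normalizer (M : Set Ω) :=
      le_normalizer_of_stronglyClosed hMcl (hTS hg)
    refine ⟨normAut g hgn,
      autInducedBy_le_autGroup hMS (mem_autInducedBy_iff.2 ⟨g, hTS hg, fun _ => rfl⟩),
      fun x => (hge x).symm, fun c hc => ?_⟩
    change (c : Ω)⁻¹ * (g * c * g⁻¹) ∈ _
    rw [hc.2 g hg, mul_inv_cancel_right, inv_mul_cancel]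
    exact one_mem _

end CfsgLib.Fusion
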