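import Cfsg.Agent.Lib.Fusion.ModelConstrained
import Cfsg.Agent.Lib.Fusion.Normal

/-!
# The subsystem induced by a normal subgroup
-/

set_option autoImplicit false

open Cfsg Cfsg.FusionSystem
open scoped Pointwise

namespace CfsgLib.Fusion

variable {Ω : Type*} [Group Ω] {S T : Subgroup Ω} {F : FusionSystem S} {E : FusionSystem T}
  {G : Type*} [Group G] {ι : S →* G} {N : Subgroup G} {p : ℕ} [Fact p.Prime]

/-- `E` is the subsystem of the realized system given by the subgroup `N`. -/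
def IsSubgroupSystem (ι : S →* G) (N : Subgroup G) {T : Subgroup Ω} (E : FusionSystem T) : Prop :=
  T = (N.comap ι).map S.subtype ∧ ∀ (P : Subgroup Ω) (φ : P →* Ω), φ ∈ E.Hom P ↔
    P ≤ T ∧ (∀ x, φ x ∈ T) ∧ ∀ (hP : P ≤ S) (hφ : ∀ x, φ x ∈ S),
      ∃ n ∈ N, ∀ x : P, ι ⟨φ x, hφ x⟩ = n * ι ⟨x, hP x.2⟩ * n⁻¹

theorem IsSubgroupSystem.le (hE : IsSubgroupSystem ι N E) : T ≤ S :=
  hE.1 ▸ Subgroup.map_subtype_le _

theorem IsSubgroupSystem.mem_iff (hE : IsSubgroupSystem ι N E) {x : Ω} (hx : x ∈ S) :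
    x ∈ T ↔ ι ⟨x, hx⟩ ∈ N := by
  rw [hE.1]
  constructor
  · rintro ⟨s, hs, rfl⟩
    exact hs
  · exact fun h => ⟨⟨x, hx⟩, h, rfl⟩

/-- The subsystem given by a subgroup, as a fusion system. -/
def subgroupSystem (hι : F.IsRealizedBy ι) (N : Subgroup G) :
    FusionSystem ((N.comap ι).map S.subtype) where
  Hom P := {φ | P ≤ (N.comap ι).map S.subtype ∧ (∀ x, φ x ∈ (N.comap ι).map S.subtype) ∧
    ∀ (hP : P ≤ S) (hφ : ∀ x, φ x ∈ S), ∃ n ∈ N, ∀ x : P, ι ⟨φ x, hφ x⟩ = n * ι ⟨x, hP x.2⟩ * n⁻¹}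
  le_of_mem h := ⟨h.1, h.2.1⟩
  injective_of_mem := by
    rintro P φ ⟨hP, hφ, h⟩
    obtain ⟨n, -, hn⟩ := h (hP.trans (Subgroup.map_subtype_le _))
      fun x => Subgroup.map_subtype_le _ (hφ x)
    intro a b hab
    have h1 := hn a
    simp only [hab] at h1
    rw [hn b] at h1
    have h2 := congrArg Subtype.val (hι.1 (mul_left_cancel (mul_right_cancel h1)))
    exact Subtype.ext h2.symm
  conj_mem := by
    intro P g hP hg
    obtain ⟨s, hs, rfl⟩ := hg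
    refine ⟨hP, fun x => ?_, fun hPS hφ => ⟨ι s, hs, fun x => ?_⟩⟩
    · exact Subgroup.mul_mem _ (Subgroup.mul_mem _ ⟨s, hs, rfl⟩ (hP x.2))
        (Subgroup.inv_mem _ ⟨s, hs, rfl⟩)
    · rw [← map_inv, ← map_mul, ← map_mul]
      rfl
  comp_mem := by
    rintro P Q φ ψ ⟨hP, hφ, h⟩ ⟨hQ, hψ, k⟩ hPQ
    refine ⟨hP, fun x => hψ _, fun hPS hφS => ?_⟩
    obtain ⟨n, hn, hne⟩ := h hPS fun x => Subgroup.map_subtype_le _ (hφ x)
    obtain ⟨m, hm, hme⟩ := k (hQ.trans (Subgroup.map_subtype_le _))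
      fun x => Subgroup.map_subtype_le _ (hψ x)
    refine ⟨m * n, N.mul_mem hm hn, fun x => ?_⟩
    refine (hme ⟨φ x, hPQ x⟩).trans ?_
    have h1 := hne x
    simp only at h1 ⊢
    rw [h1]
    group
  inv_mem := by
    rintro P φ ⟨hP, hφ, h⟩
    have hPS := hP.trans (Subgroup.map_subtype_le _)
    have hφS : ∀ x, φ x ∈ S := fun x => Subgroup.map_subtype_le _ (hφ x)
    obtain ⟨n, hn, hne⟩ := h hPS hφS
    obtain ⟨ψ, hψ, hψe⟩ := F.inv_mem ((hι.2 P hPS φ hφS).2 ⟨n, hne⟩)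
    refine ⟨ψ, ⟨?_, ?_, fun hR hψS => ⟨n⁻¹, N.inv_mem hn, ?_⟩⟩, hψe⟩
    · rintro _ ⟨x, rfl⟩; exact hφ x
    · rintro ⟨_, x, rfl⟩; rw [hψe]; exact hP x.2
    · rintro ⟨_, x, rfl⟩
      rw [show (⟨ψ ⟨φ x, ⟨x, rfl⟩⟩, hψS _⟩ : S) = ⟨x, hPS x.2⟩ from Subtype.ext (hψe x), hne]
      group

theorem isSubgroupSystem_subgroupSystem (hι : F.IsRealizedBy ι) (N : Subgroup G) :
    IsSubgroupSystem ι N (subgroupSystem hι N) :=
  ⟨rfl, fun _ _ => Iff.rfl⟩

theorem IsSubgroupSystem.isSubsystemOf (hι : F.IsRealizedBy ι) (hE : IsSubgroupSystem ι N E) :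
    E.IsSubsystemOf F := by
  intro P φ hφ
  obtain ⟨hP, hφT, h⟩ := (hE.2 P φ).1 hφ
  obtain ⟨n, -, hn⟩ := h (hP.trans hE.le) fun x => hE.le (hφT x)
  exact (hι.2 P (hP.trans hE.le) φ fun x => hE.le (hφT x)).2 ⟨n, hn⟩

theorem IsSubgroupSystem.stronglyClosed [hN : N.Normal] (hι : F.IsRealizedBy ι)
    (hE : IsSubgroupSystem ι N E) : F.StronglyClosed T := by
  refine ⟨hE.le, fun R hR φ hφ x => ?_⟩
  obtain ⟨g, hg⟩ := (hι.2 R (le_S F hφ) φ (apply_mem_S F hφ)).1 hφ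
  rw [hE.mem_iff (apply_mem_S F hφ x), hg]
  exact hN.conj_mem _ ((hE.mem_iff _).1 (hR x.2)) g

/-- The subsystem given by a normal subgroup is normal. -/
theorem IsSubgroupSystem.isNormalIn [Finite S] [Finite G] [hN : N.Normal] (hS : IsPGroup p S)
    (hι : F.IsRealizedBy ι) (P₀ : Sylow p G) (hP₀ : (P₀ : Subgroup G) = ι.range)
    (hE : IsSubgroupSystem ι N E) : E.IsNormalIn F p := by
  classical
  have hTS : T ≤ S := hE.le
  have := finite_of_le hTS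
  have hsc := hE.stronglyClosed hι
  have hiS : IsPGroup p ι.range := hP₀ ▸ P₀.2
  have hiS' : ¬ p ∣ ι.range.index := hP₀ ▸ P₀.not_dvd_index
  let T' : Subgroup G := ι.range ⊓ N
  have hT'N : T' ≤ N := inf_le_right
  have hT'p : IsPGroup p T' := hiS.to_le inf_le_left
  have hT'i : ¬ p ∣ T'.relIndex N :=
    not_dvd_relIndex_inf hiS le_top (by rwa [Subgroup.relIndex_top_right]) le_top
      (fun x _ => by rw [Subgroup.normalizer_eq_top N]; trivial)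
  have hT'mem : ∀ {x : Ω} (hx : x ∈ T), ι ⟨x, hTS hx⟩ ∈ T' :=
    fun hx => ⟨⟨_, rfl⟩, (hE.mem_iff _).1 hx⟩
  -- saturation
  have hEs : E.IsSaturated p := by
    let ιT : T →* N := (ι.comp (Subgroup.inclusion hTS)).codRestrict N fun x => (hE.mem_iff _).1 x.2
    have hinj : Function.Injective ιT := fun a b h =>
      Subgroup.inclusion_injective hTS (hι.1 (congrArg Subtype.val h))
    have hrange : ιT.range = T'.subgroupOf N := by
      ext ⟨y, hy⟩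
      constructor
      · rintro ⟨x, hx⟩
        rw [Subgroup.mem_subgroupOf]
        change y ∈ T'
        have h1 := hT'mem x.2
        rwa [show ι ⟨(x : Ω), hTS x.2⟩ = y from congrArg Subtype.val hx] at h1
      · rintro ⟨⟨s, rfl⟩, hs⟩
        exact ⟨⟨s, (hE.mem_iff s.2).2 hs⟩, Subtype.ext rfl⟩
    have hreal : E.IsRealizedBy ιT := by
      refine ⟨hinj, fun P hP φ hφ => ⟨fun h => ?_, ?_⟩⟩
      · obtain ⟨n, hn, hne⟩ := ((hE.2 P φ).1 h).2.2 (hP.trans hTS) fun x => hTS (hφ x)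
        exact ⟨⟨n, hn⟩, fun x => Subtype.ext (hne x)⟩
      · rintro ⟨n, hn⟩
        exact (hE.2 P φ).2 ⟨hP, hφ, fun _ _ => ⟨n, n.2, fun x => congrArg Subtype.val (hn x)⟩⟩
    obtain ⟨Q, hQ⟩ := (exists_sylow_iff (N := N) hT'p).2 hT'i
    exact isSaturated_of_isRealizedBy (hS.to_le hTS) hreal Q (hQ.trans hrange.symm)
  refine ⟨⟨hEs, isSaturated_of_isRealizedBy hS hι P₀ hP₀, hE.isSubsystemOf hι, hsc, ?_, ?_⟩, ?_⟩
  · intro P hPT φ hφ α hα
    obtain ⟨g, hg⟩ := (hι.2 T hTS _ fun x => hTS (α x).2).1 ((mem_autGroup_iff F hTS).1 hα)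
    simp only [MonoidHom.comp_apply, Subgroup.coe_subtype, MulEquiv.coe_toMonoidHom] at hg
    obtain ⟨-, hφT, h⟩ := (hE.2 P φ).1 hφ
    obtain ⟨n, hn, hne⟩ := h (hPT.trans hTS) fun x => hTS (hφT x)
    set P' := (P.subgroupOf T).map (T.subtype.comp α.toMonoidHom)
    have hP'T : P' ≤ T := by rintro _ ⟨z, -, rfl⟩; exact (α z).2
    have hconj : ∀ z : P', g * n * g⁻¹ * ι ⟨z, hTS (hP'T z.2)⟩ * (g * n * g⁻¹)⁻¹ ∈ ι.range := by
      rintro ⟨_, z, hz, rfl⟩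
      refine ⟨⟨α ⟨φ ⟨z, hz⟩, hφT _⟩, hTS (α _).2⟩, ?_⟩
      change ι _ = g * n * g⁻¹ * ι ⟨(α z : T), _⟩ * _
      rw [hg, hg, hne]
      group
    obtain ⟨χ, hχ, hχS, hχe⟩ := exists_map_of_conj hι (hP'T.trans hTS) hconj
    refine ⟨χ, (hE.2 _ _).2 ⟨hP'T, hsc.2 _ hP'T χ hχ, fun _ _ =>
      ⟨g * n * g⁻¹, hN.conj_mem n hn g, hχe⟩⟩, fun x hφx hαx => ?_⟩
    refine congrArg Subtype.val (hι.1 (a₁ := ⟨_, hχS _⟩) (a₂ := ⟨_, hTS (α _).2⟩) ?_)
    rw [hχe, hg, hg ⟨φ x, hφx⟩]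
    dsimp only
    rw [hne]
    group
  · intro P hPT φ hφ
    have hPS := hPT.trans hTS
    have hφS := apply_mem_S F hφ
    obtain ⟨g, hg⟩ := (hι.2 P hPS φ hφS).1 hφ
    obtain ⟨n, hn, hne⟩ := exists_conj_mem_of_le (p := p) (U := T'.map (MulAut.conj g).toMonoidHom)
      (hT'p.map _) hT'p (by rintro _ ⟨t, ht, rfl⟩; exact hN.conj_mem _ (hT'N ht) g) hT'N hT'i
    have hh : ∀ t ∈ T', n * g * t * (n * g)⁻¹ ∈ T' := by
      intro t ht
      have h1 : n * g * t * (n * g)⁻¹ = n * (g * t * g⁻¹) * n⁻¹ := by group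
      rw [h1]
      exact hne _ ⟨t, ht, rfl⟩
    obtain ⟨A, hA, hAS, hAe⟩ := exists_map_of_conj hι hTS (g := n * g)
      fun x => (inf_le_left : T' ≤ ι.range) (hh _ (hT'mem x.2))
    obtain ⟨α, hα, hαe⟩ := exists_iso_of_range hA
      (weaklyClosed_of_stronglyClosed hsc |>.2 A hA)
    have hαA : α ∈ F.autGroup T := (mem_autGroup_iff F hTS).2 hα
    have hinv := (hι.2 T hTS _ fun x => hTS ((α⁻¹ : MulAut T) x).2).1
      ((mem_autGroup_iff F hTS).1 (inv_mem hαA))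
    have hφT : ∀ x, φ x ∈ T := hsc.2 P hPT φ hφ
    let φ₀ : P →* Ω := (T.subtype.comp (α⁻¹ : MulAut T).toMonoidHom).comp (φ.codRestrict T hφT)
    refine ⟨α, hαA, φ₀, (hE.2 P φ₀).2 ⟨hPT, fun x => ((α⁻¹ : MulAut T) _).2, fun _ _ =>
      ⟨(n * g)⁻¹ * g, ?_, fun x => ?_⟩⟩, fun x hx => ?_⟩
    · rw [show (n * g)⁻¹ * g = g⁻¹ * n⁻¹ * g⁻¹⁻¹ by group]
      exact hN.conj_mem _ (N.inv_mem hn) g⁻¹
    · set y : T := (α⁻¹ : MulAut T) ⟨φ x, hφT x⟩
      have h1 : ι ⟨φ x, hφS x⟩ = n * g * ι ⟨y, hTS y.2⟩ * (n * g)⁻¹ := by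
        rw [← hAe]
        refine congrArg ι (Subtype.ext ?_)
        change φ x = A y
        rw [← hαe]
        exact congrArg Subtype.val (α.apply_symm_apply ⟨φ x, hφT x⟩).symm
      rw [hg] at h1
      change ι ⟨y, _⟩ = _
      calc ι ⟨y, hTS y.2⟩ = (n * g)⁻¹ * (n * g * ι ⟨y, hTS y.2⟩ * (n * g)⁻¹) * (n * g) := by group
        _ = _ := by rw [← h1]; group
    · exact congrArg Subtype.val (α.apply_symm_apply ⟨φ x, hφT x⟩).symm
  · intro α hα
    obtain ⟨n, hn, hne⟩ := ((hE.2 T _).1 ((mem_autGroup_iff E le_rfl).1 hα)).2.2 hTS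
      fun x => hTS (α x).2
    simp only [MonoidHom.comp_apply, Subgroup.coe_subtype, MulEquiv.coe_toMonoidHom] at hne
    have hnT : ∀ t ∈ T', n * t * n⁻¹ ∈ T' := by
      rintro _ ⟨⟨s, rfl⟩, hs⟩
      have hsT : (s : Ω) ∈ T := (hE.mem_iff s.2).2 hs
      rw [← hne ⟨s, hsT⟩]
      exact hT'mem (α ⟨s, hsT⟩).2
    have hnN : n ∈ Subgroup.normalizer (T' : Set G) := mem_normalizer_of_forall hnT
    have hTn : ι.range ≤ Subgroup.normalizer (T' : Set G) := by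
      intro s hs
      refine mem_normalizer_of_forall fun t ht => ⟨?_, hN.conj_mem _ ht.2 s⟩
      exact Subgroup.mul_mem _ (Subgroup.mul_mem _ hs ht.1) (Subgroup.inv_mem _ hs)
    set C : Subgroup G := Subgroup.centralizer (T' : Set G)
    set C' : Subgroup G := ι.range ⊓ C
    set W : Subgroup G := C' ⊔ N ⊓ C
    have hC'i : ¬ p ∣ C'.relIndex C := not_dvd_relIndex_inf hiS hTn
      (fun h => hiS' (by
        rw [← Subgroup.relIndex_mul_index hTn]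
        exact dvd_mul_of_dvd_left h _))
      (centralizer_le_normalizer' T') (normalizer_le_normalizer_centralizer T')
    have hWC : W ≤ C := sup_le inf_le_right inf_le_right
    have hC'W : C' ≤ W := le_sup_left
    have hWi : ¬ p ∣ C'.relIndex W := fun h => hC'i (by
      rw [← Subgroup.relIndex_mul_relIndex C' W C hC'W hWC]
      exact dvd_mul_of_dvd_left h _)
    have hC'p : IsPGroup p C' := hiS.to_le inf_le_left
    have hnC : ∀ c ∈ C, n * c * n⁻¹ ∈ C := fun c hc =>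
      conj_mem_of_mem_normalizer (normalizer_le_normalizer_centralizer T' hnN) hc
    obtain ⟨w, hw, hwe⟩ := exists_conj_mem_of_le (p := p) (U := C'.map (MulAut.conj n).toMonoidHom)
      (hC'p.map _) hC'p (by
        rintro _ ⟨c, hc, rfl⟩
        have h1 : n * c * n⁻¹ * c⁻¹ ∈ N ⊓ C :=
          ⟨by rw [show n * c * n⁻¹ * c⁻¹ = n * (c * n⁻¹ * c⁻¹) by group]
              exact N.mul_mem hn (hN.conj_mem _ (N.inv_mem hn) c),
            C.mul_mem (hnC c hc.2) (C.inv_mem hc.2)⟩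
        have h2 := W.mul_mem ((le_sup_right : N ⊓ C ≤ W) h1) (hC'W hc)
        rwa [inv_mul_cancel_right] at h2) hC'W hWi
    have hC'N : C' ≤ Subgroup.normalizer ((N ⊓ C : Subgroup G) : Set G) := by
      intro c hc
      refine mem_normalizer_of_forall fun z hz =>
        ⟨hN.conj_mem _ hz.1 c, C.mul_mem (C.mul_mem hc.2 hz.2) (C.inv_mem hc.2)⟩
    have hwmem : w ∈ ((C' : Set G) * ((N ⊓ C : Subgroup G) : Set G)) := by
      rw [← Subgroup.coe_mul_of_left_le_normalizer_right _ _ hC'N]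
      exact hw
    obtain ⟨c₀, hc₀, z, hz, rfl⟩ := hwmem
    have hzn : ∀ c ∈ C', z * n * c * (z * n)⁻¹ ∈ C' := by
      intro c hc
      have h1 := C'.mul_mem (C'.mul_mem (C'.inv_mem hc₀) (hwe _ ⟨c, hc, rfl⟩)) hc₀
      convert h1 using 1
      simp [mul_assoc]
    have hznN : z * n ∈ N := N.mul_mem hz.1 hn
    have hznT : ∀ t ∈ T', z * n * t * (z * n)⁻¹ = n * t * n⁻¹ := by
      intro t ht
      have h1 := Subgroup.mem_centralizer_iff.1 hz.2 _ (hnT t ht)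
      calc z * n * t * (z * n)⁻¹ = z * (n * t * n⁻¹) * z⁻¹ := by group
        _ = n * t * n⁻¹ * z * z⁻¹ := by rw [h1]
        _ = _ := by group
    have hCS : T ⊔ centralizerIn S T ≤ S := sup_le hTS (centralizerIn_le T)
    have hcen : ∀ c (hc : c ∈ centralizerIn S T), ι ⟨c, hc.1⟩ ∈ C' := by
      refine fun c hc => ⟨⟨_, rfl⟩, Subgroup.mem_centralizer_iff.2 ?_⟩
      rintro _ ⟨⟨s, rfl⟩, hs⟩
      rw [← map_mul, ← map_mul]
      exact congrArg ι (Subtype.ext (hc.2 (s : Ω) ((hE.mem_iff s.2).2 hs)))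
    set R := T ⊔ centralizerIn S T
    have hsup : ∀ x : R, z * n * ι ⟨x, hCS x.2⟩ * (z * n)⁻¹ ∈ imageAlong ι R := by
      intro x
      have hle : R ≤ ((imageAlong ι R).comap
          ((MulAut.conj (z * n)).toMonoidHom.comp ι)).map S.subtype := by
        refine sup_le (fun y hy => ⟨⟨y, hTS hy⟩, ?_, rfl⟩) fun y hy => ⟨⟨y, hy.1⟩, ?_, rfl⟩
        · change z * n * ι _ * (z * n)⁻¹ ∈ imageAlong ι R
          obtain ⟨⟨s, hs⟩, hsN⟩ := hnT _ (hT'mem hy)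
          rw [hznT _ (hT'mem hy), ← hs]
          exact apply_mem_imageAlong (le_sup_left (b := centralizerIn S T)
            ((hE.mem_iff s.2).2 (hs ▸ hsN)))
        · change z * n * ι _ * (z * n)⁻¹ ∈ imageAlong ι R
          obtain ⟨⟨s, hs⟩, hsC⟩ := hzn _ (hcen y hy)
          rw [← hs]
          refine apply_mem_imageAlong (le_sup_right (a := T) ⟨s.2, fun t ht => ?_⟩)
          have h1 := Subgroup.mem_centralizer_iff.1 hsC _ (hT'mem ht)
          rw [← hs, ← map_mul, ← map_mul] at h1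
          exact congrArg Subtype.val (hι.1 h1)
      obtain ⟨u, hu, hue⟩ := hle x.2
      rw [show (⟨x, hCS x.2⟩ : S) = u from Subtype.ext hue.symm]
      exact hu
    obtain ⟨B, hB, hBS, hBe⟩ := exists_map_of_conj hι hCS (g := z * n)
      fun x => Subgroup.map_le_range _ _ (hsup x)
    obtain ⟨β, hβ, hβe⟩ := exists_iso_of_range hB (Q := R) (by
      have := finite_of_le hCS
      refine Subgroup.eq_of_le_of_card_ge ?_
        (Nat.card_congr (MonoidHom.ofInjective (F.injective_of_mem hB)).toEquiv).le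
      rintro _ ⟨x, rfl⟩
      obtain ⟨u, hu, hue⟩ := hsup x
      rw [← hBe x] at hue
      rwa [SetLike.mem_coe, Subgroup.mem_subgroupOf, show (u : Ω) = B x from congrArg Subtype.val (hι.1 hue)] at hu)
    refine ⟨β, (mem_autGroup_iff F hCS).2 hβ, fun x => ?_, fun c hc => ?_⟩
    · rw [hβe]
      refine congrArg Subtype.val (hι.1 (a₁ := ⟨_, hBS _⟩) (a₂ := ⟨_, hTS (α x).2⟩) ?_)
      rw [hBe, hne]
      exact hznT _ (hT'mem x.2)
    · rw [hβe]
      have hBC : ι ⟨B c, hBS c⟩ ∈ C' := by rw [hBe]; exact hzn _ (hcen _ hc)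
      have hdS : (c : Ω)⁻¹ * B c ∈ S := S.mul_mem (S.inv_mem hc.1) (hBS c)
      refine ⟨(hE.mem_iff hdS).2 ?_, fun t ht => ?_⟩
      · change ι ((⟨c, hc.1⟩ : S)⁻¹ * ⟨B c, hBS c⟩) ∈ N
        rw [map_mul, map_inv, hBe]
        rw [show (ι ⟨c, hc.1⟩)⁻¹ * (z * n * ι ⟨c, hc.1⟩ * (z * n)⁻¹) =
          (ι ⟨c, hc.1⟩)⁻¹ * (z * n) * (ι ⟨c, hc.1⟩)⁻¹⁻¹ * (z * n)⁻¹ by group]
        exact N.mul_mem (hN.conj_mem _ hznN _) (N.inv_mem hznN)
      · have h1 : ι ⟨_, hdS⟩ ∈ C := by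
          change ι ((⟨c, hc.1⟩ : S)⁻¹ * ⟨B c, hBS c⟩) ∈ C
          rw [map_mul, map_inv]
          exact C.mul_mem (C.inv_mem (hcen _ hc).2) hBC.2
        have h2 := Subgroup.mem_centralizer_iff.1 h1 _ (hT'mem ht)
        rw [← map_mul, ← map_mul] at h2
        exact congrArg Subtype.val (hι.1 h2)

end CfsgLib.Fusion
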