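import Cfsg.Agent.Lib.Fusion.Puig
import Cfsg.Agent.Lib.Fusion.NormalSubgroupSystem

/-!
# Uniqueness of subsystems of `p`-power index
-/

set_option autoImplicit false

open Cfsg Cfsg.FusionSystem

namespace CfsgLib.Fusion

variable {Ω : Type*} [Group Ω] {S : Subgroup Ω} [Finite S] {F : FusionSystem S} {p : ℕ}
  [Fact p.Prime]

/-- Two saturated subsystems of `p`-power index over the same subgroup are equal: one direction. -/
theorem le_of_hasPPowerIndex (hS : IsPGroup p S) {T T' : Subgroup Ω} (hTT : T = T') (hTS : T ≤ S)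
    {E : FusionSystem T} {E' : FusionSystem T'} (hEs : E.IsSaturated p) (hE : E.IsSubsystemOf F)
    (hE' : E'.HasPPowerIndexIn F p) : ∀ P, E.Hom P ⊆ E'.Hom P := by
  subst hTT
  have := finite_of_le hTS
  have hT := hS.to_le hTS
  refine alperin hT hEs E' fun P hP => ?_
  have hPT : P ≤ T := by
    rcases hP with rfl | hP
    · exact le_rfl
    · exact hP.1.1
  have := finite_of_le hPT
  have hn : E.IsFullyNormalized P := by
    rcases hP with rfl | hP
    · exact isFullyNormalized_self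
    · exact hP.2.1
  obtain ⟨-, R, hR⟩ := (fullyAutomized_receptive_of_fullyNormalized hT hEs hn).1
  have hEF : E.autGroup P ≤ F.autGroup P := fun α hα =>
    (mem_autGroup_iff F (hPT.trans hTS)).2 (hE P ((mem_autGroup_iff E hPT).1 hα))
  have h1 : (pResidual p (E.autGroup P)).map (E.autGroup P).subtype ≤ E'.autGroup P := by
    rw [Subgroup.map_le_iff_le_comap, pResidual, Subgroup.closure_le]
    intro α hα
    refine hE'.2.2 P hPT ⟨⟨α, hEF α.2⟩, Subgroup.subset_closure ?_, rfl⟩
    change (orderOf (⟨(α : MulAut P), hEF α.2⟩ : F.autGroup P)).Coprime p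
    rw [Subgroup.orderOf_mk, Subgroup.orderOf_coe]
    exact hα
  intro α hα
  have htop := Transfer.pResidual_sup_sylow (G := E.autGroup P) R
  have h2 : (R : Subgroup (E.autGroup P)).map (E.autGroup P).subtype ≤ E'.autGroup P := by
    rw [hR]
    rintro _ ⟨β, hβ, rfl⟩
    exact autInducedBy_le_autGroup hPT hβ
  have h3 := Subgroup.map_mono (f := (E.autGroup P).subtype) htop.ge
  rw [Subgroup.map_sup, ← MonoidHom.range_eq_map, Subgroup.range_subtype] at h3
  exact (h3.trans (sup_le h1 h2)) hα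

theorem hom_eq_of_hasPPowerIndex (hS : IsPGroup p S) {T T' : Subgroup Ω} (hTT : T = T') (hTS : T ≤ S)
    {E : FusionSystem T} {E' : FusionSystem T'} (hEs : E.IsSaturated p) (hE's : E'.IsSaturated p)
    (hE : E.HasPPowerIndexIn F p) (hE' : E'.HasPPowerIndexIn F p) (P : Subgroup Ω) :
    E.Hom P = E'.Hom P :=
  Set.Subset.antisymm (le_of_hasPPowerIndex hS hTT hTS hEs hE.1 hE' P)
    (le_of_hasPPowerIndex hS hTT.symm (hTT ▸ hTS) hE's hE'.1 hE P)

/-- The subsystem of `O^p(G)` has `p`-power index. -/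
theorem fusionSystemOfSubgroup_pResidual {G : Type*} [Group G] [Finite G] (S : Sylow p G)
    (h : (S : Subgroup G) ⊓ pResidual p G ≤ pResidual p G) :
    (fusionSystemOfSubgroup (pResidual p G) ((S : Subgroup G) ⊓ pResidual p G) h).IsSaturated p ∧
      (fusionSystemOfSubgroup (pResidual p G) ((S : Subgroup G) ⊓ pResidual p G) h).HasPPowerIndexIn
        (groupFusionSystem (S : Subgroup G)) p := by
  set N := pResidual p G
  have : N.Normal := Transfer.pResidual_normal_inst
  set E := fusionSystemOfSubgroup N ((S : Subgroup G) ⊓ N) h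
  have hreal : (groupFusionSystem (S : Subgroup G)).IsRealizedBy (S : Subgroup G).subtype := by
    refine ⟨Subtype.coe_injective, fun P hP φ hφ => ⟨?_, ?_⟩⟩
    · rintro ⟨-, -, g, hg⟩; exact ⟨g, hg⟩
    · rintro ⟨g, hg⟩; exact ⟨hP, hφ, g, hg⟩
  have hsub : IsSubgroupSystem (S : Subgroup G).subtype N E := by
    refine ⟨?_, fun P φ => ⟨?_, ?_⟩⟩
    · ext x
      constructor
      · rintro ⟨h1, h2⟩; exact ⟨⟨x, h1⟩, h2, rfl⟩
      · rintro ⟨y, hy, rfl⟩; exact ⟨y.2, hy⟩
    · rintro ⟨hP, hφ, g, hg, hge⟩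
      exact ⟨hP, hφ, fun _ _ => ⟨g, hg, hge⟩⟩
    · rintro ⟨hP, hφ, h⟩
      obtain ⟨g, hg, hge⟩ := h (hP.trans inf_le_left) fun x => (hφ x).1
      exact ⟨hP, hφ, g, hg, hge⟩
  have hn := hsub.isNormalIn S.2 hreal S (Subgroup.range_subtype _).symm
  refine ⟨hn.1.1, hn.1.2.2.1, (hyperfocal_groupFusion S).le, fun P hP => ?_⟩
  have hPS : P ≤ (S : Subgroup G) := hP.trans inf_le_left
  rw [Subgroup.map_le_iff_le_comap, pResidual, Subgroup.closure_le]
  intro α hα
  obtain ⟨-, -, g, hg⟩ := (mem_autGroup_iff _ hPS).1 α.2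
  simp only [MonoidHom.coe_comp, Function.comp_apply, Subgroup.coe_subtype,
    MulEquiv.coe_toMonoidHom] at hg
  have hpow : ∀ (k : ℕ) (x : P), ((((α : MulAut P) ^ k) x : P) : G) = g ^ k * x * (g ^ k)⁻¹ := by
    intro k
    induction k with
    | zero => intro x; simp
    | succ k ih =>
      intro x
      rw [pow_succ', MulAut.mul_apply, pow_succ']
      refine (hg _).trans ?_
      rw [ih]
      group
  obtain ⟨a, r, hr, hgo⟩ := Nat.exists_eq_pow_mul_and_not_dvd (orderOf_pos g).ne' p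
    (Fact.out : p.Prime).ne_one
  have hα' : (orderOf (α : MulAut P)).Coprime p := by rwa [Subgroup.orderOf_coe]
  obtain ⟨j, hj⟩ := exists_pow_eq_self_of_coprime (x := (α : MulAut P))
    (Nat.Coprime.pow_left a hα'.symm)
  have hgN : g ^ (p ^ a * j) ∈ N := by
    refine Transfer.mem_pResidual_of_coprime (Nat.Coprime.coprime_dvd_left ?_
      (Transfer.coprime_of_not_dvd hr))
    refine orderOf_dvd_of_pow_eq_one ?_
    rw [← pow_mul, mul_right_comm, ← hgo, pow_mul, pow_orderOf_eq_one, one_pow]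
  refine (mem_autGroup_iff E hP).2 ⟨hP, fun x => hP ((α : MulAut P) x).2, g ^ (p ^ a * j), hgN,
    fun x => ?_⟩
  change (((α : MulAut P) x : P) : G) = _
  rw [← hpow, pow_mul, hj]

end CfsgLib.Fusion
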