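import Cfsg.Agent.Lib.Fusion.PPowerIndexNormal

/-!
# Index prime to `p` from the automizers of the centric subgroups
-/

set_option autoImplicit false

open Cfsg Cfsg.FusionSystem

namespace CfsgLib.Fusion

variable {Ω : Type*} [Group Ω] {S T : Subgroup Ω} [Finite S] {F : FusionSystem S} {p : ℕ}
  [Fact p.Prime]

/-- `D` contains the automorphisms of `p`-power order of the centric subgroups. -/
def ContainsCentricPElements (D : FusionSystem S) (F : FusionSystem S) (p : ℕ) : Prop :=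
  ∀ P : Subgroup Ω, F.IsCentric P → ∀ β ∈ F.autGroup P, (∃ k : ℕ, orderOf β = p ^ k) →
    β ∈ D.autGroup P

/-- The least system containing the automorphisms of `p`-power order of the centric subgroups. -/
def centricPElementSys (F : FusionSystem S) (p : ℕ) : FusionSystem S where
  Hom P := {φ | φ ∈ F.Hom P ∧ ∀ D : FusionSystem S, ContainsCentricPElements D F p → φ ∈ D.Hom P}
  le_of_mem := fun h => F.le_of_mem h.1
  injective_of_mem := fun h => F.injective_of_mem h.1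
  conj_mem := fun hP hg => ⟨F.conj_mem hP hg, fun D _ => D.conj_mem hP hg⟩
  comp_mem := by
    intro P Q φ ψ hφ hψ h
    exact ⟨F.comp_mem hφ.1 hψ.1 h, fun D hD => D.comp_mem (hφ.2 D hD) (hψ.2 D hD) h⟩
  inv_mem := by
    intro P φ hφ
    obtain ⟨ψ, hψ, hψe⟩ := F.inv_mem hφ.1
    refine ⟨ψ, ⟨hψ, fun D hD => ?_⟩, hψe⟩
    obtain ⟨θ, hθ, hθe⟩ := D.inv_mem (hφ.2 D hD)
    refine mem_of_eq rfl hθ ?_
    rintro ⟨_, x, rfl⟩
    rw [hψe]
    exact (hθe x).symm

theorem containsCentricPElements_centricPElementSys :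
    ContainsCentricPElements (centricPElementSys F p) F p := fun P hP β hβ hk =>
  (mem_autGroup_iff _ hP.1).2 ⟨(mem_autGroup_iff F hP.1).1 hβ, fun D hD =>
    (mem_autGroup_iff D hP.1).1 (hD P hP β hβ hk)⟩

/-- Centricity is preserved by conjugation. -/
theorem isCentric_of_isConj_centric {P Q : Subgroup Ω} (hP : F.IsCentric P) (h : F.IsConj P Q) :
    F.IsCentric Q :=
  ⟨le_right_of_isConj h, fun R hR => hP.2 R (isConj_trans h hR)⟩

/-- That system is invariant under transport along `Aut_F(S)`. -/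
theorem transportClosed_centricPElementSys :
    TransportClosed (centricPElementSys F p) F := by
  intro P hPT φ hφ α hα
  let im : Subgroup Ω → Subgroup Ω := fun P =>
    (P.subgroupOf S).map (S.subtype.comp α.toMonoidHom)
  have himT : ∀ P, im P ≤ S := fun P => by rintro _ ⟨x, -, rfl⟩; exact (α x).2
  have hmem : ∀ {P : Subgroup Ω} (hP : P ≤ S) (x : P), ((α ⟨x, hP x.2⟩ : S) : Ω) ∈ im P :=
    fun hP x => ⟨⟨x, hP x.2⟩, x.2, rfl⟩
  have hαF := (mem_autGroup_iff F le_rfl).1 hα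
  -- the system of maps whose transports lie in `E`
  let D : FusionSystem S :=
    { Hom := fun P => {φ | φ ∈ (centricPElementSys F p).Hom P ∧ ∃ χ ∈ (centricPElementSys F p).Hom (im P), ∀ (x : P) (hx : (x : Ω) ∈ S)
        (hαx : ((α ⟨x, hx⟩ : S) : Ω) ∈ im P) (hφx : φ x ∈ S),
          χ ⟨(α ⟨x, hx⟩ : S), hαx⟩ = ((α ⟨φ x, hφx⟩ : S) : Ω)}
      le_of_mem := fun {P φ} hφ => (centricPElementSys F p).le_of_mem hφ.1
      injective_of_mem := fun {P φ} hφ => (centricPElementSys F p).injective_of_mem hφ.1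
      conj_mem := fun {P g} hP hg => by
        refine ⟨(centricPElementSys F p).conj_mem hP hg, conjHom _ ((α ⟨g, hg⟩ : S) : Ω),
          (centricPElementSys F p).conj_mem (himT P) (α _).2, fun x hx hαx hφx => ?_⟩
        change ((α ⟨g, hg⟩ : S) : Ω) * ((α ⟨x, hx⟩ : S) : Ω) * ((α ⟨g, hg⟩ : S) : Ω)⁻¹ = _
        rw [show (⟨conjHom P g x, hφx⟩ : S) = ⟨g, hg⟩ * ⟨x, hx⟩ * (⟨g, hg⟩ : S)⁻¹ from
          Subtype.ext rfl, map_mul, map_mul, map_inv]
        rfl
      comp_mem := by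
        intro P Q φ ψ hφ hψ h
        obtain ⟨hφE, χ₁, hχ₁, he₁⟩ := hφ
        obtain ⟨hψE, χ₂, hχ₂, he₂⟩ := hψ
        have hr : ∀ y, χ₁ y ∈ im Q := by
          rintro ⟨_, ⟨⟨x, hxT⟩, hx, rfl⟩⟩
          have h1 := he₁ ⟨x, hx⟩ hxT ⟨⟨x, hxT⟩, hx, rfl⟩ (apply_mem_S (centricPElementSys F p) hφE _)
          change χ₁ ⟨((α ⟨x, hxT⟩ : S) : Ω), _⟩ ∈ im Q
          rw [h1]
          exact ⟨_, h ⟨x, hx⟩, rfl⟩
        refine ⟨(centricPElementSys F p).comp_mem hφE hψE h, _, (centricPElementSys F p).comp_mem hχ₁ hχ₂ hr, fun x hx hαx hφx => ?_⟩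
        have h1 := he₁ x hx hαx (apply_mem_S (centricPElementSys F p) hφE x)
        have h2 := he₂ ⟨φ x, h x⟩ (apply_mem_S (centricPElementSys F p) hφE x) ⟨_, h x, rfl⟩ hφx
        refine Eq.trans ?_ h2
        exact congrArg χ₂ (Subtype.ext h1)
      inv_mem := by
        intro P φ hφ
        obtain ⟨hφE, χ, hχ, he⟩ := hφ
        obtain ⟨ψ, hψ, hψe⟩ := (centricPElementSys F p).inv_mem hφE
        obtain ⟨θ, hθ, hθe⟩ := (centricPElementSys F p).inv_mem hχ
        have hP := le_S (centricPElementSys F p) hφE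
        have hr : im φ.range = χ.range := by
          ext y
          constructor
          · rintro ⟨w, ⟨x, hxw⟩, rfl⟩
            refine ⟨⟨_, hmem hP x⟩, ?_⟩
            rw [he x (hP x.2) (hmem hP x) (apply_mem_S (centricPElementSys F p) hφE x)]
            exact congrArg (fun t : S => ((α t : S) : Ω)) (Subtype.ext hxw)
          · rintro ⟨⟨_, ⟨⟨x, hxT⟩, hx, rfl⟩⟩, rfl⟩
            have h1 := he ⟨x, hx⟩ hxT ⟨⟨x, hxT⟩, hx, rfl⟩ (apply_mem_S (centricPElementSys F p) hφE _)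
            change χ ⟨((α ⟨x, hxT⟩ : S) : Ω), _⟩ ∈ im φ.range
            rw [h1]
            exact ⟨_, ⟨⟨x, hx⟩, rfl⟩, rfl⟩
        refine ⟨ψ, ⟨hψ, θ.comp (Subgroup.inclusion hr.le), mem_of_eq hr.symm hθ fun _ => rfl,
          ?_⟩, hψe⟩
        rintro ⟨_, x, rfl⟩ hx hαx hψx
        have h1 := he x (hP x.2) (hmem hP x) (apply_mem_S (centricPElementSys F p) hφE x)
        have h2 := hθe ⟨_, hmem hP x⟩
        have h3 : (⟨ψ ⟨φ x, ⟨x, rfl⟩⟩, hψx⟩ : S) = ⟨x, hP x.2⟩ := Subtype.ext (hψe x)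
        rw [h3]
        refine Eq.trans ?_ h2
        exact congrArg θ (Subtype.ext h1.symm) }
  suffices hD : ContainsCentricPElements D F p by
    obtain ⟨χ, hχ, he⟩ := (hφ.2 D hD).2
    exact ⟨χ, hχ, fun x hφx hαx => he x _ hαx hφx⟩
  intro R hR b hb hk
  have hRS := hR.1
  obtain ⟨e, he, hee⟩ := exists_iso_of_range (res_mem F hαF hRS)
    (show ((S.subtype.comp α.toMonoidHom).comp (Subgroup.inclusion hRS)).range = im R by
      ext y
      constructor
      · rintro ⟨x, rfl⟩; exact hmem hRS x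
      · rintro ⟨x, hx, rfl⟩; exact ⟨⟨x, hx⟩, rfl⟩)
  have hc : F.IsCentric (im R) := isCentric_of_isConj_centric hR (isConj_iff.2 ⟨e, he⟩)
  have hkc : ∃ k : ℕ, orderOf ((autEquiv he ⟨b, hb⟩ : F.autGroup (im R)) : MulAut (im R)) = p ^ k := by
    rw [Subgroup.orderOf_coe, MulEquiv.orderOf_eq, Subgroup.orderOf_mk]
    exact hk
  have hcE := (mem_autGroup_iff (centricPElementSys F p) (himT R)).1
    (containsCentricPElements_centricPElementSys (im R) hc _ (SetLike.coe_mem _) hkc)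
  refine mem_autGroup_of_mem (φ := R.subtype.comp b.toMonoidHom) _ ?_ fun x => rfl
  refine ⟨(mem_autGroup_iff _ hRS).1 (containsCentricPElements_centricPElementSys R hR b hb hk),
    _, hcE, fun x hx hαx hφx => ?_⟩
  change (((autEquiv he ⟨b, hb⟩ : F.autGroup (im R)) : MulAut (im R)) ⟨_, hαx⟩ : Ω) = _
  have h1 : (⟨((α ⟨x, hx⟩ : S) : Ω), hαx⟩ : im R) = e x := Subtype.ext (hee x).symm
  rw [h1, autEquiv_apply, MulEquiv.symm_apply_apply, hee]
  rfl

/-- The Frattini condition for that system. -/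
theorem frattini_centricPElementSys (hS : IsPGroup p S) (hF : F.IsSaturated p)
    {P : Subgroup Ω} {φ : P →* Ω} (hφ : φ ∈ F.Hom P) :
    ∃ α ∈ F.autGroup S, ∃ φ₀ ∈ (centricPElementSys F p).Hom P, ∀ (x : P) (hx : φ₀ x ∈ S),
      φ x = ((α ⟨φ₀ x, hx⟩ : S) : Ω) := by
  set E := centricPElementSys F p with hE
  have htr : TransportClosed E F := transportClosed_centricPElementSys
  let D : FusionSystem S :=
    { Hom := fun P => {φ | φ ∈ F.Hom P ∧ ∃ α ∈ F.autGroup S, ∃ φ₀ ∈ E.Hom P,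
        ∀ (x : P) (hx : φ₀ x ∈ S), φ x = ((α ⟨φ₀ x, hx⟩ : S) : Ω)}
      le_of_mem := fun {P φ} hφ => F.le_of_mem hφ.1
      injective_of_mem := fun {P φ} hφ => F.injective_of_mem hφ.1
      conj_mem := fun {P g} hP hg => by
        refine ⟨F.conj_mem hP hg, 1, one_mem _, conjHom P g, E.conj_mem hP hg, fun x hx => rfl⟩
      comp_mem := by
        intro P Q φ ψ hφ hψ h
        obtain ⟨hφF, α, hα, φ₀, hφ₀, hφe⟩ := hφ
        obtain ⟨hψF, β, hβ, ψ₀, hψ₀, hψe⟩ := hψ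
        obtain ⟨χ, hχ, hχe⟩ := htr Q (le_S F hψF) ψ₀ hψ₀ α⁻¹ (inv_mem hα)
        have hP₁ : ∀ x : P, φ₀ x ∈ (Q.subgroupOf S).map (S.subtype.comp (α⁻¹).toMonoidHom) :=
          fun x => ⟨⟨_, apply_mem_S F hφF x⟩, h x, by
            change ((α⁻¹ ⟨φ x, apply_mem_S F hφF x⟩ : S) : Ω) = φ₀ x
            rw [show (⟨_, apply_mem_S F hφF x⟩ : S) = α ⟨φ₀ x, apply_mem_S E hφ₀ x⟩ from
              Subtype.ext (hφe x _), MulAut.inv_apply_self]⟩
        refine ⟨F.comp_mem hφF hψF h, β * α, mul_mem hβ hα, χ.comp (φ₀.codRestrict _ hP₁),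
          E.comp_mem hφ₀ hχ hP₁, fun x hx => ?_⟩
        have h1 : φ₀ x = ((α⁻¹ ⟨φ x, apply_mem_S F hφF x⟩ : S) : Ω) := by
          rw [show (⟨_, apply_mem_S F hφF x⟩ : S) = α ⟨φ₀ x, apply_mem_S E hφ₀ x⟩ from
            Subtype.ext (hφe x _), MulAut.inv_apply_self]
        have h2 : χ.comp (φ₀.codRestrict _ hP₁) x =
            ((α⁻¹ ⟨ψ₀ ⟨φ x, h x⟩, apply_mem_S E hψ₀ _⟩ : S) : Ω) := by
          refine Eq.trans ?_ (hχe ⟨φ x, h x⟩ (apply_mem_S E hψ₀ _) (h1 ▸ hP₁ x))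
          exact congrArg χ (Subtype.ext h1)
        change ψ ⟨φ x, h x⟩ = _
        refine (hψe _ (apply_mem_S E hψ₀ _)).trans ?_
        rw [show (⟨_, hx⟩ : S) = α⁻¹ ⟨ψ₀ ⟨φ x, h x⟩, apply_mem_S E hψ₀ _⟩ from Subtype.ext h2,
          MulAut.mul_apply, MulAut.apply_inv_self]
      inv_mem := by
        intro P φ hφ
        obtain ⟨hφF, α, hα, φ₀, hφ₀, hφe⟩ := hφ
        obtain ⟨ψ, hψ, hψe⟩ := F.inv_mem hφF
        obtain ⟨θ, hθ, hθe⟩ := E.inv_mem hφ₀
        obtain ⟨χ, hχ, hχe⟩ := htr φ₀.range (range_le_S E hφ₀) θ hθ α hα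
        have hP := le_S F hφF
        have hmem : ∀ y : φ.range, (y : Ω) ∈
            (φ₀.range.subgroupOf S).map (S.subtype.comp α.toMonoidHom) := by
          rintro ⟨_, x, rfl⟩
          exact ⟨⟨φ₀ x, apply_mem_S E hφ₀ x⟩, ⟨x, rfl⟩, (hφe x _).symm⟩
        refine ⟨ψ, ⟨hψ, α⁻¹, inv_mem hα, χ.comp (φ.range.subtype.codRestrict _ hmem),
          res_mem E hχ (fun z hz => hmem ⟨z, hz⟩), ?_⟩, hψe⟩
        rintro ⟨_, x, rfl⟩ hy
        have h1 := hχe ⟨φ₀ x, x, rfl⟩ (by rw [hθe]; exact hP x.2)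
          ⟨⟨φ₀ x, apply_mem_S E hφ₀ x⟩, ⟨x, rfl⟩, rfl⟩
        have h2 : χ.comp (φ.range.subtype.codRestrict _ hmem) ⟨φ x, x, rfl⟩ =
            ((α ⟨(x : Ω), hP x.2⟩ : S) : Ω) := by
          refine Eq.trans (congrArg χ (Subtype.ext ?_)) (h1.trans ?_)
          · exact hφe x _
          · exact congrArg (fun t : S => ((α t : S) : Ω)) (Subtype.ext (hθe x))
        rw [show (⟨_, hy⟩ : S) = α ⟨(x : Ω), hP x.2⟩ from Subtype.ext h2, MulAut.inv_apply_self]
        exact hψe x }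
  suffices hle : F ≤ D from (hle P hφ).2
  refine alperin_induction hS hF D ?_ ?_
  · intro a ha
    exact mem_autGroup_of_mem (φ := S.subtype.comp a.toMonoidHom) _
      ⟨(mem_autGroup_iff F le_rfl).1 ha, a, ha, S.subtype, id_mem E le_rfl, fun x hx => rfl⟩
      fun x => rfl
  intro R hRlt hRn hind
  have hRS := hRlt.le
  have := finite_of_le hRS
  obtain ⟨⟨-, Y, hY⟩, hRr⟩ := fullyAutomized_receptive_of_fullyNormalized hS hF hRn
  have hext : ∀ β : MulAut R, β ∈ F.autGroup R → ∀ M : Subgroup Ω, R < M → M ≤ S →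
      M ≤ extender S R (R.subtype.comp β.toMonoidHom) → β ∈ D.autGroup R := by
    intro β hβ M hRM hMS hM
    have hβ' := (mem_autGroup_iff F hRS).1 hβ
    obtain ⟨ψ, hψ, hψe⟩ := exists_extension hRr hβ' hRM.le hM
    have := finite_of_le hMS
    have h := res_mem D (hind M (lt_of_not_ge fun h =>
      hRM.ne (Subgroup.eq_of_le_of_card_ge hRM.le h)) hψ) hRM.le
    exact (mem_autGroup_iff D hRS).2 (mem_of_eq rfl h fun x => (hψe x).symm)
  by_cases hRc : F.IsCentric R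
  · intro β hβ
    let O : Subgroup (F.autGroup R) := Subgroup.closure {a | ∃ k : ℕ, orderOf a = p ^ k}
    have hOn : O.Normal := by
      refine ⟨fun a ha b => ?_⟩
      have h1 : O ≤ O.comap (MulAut.conj b).toMonoidHom := (Subgroup.closure_le _).2 fun x hx => by
        obtain ⟨k, hk⟩ := hx
        exact Subgroup.subset_closure ⟨k, hk ▸ MulEquiv.orderOf_eq (MulAut.conj b) x⟩
      exact h1 ha
    have hOD : O ≤ (D.autGroup R).subgroupOf (F.autGroup R) := by
      refine (Subgroup.closure_le _).2 fun a ha => ?_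
      have h1 : (a : MulAut R) ∈ E.autGroup R :=
        containsCentricPElements_centricPElementSys R hRc _ a.2 (by rwa [Subgroup.orderOf_coe])
      exact mem_autGroup_of_mem (φ := R.subtype.comp (a : MulAut R).toMonoidHom) _
        ⟨(mem_autGroup_iff F hRS).1 a.2, 1, one_mem _, _, (mem_autGroup_iff E hRS).1 h1,
          fun x hx => rfl⟩ fun x => rfl
    have hYO : (Y : Subgroup (F.autGroup R)) ≤ O := by
      intro a ha
      obtain ⟨k, hk⟩ := IsPGroup.iff_orderOf.1 Y.2 ⟨a, ha⟩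
      exact Subgroup.subset_closure ⟨k, (Subgroup.orderOf_mk a ha).symm.trans hk⟩
    have hN : Subgroup.normalizer (Y : Set (F.autGroup R)) ≤
        (D.autGroup R).subgroupOf (F.autGroup R) := by
      intro a ha
      refine hext a a.2 (normalizerIn S R) (lt_normalizerIn hS hRlt) (normalizerIn_le R) ?_
      intro g hg
      refine mem_extender_iso_iff.2 ⟨hg.1, hg.2, ?_⟩
      have h1 : normAut g hg.2 ∈ autInducedBy S R :=
        mem_autInducedBy_iff.2 ⟨g, hg.1, fun _ => rfl⟩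
      have h2 := (Subgroup.mem_normalizer_iff.1 ha
        ⟨normAut g hg.2, autInducedBy_le_autGroup hRS h1⟩).1 (by rwa [hY, Subgroup.mem_subgroupOf])
      rw [hY, Subgroup.mem_subgroupOf] at h2
      convert h2 using 1
      exact MulEquiv.ext fun y => rfl
    have htop := Sylow.normalizer_sup_eq_top' Y hYO
    exact (sup_le hN hOD) (htop.ge (Subgroup.mem_top ⟨β, hβ⟩))
  · -- a noncentric fully normalized subgroup
    intro β hβ
    have hnc : ¬ centralizerIn S R ≤ R := by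
      intro h
      refine hRc ⟨hRS, fun Q hQ => ?_⟩
      obtain ⟨f, hl, hf, ψ, hψ, hψf, hψn⟩ :=
        exists_hom_normalizerIn_of_fullyNormalized hS hF hRn (isConj_symm hQ)
      intro c hc
      have hcN : c ∈ normalizerIn S Q := centralizerIn_le_normalizerIn Q hc
      have h1 : ψ ⟨c, hcN⟩ ∈ centralizerIn S R := by
        refine ⟨(hψn _).1, fun y hy => ?_⟩
        have h2 : (⟨c, hcN⟩ : normalizerIn S Q) * Subgroup.inclusion hl (f.symm ⟨y, hy⟩) =
            Subgroup.inclusion hl (f.symm ⟨y, hy⟩) * ⟨c, hcN⟩ :=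
          Subtype.ext (hc.2 _ (f.symm ⟨y, hy⟩).2).symm
        have h3 := congrArg ψ h2
        rw [map_mul, map_mul, hψf, MulEquiv.apply_symm_apply] at h3
        exact h3.symm
      have h4 := h h1
      have h5 : ψ ⟨c, hcN⟩ = ψ (Subgroup.inclusion hl (f.symm ⟨_, h4⟩)) := by
        rw [hψf, MulEquiv.apply_symm_apply]
      have h6 := congrArg Subtype.val (F.injective_of_mem hψ h5)
      change c = ((f.symm ⟨_, h4⟩ : Q) : Ω) at h6
      exact h6 ▸ (f.symm ⟨_, h4⟩).2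
    have hlt : R < R ⊔ centralizerIn S R :=
      lt_of_le_of_ne le_sup_left fun h => hnc (le_of_le_of_eq le_sup_right h.symm)
    have hM : centralizerIn S R ≤ extender S R (R.subtype.comp β.toMonoidHom) := by
      intro g hg
      have hgn : g ∈ Subgroup.normalizer (R : Set Ω) := mem_normalizer_of_forall_commute hg.2
      have h1 : normAut g hgn = 1 := MulEquiv.ext fun x => Subtype.ext (by
        change g * x * g⁻¹ = x
        rw [← hg.2 x x.2, mul_inv_cancel_right])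
      refine mem_extender_iso_iff.2 ⟨hg.1, hgn, ?_⟩
      rw [h1, map_one]
      exact one_mem _
    have hR' : R ≤ extender S R (R.subtype.comp β.toMonoidHom) :=
      le_extender ((mem_autGroup_iff F hRS).1 hβ)
    exact hext β hβ _ hlt (sup_le hRS (centralizerIn_le R)) (sup_le hR' hM)

/-- A subsystem containing the automorphisms of `p`-power order of the centric subgroups has index
prime to `p`, satisfies the Frattini condition and has the same centric subgroups. -/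
theorem index_prime_to_of_centric_pElements (hS : IsPGroup p S) (hF : F.IsSaturated p)
    {E : FusionSystem S} (hEF : E.IsSubsystemOf F) (h : ContainsCentricPElements E F p) :
    E.HasPrimeToPIndexIn F p ∧
      (∀ (P : Subgroup Ω) (φ : P →* Ω), φ ∈ F.Hom P → ∃ α ∈ F.autGroup S, ∃ φ₀ ∈ E.Hom P,
        ∀ (x : P) (hx : φ₀ x ∈ S), φ x = ((α ⟨φ₀ x, hx⟩ : S) : Ω)) ∧
      ∀ P : Subgroup Ω, E.IsCentric P ↔ F.IsCentric P := by
  set E₀ := centricPElementSys F p with hE₀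
  have hle : E₀.IsSubsystemOf E := fun P φ hφ => hφ.2 E h
  have hEF₀ : E₀.IsSubsystemOf F := fun P φ hφ => hφ.1
  have hfr : ∀ (P : Subgroup Ω) (φ : P →* Ω), φ ∈ F.Hom P → ∃ α ∈ F.autGroup S,
      ∃ φ₀ ∈ E₀.Hom P, ∀ (x : P) (hx : φ₀ x ∈ S), φ x = ((α ⟨φ₀ x, hx⟩ : S) : Ω) :=
    fun P φ hφ => frattini_centricPElementSys hS hF hφ
  have hinv : E₀.IsInvariantIn F :=
    ⟨hEF₀, ⟨le_rfl, fun _ _ _ hψ x => apply_mem_S F hψ x⟩, transportClosed_centricPElementSys,
      fun P _ φ hφ => hfr P φ hφ⟩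
  have hcc := conjClosed_of_isInvariantIn hinv
  refine ⟨⟨hEF, fun P hP => ?_⟩, fun P φ hφ => ?_, fun P => ⟨fun hP => ?_,
    isCentric_of_isSubsystemOf hEF⟩⟩
  · rw [Subgroup.map_le_iff_le_comap, Subgroup.closure_le]
    rintro β ⟨k, hk⟩
    refine autGroup_mono hle P ?_
    have := finite_of_le hP
    obtain ⟨R, hPR, hRn⟩ := exists_fullyNormalized F hP
    obtain ⟨e, he⟩ := isConj_iff.1 hPR
    have hβ' : ((autEquiv he β : F.autGroup R) : MulAut R) ∈ E₀.autGroup R := by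
      refine mem_autGroup_of_pow_eq_one hS hEF₀ hcc
        (fullyAutomized_receptive_of_fullyNormalized hS hF hRn).1 (SetLike.coe_mem _) (k := k) ?_
      rw [← hk, ← SubmonoidClass.coe_pow, ← map_pow, pow_orderOf_eq_one, map_one,
        OneMemClass.coe_one]
    obtain ⟨χ, hχ, hχe⟩ := hcc R R le_rfl hRn.1 _ ((mem_autGroup_iff E₀ hRn.1).1 hβ')
      (fun x => ((autEquiv he β : MulAut R) x).2) _ he.symm
    have hr : (R.subgroupOf R).map (P.subtype.comp e.symm.toMonoidHom) = P :=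
      (img_self _).trans (range_subtype_comp e.symm)
    refine (mem_autGroup_iff E₀ hP).2 (mem_of_eq hr hχ ?_)
    rintro ⟨_, y, hy, rfl⟩
    refine Eq.trans ?_ (hχe y _).symm
    change (((β : MulAut P) (e.symm y) : P) : Ω) =
      ((e.symm ((autEquiv he β : MulAut R) y) : P) : Ω)
    rw [autEquiv_apply, MulEquiv.symm_apply_apply]
  · obtain ⟨α, hα, φ₀, hφ₀, he⟩ := hfr P φ hφ
    exact ⟨α, hα, φ₀, hle P hφ₀, he⟩
  · refine ⟨hP.1, fun Q hQ c hc => ?_⟩
    obtain ⟨φ, hφ, rfl⟩ := hQ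
    obtain ⟨α, hα, φ₀, hφ₀, he⟩ := hfr P φ hφ
    have h1 := hP.2 φ₀.range ⟨φ₀, hle P hφ₀, rfl⟩
    have hc' : ((α⁻¹ ⟨c, hc.1⟩ : S) : Ω) ∈ centralizerIn S φ₀.range := by
      refine ⟨(α⁻¹ ⟨c, hc.1⟩).2, ?_⟩
      rintro _ ⟨x, rfl⟩
      have h2 := hc.2 (φ x) ⟨x, rfl⟩
      rw [he x (apply_mem_S _ hφ₀ x)] at h2
      have h3 : α ⟨φ₀ x, apply_mem_S _ hφ₀ x⟩ * ⟨c, hc.1⟩ =
          ⟨c, hc.1⟩ * α ⟨φ₀ x, apply_mem_S _ hφ₀ x⟩ := Subtype.ext h2
      have h4 := congrArg (fun t => ((α⁻¹ t : S) : Ω)) h3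
      simpa [map_mul] using h4
    obtain ⟨x, hx⟩ := h1 hc'
    refine ⟨x, (he x (apply_mem_S _ hφ₀ x)).trans ?_⟩
    rw [show (⟨φ₀ x, apply_mem_S _ hφ₀ x⟩ : S) = α⁻¹ ⟨c, hc.1⟩ from Subtype.ext hx,
      MulAut.apply_inv_self]

end CfsgLib.Fusion
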