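import Cfsg.Agent.Lib.Fusion.Transport
import Cfsg.Agent.Lib.Fusion.CentricPrimeToP

/-!
# Pulling a system back along an isomorphism; systems with a Frattini decomposition
-/

set_option autoImplicit false

open Cfsg Cfsg.FusionSystem

namespace CfsgLib.Fusion

variable {Ω Ω' : Type*} [Group Ω] [Group Ω'] {S : Subgroup Ω} {S' : Subgroup Ω'}

/-- The system corresponding to `E` under `ι`. -/
def pullSys (E : FusionSystem S') (ι : S →* Ω') (hι : Function.Injective ι)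
    (hr : ι.range = S') : FusionSystem S where
  Hom P := {φ | ∃ hP : P ≤ S, ∃ hφ : ∀ x, φ x ∈ S, ∃ ψ ∈ E.Hom (imageAlong ι P),
    ∀ x : P, ψ ⟨ι ⟨x, hP x.2⟩, apply_mem_imageAlong x.2⟩ = ι ⟨φ x, hφ x⟩}
  le_of_mem := fun ⟨hP, hφ, _⟩ => ⟨hP, hφ⟩
  injective_of_mem := by
    rintro P φ ⟨hP, hφ, ψ, hψ, he⟩ a b hab
    have h1 : ι ⟨φ a, hφ a⟩ = ι ⟨φ b, hφ b⟩ := congrArg ι (Subtype.ext hab)
    rw [← he, ← he] at h1
    have h2 := hι (congrArg Subtype.val (E.injective_of_mem hψ h1) :)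
    exact Subtype.ext (congrArg Subtype.val h2 :)
  conj_mem := fun {P g} hP hg => by
    refine ⟨hP, fun x => S.mul_mem (S.mul_mem hg (hP x.2)) (S.inv_mem hg),
      conjHom _ (ι ⟨g, hg⟩), E.conj_mem (hr ▸ Subgroup.map_le_range _ _) (hr.le ⟨_, rfl⟩),
      fun x => ?_⟩
    change ι ⟨g, hg⟩ * ι _ * (ι ⟨g, hg⟩)⁻¹ = ι _
    rw [← map_inv, ← map_mul, ← map_mul]
    rfl
  comp_mem := by
    rintro P Q φ₁ φ₂ ⟨hP, hφ₁, ψ₁, hψ₁, he₁⟩ ⟨hQ, hφ₂, ψ₂, hψ₂, he₂⟩ h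
    have hv : ∀ y, ψ₁ y ∈ imageAlong ι Q := by
      rintro ⟨_, z, hz, rfl⟩
      have h1 := he₁ ⟨z, hz⟩
      rw [h1]
      exact apply_mem_imageAlong (h ⟨z, hz⟩)
    refine ⟨hP, fun x => hφ₂ _, _, E.comp_mem hψ₁ hψ₂ hv, fun x => ?_⟩
    refine Eq.trans ?_ (he₂ ⟨φ₁ x, h x⟩)
    exact congrArg ψ₂ (Subtype.ext (he₁ x))
  inv_mem := by
    rintro P φ ⟨hP, hφ, ψ, hψ, he⟩
    obtain ⟨θ, hθ, hθe⟩ := E.inv_mem hψ
    have hinj : Function.Injective φ := fun a b hab => by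
      have h1 : ι ⟨φ a, hφ a⟩ = ι ⟨φ b, hφ b⟩ := congrArg ι (Subtype.ext hab)
      rw [← he, ← he] at h1
      have h2 := hι (congrArg Subtype.val (E.injective_of_mem hψ h1) :)
      exact Subtype.ext (congrArg Subtype.val h2 :)
    have hle : imageAlong ι φ.range ≤ ψ.range := by
      rintro _ ⟨z, ⟨x, hx⟩, rfl⟩
      refine ⟨⟨ι ⟨x, hP x.2⟩, apply_mem_imageAlong x.2⟩, ?_⟩
      rw [he]
      exact congrArg ι (Subtype.ext hx)
    let φ' : φ.range →* Ω := P.subtype.comp (MonoidHom.ofInjective hinj).symm.toMonoidHom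
    have hφ' : ∀ x : P, φ' ⟨φ x, x, rfl⟩ = x := fun x =>
      congrArg Subtype.val ((MonoidHom.ofInjective hinj).symm_apply_apply x)
    refine ⟨φ', ⟨by rintro _ ⟨x, rfl⟩; exact hφ x,
      fun y => hP ((MonoidHom.ofInjective hinj).symm y).2,
      θ.comp (Subgroup.inclusion hle), res_mem E hθ hle, ?_⟩, hφ'⟩
    rintro ⟨_, x, rfl⟩
    refine Eq.trans (congrArg θ (Subtype.ext ?_)) ((hθe ⟨ι ⟨x, hP x.2⟩, apply_mem_imageAlong x.2⟩).trans ?_)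
    · exact (he x).symm
    · exact congrArg ι (Subtype.ext (hφ' x).symm)

theorem transported_pullSys (E : FusionSystem S') (ι : S →* Ω') (hι : Function.Injective ι)
    (hr : ι.range = S') : Transported (pullSys E ι hι hr) E ι :=
  ⟨hι, hr, fun _ hP _ hφ => ⟨fun ⟨_, _, h⟩ => h, fun h => ⟨hP, hφ, h⟩⟩⟩

variable {F : FusionSystem S}

/-- The map of an automorphism of `T` into the ambient group. -/
abbrev autIncl {T : Subgroup Ω} (α : MulAut T) : T →* Ω := T.subtype.comp α.toMonoidHom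

theorem autIncl_injective {T : Subgroup Ω} (α : MulAut T) : Function.Injective (autIncl α) :=
  Subtype.val_injective.comp α.injective

theorem autIncl_range {T : Subgroup Ω} (α : MulAut T) : (autIncl α).range = T :=
  range_subtype_comp α

/-- The maps `α ∘ φ₀` with `α ∈ Aut_F(S)` and `φ₀` in a transport closed subsystem. -/
def frattiniSys (E : FusionSystem S) (F : FusionSystem S) (htr : TransportClosed E F) :
    FusionSystem S where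
  Hom P := {φ | φ ∈ F.Hom P ∧ ∃ α ∈ F.autGroup S, ∃ φ₀ ∈ E.Hom P,
    ∀ (x : P) (hx : φ₀ x ∈ S), φ x = ((α ⟨φ₀ x, hx⟩ : S) : Ω)}
  le_of_mem := fun {P φ} hφ => F.le_of_mem hφ.1
  injective_of_mem := fun {P φ} hφ => F.injective_of_mem hφ.1
  conj_mem := fun {P g} hP hg =>
    ⟨F.conj_mem hP hg, 1, one_mem _, conjHom P g, E.conj_mem hP hg, fun _ _ => rfl⟩
  comp_mem := by
    intro P Q φ ψ hφ hψ h
    obtain ⟨hφF, α, hα, φ₀, hφ₀, hφe⟩ := hφ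
    obtain ⟨hψF, β, hβ, ψ₀, hψ₀, hψe⟩ := hψ
    obtain ⟨χ, hχ, hχe⟩ := htr Q (le_S F hψF) ψ₀ hψ₀ α⁻¹ (inv_mem hα)
    have hP₁ : ∀ x : P, φ₀ x ∈ (Q.subgroupOf S).map (S.subtype.comp (α⁻¹).toMonoidHom) :=
      fun x => ⟨⟨_, apply_mem_S F hφF x⟩, h x, by
        change ((α⁻¹ ⟨φ x, apply_mem_S F hφF x⟩ : S) : Ω) = φ₀ x
        rw [show (⟨_, apply_mem_S F hφF x⟩ : S) = α ⟨φ₀ x, apply_mem_S E hφ₀ x⟩ from
          Subtype.ext (hφe x _), MulAut.inv_apply_self]⟩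
    refine ⟨F.comp_mem hφF hψF h, β * α, mul_mem hβ hα, χ.comp (φ₀.codRestrict _ hP₁),
      E.comp_mem hφ₀ hχ hP₁, fun x hx => ?_⟩
    have h1 : φ₀ x = ((α⁻¹ ⟨φ x, apply_mem_S F hφF x⟩ : S) : Ω) := by
      rw [show (⟨_, apply_mem_S F hφF x⟩ : S) = α ⟨φ₀ x, apply_mem_S E hφ₀ x⟩ from
        Subtype.ext (hφe x _), MulAut.inv_apply_self]
    have h2 : χ.comp (φ₀.codRestrict _ hP₁) x =
        ((α⁻¹ ⟨ψ₀ ⟨φ x, h x⟩, apply_mem_S E hψ₀ _⟩ : S) : Ω) := by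
      refine Eq.trans ?_ (hχe ⟨φ x, h x⟩ (apply_mem_S E hψ₀ _) (h1 ▸ hP₁ x))
      exact congrArg χ (Subtype.ext h1)
    change ψ ⟨φ x, h x⟩ = _
    refine (hψe _ (apply_mem_S E hψ₀ _)).trans ?_
    rw [show (⟨_, hx⟩ : S) = α⁻¹ ⟨ψ₀ ⟨φ x, h x⟩, apply_mem_S E hψ₀ _⟩ from Subtype.ext h2,
      MulAut.mul_apply, MulAut.apply_inv_self]
  inv_mem := by
    intro P φ hφ
    obtain ⟨hφF, α, hα, φ₀, hφ₀, hφe⟩ := hφ
    obtain ⟨ψ, hψ, hψe⟩ := F.inv_mem hφF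
    obtain ⟨θ, hθ, hθe⟩ := E.inv_mem hφ₀
    obtain ⟨χ, hχ, hχe⟩ := htr φ₀.range (range_le_S E hφ₀) θ hθ α hα
    have hP := le_S F hφF
    have hmem : ∀ y : φ.range, (y : Ω) ∈
        (φ₀.range.subgroupOf S).map (S.subtype.comp α.toMonoidHom) := by
      rintro ⟨_, x, rfl⟩
      exact ⟨⟨φ₀ x, apply_mem_S E hφ₀ x⟩, ⟨x, rfl⟩, (hφe x _).symm⟩
    refine ⟨ψ, ⟨hψ, α⁻¹, inv_mem hα, χ.comp (φ.range.subtype.codRestrict _ hmem),
      res_mem E hχ (fun z hz => hmem ⟨z, hz⟩), ?_⟩, hψe⟩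
    rintro ⟨_, x, rfl⟩ hy
    have h1 := hχe ⟨φ₀ x, x, rfl⟩ (by rw [hθe]; exact hP x.2)
      ⟨⟨φ₀ x, apply_mem_S E hφ₀ x⟩, ⟨x, rfl⟩, rfl⟩
    have h2 : χ.comp (φ.range.subtype.codRestrict _ hmem) ⟨φ x, x, rfl⟩ =
        ((α ⟨(x : Ω), hP x.2⟩ : S) : Ω) := by
      refine Eq.trans (congrArg χ (Subtype.ext ?_)) (h1.trans ?_)
      · exact hφe x _
      · exact congrArg (fun t : S => ((α t : S) : Ω)) (Subtype.ext (hθe x))
    rw [show (⟨_, hy⟩ : S) = α ⟨(x : Ω), hP x.2⟩ from Subtype.ext h2, MulAut.inv_apply_self]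
    exact hψe x

end CfsgLib.Fusion
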