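import Cfsg.Agent.Lib.Fusion.MaximalCentralized
import Cfsg.Agent.Lib.Fusion.PPowerIndexExists
import Cfsg.Agent.Lib.Fusion.PPowerIndexNormal
import Cfsg.Agent.Lib.Fusion.PPowerIndexUnique
import Cfsg.Agent.Lib.Fusion.PullSystem
import Cfsg.Agent.Lib.Fusion.FunctorGeneration

/-!
# The centralizer of a normal subsystem
-/

set_option autoImplicit false

open Cfsg Cfsg.FusionSystem

namespace CfsgLib.Fusion

variable {Ω : Type*} [Group Ω] {S T : Subgroup Ω} [Finite S] {F : FusionSystem S}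
  {E : FusionSystem T} {p : ℕ} [Fact p.Prime]

omit [Finite S] in
/-- A power of order prime to `p` with the same restriction. -/
theorem exists_coprime_power_extending {M P : Subgroup Ω} [Finite M] (hPM : P ≤ M) {α : MulAut P}
    {β : MulAut M}
    (he : ∀ x : P, β (Subgroup.inclusion hPM x) = Subgroup.inclusion hPM (α x))
    (hco : (orderOf α).Coprime p) :
    ∃ n : ℕ, (orderOf (β ^ n)).Coprime p ∧
      ∀ x : P, (β ^ n) (Subgroup.inclusion hPM x) = Subgroup.inclusion hPM (α x) := by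
  have hpow : ∀ (n : ℕ) (x : P),
      (β ^ n) (Subgroup.inclusion hPM x) = Subgroup.inclusion hPM ((α ^ n) x) := by
    intro n
    induction n with
    | zero => intro x; rfl
    | succ n ih =>
      intro x
      rw [pow_succ', pow_succ', MulAut.mul_apply, MulAut.mul_apply, ih, he]
  obtain ⟨k, r, hr, hbo⟩ := Nat.exists_eq_pow_mul_and_not_dvd (orderOf_pos β).ne' p
    (Fact.out : p.Prime).ne_one
  obtain ⟨j, hj⟩ := exists_pow_eq_self_of_coprime (x := α) (hco.symm.pow_left k)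
  refine ⟨p ^ k * j, ?_, fun x => ?_⟩
  · refine Nat.Coprime.coprime_dvd_left ?_ ((Fact.out : p.Prime).coprime_iff_not_dvd.2 hr).symm
    refine orderOf_dvd_of_pow_eq_one ?_
    rw [← pow_mul, mul_right_comm, ← hbo, pow_mul, pow_orderOf_eq_one, one_pow]
  · rw [hpow, pow_mul, hj]

omit [Finite S] in
theorem pow_apply_of_fixed_on {M A : Subgroup Ω} {β : MulAut M}
    (h : ∀ x : M, (x : Ω) ∈ A → β x = x) (n : ℕ) :
    ∀ x : M, (x : Ω) ∈ A → (β ^ n) x = x := by
  induction n with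
  | zero => intro x _; rfl
  | succ n ih => intro x hx; rw [pow_succ', MulAut.mul_apply, ih x hx, h x hx]

/-- A map on the join of two strongly closed subgroups has the same image. -/
theorem range_eq_sup_of_stronglyClosed {A B : Subgroup Ω} (hA : F.StronglyClosed A)
    (hB : F.StronglyClosed B) {φ : ↥(A ⊔ B) →* Ω} (hφ : φ ∈ F.Hom (A ⊔ B)) :
    φ.range = A ⊔ B := by
  have hS := range_le_S F hφ
  have := finite_of_le hS
  refine (Subgroup.eq_of_le_of_card_ge (sup_le ?_ ?_) ?_).symm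
  · exact (img_stronglyClosed_eq hA hφ le_sup_left).ge.trans (img_le_range _ _)
  · exact (img_stronglyClosed_eq hB hφ le_sup_right).ge.trans (img_le_range _ _)
  · exact (Nat.card_congr (MonoidHom.ofInjective (F.injective_of_mem hφ)).toEquiv).ge

theorem isFullyNormalized_sup_of_stronglyClosed {A B : Subgroup Ω} (hA : F.StronglyClosed A)
    (hB : F.StronglyClosed B) : F.IsFullyNormalized (A ⊔ B) := by
  refine ⟨sup_le hA.1 hB.1, fun Q hQ => ?_⟩
  obtain ⟨φ, hφ, rfl⟩ := hQ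
  rw [range_eq_sup_of_stronglyClosed hA hB hφ]

/-- The centralizer system of a strongly closed subgroup is saturated. -/
theorem isFullyCentralized_of_stronglyClosed (hT : F.StronglyClosed T) :
    F.IsFullyCentralized T := ⟨hT.1, fun Q hQ => by
  obtain ⟨φ, hφ, rfl⟩ := hQ
  rw [(weaklyClosed_of_stronglyClosed hT).2 φ hφ]⟩

/-- A weakly normal subsystem is normal when the elements of order prime to `p` extend
suitably. -/
theorem isNormalIn_of_coprime_extensions (hS : IsPGroup p S) (hE : E.IsWeaklyNormalIn F p)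
    (hgen : ∀ a ∈ E.autGroup T, (orderOf a).Coprime p →
      ∃ β ∈ F.autGroup (T ⊔ centralizerIn S T),
        (∀ x : T, ((β (Subgroup.inclusion le_sup_left x) : ↥(T ⊔ centralizerIn S T)) : Ω) =
          ((a x : T) : Ω)) ∧
        ∀ c : ↥(T ⊔ centralizerIn S T), (c : Ω) ∈ centralizerIn S T →
          (c : Ω)⁻¹ * ((β c : ↥(T ⊔ centralizerIn S T)) : Ω) ∈
            T ⊓ Subgroup.centralizer (T : Set Ω)) :
    E.IsNormalIn F p := by
  obtain ⟨hEs, hF, hinv⟩ := hE
  have hT := hinv.2.1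
  have hTS := hT.1
  refine ⟨⟨hEs, hF, hinv⟩, ?_⟩
  have := finite_of_le hTS
  set M := T ⊔ centralizerIn S T with hM
  have hMcl := stronglyClosed_sup_centralizerIn hS hF hT
  have hMS : M ≤ S := hMcl.1
  have := finite_of_le hMS
  let X : Subgroup (MulAut T) :=
    { carrier := {α | ∃ β ∈ F.autGroup M,
        (∀ x : T, ((β (Subgroup.inclusion le_sup_left x) : M) : Ω) = ((α x : T) : Ω)) ∧
        ∀ c : M, (c : Ω) ∈ centralizerIn S T →
          (c : Ω)⁻¹ * ((β c : M) : Ω) ∈ T ⊓ Subgroup.centralizer (T : Set Ω)}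
      one_mem' := ⟨1, one_mem _, fun _ => rfl, fun c _ => by simp⟩
      mul_mem' := by
        rintro a b ⟨β, hβ, hβT, hβC⟩ ⟨γ, hγ, hγT, hγC⟩
        refine ⟨β * γ, mul_mem hβ hγ, fun x => ?_, fun c hc => ?_⟩
        · rw [MulAut.mul_apply, show γ (Subgroup.inclusion le_sup_left x) =
            Subgroup.inclusion le_sup_left (b x) from Subtype.ext (hγT x), hβT, MulAut.mul_apply]
        · have h1 := hγC c hc
          have h2 : ((γ c : M) : Ω) ∈ centralizerIn S T := by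
            have := (centralizerIn S T).mul_mem hc ⟨hTS h1.1, h1.2⟩
            rwa [mul_inv_cancel_left] at this
          have h3 := mul_mem h1 (hβC (γ c) h2)
          rw [mul_assoc, mul_inv_cancel_left] at h3
          exact h3
      inv_mem' := by
        rintro a ⟨β, hβ, hβT, hβC⟩
        refine ⟨β⁻¹, inv_mem hβ, fun x => ?_, fun c hc => ?_⟩
        · have h1 : β (Subgroup.inclusion le_sup_left (a⁻¹ x)) = Subgroup.inclusion le_sup_left x :=
            Subtype.ext (by rw [hβT, MulAut.apply_inv_self]; rfl)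
          rw [← h1, MulAut.inv_apply_self]
          rfl
        · have hcC : ((β⁻¹ c : M) : Ω) ∈ centralizerIn S T := by
            refine ⟨hMS (β⁻¹ c).2, fun y hy => ?_⟩
            have h1 : β (Subgroup.inclusion le_sup_left ⟨y, hy⟩ * β⁻¹ c) =
                β (β⁻¹ c * Subgroup.inclusion le_sup_left ⟨y, hy⟩) := by
              rw [map_mul, map_mul, MulAut.apply_inv_self]
              refine Subtype.ext ?_
              rw [Subgroup.coe_mul, Subgroup.coe_mul, hβT]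
              exact hc.2 _ (a ⟨y, hy⟩).2
            exact congrArg Subtype.val (β.injective h1)
          have h2 := inv_mem (hβC (β⁻¹ c) hcC)
          rwa [MulAut.apply_inv_self, mul_inv_rev, inv_inv] at h2 }
  suffices hX : E.autGroup T ≤ X from fun α hα => hX hα
  refine autGroup_le_of_coprime_of_induced (hS.to_le hTS) hEs isFullyNormalized_self
    (fun a ha hco => hgen a ha hco) ?_
  intro a ha
  obtain ⟨g, hg, hge⟩ := mem_autInducedBy_iff.1 ha
  have hgn : g ∈ Subgroup.normalizer (M : Set Ω) :=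
    le_normalizer_of_stronglyClosed hMcl (hTS hg)
  refine ⟨normAut g hgn,
    autInducedBy_le_autGroup hMS (mem_autInducedBy_iff.2 ⟨g, hTS hg, fun _ => rfl⟩),
    fun x => (hge x).symm, fun c hc => ?_⟩
  change (c : Ω)⁻¹ * (g * c * g⁻¹) ∈ _
  rw [hc.2 g hg, mul_inv_cancel_right, inv_mul_cancel]
  exact one_mem _

variable {Y : Subgroup Ω}

/-- An automorphism of `Y T` carries maps centralizing `T` to such. -/
theorem centralizerHom_transport (hT : F.StronglyClosed T) (hYC : Y ≤ centralizerIn S T)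
    {e : MulAut ↥(Y ⊔ T)} (he : e ∈ F.autGroup (Y ⊔ T)) {Q Q' : Subgroup Ω} (hQ : Q ≤ Y)
    (hQ' : Q' ≤ Y) {φ : Q →* Ω} (hφ : φ ∈ F.centralizerHom T Q) (hφY : ∀ x, φ x ∈ Y)
    {φ' : Q' →* Ω} (hφ'Y : ∀ x, φ' x ∈ Y)
    (hrel : ∀ x' : Q', ∃ x : Q, (e ⟨x, Subgroup.mem_sup_left (hQ x.2)⟩ : Ω) = x' ∧
      φ' x' = e ⟨φ x, Subgroup.mem_sup_left (hφY x)⟩) :
    φ' ∈ F.centralizerHom T Q' := by
  obtain ⟨-, -, -, ψ, hψ, hψe, hψT⟩ := hφ
  have hTS := hT.1
  have hYS : Y ≤ S := hYC.trans (centralizerIn_le T)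
  have hNS : Y ⊔ T ≤ S := sup_le hYS hTS
  have heF := (mem_autGroup_iff F hNS).1 he
  have heiF := (mem_autGroup_iff F hNS).1 (inv_mem he)
  have hle' : Q' ⊔ T ≤ Y ⊔ T := sup_le_sup_right hQ' T
  have hback : ∀ z : ↥(Q' ⊔ T), ((e⁻¹ (Subgroup.inclusion hle' z) : ↥(Y ⊔ T)) : Ω) ∈ Q ⊔ T := by
    intro z
    have hcl : Q' ⊔ T ≤ ((Q ⊔ T).comap
        ((Y ⊔ T).subtype.comp (e⁻¹).toMonoidHom)).map (Y ⊔ T).subtype := by
      refine sup_le (fun y hy => ⟨⟨y, hle' (Subgroup.mem_sup_left hy)⟩, ?_, rfl⟩)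
        fun t ht => ⟨⟨t, Subgroup.mem_sup_right ht⟩, ?_, rfl⟩
      · obtain ⟨x, hx, -⟩ := hrel ⟨y, hy⟩
        refine Subgroup.mem_sup_left ?_
        change ((e⁻¹ ⟨y, _⟩ : ↥(Y ⊔ T)) : Ω) ∈ Q
        rw [show (⟨y, hle' (Subgroup.mem_sup_left hy)⟩ : ↥(Y ⊔ T)) =
          e ⟨x, Subgroup.mem_sup_left (hQ x.2)⟩ from Subtype.ext hx.symm, MulAut.inv_apply_self]
        exact x.2
      · exact Subgroup.mem_sup_right (apply_mem_of_mem_stronglyClosed hT heiF
          (x := ⟨t, Subgroup.mem_sup_right ht⟩) ht)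
    obtain ⟨u, hu, huz⟩ := hcl z.2
    change (((Y ⊔ T).subtype.comp (e⁻¹).toMonoidHom) (Subgroup.inclusion hle' z)) ∈ _
    rw [← show u = Subgroup.inclusion hle' z from Subtype.ext huz]
    exact hu
  have hψv : ∀ z, ψ z ∈ Y ⊔ T :=
    apply_mem_sup hψe hφY (img_eq_of_forall_fixed le_sup_right hψT).le
  let Φ : ↥(Q' ⊔ T) →* Ω := ((Y ⊔ T).subtype.comp e.toMonoidHom).comp
    ((ψ.comp (((((Y ⊔ T).subtype.comp (e⁻¹).toMonoidHom).comp (Subgroup.inclusion hle'))).codRestrict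
      _ hback)).codRestrict _ fun z => hψv _)
  have hΦ : Φ ∈ F.Hom (Q' ⊔ T) :=
    F.comp_mem (F.comp_mem (res_mem F heiF hle') hψ hback) heF fun z => hψv _
  have hΦQ : ∀ x : Q', Φ (Subgroup.inclusion le_sup_left x) = φ' x := by
    intro x'
    obtain ⟨x, hx, hx'⟩ := hrel x'
    rw [hx']
    refine congrArg (fun u => (e u : Ω)) (Subtype.ext ?_)
    refine Eq.trans (congrArg ψ (Subtype.ext ?_)) (hψe x)
    change ((e⁻¹ ⟨(x' : Ω), _⟩ : ↥(Y ⊔ T)) : Ω) = x
    rw [show (⟨(x' : Ω), hle' (Subgroup.mem_sup_left x'.2)⟩ : ↥(Y ⊔ T)) =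
      e ⟨x, Subgroup.mem_sup_left (hQ x.2)⟩ from Subtype.ext hx.symm, MulAut.inv_apply_self]
  refine ⟨mem_of_eq rfl (res_mem F hΦ le_sup_left) fun x => (hΦQ x).symm, hQ'.trans hYC,
    fun x => hYC (hφ'Y x), Φ, hΦ, hΦQ, fun t => ?_⟩
  have hu := apply_mem_of_mem_stronglyClosed hT heiF
    (x := ⟨(t : Ω), Subgroup.mem_sup_right t.2⟩) t.2
  change (e ⟨ψ ⟨((e⁻¹ ⟨(t : Ω), _⟩ : ↥(Y ⊔ T)) : Ω), _⟩, _⟩ : Ω) = t
  refine Eq.trans (congrArg (fun u => (e u : Ω)) (Subtype.ext ?_ : _ = e⁻¹ ⟨(t : Ω),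
    Subgroup.mem_sup_right t.2⟩)) (congrArg Subtype.val (MulAut.apply_inv_self _ e _))
  exact hψT ⟨_, hu⟩

/-- The hyperfocal subgroup of the centralizer system lies in `Y`. -/
theorem hyperfocal_centSys_le (hS : IsPGroup p S) (hE : E.IsNormalIn F p) (hTS : T ≤ S)
    (hmax : ∀ Y' : Subgroup Ω, Y' ≤ centralizerIn S T →
      (∀ P : Subgroup Ω, E.Hom P ⊆ F.centralizerHom Y' P) → Y' ≤ Y) :
    (centSys F T rfl hTS).hyperfocalSubgroup p ≤ Y := by
  have hT := hE.1.2.2.2.1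
  refine (Subgroup.closure_le _).2 ?_
  rintro _ ⟨P, α, x, hP, hα, rfl⟩
  let A : Subgroup (MulAut P) :=
    { carrier := {β | ∀ x : P, (x : Ω)⁻¹ * (β x : Ω) ∈ Y}
      one_mem' := fun x => by simp
      mul_mem' := fun {a b} ha hb x => by
        have h1 := Y.mul_mem (hb x) (ha (b x))
        simpa [mul_assoc] using h1
      inv_mem' := fun {a} ha x => by
        have h1 := Y.inv_mem (ha (a⁻¹ x))
        simpa using h1 }
  suffices hA : (α : MulAut P) ∈ A from hA x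
  refine (Subgroup.closure_le (A.subgroupOf ((centSys F T rfl hTS).autGroup P))).2 ?_ hα
  intro b hb y
  have hb' : (b : MulAut P) ∈ (centSys F T rfl hTS).autGroup P := b.2
  obtain ⟨-, -, -, ψ, hψ, hψe, hψT⟩ := (mem_autGroup_iff _ hP).1 hb'
  have hPS : P ≤ S := hP.trans (centralizerIn_le T)
  have hMS : P ⊔ T ≤ S := sup_le hPS hTS
  have := finite_of_le hMS
  have hr : ψ.range = P ⊔ T := by
    rw [range_ext_eq hψe, img_eq_of_forall_fixed le_sup_right hψT, range_subtype_comp]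
  obtain ⟨β₀, hβ₀, hβ₀e⟩ := exists_iso_of_range hψ hr
  have hfix : ∀ z : ↥(P ⊔ T), (z : Ω) ∈ T → β₀ z = z := fun z hz =>
    Subtype.ext ((hβ₀e z).trans (hψT ⟨z, hz⟩))
  obtain ⟨n, hnco, hne⟩ := exists_coprime_power_extending (p := p) (le_sup_left : P ≤ P ⊔ T)
    (α := (b : MulAut P)) (β := β₀) (fun z => Subtype.ext ((hβ₀e _).trans (hψe z))) (by
      rw [Subgroup.orderOf_coe]; exact hb)
  have hyC : (y : Ω) ∈ centralizerIn S T := hP y.2
  have hM : P ⊔ T ≤ T ⊔ centralizerIn S T := sup_le (hP.trans le_sup_right) le_sup_left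
  have hcent := hom_subset_centralizerHom_commutator hS hE le_sup_right hM
    (pow_mem ((mem_autGroup_iff F hMS).2 hβ₀) n) (pow_apply_of_fixed_on hfix n) hnco
    (c := Subgroup.inclusion le_sup_left y) hyC
  rw [hne] at hcent
  refine hmax _ (Subgroup.zpowers_le.2 ?_) hcent (Subgroup.mem_zpowers _)
  exact (centralizerIn S T).mul_mem ((centralizerIn S T).inv_mem hyC) (hP ((b : MulAut P) y).2)

/-- **The centralizer of a normal subsystem.** -/
theorem IsMaxCentralized.exists_normal_centralizer (h : IsMaxCentralized F E Y)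
    (hS : IsPGroup p S) (hE : E.IsNormalIn F p) :
    ∃ D : FusionSystem Y, D.IsNormalIn F p ∧ ∀ P, D.Hom P ⊆ F.centralizerHom T P := by
  have hwn := hE.1
  obtain ⟨hEs, hF, hinv⟩ := hE.1
  have hT := hinv.2.1
  have hTS := hT.1
  have hYC := h.hY
  have hYS : Y ≤ S := hYC.trans (centralizerIn_le T)
  have := finite_of_le hYS
  have hCS := centralizerIn_le (S := S) T
  have := finite_of_le hCS
  have hCp := hS.to_le hCS
  have hCT : (centSys F T rfl hTS).IsSaturated p :=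
    isSaturated_centSys hS hF rfl hTS (isFullyCentralized_of_stronglyClosed hT)
  obtain ⟨D, hDs, hDp⟩ := exists_saturated_pPowerIndex hCp hCT hYC (hyperfocal_centSys_le hS hE hTS h.hmax)
  have hYn := h.le_normalizer hinv
  have hDC := isNormalIn_of_hasPPowerIndex hCp hCT hYC (hCS.trans hYn) hDs hDp
  have hYcl := h.stronglyClosed hS hwn
  have hNS : Y ⊔ T ≤ S := sup_le hYS hTS
  have hDF : D.IsSubsystemOf F := fun P φ hφ => (hDp.1 P hφ).1
  -- automorphisms of `Y` extend to `Y T`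
  have hlift : ∀ α ∈ F.autGroup Y, ∃ e ∈ F.autGroup (Y ⊔ T), ∀ y : Y,
      ((e (Subgroup.inclusion le_sup_left y) : ↥(Y ⊔ T)) : Ω) = ((α y : Y) : Ω) := by
    intro α hα
    obtain ⟨ψ, hψ, hψe⟩ :=
      h.exists_extension_sup hS hwn le_rfl ((mem_autGroup_iff F hYS).1 hα)
    obtain ⟨e, he, hee⟩ := exists_iso_of_range hψ (range_eq_sup_of_stronglyClosed hYcl hT hψ)
    exact ⟨e, (mem_autGroup_iff F hNS).2 he, fun y => (hee _).trans (hψe y)⟩
  have htr : TransportClosed D F := by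
    intro P hPY φ hφ α hα
    obtain ⟨e, he, hee⟩ := hlift α hα
    set K := pullSys D (autIncl α) (autIncl_injective α) (autIncl_range α) with hK
    have hYp := hS.to_le hYS
    have hKs : K.IsSaturated p := (transported_pullSys D _ _ _).isSaturated hYp hDs
    have hQα : ∀ Q, imageAlong (autIncl α) Q ≤ Y := fun Q =>
      (Subgroup.map_le_range _ _).trans (autIncl_range α).le
    have heinv : ∀ y : Y,
        e⁻¹ (Subgroup.inclusion le_sup_left (α y)) = Subgroup.inclusion le_sup_left y := fun y => by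
      rw [show Subgroup.inclusion le_sup_left (α y) = e (Subgroup.inclusion le_sup_left y) from
        Subtype.ext (hee y).symm, MulAut.inv_apply_self]
    have hKC : K.IsSubsystemOf (centSys F T rfl hTS) := by
      rintro Q φ ⟨hQ, hφY, ψ, hψ, hψe⟩
      refine centralizerHom_transport hT hYC (inv_mem he) (hQα Q) hQ (hDp.1 _ hψ)
        (apply_mem_S D hψ) hφY fun x => ?_
      refine ⟨⟨autIncl α ⟨x, hQ x.2⟩, apply_mem_imageAlong x.2⟩, ?_, ?_⟩
      · exact congrArg Subtype.val (heinv ⟨x, hQ x.2⟩)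
      · refine Eq.trans (congrArg Subtype.val (heinv ⟨φ x, hφY x⟩)).symm ?_
        exact congrArg (fun u => ((e⁻¹ u : ↥(Y ⊔ T)) : Ω)) (Subtype.ext (hψe x).symm)
    have hKp : K.HasPPowerIndexIn (centSys F T rfl hTS) p := by
      refine ⟨hKC, hDp.2.1, fun Q hQ => ?_⟩
      rw [Subgroup.map_le_iff_le_comap, pResidual, Subgroup.closure_le]
      intro β hβ
      set f := imageEquiv (autIncl_injective α) hQ
      have hβ' : MulAut.congr f (β : MulAut Q) ∈
          (centSys F T rfl hTS).autGroup (imageAlong (autIncl α) Q) := by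
        refine (mem_autGroup_iff _ ((hQα Q).trans hYC)).2 ?_
        refine centralizerHom_transport hT hYC he hQ (hQα Q)
          ((mem_autGroup_iff _ (hQ.trans hYC)).1 β.2) (fun x => hQ ((β : MulAut Q) x).2)
          (fun y => hQα Q (MulAut.congr f (β : MulAut Q) y).2) fun y => ?_
        refine ⟨f.symm y, ?_, ?_⟩
        · refine (hee ⟨_, hQ (f.symm y).2⟩).trans ?_
          exact congrArg Subtype.val (f.apply_symm_apply y)
        · exact (hee ⟨_, hQ ((β : MulAut Q) (f.symm y)).2⟩).symm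
      have hβD : MulAut.congr f (β : MulAut Q) ∈ D.autGroup (imageAlong (autIncl α) Q) :=
        mem_autGroup_of_coprime_pPowerIndex hDp (hQα Q) hβ' (by
          rw [MulEquiv.orderOf_eq, Subgroup.orderOf_coe]
          exact hβ)
      refine (mem_autGroup_iff K hQ).2 ⟨hQ, fun x => hQ ((β : MulAut Q) x).2, _,
        (mem_autGroup_iff D (hQα Q)).1 hβD, fun x => ?_⟩
      change ((f ((β : MulAut Q) (f.symm (f x))) : imageAlong (autIncl α) Q) : Ω) = _
      rw [MulEquiv.symm_apply_apply]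
      rfl
    have h3 := hom_eq_of_hasPPowerIndex hCp rfl hYC hKs hDs hKp hDp P
    rw [← h3] at hφ
    obtain ⟨hP', hφY, ψ, hψ, hψe⟩ := hφ
    exact ⟨ψ, hψ, fun x hφx hαx => hψe x⟩
  have hfr : ∀ (P : Subgroup Ω), P ≤ Y → ∀ (φ : P →* Ω), φ ∈ F.Hom P →
      ∃ α ∈ F.autGroup Y, ∃ φ₀ ∈ D.Hom P, ∀ (x : P) (hx : φ₀ x ∈ Y),
        φ x = ((α ⟨φ₀ x, hx⟩ : Y) : Ω) := by
    intro P hP φ hφ
    have hφY : ∀ x, φ x ∈ Y := hYcl.2 P hP φ hφ
    obtain ⟨ψ, hψ, hψe⟩ := h.exists_extension_sup hS hwn hP hφ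
    obtain ⟨a, ha, hae⟩ := exists_iso_of_range (res_mem F hψ (le_sup_right : T ≤ P ⊔ T))
      ((weaklyClosed_of_stronglyClosed hT).2 _ (res_mem F hψ le_sup_right))
    obtain ⟨β, hβ, hβa⟩ := exists_aut_extension hS hF hT ((mem_autGroup_iff F hTS).2 ha)
    have hMS : T ⊔ centralizerIn S T ≤ S := sup_le hTS hCS
    have hβF := (mem_autGroup_iff F hMS).1 hβ
    have hYM : Y ≤ T ⊔ centralizerIn S T := hYC.trans le_sup_right
    have hrY : (((T ⊔ centralizerIn S T).subtype.comp β.toMonoidHom).comp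
        (Subgroup.inclusion hYM)).range = Y :=
      (range_comp_inclusion _ hYM).trans (Subgroup.eq_of_le_of_card_ge
        (h.img_le hinv hβF le_sup_left hYM le_rfl) (card_img (F.injective_of_mem hβF) hYM).ge)
    obtain ⟨α, hα, hαe⟩ := exists_iso_of_range (res_mem F hβF hYM) hrY
    have hαA : (α : MulAut Y) ∈ F.autGroup Y := (mem_autGroup_iff F hYS).2 hα
    let φ₁ : P →* Ω := (Y.subtype.comp ((α : MulAut Y)⁻¹).toMonoidHom).comp (φ.codRestrict Y hφY)
    have hφ₁F : φ₁ ∈ F.Hom P :=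
      F.comp_mem hφ ((mem_autGroup_iff F hYS).1 (inv_mem hαA)) hφY
    have hψM : ∀ z, ψ z ∈ T ⊔ centralizerIn S T := fun z => by
      refine sup_le hYM le_sup_left (apply_mem_sup hψe hφY ?_ z)
      exact (img_stronglyClosed_eq hT hψ le_sup_right).le
    let Φ : ↥(P ⊔ T) →* Ω := ((T ⊔ centralizerIn S T).subtype.comp (β⁻¹).toMonoidHom).comp
      (ψ.codRestrict _ hψM)
    have hφ₁C : φ₁ ∈ (centSys F T rfl hTS).Hom P := by
      refine ⟨hφ₁F, hP.trans hYC, fun x => hYC (((α : MulAut Y)⁻¹ ⟨φ x, hφY x⟩).2), Φ,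
        F.comp_mem hψ ((mem_autGroup_iff F hMS).1 (inv_mem hβ)) hψM, fun x => ?_, fun t => ?_⟩
      · change ((β⁻¹ ⟨ψ (Subgroup.inclusion le_sup_left x), _⟩ :
          ↥(T ⊔ centralizerIn S T)) : Ω) = (((α : MulAut Y)⁻¹ ⟨φ x, hφY x⟩ : Y) : Ω)
        have h1 : β (Subgroup.inclusion hYM ((α : MulAut Y)⁻¹ ⟨φ x, hφY x⟩)) =
            ⟨ψ (Subgroup.inclusion le_sup_left x), hψM _⟩ := Subtype.ext (by
          refine (hαe _).symm.trans (Eq.trans ?_ (hψe x).symm)
          exact congrArg Subtype.val (MulAut.apply_inv_self Y α ⟨φ x, hφY x⟩))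
        rw [← h1, MulAut.inv_apply_self]
        rfl
      · change ((β⁻¹ ⟨ψ (Subgroup.inclusion le_sup_right t), _⟩ :
          ↥(T ⊔ centralizerIn S T)) : Ω) = t
        have h1 : β (Subgroup.inclusion le_sup_left t) =
            ⟨ψ (Subgroup.inclusion le_sup_right t), hψM _⟩ :=
          Subtype.ext ((hβa t).trans (hae t))
        rw [← h1, MulAut.inv_apply_self]
        rfl
    obtain ⟨γ, hγ, φ₀, hφ₀, he₀⟩ := hDC.1.2.2.2.2.2 P hP φ₁ hφ₁C
    have hγF : γ ∈ F.autGroup Y :=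
      (mem_autGroup_iff F hYS).2 ((mem_autGroup_iff (centSys F T rfl hTS) hYC).1 hγ).1
    refine ⟨(α : MulAut Y) * γ, mul_mem hαA hγF, φ₀, hφ₀, fun x hx => ?_⟩
    rw [MulAut.mul_apply, ← show (α : MulAut Y)⁻¹ ⟨φ x, hφY x⟩ = γ ⟨φ₀ x, hx⟩ from
      Subtype.ext (he₀ x hx)]
    exact (congrArg Subtype.val (MulAut.apply_inv_self Y α ⟨φ x, hφY x⟩)).symm
  have hDwn : D.IsWeaklyNormalIn F p := ⟨hDs, hF, hDF, hYcl, htr, hfr⟩
  refine ⟨D, isNormalIn_of_coprime_extensions hS hDwn fun b hb hco => ?_, hDp.1⟩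
  -- the extension property
  obtain ⟨-, -, -, ψ, hψ, hψe, hψT⟩ := hDp.1 Y ((mem_autGroup_iff D le_rfl).1 hb)
  obtain ⟨e, he, hee⟩ := exists_iso_of_range hψ (range_eq_sup_of_stronglyClosed hYcl hT hψ)
  have heY : ∀ y : Y, (e (Subgroup.inclusion le_sup_left y) : Ω) = ((b y : Y) : Ω) := fun y =>
    (hee _).trans (hψe y)
  have heT : ∀ t : T, (e (Subgroup.inclusion le_sup_right t) : Ω) = t := fun t =>
    (hee _).trans (hψT t)
  have hTY : T ≤ centralizerIn S Y := fun t ht =>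
    ⟨hTS ht, fun y hy => ((hYC hy).2 t ht).symm⟩
  have hNM : Y ⊔ T ≤ Y ⊔ centralizerIn S Y := sup_le_sup_left hTY Y
  have hext : Y ⊔ centralizerIn S Y ≤
      extender S (Y ⊔ T) ((Y ⊔ T).subtype.comp e.toMonoidHom) := by
    refine sup_le ((le_sup_left : Y ≤ Y ⊔ T).trans (le_extender he)) fun g hg => ?_
    have hgT := mem_normalizer_of_stronglyClosed hT hg.1
    have := finite_of_le hNS
    have hgN : g ∈ Subgroup.normalizer ((Y ⊔ T : Subgroup Ω) : Set Ω) := by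
      refine mem_normalizer_of_forall fun z hz => ?_
      suffices hle : Y ⊔ T ≤ (Y ⊔ T).comap (MulAut.conj g).toMonoidHom from hle hz
      exact sup_le (fun y hy => Subgroup.mem_sup_left (conj_mem_of_mem_normalizer (hYn hg.1) hy))
        fun t ht => Subgroup.mem_sup_right (conj_mem_of_mem_normalizer hgT ht)
    refine mem_extender_iff.2 ⟨hg.1, hgN, g, hg.1, fun x => ?_⟩
    let f₁ : ↥(Y ⊔ T) →* Ω := ((Y ⊔ T).subtype.comp e.toMonoidHom).comp
      (normAut g hgN).toMonoidHom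
    let f₂ : ↥(Y ⊔ T) →* Ω := (MulAut.conj g).toMonoidHom.comp
      ((Y ⊔ T).subtype.comp e.toMonoidHom)
    have hle : Y ⊔ T ≤ (f₁.eqLocus f₂).map (Y ⊔ T).subtype := by
      refine sup_le (fun y hy => ⟨⟨y, Subgroup.mem_sup_left hy⟩, ?_, rfl⟩)
        fun t ht => ⟨⟨t, Subgroup.mem_sup_right ht⟩, ?_, rfl⟩
      · change (e (normAut g hgN ⟨y, _⟩) : Ω) = g * (e ⟨y, _⟩ : Ω) * g⁻¹
        rw [show normAut g hgN ⟨y, Subgroup.mem_sup_left hy⟩ = ⟨y, Subgroup.mem_sup_left hy⟩ from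
          Subtype.ext (by
            change g * y * g⁻¹ = y
            rw [← hg.2 y hy, mul_inv_cancel_right])]
        have h1 := heY ⟨y, hy⟩
        change (e ⟨y, _⟩ : Ω) = _ at h1
        rw [h1, ← hg.2 _ (b ⟨y, hy⟩).2, mul_inv_cancel_right]
      · change (e (normAut g hgN ⟨t, _⟩) : Ω) = g * (e ⟨t, _⟩ : Ω) * g⁻¹
        refine (heT ⟨g * t * g⁻¹, conj_mem_of_mem_normalizer hgT ht⟩).trans ?_
        exact congrArg (fun u => g * u * g⁻¹) (heT ⟨t, ht⟩).symm
    obtain ⟨u, hu, hux⟩ := hle x.2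
    rw [show u = x from Subtype.ext hux] at hu
    exact hu
  obtain ⟨χ, hχ, hχe⟩ := exists_extension
    (fullyAutomized_receptive_of_fullyNormalized hS hF
      (isFullyNormalized_sup_of_stronglyClosed hYcl hT)).2 he hNM hext
  have hMcl := stronglyClosed_sup_centralizerIn hS hF hYcl
  have hMS := hMcl.1
  have := finite_of_le hMS
  obtain ⟨β₀, hβ₀, hβ₀e⟩ := exists_iso_of_range hχ ((weaklyClosed_of_stronglyClosed hMcl).2 χ hχ)
  have hβ₀Y : ∀ y : Y, β₀ (Subgroup.inclusion le_sup_left y) =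
      Subgroup.inclusion le_sup_left (b y) := fun y =>
    Subtype.ext ((hβ₀e _).trans ((hχe (Subgroup.inclusion le_sup_left y)).trans (heY y)))
  have hβ₀T : ∀ z : ↥(Y ⊔ centralizerIn S Y), (z : Ω) ∈ T → β₀ z = z := fun z hz =>
    Subtype.ext ((hβ₀e _).trans ((hχe (Subgroup.inclusion le_sup_right ⟨(z : Ω), hz⟩)).trans
      (heT ⟨(z : Ω), hz⟩)))
  obtain ⟨n, hnco, hne⟩ := exists_coprime_power_extending (p := p)
    (le_sup_left : Y ≤ Y ⊔ centralizerIn S Y) (β := (β₀ : MulAut _)) hβ₀Y hco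
  have hfix := pow_apply_of_fixed_on (β := (β₀ : MulAut _)) hβ₀T n
  have hβA : (β₀ : MulAut _) ^ n ∈ F.autGroup (Y ⊔ centralizerIn S Y) :=
    pow_mem ((mem_autGroup_iff F hMS).2 hβ₀) n
  generalize (β₀ : MulAut _) ^ n = β at hnco hne hfix hβA
  refine ⟨β, hβA, fun y => congrArg Subtype.val (hne y), fun c hc => ?_⟩
  have hβC : ∀ {d : ↥(Y ⊔ centralizerIn S Y)}, (d : Ω) ∈ centralizerIn S Y →
      ((β d : ↥(Y ⊔ centralizerIn S Y)) : Ω) ∈ centralizerIn S Y := fun {d} hd =>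
    apply_mem_centralizerIn_of_ext hYS (a := b) (fun y => congrArg Subtype.val (hne y)) hd
  set w := (c : Ω)⁻¹ * ((β c : ↥(Y ⊔ centralizerIn S Y)) : Ω) with hw
  have hwY' : w ∈ centralizerIn S Y :=
    (centralizerIn S Y).mul_mem ((centralizerIn S Y).inv_mem hc) (hβC hc)
  have hwC : w ∈ centralizerIn S T := by
    refine ⟨hwY'.1, fun t ht => ?_⟩
    have h1 := conj_mem_of_mem_normalizer (mem_normalizer_of_stronglyClosed hT hc.1) ht
    have h2 : c * (⟨t, le_sup_right (a := Y) (hTY ht)⟩ : ↥(Y ⊔ centralizerIn S Y)) =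
        ⟨(c : Ω) * t * (c : Ω)⁻¹, le_sup_right (a := Y) (hTY h1)⟩ * c := Subtype.ext (by simp)
    have h3 := congrArg (fun z => ((β z : ↥(Y ⊔ centralizerIn S Y)) : Ω)) h2
    simp only [map_mul, Subgroup.coe_mul] at h3
    rw [hfix ⟨t, le_sup_right (a := Y) (hTY ht)⟩ ht,
      hfix ⟨(c : Ω) * t * (c : Ω)⁻¹, le_sup_right (a := Y) (hTY h1)⟩ h1] at h3
    simp only [hw]
    calc t * ((c : Ω)⁻¹ * (β c : Ω))
        = (c : Ω)⁻¹ * ((c : Ω) * t * (c : Ω)⁻¹ * (β c : Ω)) := by group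
      _ = (c : Ω)⁻¹ * ((β c : Ω) * t) := by rw [h3]
      _ = (c : Ω)⁻¹ * (β c : Ω) * t := by group
  -- commutators of `C_{Y C_S(Y)}(T)` lie in `Y`
  set W := (T ⊔ centralizerIn S T) ⊓ (Y ⊔ centralizerIn S Y) with hWdef
  have hTC := stronglyClosed_sup_centralizerIn hS hF hT
  obtain ⟨δ, hδ, hδco, hδe⟩ := exists_coprime_restrict (P := W) hMS inf_le_right hβA
    (fun x => ⟨fun hx => ⟨autGroup_apply_mem hTC hβA hx.1, (β x).2⟩, fun hx => ⟨by
      have := autGroup_apply_mem hTC (inv_mem hβA) (x := β x) hx.1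
      rwa [MulAut.inv_apply_self] at this, x.2⟩⟩) hnco
  have hcomm : ∀ d : ↥(Y ⊔ centralizerIn S Y), (d : Ω) ∈ centralizerIn S T →
      (d : Ω)⁻¹ * ((β d : ↥(Y ⊔ centralizerIn S Y)) : Ω) ∈ Y := by
    intro d hd
    let d' : W := ⟨d, Subgroup.mem_sup_right hd, d.2⟩
    have hδd : ((δ d' : W) : Ω) = (β d : Ω) := hδe d'
    have hcent := hom_subset_centralizerHom_commutator hS hE
      (le_inf le_sup_left (hTY.trans le_sup_right)) inf_le_left hδ
      (fun x hx => Subtype.ext ((hδe x).trans (congrArg Subtype.val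
        (hfix (Subgroup.inclusion inf_le_right x) hx)))) hδco (c := d') hd
    rw [hδd] at hcent
    refine h.hmax _ (Subgroup.zpowers_le.2 ?_) hcent (Subgroup.mem_zpowers _)
    refine (centralizerIn S T).mul_mem ((centralizerIn S T).inv_mem hd)
      ⟨hMS (β d).2, fun t ht => ?_⟩
    have h1 : (⟨t, le_sup_right (a := Y) (hTY ht)⟩ : ↥(Y ⊔ centralizerIn S Y)) * d =
        d * ⟨t, le_sup_right (a := Y) (hTY ht)⟩ := Subtype.ext (hd.2 t ht)
    have h2 := congrArg (fun z => ((β z : ↥(Y ⊔ centralizerIn S Y)) : Ω)) h1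
    simp only [map_mul, Subgroup.coe_mul] at h2
    rw [hfix ⟨t, le_sup_right (a := Y) (hTY ht)⟩ ht] at h2
    exact h2
  let w' : ↥(Y ⊔ centralizerIn S Y) := ⟨w, Subgroup.mem_sup_right hwY'⟩
  have hβc : β c = c * w' := Subtype.ext (by simp [w', hw])
  obtain ⟨y₁, hy₁, hβw⟩ : ∃ y₁ : ↥(Y ⊔ centralizerIn S Y), (y₁ : Ω) ∈ Y ∧ β w' = w' * y₁ :=
    ⟨w'⁻¹ * β w', hcomm w' hwC, (mul_inv_cancel_left _ _).symm⟩
  have hwy : Commute w' y₁ := Subtype.ext (hwY'.2 _ hy₁).symm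
  have hiter : ∀ i : ℕ, ∃ z : ↥(Y ⊔ centralizerIn S Y), (z : Ω) ∈ Y ∧
      (β ^ i) c = c * w' ^ i * z := by
    intro i
    induction i with
    | zero => exact ⟨1, one_mem _, by simp⟩
    | succ i ih =>
      obtain ⟨z, hz, hzi⟩ := ih
      refine ⟨y₁ ^ i * β z, ?_, ?_⟩
      · rw [Subgroup.coe_mul, Subgroup.coe_pow]
        refine Y.mul_mem (Y.pow_mem hy₁ i) ?_
        rw [show z = Subgroup.inclusion le_sup_left (⟨(z : Ω), hz⟩ : Y) from rfl, hne]
        exact (b _).2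
      · rw [pow_succ', MulAut.mul_apply, hzi, map_mul, map_mul, map_pow, hβc, hβw,
          hwy.mul_pow, pow_succ']
        group
  obtain ⟨z, hz, hzn⟩ := hiter (orderOf β)
  rw [pow_orderOf_eq_one, MulAut.one_apply, mul_assoc] at hzn
  have hwn' : w ^ orderOf β ∈ Y := by
    have h1 : w' ^ orderOf β = z⁻¹ := eq_inv_of_mul_eq_one_left (left_eq_mul.1 hzn)
    have h2 := congrArg Subtype.val h1
    simp only [Subgroup.coe_pow, Subgroup.coe_inv] at h2
    change w ^ orderOf β = (z : Ω)⁻¹ at h2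
    rw [h2]
    exact Y.inv_mem hz
  have hwo : (orderOf β).Coprime (orderOf w) := by
    obtain ⟨k, hk⟩ := hS ⟨w, hwY'.1⟩
    refine Nat.Coprime.coprime_dvd_right ?_ (hnco.pow_right k)
    exact orderOf_dvd_of_pow_eq_one (congrArg Subtype.val hk)
  obtain ⟨m, hm⟩ := exists_pow_eq_self_of_coprime hwo
  exact ⟨hm ▸ Y.pow_mem hwn' m, hwY'.2⟩

end CfsgLib.Fusion
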