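import Cfsg.Agent.Lib.Fusion.CentricPrimeToP
import Cfsg.Agent.Lib.Fusion.NormalCentralizer
import Cfsg.Agent.Lib.Fusion.WeaklyNormalNormal
import Cfsg.Agent.Lib.Fusion.HyperFactor
import Cfsg.Agent.Lib.Fusion.FactorHat
import Cfsg.Agent.Lib.Fusion.InnerSat
import Cfsg.Agent.Lib.Fusion.ResidualNormal
import Cfsg.Agent.Lib.Fusion.NormalizerSat
import Cfsg.Agent.Lib.Fusion.FunctorGeneration
import Cfsg.Agent.Lib.Transfer.Basic
import Cfsg.Agent.Lib.Fusion.ComponentConjugation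

/-!
# The largest normal subgroup centralizes every component

Along a subnormal chain `C ≤ ⋯ ≤ D ≤ F` with `D` normal in `F`, every map of `D` extends over a
normal subgroup `Q` of `F` moving `Q` only inside the group of `D`; with `C` perfect this forces
the group of `C` to commute with `Q`, and then every map of `C` to extend fixing `Q`.
-/

set_option autoImplicit false

open Cfsg Cfsg.FusionSystem

namespace CfsgLib.Fusion.CoreCent

variable {Ω : Type*} [Group Ω] {S T U : Subgroup Ω} {p : ℕ}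

/-- A map extended over a normal subgroup keeps it. -/
theorem apply_normal_mem {F : FusionSystem S} {Q : Subgroup Ω} (hQ : F.IsNormal Q)
    {M : Subgroup Ω} {ψ : M →* Ω} (hψ : ψ ∈ F.Hom M) {q : M} (hq : (q : Ω) ∈ Q) : ψ q ∈ Q :=
  (stronglyClosed_of_isNormal hQ).2 (Q ⊓ M) inf_le_left _
    (res_mem F hψ (inf_le_right : Q ⊓ M ≤ M)) ⟨q, hq, q.2⟩

theorem img_normal_le {F : FusionSystem S} {Q : Subgroup Ω} (hQ : F.IsNormal Q)
    {M : Subgroup Ω} {ψ : M →* Ω} (hψ : ψ ∈ F.Hom M) : img ψ Q ≤ Q := by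
  intro y hy
  obtain ⟨q, hq, rfl⟩ := mem_img.1 hy
  exact apply_normal_mem hQ hψ hq

/-- An automorphism of `p`-power order is, up to an isomorphism of the system, induced by the
ambient group. -/
theorem exists_conj_autInduced {K : FusionSystem T} [Finite T] [Fact p.Prime] (hT : IsPGroup p T)
    (hK : K.IsSaturated p) {R : Subgroup Ω} (hR : R ≤ T) {β : MulAut R} (hβ : β ∈ K.autGroup R)
    {k : ℕ} (hk : β ^ p ^ k = 1) :
    ∃ (R' : Subgroup Ω) (e : R ≃* R'), IsIso K e ∧ ∃ t ∈ T, ∀ x : R,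
      ((e (β x) : R') : Ω) = t * (e x : Ω) * t⁻¹ := by
  have := finite_of_le hR
  obtain ⟨R', hRR', hn⟩ := exists_fullyNormalized K hR
  obtain ⟨e₀, he₀⟩ := isConj_iff.1 hRR'
  have hR' : R' ≤ T := hn.1
  have := finite_of_le hR'
  obtain ⟨-, hi⟩ := (isFullyAutomized_iff hT).1
    (fullyAutomized_receptive_of_fullyNormalized hT hK hn).1
  have hβ' := congr_mem_autGroup he₀ hβ
  have hpz : IsPGroup p (Subgroup.zpowers (MulAut.congr e₀ β)) := by
    obtain ⟨j, -, hj⟩ := (Nat.dvd_prime_pow Fact.out).1 (orderOf_dvd_of_pow_eq_one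
      (show MulAut.congr e₀ β ^ p ^ k = 1 by rw [← map_pow, hk, map_one]))
    exact IsPGroup.of_card (n := j) (by rw [Nat.card_zpowers, hj])
  obtain ⟨b, hb, hbz⟩ := exists_conj_mem_of_le hpz (isPGroup_autInducedBy hT R')
    (Subgroup.zpowers_le.2 hβ') (autInducedBy_le_autGroup hR') hi
  obtain ⟨t, ht, hte⟩ := mem_autInducedBy_iff.1 (hbz _ (Subgroup.mem_zpowers _))
  refine ⟨R', e₀.trans b, he₀.trans ((mem_autGroup_iff K hR').1 hb), t, ht, fun x => ?_⟩
  rw [← hte]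
  simp

variable [Finite S] [Fact p.Prime] {F : FusionSystem S} {D : FusionSystem U} {Q : Subgroup Ω}

/-- The meet with a normal subgroup is normal in a normal subsystem. -/
theorem isNormal_inf (hS : IsPGroup p S) (hD : D.IsNormalIn F p) (hQ : F.IsNormal Q) :
    D.IsNormal (U ⊓ Q) := by
  obtain ⟨⟨hDs, -, hsub, hU, -, -⟩, -⟩ := hD
  have := finite_of_le hU.1
  have hinfE : ∀ A : Subgroup Ω, F.IsNormal A → D.StronglyClosed (U ⊓ A) := fun A hA =>
    ⟨inf_le_left, fun X hX φ hφ x => ⟨hU.2 X (hX.trans inf_le_left) φ (hsub X hφ) x,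
      (stronglyClosed_of_isNormal hA).2 X (hX.trans inf_le_right) φ (hsub X hφ) x⟩⟩
  obtain ⟨n, hn, hLn⟩ := exists_series_of_isNormal hS hQ
  refine isNormal_of_series (hS.to_le hU.1) hDs (hinfE Q hQ)
    (fun i => U ⊓ Q.lowerCentralSeries (n - i)) n (by simp [hn]) (by simp)
    (fun i _ => inf_le_inf_left _ (Q.lowerCentralSeries_le_self _))
    (fun i _ => hinfE _ (hLn _)) fun i hi => ?_
  refine Subgroup.commutator_le.2 fun a ha b hb => ⟨?_, ?_⟩
  · rw [commutatorElement_def]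
    exact U.mul_mem (U.mul_mem (U.mul_mem ha.1 hb.1) (U.inv_mem ha.1)) (U.inv_mem hb.1)
  · have h1 : Q.lowerCentralSeries (n - i) = ⁅Q.lowerCentralSeries (n - (i + 1)), Q⁆ := by
      rw [show n - i = (n - (i + 1)) + 1 by omega]
      rfl
    rw [h1, Subgroup.commutator_comm]
    exact Subgroup.commutator_mem_commutator ha.2 hb.2

/-- The maps of `D` extending over `Q` moving it inside `U`. -/
def qSys (hD : D.IsInvariantIn F) (hQ : F.IsNormal Q) : FusionSystem U where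
  Hom P := {φ | φ ∈ D.Hom P ∧ ∃ ψ ∈ F.Hom (P ⊔ Q),
    (∀ x : P, ψ (Subgroup.inclusion le_sup_left x) = φ x) ∧
    ∀ (q : Ω) (hq : q ∈ Q), q⁻¹ * ψ ⟨q, le_sup_right (a := P) hq⟩ ∈ U}
  le_of_mem h := D.le_of_mem h.1
  injective_of_mem h := D.injective_of_mem h.1
  conj_mem := fun {P g} hP hg => ⟨D.conj_mem hP hg, conjHom _ g,
    F.conj_mem (sup_le (hP.trans hD.2.1.1) hQ.1) (hD.2.1.1 hg), fun x => rfl, fun q hq => by
      change q⁻¹ * (g * q * g⁻¹) ∈ U
      have h1 := conj_mem_of_mem_normalizer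
        (le_normalizer_of_stronglyClosed hD.2.1 (S.inv_mem (hQ.1 hq))) hg
      rw [inv_inv] at h1
      have h2 := U.mul_mem h1 (U.inv_mem hg)
      simpa [mul_assoc] using h2⟩
  comp_mem := by
    rintro P P' φ χ ⟨hφ, ψ₁, hψ₁, h1, h1'⟩ ⟨hχ, ψ₂, hψ₂, h2, h2'⟩ hv
    have hle : ∀ x, ψ₁ x ∈ P' ⊔ Q := apply_mem_sup h1 hv (img_normal_le hQ hψ₁)
    refine ⟨D.comp_mem hφ hχ hv, _, F.comp_mem hψ₁ hψ₂ hle, fun x => ?_, fun q hq => ?_⟩
    · exact (congrArg ψ₂ (Subtype.ext (h1 x))).trans (h2 ⟨φ x, hv x⟩)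
    · have hq' := apply_normal_mem hQ hψ₁ (q := ⟨q, le_sup_right (a := P) hq⟩) hq
      have h3 := U.mul_mem (h1' q hq) (h2' _ hq')
      rw [mul_assoc, mul_inv_cancel_left] at h3
      exact h3
  inv_mem := by
    rintro P φ ⟨hφ, ψ, hψ, h1, h1'⟩
    obtain ⟨φi, hφi, hφie⟩ := D.inv_mem hφ
    obtain ⟨ψi, hψi, hψie⟩ := F.inv_mem hψ
    have hQr : img ψ Q = Q := by
      rw [← range_comp_inclusion ψ (le_sup_right : Q ≤ P ⊔ Q)]
      exact (weaklyClosed_of_stronglyClosed (stronglyClosed_of_isNormal hQ)).2 _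
        (res_mem F hψ le_sup_right)
    have hle : φ.range ⊔ Q ≤ ψ.range := by
      rw [range_ext_eq h1, hQr]
    refine ⟨φi, ⟨hφi, ψi.comp (Subgroup.inclusion hle), res_mem F hψi hle, ?_, fun q hq => ?_⟩,
      hφie⟩
    · rintro ⟨_, x, rfl⟩
      rw [hφie]
      refine Eq.trans ?_ (hψie (Subgroup.inclusion le_sup_left x))
      exact congrArg ψi (Subtype.ext (h1 x).symm)
    · obtain ⟨q', hq', hqq⟩ := mem_img.1 (hQr.ge hq)
      have h3 := U.inv_mem (h1' q' hq')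
      rw [show (⟨(q' : Ω), le_sup_right (a := P) hq'⟩ : ↥(P ⊔ Q)) = q' from rfl, hqq,
        mul_inv_rev, inv_inv] at h3
      rw [MonoidHom.comp_apply, show Subgroup.inclusion hle ⟨q, le_sup_right (a := φ.range) hq⟩ =
        (⟨ψ q', q', rfl⟩ : ψ.range) from Subtype.ext hqq.symm, hψie]
      exact h3

theorem qSys_le (hD : D.IsInvariantIn F) (hQ : F.IsNormal Q) :
    (qSys hD hQ).IsSubsystemOf D := fun _ _ h => h.1

/-- Automorphisms of `p`-power order lie in that system. -/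
theorem containsCentricPElements_qSys (hS : IsPGroup p S) (hDs : D.IsSaturated p)
    (hD : D.IsInvariantIn F) (hQ : F.IsNormal Q) :
    ContainsCentricPElements (qSys hD hQ) D p := by
  intro R hR β hβ hk
  obtain ⟨k, hk⟩ := hk
  have hU := hD.2.1
  have := finite_of_le hU.1
  have hRU := hR.1
  obtain ⟨R', e, he, t, ht, hte⟩ := exists_conj_autInduced (hS.to_le hU.1) hDs hRU hβ
    (k := k) (hk ▸ pow_orderOf_eq_one β)
  refine (mem_autGroup_iff _ hRU).2 ⟨(mem_autGroup_iff D hRU).1 hβ, ?_⟩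
  obtain ⟨h, hh, hhe, hhQ⟩ := hQ.2 R _ (hD.1 R he)
  have hhQ' : img h Q = Q := hhQ
  obtain ⟨hi, hhi, hhie⟩ := F.inv_mem hh
  have htS := hU.1 ht
  have htQ : ∀ y ∈ Q, t * y * t⁻¹ ∈ Q := fun y hy => conj_mem_of_mem_normalizer
    (le_normalizer_of_stronglyClosed (stronglyClosed_of_isNormal hQ) htS) hy
  have hrange : h.range = R' ⊔ Q := by
    rw [range_ext_eq hhe, hhQ', range_subtype_comp]
  have hv : ∀ z, t * h z * t⁻¹ ∈ h.range := by
    intro z
    have htn : t ∈ Subgroup.normalizer ((R' ⊔ Q : Subgroup Ω) : Set Ω) := by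
      have := finite_of_le (sup_le (he.le_right.trans hU.1) hQ.1 : R' ⊔ Q ≤ S)
      refine mem_normalizer_of_forall fun y hy => ?_
      have hle : R' ⊔ Q ≤ (R' ⊔ Q).comap (MulAut.conj t).toMonoidHom :=
        sup_le (fun r hr => ?_) fun r hr => le_sup_right (a := R') (htQ r hr)
      · exact hle hy
      · obtain ⟨x, hx⟩ := e.surjective ⟨r, hr⟩
        have h1 := hte x
        rw [hx] at h1
        exact le_sup_left (b := Q) (show t * r * t⁻¹ ∈ R' from h1 ▸ (e (β x)).2)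
    have h2 : h z ∈ R' ⊔ Q := hrange ▸ ⟨z, rfl⟩
    rw [hrange]
    exact conj_mem_of_mem_normalizer htn h2
  let ct : h.range →* Ω := conjHom h.range t
  have hct : ct ∈ F.Hom h.range := F.conj_mem (range_le_S F hh) htS
  have hct' : ∀ y, ct y ∈ h.range := by
    rintro ⟨_, z, rfl⟩
    exact hv z
  refine ⟨_, F.comp_mem (F.comp_mem hh hct fun z => ⟨z, rfl⟩) hhi fun z => hct' _, fun x => ?_,
    fun q hq => ?_⟩
  · change hi ⟨t * h (Subgroup.inclusion le_sup_left x) * t⁻¹, _⟩ = ((β x : R) : Ω)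
    have h1 : t * h (Subgroup.inclusion le_sup_left x) * t⁻¹ =
        h (Subgroup.inclusion le_sup_left (β x)) := by
      rw [hhe, hhe]
      exact (hte x).symm
    exact (congrArg hi (Subtype.ext h1)).trans (hhie (Subgroup.inclusion le_sup_left (β x)))
  · change q⁻¹ * hi ⟨t * h ⟨q, le_sup_right (a := R) hq⟩ * t⁻¹, _⟩ ∈ U
    set q0 : ↥(R ⊔ Q) := ⟨q, le_sup_right (a := R) hq⟩
    have hq1 : h q0 ∈ Q := apply_normal_mem hQ hh hq
    have hw : (h q0)⁻¹ * (t * h q0 * t⁻¹) ∈ U := by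
      have h1 := conj_mem_of_mem_normalizer
        (le_normalizer_of_stronglyClosed hU (S.inv_mem (hQ.1 hq1))) ht
      rw [inv_inv] at h1
      simpa [mul_assoc] using U.mul_mem h1 (U.inv_mem ht)
    have hwr : (h q0)⁻¹ * (t * h q0 * t⁻¹) ∈ h.range :=
      mul_mem (inv_mem ⟨q0, rfl⟩) (hv q0)
    have h2 : (⟨t * h q0 * t⁻¹, hv q0⟩ : h.range) = ⟨h q0, q0, rfl⟩ * ⟨_, hwr⟩ :=
      Subtype.ext (mul_inv_cancel_left (h q0) _).symm
    rw [show hi ⟨t * h q0 * t⁻¹, _⟩ = hi (⟨h q0, q0, rfl⟩ * ⟨_, hwr⟩) from congrArg hi h2, map_mul,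
      hhie, inv_mul_cancel_left]
    exact hU.2 (U ⊓ h.range) inf_le_left _ (res_mem F hhi (inf_le_right : U ⊓ h.range ≤ _))
      ⟨_, hw, hwr⟩

/-- The automorphisms of `U` in `D` lie in that system. -/
theorem autGroup_le_qSys (hS : IsPGroup p S) (hD : D.IsNormalIn F p) (hQ : F.IsNormal Q) :
    D.autGroup U ≤ (qSys hD.1.2.2 hQ).autGroup U := by
  obtain ⟨⟨hDs, hF, hinv⟩, hext⟩ := hD
  have hU := hinv.2.1
  have hUS := hU.1
  have := finite_of_le hUS
  have hUp := hS.to_le hUS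
  refine autGroup_le_of_coprime_of_induced hUp hDs isFullyNormalized_self (fun a ha hco => ?_)
    (autInducedBy_le_autGroup le_rfl)
  obtain ⟨γ₀, hγ, hγU, hγC⟩ := hext a ha
  let M := U ⊔ centralizerIn S U
  let γ : MulAut M := γ₀
  have hMcl : F.StronglyClosed M := stronglyClosed_sup_centralizerIn hS hF hU
  have hMS : M ≤ S := hMcl.1
  obtain ⟨ψ, hψ, hψe, -⟩ := hQ.2 M _ ((mem_autGroup_iff F hMS).1 hγ)
  obtain ⟨β, hβ, hβe⟩ := exists_iso_of_range hψ
    (range_eq_sup_of_stronglyClosed hMcl (stronglyClosed_of_isNormal hQ) hψ)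
  have hNS : M ⊔ Q ≤ S := sup_le hMS hQ.1
  have := finite_of_le hNS
  have hUN : U ≤ M ⊔ Q := le_sup_left.trans le_sup_left
  have hβU : ∀ x : U, β (Subgroup.inclusion hUN x) = Subgroup.inclusion hUN (a x) := fun x =>
    Subtype.ext ((hβe _).trans ((hψe (Subgroup.inclusion le_sup_left x)).trans (hγU x)))
  obtain ⟨n, hn, hna⟩ := exists_coprime_power_extending (p := p) hUN hβU hco
  have hβF : β ∈ F.autGroup (M ⊔ Q) := (mem_autGroup_iff F hNS).2 hβ
  -- `β` is trivial on `M` modulo `U`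
  have hMmod : ∀ y : ↥(M ⊔ Q), (y : Ω) ∈ M →
      (y : Ω)⁻¹ * ((β y : ↥(M ⊔ Q)) : Ω) ∈ U := by
    intro y hy
    have h1 : ((β y : ↥(M ⊔ Q)) : Ω) = ((γ ⟨y, hy⟩ : M) : Ω) :=
      (hβe y).trans (hψe ⟨y, hy⟩)
    obtain ⟨c, hc, u, hu, hcu⟩ := exists_mul_of_mem_sup
      ((centralizerIn_le U).trans (le_normalizer_of_stronglyClosed hU))
      ((sup_comm U (centralizerIn S U)).le hy)
    have hcM : c ∈ M := le_sup_right (a := U) hc
    have h2 : (⟨(y : Ω), hy⟩ : M) = ⟨c, hcM⟩ * Subgroup.inclusion le_sup_left ⟨u, hu⟩ :=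
      Subtype.ext hcu
    rw [h1, h2, map_mul, Subgroup.coe_mul, hγU, hcu, mul_inv_rev, mul_assoc, ← mul_assoc c⁻¹]
    exact U.mul_mem (U.inv_mem hu) (U.mul_mem (hγC ⟨c, hcM⟩ hc).1 (a ⟨u, hu⟩).2)
  have hUnorm : ∀ s ∈ S, ∀ u ∈ U, s⁻¹ * u * s ∈ U := fun s hs u hu => by
    simpa using conj_mem_of_mem_normalizer
      (le_normalizer_of_stronglyClosed hU (S.inv_mem hs)) hu
  have hUN' : ((U.subgroupOf (M ⊔ Q))).Normal := ⟨fun x hx g => Subgroup.mem_subgroupOf.2
    (conj_mem_of_mem_normalizer (le_normalizer_of_stronglyClosed hU (hNS g.2)) hx)⟩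
  let π := QuotientGroup.mk' (U.subgroupOf (M ⊔ Q))
  have hπ : ∀ y z : ↥(M ⊔ Q), π y = π z ↔ (y : Ω)⁻¹ * (z : Ω) ∈ U := fun y z =>
    QuotientGroup.eq
  have hpowM : ∀ (m : ℕ) (y : ↥(M ⊔ Q)), (y : Ω) ∈ M → π ((β ^ m) y) = π y := by
    intro m
    induction m with
    | zero => intro y _; rfl
    | succ m ih =>
      intro y hy
      have hβy : ((β y : ↥(M ⊔ Q)) : Ω) ∈ M := by
        have h1 := M.mul_mem hy (le_sup_left (b := centralizerIn S U) (hMmod y hy))
        rwa [mul_inv_cancel_left] at h1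
      rw [pow_succ, MulAut.mul_apply, ih _ hβy]
      exact ((hπ _ _).2 (hMmod y hy)).symm
  refine (mem_autGroup_iff _ le_rfl).2 ⟨(mem_autGroup_iff D le_rfl).1 ha, ?_⟩
  have hUQ : U ⊔ Q ≤ M ⊔ Q := sup_le_sup_right le_sup_left Q
  refine ⟨_, res_mem F ((mem_autGroup_iff F hNS).1 (pow_mem hβF n)) hUQ, fun x => ?_,
    fun q hq => ?_⟩
  · change (((β ^ n) (Subgroup.inclusion hUN x) : ↥(M ⊔ Q)) : Ω) = _
    rw [hna]
    rfl
  · change q⁻¹ * (((β ^ n) ⟨q, le_sup_right (a := M) hq⟩ : ↥(M ⊔ Q)) : Ω) ∈ U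
    set y : ↥(M ⊔ Q) := ⟨q, le_sup_right (a := M) hq⟩
    set δ := β ^ n with hδ
    have hcl := stronglyClosed_sup hS hF hU (stronglyClosed_of_isNormal hQ)
    have hzM : ((y⁻¹ * δ y : ↥(M ⊔ Q)) : Ω) ∈ M := by
      have hδF := (mem_autGroup_iff F hNS).1 (pow_mem hβF n)
      have hUQy : ((δ y : ↥(M ⊔ Q)) : Ω) ∈ Q := apply_normal_mem hQ hδF (q := y) hq
      -- the conjugations of `y` and `δ y` agree on `U` up to an inner automorphism
      have hdn : ∀ z : ↥(M ⊔ Q), (z : Ω) ∈ S := fun z => hNS z.2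
      let cy := normAut (q : Ω) (le_normalizer_of_stronglyClosed hU (hQ.1 hq))
      let cy' := normAut ((δ y : ↥(M ⊔ Q)) : Ω) (le_normalizer_of_stronglyClosed hU (hdn _))
      have hy' : cy' = a * cy * a⁻¹ := by
        refine MulEquiv.ext fun u => Subtype.ext ?_
        have h1 : δ (y * Subgroup.inclusion hUN (a⁻¹ u) * y⁻¹) =
            δ y * Subgroup.inclusion hUN u * (δ y)⁻¹ := by
          rw [map_mul, map_mul, map_inv, hna, MulAut.apply_inv_self]
        have h2 : y * Subgroup.inclusion hUN (a⁻¹ u) * y⁻¹ =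
            Subgroup.inclusion hUN (cy (a⁻¹ u)) :=
          Subtype.ext rfl
        rw [h2, hna] at h1
        rw [normAut_apply]
        exact (congrArg Subtype.val h1).symm
      have hcy : cy ∈ autInducedBy S U := mem_autInducedBy_iff.2 ⟨q, hQ.1 hq, fun x =>
        normAut_apply _ _ _⟩
      have hcy' : cy' ∈ autInducedBy S U := mem_autInducedBy_iff.2 ⟨_, hdn (δ y), fun x =>
        normAut_apply _ _ _⟩
      set k := cy⁻¹ * cy' with hk
      have hkS : k ∈ autInducedBy S U := mul_mem (inv_mem hcy) hcy'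
      have hkD : k ∈ D.autGroup U := by
        have haF := autGroup_mono hinv.1 U ha
        have hcyF := autInducedBy_le_autGroup (F := F) hUS hcy
        have h1 := congr_mem_autGroup_of_conjClosed (conjClosed_of_isInvariantIn hinv) le_rfl
          hinv.1 ha (inv_mem hcyF)
        rw [inv_inv] at h1
        rw [hk, hy', show cy⁻¹ * (a * cy * a⁻¹) = cy⁻¹ * a * cy * a⁻¹ by group]
        exact mul_mem h1 (inv_mem ha)
      obtain ⟨-, hi⟩ := (isFullyAutomized_iff hUp).1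
        (fullyAutomized_receptive_of_fullyNormalized hUp hDs isFullyNormalized_self).1
      have hIn : ((Cfsg.Inn U).subgroupOf (D.autGroup U)).Normal := inn_subgroupOf_normal D U
      rw [← inn_eq] at hi
      obtain ⟨j, hj⟩ := (isPGroup_autInducedBy hS U) ⟨k, hkS⟩
      have hkI : k ∈ Cfsg.Inn U := by
        have h7 : (orderOf (QuotientGroup.mk' ((Cfsg.Inn U).subgroupOf (D.autGroup U))
            ⟨k, hkD⟩)).Coprime p :=
          ((Fact.out : p.Prime).coprime_iff_not_dvd.2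
            fun hd => hi (hd.trans (orderOf_dvd_natCard _))).symm
        have h6 : (QuotientGroup.mk' ((Cfsg.Inn U).subgroupOf (D.autGroup U))
            ⟨k, hkD⟩) ^ p ^ j = 1 := by
          rw [← map_pow, show (⟨k, hkD⟩ : D.autGroup U) ^ p ^ j = 1 from
            Subtype.ext (congrArg Subtype.val hj :), map_one]
        exact Subgroup.mem_subgroupOf.1
          ((QuotientGroup.eq_one_iff _).1 (eq_one_of_pow_prime_of_coprime h6 h7))
      rw [inn_eq] at hkI
      obtain ⟨u, hu, hue⟩ := mem_autInducedBy_iff.1 hkI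
      set z : Ω := ((y⁻¹ * δ y : ↥(M ⊔ Q)) : Ω) with hz
      have hzc : u⁻¹ * z ∈ centralizerIn S U := by
        refine ⟨S.mul_mem (S.inv_mem (hUS hu)) (hdn _), fun x hx => ?_⟩
        have h1 := hue ⟨x, hx⟩
        have h2 : (((k ⟨x, hx⟩ : U)) : Ω) = z * x * z⁻¹ := by
          have h3 : cy (k ⟨x, hx⟩) = cy' ⟨x, hx⟩ := by
            rw [hk, MulAut.mul_apply, MulAut.apply_inv_self]
          have h4 := congrArg Subtype.val h3
          rw [normAut_apply, normAut_apply] at h4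
          show _ = q⁻¹ * ((δ y : ↥(M ⊔ Q)) : Ω) * x * (q⁻¹ * ((δ y : ↥(M ⊔ Q)) : Ω))⁻¹
          calc ((k ⟨x, hx⟩ : U) : Ω) = q⁻¹ * (q * ((k ⟨x, hx⟩ : U) : Ω) * q⁻¹) * q := by group
            _ = _ := by rw [h4]; group
        rw [h1] at h2
        calc x * (u⁻¹ * z) = u⁻¹ * (u * x * u⁻¹) * z := by group
          _ = u⁻¹ * (z * x * z⁻¹) * z := by rw [h2]
          _ = u⁻¹ * z * x := by group
      have h1 := M.mul_mem (le_sup_left (b := centralizerIn S U) hu)
        (le_sup_right (a := U) hzc)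
      rwa [mul_inv_cancel_left] at h1
    set z := y⁻¹ * δ y with hz
    have hseq : ∀ m : ℕ, π ((δ ^ m) y) = π (y * z ^ m) := by
      intro m
      induction m with
      | zero => simp
      | succ m ih =>
        have h1 : π ((δ ^ m) z) = π z := by rw [hδ, ← pow_mul]; exact hpowM _ z hzM
        calc π ((δ ^ (m + 1)) y) = π ((δ ^ m) (y * z)) := by
              rw [pow_succ δ, MulAut.mul_apply, hz, mul_inv_cancel_left]
          _ = π ((δ ^ m) y) * π ((δ ^ m) z) := by rw [map_mul (δ ^ m) y z, map_mul π]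
          _ = _ := by rw [ih, h1, ← map_mul π, pow_succ, mul_assoc]
    have hzU : π z = 1 := by
      have h1 := hseq (orderOf δ)
      rw [pow_orderOf_eq_one, MulAut.one_apply, map_mul, left_eq_mul, map_pow] at h1
      obtain ⟨j, hj⟩ := (hS.to_le hNS) z
      have h2 : orderOf (π z) ∣ p ^ j := orderOf_dvd_of_pow_eq_one (by
        rw [← map_pow, hj, map_one])
      have h3 := Nat.dvd_gcd (orderOf_dvd_of_pow_eq_one h1) h2
      rwa [(hn.pow_right j).gcd_eq_one, Nat.dvd_one, orderOf_eq_one_iff] at h3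
    exact (QuotientGroup.eq_one_iff z).1 hzU

/-- Every map of a normal subsystem extends over a normal subgroup moving it inside `U`. -/
theorem hom_subset_qSys (hS : IsPGroup p S) (hD : D.IsNormalIn F p) (hQ : F.IsNormal Q)
    (R : Subgroup Ω) : D.Hom R ⊆ (qSys hD.1.2.2 hQ).Hom R := by
  intro φ hφ
  have hDs := hD.1.1
  have hU := hD.1.2.2.2.1
  have := finite_of_le hU.1
  obtain ⟨α, hα, φ₀, hφ₀, he⟩ := frattini_centricPElementSys (hS.to_le hU.1) hDs hφ
  have h1 := hφ₀.2 _ (containsCentricPElements_qSys hS hDs hD.1.2.2 hQ)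
  have h2 := (mem_autGroup_iff _ le_rfl).1 (autGroup_le_qSys hS hD hQ hα)
  exact mem_of_eq rfl ((qSys hD.1.2.2 hQ).comp_mem h1 h2 fun x => apply_mem_S _ h1 x)
    fun x => he x (apply_mem_S _ h1 x)

/-- The maps of `C` extending with `Q` fixed. -/
def fixedSys {C : FusionSystem T} (hTS : T ≤ S) (hQS : Q ≤ S)
    (hTQ : ∀ t ∈ T, ∀ q ∈ Q, t * q = q * t) : FusionSystem T where
  Hom P := {φ | φ ∈ C.Hom P ∧ ∃ ψ ∈ F.Hom (P ⊔ Q),
    (∀ x : P, ψ (Subgroup.inclusion le_sup_left x) = φ x) ∧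
    ∀ x : Q, ψ (Subgroup.inclusion le_sup_right x) = x}
  le_of_mem h := C.le_of_mem h.1
  injective_of_mem h := C.injective_of_mem h.1
  conj_mem := fun {P g} hP hg => ⟨C.conj_mem hP hg, conjHom _ g,
    F.conj_mem (sup_le (hP.trans hTS) hQS) (hTS hg), fun x => rfl, fun x => by
      change g * (x : Ω) * g⁻¹ = x
      rw [hTQ g hg x x.2, mul_inv_cancel_right]⟩
  comp_mem := by
    rintro P P' φ χ ⟨hφ, ψ₁, hψ₁, h1, h1'⟩ ⟨hχ, ψ₂, hψ₂, h2, h2'⟩ hv
    have hle : ∀ x, ψ₁ x ∈ P' ⊔ Q :=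
      apply_mem_sup h1 hv (img_eq_of_forall_fixed le_sup_right h1').le
    refine ⟨C.comp_mem hφ hχ hv, _, F.comp_mem hψ₁ hψ₂ hle, fun x => ?_, fun x => ?_⟩
    · exact (congrArg ψ₂ (Subtype.ext (h1 x))).trans (h2 ⟨φ x, hv x⟩)
    · exact (congrArg ψ₂ (Subtype.ext (h1' x))).trans (h2' x)
  inv_mem := by
    rintro P φ ⟨hφ, ψ, hψ, h1, h1'⟩
    obtain ⟨φi, hφi, hφie⟩ := C.inv_mem hφ
    obtain ⟨ψi, hψi, hψie⟩ := F.inv_mem hψ
    have hle : φ.range ⊔ Q ≤ ψ.range := by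
      rw [range_ext_eq h1, img_eq_of_forall_fixed le_sup_right h1']
    refine ⟨φi, ⟨hφi, ψi.comp (Subgroup.inclusion hle), res_mem F hψi hle, ?_, fun x => ?_⟩,
      hφie⟩
    · rintro ⟨_, x, rfl⟩
      rw [hφie]
      refine Eq.trans ?_ (hψie (Subgroup.inclusion le_sup_left x))
      exact congrArg ψi (Subtype.ext (h1 x).symm)
    · refine Eq.trans ?_ (hψie (Subgroup.inclusion le_sup_right x))
      exact congrArg ψi (Subtype.ext (h1' x).symm)

/-- The step along a subnormal chain. -/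
theorem centralizes_step {C : FusionSystem T} (hS : IsPGroup p S) (hD : D.IsNormalIn F p)
    (hTU : T ≤ U) (hCs : C.IsSaturated p) (hperf : C.hyperfocalSubgroup p = T)
    (hW : ∀ R : Subgroup Ω, C.Hom R ⊆ D.centralizerHom (U ⊓ Q) R) (hQ : F.IsNormal Q)
    (R : Subgroup Ω) : C.Hom R ⊆ F.centralizerHom Q R := by
  have hDF := hD.1.2.2.1
  have hU := hD.1.2.2.2.1
  have hTS := hTU.trans hU.1
  have := finite_of_le hTS
  have hTp := hS.to_le hTS
  have hQsc := stronglyClosed_of_isNormal hQ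
  have hWc : ∀ t ∈ T, ∀ w ∈ U ⊓ Q, w * t = t * w := fun t ht w hw =>
    ((hW T (id_mem C le_rfl)).2.1 ht).2 w hw
  -- extensions moving `Q` inside `U`
  have hmod : ∀ (P : Subgroup Ω) (φ : P →* Ω), φ ∈ C.Hom P → ∃ ψ ∈ F.Hom (P ⊔ Q),
      (∀ x : P, ψ (Subgroup.inclusion le_sup_left x) = φ x) ∧
      (∀ (w : Ω) (hw : w ∈ U ⊓ Q), ψ ⟨w, le_sup_right (a := P) hw.2⟩ = w) ∧
      ∀ (q : Ω) (hq : q ∈ Q), q⁻¹ * ψ ⟨q, le_sup_right (a := P) hq⟩ ∈ U ⊓ Q := by
    intro P φ hφ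
    obtain ⟨-, -, -, ψ₁, hψ₁, hψ₁e, hψ₁W⟩ := hW P hφ
    obtain ⟨-, ψ, hψ, hψe, hψq⟩ := hom_subset_qSys hS hD hQ _ hψ₁
    have hle : P ⊔ Q ≤ P ⊔ U ⊓ Q ⊔ Q := sup_le_sup_right le_sup_left Q
    refine ⟨_, res_mem F hψ hle, fun x => ?_, fun w hw => ?_, fun q hq => ⟨hψq q hq, ?_⟩⟩
    · exact (hψe (Subgroup.inclusion le_sup_left x)).trans (hψ₁e x)
    · exact (hψe ⟨w, le_sup_right (a := P) hw⟩).trans (hψ₁W ⟨w, hw⟩)
    · exact Q.mul_mem (Q.inv_mem hq)
        (apply_normal_mem hQ hψ (q := ⟨q, le_sup_right (a := P ⊔ U ⊓ Q) hq⟩) hq)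
  -- `T` commutes with `Q`
  have hTQ : ∀ t ∈ T, ∀ q ∈ Q, t * q = q * t := by
    have hinv : ∀ (P : Subgroup Ω) (φ : P →* Ω), φ ∈ C.Hom P → ∀ (x : P), ∀ q ∈ Q,
        φ x * q * (φ x)⁻¹ * q⁻¹ = (x : Ω) * q * (x : Ω)⁻¹ * q⁻¹ := by
      intro P φ hφ x q hq
      obtain ⟨ψ, hψ, hψe, hψW, hψq⟩ := hmod P φ hφ
      have hxT := le_S C hφ x.2
      have hxn := le_normalizer_of_stronglyClosed hQsc (hTS hxT)
      have hc : (x : Ω) * q * (x : Ω)⁻¹ * q⁻¹ ∈ U ⊓ Q := by
        refine ⟨?_, Q.mul_mem (conj_mem_of_mem_normalizer hxn hq) (Q.inv_mem hq)⟩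
        rw [show (x : Ω) * q * (x : Ω)⁻¹ * q⁻¹ = (x : Ω) * (q * (x : Ω)⁻¹ * q⁻¹) by group]
        exact U.mul_mem (hTU hxT) (conj_mem_of_mem_normalizer
          (le_normalizer_of_stronglyClosed hU (hQ.1 hq)) (U.inv_mem (hTU hxT)))
      set q0 : ↥(P ⊔ Q) := ⟨q, le_sup_right (a := P) hq⟩
      have h1 : ψ (Subgroup.inclusion le_sup_left x * q0 *
          (Subgroup.inclusion le_sup_left x)⁻¹ * q0⁻¹) = (x : Ω) * q * (x : Ω)⁻¹ * q⁻¹ := by
        refine Eq.trans ?_ (hψW _ hc)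
        exact congrArg ψ (Subtype.ext rfl)
      rw [map_mul, map_mul, map_mul, map_inv, map_inv, hψe] at h1
      set w := q⁻¹ * ψ q0 with hw
      have hcomm : w * (φ x)⁻¹ = (φ x)⁻¹ * w :=
        hWc _ (T.inv_mem (apply_mem_S C hφ x)) w (hψq q hq)
      rw [show ψ q0 = q * w from (mul_inv_cancel_left q _).symm] at h1
      rw [← h1, show φ x * (q * w) * (φ x)⁻¹ * (q * w)⁻¹ =
        φ x * q * (w * (φ x)⁻¹) * w⁻¹ * q⁻¹ by group, hcomm]
      group
    intro t ht
    rw [← hperf] at ht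
    induction ht using Subgroup.closure_induction with
    | mem y hy =>
      obtain ⟨P, α, x, hP, -, rfl⟩ := hy
      intro q hq
      have h1 := hinv P _ ((mem_autGroup_iff C hP).1 α.2) x q hq
      change ((α : MulAut P) x : Ω) * q * ((α : MulAut P) x : Ω)⁻¹ * q⁻¹ = _ at h1
      have h2 := mul_right_cancel h1
      calc (x : Ω)⁻¹ * ((α : MulAut P) x : Ω) * q
          = (x : Ω)⁻¹ * (((α : MulAut P) x : Ω) * q * ((α : MulAut P) x : Ω)⁻¹) *
            ((α : MulAut P) x : Ω) := by group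
        _ = q * ((x : Ω)⁻¹ * ((α : MulAut P) x : Ω)) := by rw [h2]; group
    | one => intro q _; rw [one_mul, mul_one]
    | mul a b _ _ iha ihb => intro q hq; rw [mul_assoc, ihb q hq, ← mul_assoc, iha q hq, mul_assoc]
    | inv a _ iha =>
      intro q hq
      rw [eq_comm, eq_inv_mul_iff_mul_eq, ← mul_assoc, iha q hq, mul_inv_cancel_right]
  -- all maps fix `Q`
  let Z : FusionSystem T := fixedSys (F := F) (C := C) hTS hQ.1 hTQ
  have hZc : ContainsCentricPElements Z C p := by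
    intro P hP β hβ hk
    obtain ⟨k, hk⟩ := hk
    obtain ⟨P', e, he, t, ht, hte⟩ := exists_conj_autInduced hTp hCs hP.1 hβ
      (k := k) (hk ▸ pow_orderOf_eq_one β)
    refine (mem_autGroup_iff Z hP.1).2 ⟨(mem_autGroup_iff C hP.1).1 hβ, ?_⟩
    obtain ⟨h, hh, hhe, hhW, -⟩ := hmod P _ he
    obtain ⟨hi, hhi, hhie⟩ := F.inv_mem hh
    have hrange : h.range ≤ S := range_le_S F hh
    have hfix : ∀ z : ↥(P ⊔ Q), (z : Ω) ∈ Q → t * h z * t⁻¹ = h z := fun z hz => by
      rw [hTQ t ht _ (apply_normal_mem hQ hh hz), mul_inv_cancel_right]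
    have hv : ∀ z, t * h z * t⁻¹ ∈ h.range := by
      intro z
      have hle : P ⊔ Q ≤
          ((h.range.comap (MulAut.conj t).toMonoidHom).comap h).map (P ⊔ Q).subtype := by
        refine sup_le (fun y hy => ⟨⟨y, le_sup_left (b := Q) hy⟩, ?_, rfl⟩)
          fun y hy => ⟨⟨y, le_sup_right (a := P) hy⟩, ?_, rfl⟩
        · refine ⟨Subgroup.inclusion le_sup_left (β ⟨y, hy⟩), ?_⟩
          change _ = t * h (Subgroup.inclusion le_sup_left ⟨y, hy⟩) * t⁻¹
          rw [hhe, hhe]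
          exact hte ⟨y, hy⟩
        · exact ⟨⟨y, le_sup_right (a := P) hy⟩, (hfix _ hy).symm⟩
      obtain ⟨z', hz', hzz⟩ := hle z.2
      rw [show z = z' from Subtype.ext hzz.symm]
      exact hz'
    let ct : h.range →* Ω := conjHom h.range t
    have hct : ct ∈ F.Hom h.range := F.conj_mem hrange (hTS ht)
    have hct' : ∀ y, ct y ∈ h.range := by
      rintro ⟨_, z, rfl⟩
      exact hv z
    refine ⟨_, F.comp_mem (F.comp_mem hh hct fun z => ⟨z, rfl⟩) hhi fun z => hct' _,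
      fun x => ?_, fun x => ?_⟩
    · change hi ⟨t * h (Subgroup.inclusion le_sup_left x) * t⁻¹, _⟩ = ((β x : P) : Ω)
      have h1 : t * h (Subgroup.inclusion le_sup_left x) * t⁻¹ =
          h (Subgroup.inclusion le_sup_left (β x)) := by
        rw [hhe, hhe]
        exact (hte x).symm
      exact (congrArg hi (Subtype.ext h1)).trans (hhie (Subgroup.inclusion le_sup_left (β x)))
    · change hi ⟨t * h (Subgroup.inclusion le_sup_right x) * t⁻¹, _⟩ = (x : Ω)
      exact (congrArg hi (Subtype.ext (hfix _ x.2))).trans (hhie (Subgroup.inclusion le_sup_right x))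
  have hTQS : T ⊔ Q ≤ S := sup_le hTS hQ.1
  have := finite_of_le hTQS
  have hZT : C.autGroup T ≤ Z.autGroup T := by
    refine autGroup_le_of_coprime_of_induced hTp hCs isFullyNormalized_self (fun a ha hco => ?_)
      (autInducedBy_le_autGroup le_rfl)
    have haC := (mem_autGroup_iff C le_rfl).1 ha
    obtain ⟨ψ, hψ, hψe, hψW, hψq⟩ := hmod T _ haC
    have hψr : ψ.range = T ⊔ Q := by
      rw [range_ext_eq hψe, range_subtype_comp, ← range_comp_inclusion ψ le_sup_right,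
        (weaklyClosed_of_stronglyClosed hQsc).2 _ (res_mem F hψ le_sup_right)]
    obtain ⟨θ, hθ, hθe⟩ := exists_iso_of_range hψ hψr
    have := finite_of_le (inf_le_right.trans hQ.1 : U ⊓ Q ≤ S)
    obtain ⟨N, hN⟩ := (hS.to_le (inf_le_right.trans hQ.1 : U ⊓ Q ≤ S)).exists_card_eq
    obtain ⟨j, hj⟩ := exists_pow_eq_self_of_coprime (x := a) (hco.symm.pow_left N)
    refine (mem_autGroup_iff Z le_rfl).2 ⟨haC, _,
      (mem_autGroup_iff F hTQS).1 (pow_mem ((mem_autGroup_iff F hTQS).2 hθ) (p ^ N * j)),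
      fun x => ?_, fun x => ?_⟩
    · have hpow : ∀ m : ℕ, (θ ^ m) (Subgroup.inclusion le_sup_left x) =
          Subgroup.inclusion le_sup_left ((a ^ m) x) := by
        intro m
        induction m with
        | zero => rfl
        | succ m ih =>
          rw [pow_succ', MulAut.mul_apply, ih, pow_succ', MulAut.mul_apply]
          exact Subtype.ext ((hθe _).trans (hψe _))
      change (((θ ^ (p ^ N * j)) (Subgroup.inclusion le_sup_left x) : ↥(T ⊔ Q)) : Ω) = _
      rw [hpow, pow_mul, hj]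
      rfl
    · set y : ↥(T ⊔ Q) := Subgroup.inclusion le_sup_right x
      have hw : (x : Ω)⁻¹ * ψ y ∈ U ⊓ Q := hψq x x.2
      set w : ↥(T ⊔ Q) := y⁻¹ * θ y with hwdef
      have hwW : (w : Ω) ∈ U ⊓ Q := by
        rw [hwdef, Subgroup.coe_mul, Subgroup.coe_inv, hθe]
        exact hw
      have hθw : θ w = w := Subtype.ext ((hθe _).trans (hψW _ hwW))
      have hseq : ∀ m : ℕ, (θ ^ m) y = y * w ^ m := by
        intro m
        induction m with
        | zero => simp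
        | succ m ih =>
          rw [pow_succ', MulAut.mul_apply, ih, map_mul, map_pow, hθw, pow_succ', ← mul_assoc,
            hwdef, mul_inv_cancel_left]
      change (((θ ^ (p ^ N * j)) y : ↥(T ⊔ Q)) : Ω) = x
      have h1 : (⟨(w : Ω), hwW⟩ : ↥(U ⊓ Q)) ^ p ^ N = 1 := by
        have := finite_of_le (inf_le_right.trans hQ.1 : U ⊓ Q ≤ S)
        rw [← hN]
        exact pow_card_eq_one'
      have h2 : w ^ p ^ N = 1 := Subtype.ext (congrArg Subtype.val h1 :)
      rw [hseq, pow_mul, h2, one_pow, mul_one]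
      rfl
  intro φ hφ
  obtain ⟨α, hα, φ₀, hφ₀, he⟩ := frattini_centricPElementSys hTp hCs hφ
  have h1 := hφ₀.2 Z hZc
  have h2 := (mem_autGroup_iff Z le_rfl).1 (hZT hα)
  obtain ⟨-, ψ, hψ, hψe, hψQ⟩ : φ ∈ Z.Hom R :=
    mem_of_eq rfl (Z.comp_mem h1 h2 fun x => apply_mem_S Z h1 x)
      fun x => he x (apply_mem_S Z h1 x)
  refine ⟨hDF R (hW R hφ).1, fun y hy => ⟨hTS (le_S C hφ hy), fun q hq => ?_⟩,
    fun x => ⟨hTS (apply_mem_S C hφ x), fun q hq => ?_⟩, ψ, hψ, hψe, hψQ⟩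
  · exact (hTQ y (le_S C hφ hy) q hq).symm
  · exact (hTQ _ (apply_mem_S C hφ x) q hq).symm

/-- In a quasisimple system the largest normal subgroup is central. -/
theorem core_le_center {C : FusionSystem S} (hS : IsPGroup p S) (hC : C.Quasisimple p) :
    C.core ≤ C.center := by
  obtain ⟨hCs, hperf, hsimp⟩ := hC
  obtain ⟨hCS, hCc⟩ := isCentral_center (F := C)
  have hsc : C.StronglyClosed C.center := stronglyClosed_of_isNormal ⟨hCS, fun P φ hφ => by
    obtain ⟨ψ, hψ, hψe, hψC⟩ := hCc P φ hφ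
    exact ⟨ψ, hψ, hψe, img_eq_of_forall_fixed le_sup_right hψC⟩⟩
  set θ := QuotientGroup.mk' ((C.center).subgroupOf S) with hθ
  have hker : ∀ s : S, θ s = 1 ↔ (s : Ω) ∈ C.center := fun s =>
    (QuotientGroup.eq_one_iff s).trans Subgroup.mem_subgroupOf
  have hr : θ.range = ⊤ := MonoidHom.range_eq_top.2 (QuotientGroup.mk'_surjective _)
  have hE := isFactorSystem_factorSystem hsc hker hr
  have hEsimp := hsimp _ hE
  set E := factorSystem hsc hker hr
  have hp' : IsPGroup p (⊤ : Subgroup (↥S ⧸ (C.center).subgroupOf S)) :=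
    (hS.to_quotient _).to_subgroup ⊤
  have hmor := isSurjectiveMorphism_of_isFactorSystem hS hCs hsc hE
  have hQ : C.IsNormal C.core := isNormal_core
  set A := imageAlong θ C.core with hA
  have hAn : E.IsNormal A := by
    refine ⟨le_top, fun P' φ' hφ' => ?_⟩
    obtain ⟨φ, hφ, hP, hφS, hθP, hφe⟩ := hmor.2.2 P' le_top φ' hφ'
    obtain ⟨ψ, hψ, hψe, hψQ⟩ := hQ.2 _ φ hφ
    obtain ⟨ψ', hψ', hPQ, hψS, hθPQ, hψ'e⟩ := hmor.1.2 _ ψ hψ
    have hP'le : P' ⊔ A ≤ imageAlong θ (preimageAlong θ P' ⊔ C.core) := by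
      refine sup_le (fun y hy => ?_) (imageAlong_mono le_sup_right)
      obtain ⟨s, rfl⟩ := QuotientGroup.mk'_surjective _ y
      exact ⟨s, le_sup_left (b := C.core) (mem_preimageAlong.2 hy), rfl⟩
    refine ⟨ψ'.comp (Subgroup.inclusion hP'le), res_mem E hψ' hP'le, ?_, ?_⟩
    · rintro ⟨y, hy⟩
      obtain ⟨s, rfl⟩ := QuotientGroup.mk'_surjective _ y
      have hs : (s : Ω) ∈ preimageAlong θ P' := mem_preimageAlong.2 hy
      refine (hψ'e ⟨s, le_sup_left (b := C.core) hs⟩).trans ?_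
      refine Eq.trans ?_ (hφe ⟨s, hs⟩).symm
      exact congrArg θ (Subtype.ext (hψe ⟨s, hs⟩))
    · refine Subgroup.eq_of_le_of_card_ge ?_ ?_
      · rintro _ ⟨⟨y, hy⟩, hyA, rfl⟩
        obtain ⟨s, hs, rfl⟩ : y ∈ A := hyA
        rw [MonoidHom.comp_apply, show Subgroup.inclusion hP'le ⟨θ s, hy⟩ =
          ⟨θ ⟨s, hPQ (le_sup_right (a := preimageAlong θ P') hs)⟩, hθPQ ⟨s,
            le_sup_right (a := preimageAlong θ P') hs⟩⟩ from rfl, hψ'e ⟨s, le_sup_right (a := preimageAlong θ P') hs⟩]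
        exact ⟨_, apply_normal_mem hQ hψ (q := ⟨s, le_sup_right (a := preimageAlong θ P') hs⟩) hs,
          rfl⟩
      · change _ ≤ Nat.card (img (ψ'.comp (Subgroup.inclusion hP'le)) A)
        rw [← range_comp_inclusion (ψ'.comp (Subgroup.inclusion hP'le)) le_sup_right]
        exact (Nat.card_congr (MonoidHom.ofInjective (E.injective_of_mem
          (res_mem E (res_mem E hψ' hP'le) (le_sup_right : A ≤ P' ⊔ A)))).toEquiv).le
  have hAin : (innerFusionSystem A).IsNormalIn E p := by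
    refine isNormalIn_of_coprime_extensions hp'
      ((isNormal_iff_inner_weaklyNormal hp' hEsimp.1 le_top).1 hAn) fun a ha hco => ?_
    obtain ⟨-, g, hg, hge⟩ := (mem_autGroup_iff _ le_rfl).1 ha
    have ha1 : a = 1 := by
      have hmem : a ∈ autInducedBy A A := mem_autInducedBy_iff.2 ⟨g, hg, hge⟩
      obtain ⟨j, hj⟩ := (isPGroup_autInducedBy (hp'.to_le le_top) A) ⟨a, hmem⟩
      exact eq_one_of_pow_prime_of_coprime (congrArg Subtype.val hj) hco
    subst ha1
    exact ⟨1, one_mem _, fun x => rfl, fun c _ => by simp⟩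
  rcases hEsimp.2.2 A _ hAin with h | ⟨h, hall⟩
  · intro q hq
    have h1 : θ ⟨q, hQ.1 hq⟩ ∈ (⊥ : Subgroup _) := h.le ⟨_, hq, rfl⟩
    exact (hker _).1 (Subgroup.mem_bot.1 h1)
  · exfalso
    have hbot : E.hyperfocalSubgroup p = ⊥ := by
      rw [eq_bot_iff]
      refine (Subgroup.closure_le _).2 ?_
      rintro _ ⟨P, α, x, hP, hα, rfl⟩
      have hα1 : α = 1 := by
        have hle : E.autGroup P ≤ autInducedBy ⊤ P := fun b hb => by
          have hb' := (mem_autGroup_iff E hP).1 hb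
          rw [IsIso, ← hall] at hb'
          obtain ⟨-, g, -, hge⟩ := hb'
          exact mem_autInducedBy_iff.2 ⟨g, Subgroup.mem_top g, hge⟩
        have hpA : IsPGroup p (E.autGroup P) := (isPGroup_autInducedBy hp' P).to_le hle
        induction hα using Subgroup.closure_induction with
        | mem b hb => exact Transfer.eq_one_of_coprime_of_isPGroup hpA hb
        | one => rfl
        | mul a b _ _ ha hb => rw [ha, hb, one_mul]
        | inv a _ ha => rw [ha, inv_one]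
      subst hα1
      simp
    have h' := hyperfocalSubgroup_factor hS hCs hsc hE
    rw [hbot, hperf, Subgroup.subgroupOf_self] at h'
    exact hEsimp.2.1
      (h'.trans (Subgroup.map_top_of_surjective _ (QuotientGroup.mk'_surjective _))).symm

end CfsgLib.Fusion.CoreCent

namespace CfsgLib.Fusion.CoreCent

variable {Ω : Type*} [Group Ω]

/-- The largest normal subgroup centralizes every component. -/
theorem component_centralizes {T S : Subgroup Ω} {C : FusionSystem T} {F : FusionSystem S}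
    {p : ℕ} (h : C.IsSubnormalIn F p) :
    ∀ [Fact p.Prime] [Finite S], IsPGroup p S → C.Quasisimple p →
      ∀ R : Subgroup Ω, C.Hom R ⊆ F.centralizerHom F.core R := by
  induction h with
  | refl F p =>
    intro _ _ hS hC R φ hφ
    have hle := core_le_center hS hC
    obtain ⟨ψ, hψ, hψe, hψC⟩ := (isCentral_center (F := F)).2 R φ hφ
    have hZ := (F.center_le_centralizer)
    have hlec := sup_le_sup_left hle R
    refine ⟨hφ, fun y hy => ⟨le_S F hφ hy, fun q hq => (hZ (hle hq) y (le_S F hφ hy)).symm⟩,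
      fun x => ⟨apply_mem_S F hφ x, fun q hq => (hZ (hle hq) _ (apply_mem_S F hφ x)).symm⟩,
      _, res_mem F hψ hlec, fun x => hψe x, fun x => hψC ⟨x, hle x.2⟩⟩
  | step hsub hDF ih =>
    intro _ _ hS hC R
    have hU := hDF.1.2.2.2.1
    have := finite_of_le hU.1
    have hQ := isNormal_core (F := by assumption)
    refine centralizes_step hS hDF (subgroup_le_of_isSubnormalIn hsub) hC.1 hC.2.1 ?_ hQ R
    intro R' φ hφ
    obtain ⟨h1, h2, h3, ψ, hψ, hψe, hψQ⟩ := ih (hS.to_le hU.1) hC R' hφ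
    have hle := le_sSup (a := _) (show _ ∈ {Q : Subgroup Ω | FusionSystem.IsNormal _ Q} from
      isNormal_inf hS hDF hQ)
    have hlec := sup_le_sup_left hle R'
    exact ⟨h1, fun y hy => ⟨(h2 hy).1, fun q hq => (h2 hy).2 q (hle hq)⟩,
      fun x => ⟨(h3 x).1, fun q hq => (h3 x).2 q (hle hq)⟩,
      _, res_mem _ hψ hlec, fun x => hψe x, fun x => hψQ ⟨x, hle x.2⟩⟩

variable {S : Subgroup Ω} [Finite S] {p : ℕ} [Fact p.Prime] {F : FusionSystem S}
  {Q : Subgroup Ω}

/-- The centralizer system of a normal subgroup is normal. -/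
theorem isNormalIn_centSys (hS : IsPGroup p S) (hF : F.IsSaturated p) (hQ : F.IsNormal Q) :
    (centSys F Q rfl hQ.1).IsNormalIn F p := by
  have hQS := hQ.1
  have hQsc := stronglyClosed_of_isNormal hQ
  have := finite_of_le hQS
  set C := centralizerIn S Q with hC
  have hCS : C ≤ S := centralizerIn_le Q
  have := finite_of_le hCS
  have hCcl : F.StronglyClosed C := by
    refine ⟨hCS, fun R hR φ hφ x => ⟨apply_mem_S F hφ x, fun q hq => ?_⟩⟩
    obtain ⟨ψ, hψ, hψe, hψQ⟩ := hQ.2 R φ hφ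
    obtain ⟨q', hq', rfl⟩ := mem_img.1 ((show img ψ Q = Q from hψQ).ge hq)
    rw [← hψe, ← map_mul, ← map_mul]
    exact congrArg ψ (Subtype.ext ((hR x.2).2 _ hq'))
  -- automorphisms of `C` extend to `C Q`
  have hlift : ∀ α ∈ F.autGroup C, ∃ e ∈ F.autGroup (C ⊔ Q), ∀ y : C,
      ((e (Subgroup.inclusion le_sup_left y) : ↥(C ⊔ Q)) : Ω) = ((α y : C) : Ω) := by
    intro α hα
    obtain ⟨ψ, hψ, hψe, -⟩ := hQ.2 C _ ((mem_autGroup_iff F hCS).1 hα)
    obtain ⟨e, he, hee⟩ := exists_iso_of_range hψ (range_eq_sup_of_stronglyClosed hCcl hQsc hψ)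
    exact ⟨e, (mem_autGroup_iff F (sup_le hCS hQS)).2 he, fun y => (hee _).trans (hψe y)⟩
  have hwn : (centSys F Q rfl hQS).IsWeaklyNormalIn F p := by
    refine ⟨isSaturated_centSys hS hF rfl hQS (isFullyCentralized_of_stronglyClosed hQsc), hF,
      fun P φ h => h.1, hCcl, fun P hP φ hφ α hα => ?_, fun P hP φ hφ => ?_⟩
    · obtain ⟨e, he, hee⟩ := hlift α hα
      set a : C →* Ω := C.subtype.comp α.toMonoidHom with ha
      set P' := (P.subgroupOf C).map a with hP'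
      have hP'C : P' ≤ C := by rintro _ ⟨u, -, rfl⟩; exact (α u).2
      set b : C →* Ω := C.subtype.comp (α⁻¹ : MulAut C).toMonoidHom with hb
      have hback : ∀ y : P', b ⟨y, hP'C y.2⟩ ∈ P := by
        rintro ⟨_, u, hu, rfl⟩
        change ((α⁻¹ (α u) : C) : Ω) ∈ P
        rw [MulAut.inv_apply_self]
        exact hu
      let β : P' →* P :=
        (b.comp (Subgroup.inclusion hP'C)).codRestrict P hback
      have hφC : ∀ x, φ x ∈ C := hφ.2.2.1
      let χ : P' →* Ω := a.comp ((φ.comp β).codRestrict C fun y => hφC _)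
      refine ⟨χ, centralizerHom_transport hQsc le_rfl he hP hP'C hφ hφC
        (fun y => (α _).2) fun y => ⟨β y, ?_, ?_⟩, fun x hφx hαx => ?_⟩
      · refine (hee ⟨_, hP (β y).2⟩).trans ?_
        exact congrArg Subtype.val (α.apply_symm_apply ⟨y, hP'C y.2⟩)
      · exact (hee ⟨_, hφC (β y)⟩).symm
      · change ((α ⟨φ (β ⟨_, hαx⟩), _⟩ : C) : Ω) = _
        have h1 : β ⟨_, hαx⟩ = x := Subtype.ext
          (congrArg Subtype.val (α.symm_apply_apply ⟨x, hP x.2⟩) :)
        exact congrArg (fun u : C => ((α u : C) : Ω)) (Subtype.ext (congrArg φ h1))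
    · obtain ⟨ψ, hψ, hψe, hψQ⟩ := hQ.2 P φ hφ
      obtain ⟨a, ha, hae⟩ := exists_iso_of_range (res_mem F hψ (le_sup_right : Q ≤ P ⊔ Q))
        ((range_comp_inclusion ψ le_sup_right).trans hψQ)
      obtain ⟨ξ, hξ, hξe⟩ := exists_aut_extension hS hF hQsc ((mem_autGroup_iff F hQS).2 ha)
      have hMS : Q ⊔ C ≤ S := sup_le hQS hCS
      have hξC : ∀ c : ↥(Q ⊔ C), (c : Ω) ∈ C → ((ξ c : ↥(Q ⊔ C)) : Ω) ∈ C := fun c hc =>
        apply_mem_centralizerIn_of_ext hQS hξe hc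
      obtain ⟨α, hα, hαe⟩ := exists_iso_of_range
        (res_mem F ((mem_autGroup_iff F hMS).1 hξ) (le_sup_right : C ≤ Q ⊔ C))
        ((weaklyClosed_of_stronglyClosed hCcl).2 _
          (res_mem F ((mem_autGroup_iff F hMS).1 hξ) (le_sup_right : C ≤ Q ⊔ C)))
      have hv : ∀ z : ↥(P ⊔ Q), ψ z ∈ Q ⊔ C := by
        intro z
        have h := apply_mem_sup hψe (fun x => hCcl.2 P hP φ hφ x) (show img ψ Q ≤ Q from hψQ.le) z
        rwa [sup_comm] at h
      refine ⟨α, (mem_autGroup_iff F hCS).2 hα, ?_⟩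
      let φ₁ : ↥(P ⊔ Q) →* Ω :=
        ((Q ⊔ C).subtype.comp (ξ⁻¹ : MulAut ↥(Q ⊔ C)).toMonoidHom).comp
          (ψ.codRestrict (Q ⊔ C) hv)
      have hφ₁ : φ₁ ∈ F.Hom (P ⊔ Q) :=
        F.comp_mem hψ ((mem_autGroup_iff F hMS).1 (inv_mem hξ)) hv
      have hfix : ∀ x : Q, φ₁ (Subgroup.inclusion le_sup_right x) = x := by
        intro x
        change ((ξ⁻¹ ⟨ψ (Subgroup.inclusion le_sup_right x), _⟩ : ↥(Q ⊔ C)) : Ω) = x
        rw [show (⟨ψ (Subgroup.inclusion le_sup_right x), hv _⟩ : ↥(Q ⊔ C)) =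
          ξ (Subgroup.inclusion le_sup_left x) from
            Subtype.ext ((hae x).symm.trans (hξe x).symm), MulAut.inv_apply_self]
        rfl
      let φ₀ : P →* Ω := φ₁.comp (Subgroup.inclusion le_sup_left)
      have hφ₀C : ∀ x, φ₀ x ∈ C := fun x =>
        hCcl.2 P hP φ₀ (res_mem F hφ₁ le_sup_left) x
      refine ⟨φ₀, ⟨res_mem F hφ₁ le_sup_left, hP, hφ₀C, φ₁, hφ₁, fun x => rfl, hfix⟩,
        fun x hx => ?_⟩
      rw [hαe]
      change φ x = ((ξ ⟨φ₀ x, _⟩ : ↥(Q ⊔ C)) : Ω)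
      rw [show (⟨φ₀ x, le_sup_right (a := Q) hx⟩ : ↥(Q ⊔ C)) =
        ξ⁻¹ ⟨ψ (Subgroup.inclusion le_sup_left x), hv _⟩ from Subtype.ext rfl,
        MulAut.apply_inv_self]
      exact (hψe x).symm
  refine isNormalIn_of_coprime_extensions hS hwn fun a ha hco => ?_
  obtain ⟨-, -, -, ψ, hψ, hψe, hψQ⟩ := (mem_autGroup_iff _ le_rfl).1 ha
  set X := centralizerIn S C
  have hQX : Q ≤ X := fun q hq => ⟨hQS hq, fun c hc => (hc.2 q hq).symm⟩
  -- extend to `C Q C_S(C)`
  obtain ⟨γ, hγ, hγe⟩ := exists_aut_extension hS hF hCcl (autGroup_mono hwn.2.2.1 C ha)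
  have hle : C ⊔ Q ≤ C ⊔ X := sup_le_sup_left hQX C
  have hψr := range_eq_sup_of_stronglyClosed hCcl hQsc hψ
  obtain ⟨θ, hθ, hθe⟩ := exists_iso_of_range hψ hψr
  have hCQS : C ⊔ Q ≤ S := sup_le hCS hQS
  have hM : C ⊔ X ≤ extender S (C ⊔ Q) ((C ⊔ Q).subtype.comp θ.toMonoidHom) := by
    intro g hg
    have hgS : g ∈ S := sup_le hCS (centralizerIn_le C) hg
    have hgn : g ∈ Subgroup.normalizer ((C ⊔ Q : Subgroup Ω) : Set Ω) :=
      le_normalizer_of_stronglyClosed (stronglyClosed_sup hS hF hCcl hQsc) hgS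
    obtain ⟨x, hx, c, hc, rfl⟩ := exists_mul_of_mem_sup
      ((centralizerIn_le C).trans (le_normalizer_of_stronglyClosed hCcl))
      ((sup_comm C X).le hg)
    have hxn := le_normalizer_of_stronglyClosed (stronglyClosed_sup hS hF hCcl hQsc)
      (centralizerIn_le C hx)
    refine mul_mem ?_ (le_extender hθ (le_sup_left (b := Q) hc))
    refine mem_extender_iso_iff.2 ⟨centralizerIn_le C hx, hxn, ?_⟩
    -- conjugation by `x` commutes with `θ`
    have hθQ : ∀ q : ↥(C ⊔ Q), (q : Ω) ∈ Q → θ q = q := fun q hq =>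
      Subtype.ext ((hθe q).trans (hψQ ⟨q, hq⟩))
    have hcomm : MulAut.congr θ (normAut x hxn) = normAut x hxn := by
      refine MulEquiv.ext fun y => ?_
      obtain ⟨z, rfl⟩ := θ.surjective y
      change θ (normAut x hxn (θ.symm (θ z))) = _
      rw [MulEquiv.symm_apply_apply]
      have hclo : C ⊔ Q ≤ ((θ.toMonoidHom.comp (normAut x hxn).toMonoidHom).eqLocus
          ((normAut x hxn).toMonoidHom.comp θ.toMonoidHom)).map (C ⊔ Q).subtype := by
        refine sup_le (fun w hw => ⟨⟨w, le_sup_left (b := Q) hw⟩, ?_, rfl⟩)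
          fun w hw => ⟨⟨w, le_sup_right (a := C) hw⟩, ?_, rfl⟩
        · have h1 : normAut x hxn ⟨w, le_sup_left (b := Q) hw⟩ =
              ⟨w, le_sup_left (b := Q) hw⟩ := Subtype.ext (by
            rw [normAut_apply, ← hx.2 w hw, mul_inv_cancel_right])
          have h2 : ((θ ⟨w, le_sup_left (b := Q) hw⟩ : ↥(C ⊔ Q)) : Ω) ∈ C :=
            ((hθe _).trans (hψe ⟨w, hw⟩)) ▸ (a ⟨w, hw⟩).2
          refine Subtype.ext ?_
          change ((θ (normAut x hxn _) : ↥(C ⊔ Q)) : Ω) = (normAut x hxn (θ _) : Ω)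
          rw [h1, normAut_apply, ← hx.2 _ h2, mul_inv_cancel_right]
        · have h2 : ((normAut x hxn ⟨w, le_sup_right (a := C) hw⟩ : ↥(C ⊔ Q)) : Ω) ∈ Q := by
            rw [normAut_apply]
            exact conj_mem_of_mem_normalizer
              (le_normalizer_of_stronglyClosed hQsc (centralizerIn_le C hx)) hw
          change θ (normAut x hxn _) = normAut x hxn (θ _)
          rw [hθQ _ h2, hθQ _ hw]
      obtain ⟨z', hz', hzz⟩ := hclo z.2
      rw [show z = z' from Subtype.ext hzz.symm]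
      exact hz'
    rw [hcomm]
    exact mem_autInducedBy_iff.2 ⟨x, centralizerIn_le C hx, fun _ => normAut_apply _ _ _⟩
  obtain ⟨ψ₂, hψ₂, hψ₂e⟩ := exists_extension
    (receptive_of_fullyCentralized hS hF
      (fullyCentralized_of_fullyNormalized hS hF
        (isFullyNormalized_sup_of_stronglyClosed hCcl hQsc))) hθ hle hM
  have hCX : F.StronglyClosed (C ⊔ X) := stronglyClosed_sup_centralizerIn hS hF hCcl
  obtain ⟨β, hβ, hβe⟩ := exists_iso_of_range hψ₂
    ((weaklyClosed_of_stronglyClosed hCX).2 _ hψ₂)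
  refine ⟨β, (mem_autGroup_iff F hCX.1).2 hβ, fun x => ?_, fun c hc => ?_⟩
  · refine (hβe _).trans ((hψ₂e (Subgroup.inclusion le_sup_left x)).trans ?_)
    exact (hθe _).trans (hψe x)
  · have hx := apply_mem_centralizerIn_of_ext (a := a) hCS
      (fun x => (hβe _).trans ((hψ₂e (Subgroup.inclusion le_sup_left x)).trans
        ((hθe _).trans (hψe x)))) hc
    have h1 := X.mul_mem (X.inv_mem hc) hx
    refine ⟨⟨h1.1, fun q hq => ?_⟩, h1.2⟩
    -- `β` fixes `Q`, so `c` and `β c` act alike on `Q`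
    have hβQ : ∀ z : ↥(C ⊔ X), (z : Ω) ∈ Q → β z = z := fun z hz => by
      refine Subtype.ext ((hβe z).trans ?_)
      exact (hψ₂e ⟨z, le_sup_right (a := C) hz⟩).trans
        ((hθe _).trans (hψQ ⟨z, hz⟩))
    have hcq : (c : Ω) * q * (c : Ω)⁻¹ ∈ Q := conj_mem_of_mem_normalizer
      (le_normalizer_of_stronglyClosed hQsc (centralizerIn_le C hc)) hq
    set z : ↥(C ⊔ X) := c * ⟨q, le_sup_right (a := C) (hQX hq)⟩ * c⁻¹
    have h2 := congrArg Subtype.val (hβQ z hcq)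
    simp only [z, map_mul, map_inv, hβQ ⟨q, le_sup_right (a := C) (hQX hq)⟩ hq,
      Subgroup.coe_mul, Subgroup.coe_inv] at h2
    calc q * ((c : Ω)⁻¹ * ((β c : ↥(C ⊔ X)) : Ω))
        = (c : Ω)⁻¹ * ((c : Ω) * q * (c : Ω)⁻¹) * ((β c : ↥(C ⊔ X)) : Ω) := by group
      _ = _ := by rw [← h2]; group

/-- **The largest normal subgroup centralizes the layer.** -/
theorem core_centralizes_layer (hS : IsPGroup p S) (hF : F.IsSaturated p) {T : Subgroup Ω}
    {E : FusionSystem T} (hE : E.IsLayerOf F p) (P : Subgroup Ω) :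
    E.Hom P ⊆ F.centralizerHom F.core P :=
  hE.2.2 _ _ (isNormalIn_centSys hS hF isNormal_core)
    (fun _ _ hC P => component_centralizes hC.1 hS hC.2 P) P

end CfsgLib.Fusion.CoreCent
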