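import Cfsg.Agent.Lib.Fusion.Supersoluble
import Cfsg.Agent.Lib.Fusion.HypFocal

/-!
# Extremely sparse fusion systems
-/

set_option autoImplicit false

open Cfsg Cfsg.FusionSystem

namespace CfsgLib.Fusion

variable {Ω : Type*} [Group Ω] {S : Subgroup Ω} [Finite S] {p : ℕ} [Fact p.Prime]

theorem eq_one_of_coprime_of_inner {T : Subgroup Ω} [Finite T] (hT : IsPGroup p T)
    {β : MulAut T} (hβ : (orderOf β).Coprime p)
    (hc : ∃ g ∈ T, ∀ x : T, ((β x : T) : Ω) = g * x * g⁻¹) : β = 1 := by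
  obtain ⟨g, hg, hge⟩ := hc
  obtain rfl : β = MulAut.conj ⟨g, hg⟩ := MulEquiv.ext fun x => Subtype.ext (hge x)
  obtain ⟨k, hk⟩ := hT ⟨g, hg⟩
  have h1 : orderOf (MulAut.conj (⟨g, hg⟩ : T)) ∣ p ^ k :=
    orderOf_dvd_of_pow_eq_one (by rw [← map_pow, hk, map_one])
  exact orderOf_eq_one_iff.1 (Nat.eq_one_of_dvd_coprimes (hβ.pow_right k) dvd_rfl h1)

/-- In a system all of whose proper saturated subsystems are inner, the automorphism groups of
order prime to `p` of proper subgroups are trivial; those of `S` generate everything. -/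
theorem sparse_aut (hS : IsPGroup p S) (F : FusionSystem S)
    (h : ∀ (T : Subgroup Ω) (E : FusionSystem T), E.IsSaturated p → E.IsSubsystemOf F →
      (T = S ∧ ∀ P, E.Hom P = F.Hom P) ∨ ∀ P, E.Hom P = (innerFusionSystem T).Hom P)
    {T : Subgroup Ω} (hT : T ≤ S) {β : MulAut T} (hβ : β ∈ F.autGroup T)
    (hco : (orderOf β).Coprime p) :
    β = 1 ∨ (T = S ∧ ∀ α ∈ F.autGroup T, ∃ (s : T) (k : ℤ), α = MulAut.conj s * β ^ k) := by
  have := finite_of_le hT
  obtain ⟨E, hE, hβE, hdesc⟩ := exists_saturated_of_coprime_aut (hS.to_le hT)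
    (Subgroup.zpowers β) (by rwa [Nat.card_zpowers])
  have hsub : E.IsSubsystemOf F := by
    intro P φ hφ
    obtain ⟨s, b, hb, hφe⟩ := hdesc P φ hφ
    have hP := le_S E hφ
    have hα : MulAut.conj s * b ∈ F.autGroup T :=
      mul_mem (autInducedBy_le_autGroup hT (mem_autInducedBy_iff.2 ⟨s, hT s.2, fun _ => rfl⟩))
        (Subgroup.zpowers_le.2 hβ hb)
    have h1 := res_mem F ((mem_autGroup_iff F hT).1 hα) hP
    rw [show φ = (T.subtype.comp (MulAut.conj s * b).toMonoidHom).comp (Subgroup.inclusion hP) from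
      MonoidHom.ext fun x => hφe x (hP x.2)]
    exact h1
  rcases h T E hE hsub with ⟨rfl, hEF⟩ | hin
  · refine Or.inr ⟨rfl, fun α hα => ?_⟩
    have h1 := (mem_autGroup_iff F le_rfl).1 hα
    obtain ⟨s, b, ⟨k, rfl⟩, he⟩ := hdesc T (T.subtype.comp α.toMonoidHom)
      (by rw [hEF]; exact h1)
    exact ⟨s, k, MulEquiv.ext fun x => Subtype.ext (he x x.2)⟩
  · refine Or.inl (eq_one_of_coprime_of_inner (hS.to_le hT) hco ?_)
    have h1 := (mem_autGroup_iff E le_rfl).1 (hβE (Subgroup.mem_zpowers β))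
    obtain ⟨-, g, hg, hge⟩ : T.subtype.comp β.toMonoidHom ∈ (innerFusionSystem T).Hom T :=
      hin T ▸ h1
    exact ⟨g, hg, hge⟩

/-- A group of automorphisms without nontrivial elements of order prime to `p` is a `p`-group. -/
theorem isPGroup_of_no_coprime {G : Type*} [Group G] [Finite G]
    (h : ∀ g : G, (orderOf g).Coprime p → g = 1) : IsPGroup p G := by
  refine IsPGroup.of_card (n := (Nat.card G).primeFactorsList.length)
    (Nat.eq_prime_pow_of_unique_prime_dvd Nat.card_pos.ne' fun {q} hq hdvd => ?_)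
  by_contra hqp
  have := Fact.mk hq
  obtain ⟨g, hg⟩ := exists_prime_orderOf_dvd_card' q hdvd
  rw [h g (hg ▸ (Nat.coprime_primes hq Fact.out).2 hqp), orderOf_one] at hg
  exact hq.ne_one hg.symm

theorem not_isEssential_of_isPGroup_autGroup (hS : IsPGroup p S) {F : FusionSystem S} {P : Subgroup Ω}
    (hA : IsPGroup p (F.autGroup P)) : ¬ F.IsEssential p P := by
  intro hP
  have := finite_of_le hP.1.1
  obtain ⟨-, hr⟩ := isRadical_of_isEssential hS hP
  obtain ⟨-, -, hN, Y, hdvd, -, -⟩ := hP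
  have htop : pCore p (F.autGroup P) = ⊤ :=
    top_le_iff.1 (le_sSup ⟨inferInstance, hA.of_equiv Subgroup.topEquiv.symm⟩)
  rw [htop, ← MonoidHom.range_eq_map, Subgroup.range_subtype] at hr
  rw [show (Inn P).subgroupOf (F.autGroup P) = ⊤ by rw [← hr, Subgroup.subgroupOf_self]] at hdvd
  rw [← Subgroup.index, Subgroup.index_top] at hdvd
  exact (Fact.out : p.Prime).not_dvd_one hdvd

theorem extremely_sparse (hS : IsPGroup p S) (F : FusionSystem S) (hF : F.IsSaturated p)
    (hne : ¬ ∀ P, F.Hom P = (innerFusionSystem S).Hom P)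
    (h : ∀ (T : Subgroup Ω) (E : FusionSystem T), E.IsSaturated p → E.IsSubsystemOf F →
      (T = S ∧ ∀ P, E.Hom P = F.Hom P) ∨ ∀ P, E.Hom P = (innerFusionSystem T).Hom P) :
    F.IsNormal S ∧ F.focalSubgroup = S ∧ F.hyperfocalSubgroup p = S ∧
      ∃ (q : ℕ) (β : MulAut S), q.Prime ∧ q ≠ p ∧ β ∈ F.autGroup S ∧ orderOf β = q ∧
        F.autGroup S = Inn S ⊔ Subgroup.zpowers β := by
  have hn : F.IsNormal S := by
    refine isNormal_of_stronglyClosed hS hF ⟨le_rfl, fun _ _ _ hφ x => apply_mem_S F hφ x⟩ ?_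
    intro P hP
    by_contra hPS
    have := finite_of_le hP.1.1
    refine not_isEssential_of_isPGroup_autGroup hS (isPGroup_of_no_coprime fun g hg => ?_) hP
    rw [← Subgroup.orderOf_coe] at hg
    rcases sparse_aut hS F h hP.1.1 g.2 hg with h1 | ⟨h1, -⟩
    · exact Subtype.ext h1
    · exact absurd h1.ge hPS
  -- a coprime automorphism
  obtain ⟨H, hH, hA⟩ := exists_coprime_complement hS hF
  obtain ⟨q, β, hq, hqp, hβA, hβo⟩ : ∃ (q : ℕ) (β : MulAut S), q.Prime ∧ q ≠ p ∧
      β ∈ F.autGroup S ∧ orderOf β = q := by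
    by_contra hcon
    refine hne fun P => Set.Subset.antisymm (fun φ hφ => ?_) (innerFusionSystem_le F P)
    have hPS := le_S F hφ
    obtain ⟨ψ, hψ, hψe, -⟩ := hn.2 P φ hφ
    have hpA : IsPGroup p (F.autGroup S) := by
      refine IsPGroup.of_card (n := (Nat.card (F.autGroup S)).primeFactorsList.length)
        (Nat.eq_prime_pow_of_unique_prime_dvd Nat.card_pos.ne' fun {r} hr hdvd => ?_)
      by_contra hrp
      have := Fact.mk hr
      obtain ⟨g, hg⟩ := exists_prime_orderOf_dvd_card' r hdvd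
      exact hcon ⟨r, g, hr, hrp, g.2, (Subgroup.orderOf_coe g).trans hg⟩
    let f : S →* S :=
      (ψ.comp (Subgroup.inclusion (le_sup_right : S ≤ P ⊔ S))).codRestrict S
        fun y => apply_mem_S F hψ _
    have hf : Function.Injective f := fun a b h =>
      Subgroup.inclusion_injective _ (F.injective_of_mem hψ (congrArg Subtype.val h))
    let α : MulAut S := MulEquiv.ofBijective f (Finite.injective_iff_bijective.1 hf)
    have hα : α ∈ F.autGroup S := (mem_autGroup_iff F le_rfl).2 (res_mem F hψ le_sup_right)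
    obtain ⟨-, R, hR⟩ :=
      (fullyAutomized_receptive_of_fullyNormalized hS hF isFullyNormalized_self).1
    have htop : (⊤ : Subgroup (F.autGroup S)) = R :=
      R.3 (hpA.of_equiv Subgroup.topEquiv.symm) le_top
    have h1 : (⟨α, hα⟩ : F.autGroup S) ∈ (R : Subgroup (F.autGroup S)) := htop ▸ Subgroup.mem_top _
    rw [hR, Subgroup.mem_subgroupOf, mem_autInducedBy_iff] at h1
    obtain ⟨g, hg, hge⟩ := h1
    exact ⟨hPS, g, hg, fun x => (hψe x).symm.trans (hge ⟨x, hPS x.2⟩)⟩
  have hco : (orderOf β).Coprime p := hβo ▸ (Nat.coprime_primes hq Fact.out).2 hqp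
  have hβ1 : β ≠ 1 := fun h1 => hq.ne_one (by rw [← hβo, h1, orderOf_one])
  have hgen : F.autGroup S = Inn S ⊔ Subgroup.zpowers β := by
    refine le_antisymm (fun α hα => ?_) (sup_le ?_ (Subgroup.zpowers_le.2 hβA))
    · obtain ⟨-, hrep⟩ := (sparse_aut hS F h le_rfl hβA hco).resolve_left hβ1
      obtain ⟨s, k, rfl⟩ := hrep α hα
      exact mul_mem (Subgroup.mem_sup_left ⟨s, rfl⟩)
        (Subgroup.mem_sup_right (Subgroup.zpow_mem_zpowers β k))
    · rintro _ ⟨s, rfl⟩
      exact autInducedBy_le_autGroup le_rfl (mem_autInducedBy_iff.2 ⟨s, s.2, fun _ => rfl⟩)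
  -- `[S, β] = S`
  set T := F.hyperfocalSubgroup p
  have hTS : T ≤ S := hyperfocalSubgroup_le p
  have hmove : ∀ x : S, (x : Ω)⁻¹ * (β x : S) ∈ T := fun x =>
    Subgroup.subset_closure ⟨S, ⟨β, hβA⟩, x, le_rfl,
      Subgroup.subset_closure (show (orderOf (⟨β, hβA⟩ : F.autGroup S)).Coprime p by
        rwa [← Subgroup.orderOf_coe]), rfl⟩
  have hinv : ∀ x : S, (x : Ω) ∈ T → ((β x : S) : Ω) ∈ T := fun x hx => by
    simpa using T.mul_mem hx (hmove x)
  have hT : T = S := by
    by_contra hlt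
    have := finite_of_le hTS
    let f : T →* T :=
      ((S.subtype.comp β.toMonoidHom).comp (Subgroup.inclusion hTS)).codRestrict T
        fun x => hinv _ x.2
    have hf : Function.Injective f := fun a b hab =>
      Subgroup.inclusion_injective hTS (β.injective (Subtype.ext (congrArg Subtype.val hab :)))
    let γ : MulAut T := MulEquiv.ofBijective f (Finite.injective_iff_bijective.1 hf)
    have hγ : γ ∈ F.autGroup T :=
      (mem_autGroup_iff F hTS).2 (res_mem F ((mem_autGroup_iff F le_rfl).1 hβA) hTS)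
    have hγq : γ ^ q = 1 := by
      have hk : ∀ (k : ℕ) (x : T), (((γ ^ k) x : T) : Ω) = ((β ^ k) ⟨x, hTS x.2⟩ : S) := by
        intro k
        induction k with
        | zero => intro x; rfl
        | succ k ih =>
          intro x
          rw [pow_succ', pow_succ', MulAut.mul_apply, MulAut.mul_apply]
          change ((β ⟨_, hTS ((γ ^ k) x).2⟩ : S) : Ω) = _
          exact congrArg (fun y : S => ((β y : S) : Ω)) (Subtype.ext (ih x))
      refine MulEquiv.ext fun x => Subtype.ext ?_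
      rw [hk, ← hβo, pow_orderOf_eq_one]
      rfl
    have hγ1 : γ = 1 :=
      ((sparse_aut hS F h hTS hγ
        (Nat.Coprime.coprime_dvd_left (orderOf_dvd_of_pow_eq_one hγq)
          ((Nat.coprime_primes hq Fact.out).2 hqp))).resolve_right fun h1 => hlt h1.1)
    refine hβ1 (MulEquiv.ext fun x => ?_)
    have hd : β (x⁻¹ * β x) = x⁻¹ * β x := by
      have h2 := DFunLike.congr_fun hγ1 ⟨_, hmove x⟩
      exact Subtype.ext (congrArg Subtype.val h2 :)
    have h3 := eq_one_of_fixed_translate hS hq hqp (hβo ▸ pow_orderOf_eq_one β) hd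
      (x := x) (by group)
    exact (inv_mul_eq_one.1 h3).symm
  exact ⟨hn, le_antisymm focalSubgroup_le (hT.ge.trans (hyperfocalSubgroup_le_focalSubgroup p)),
    hT, q, β, hq, hqp, hβA, hβo, hgen⟩

end CfsgLib.Fusion
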