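import Cfsg.Agent.Lib.Fusion.FunctorMaps
import Cfsg.Agent.Lib.Transfer.FusionQuot

/-!
# Functor values, local systems, systems fixing a normal subgroup, quotients

The three systems smaller than `F` used in inductions over a normal subgroup `X = O_p(F)`.
-/

set_option autoImplicit false

open Cfsg Cfsg.FusionSystem

namespace CfsgLib.Fusion

universe u

section WImg

variable (W : ∀ (Q : Type u) [Group Q], Subgroup Q)

/-- The value of a functor on a subgroup, inside the ambient group. -/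
def wImg {Ω : Type u} [Group Ω] (T : Subgroup Ω) : Subgroup Ω := (W ↥T).map T.subtype

variable {Ω : Type u} [Group Ω] {S : Subgroup Ω}

theorem wImg_le (T : Subgroup Ω) : wImg W T ≤ T := Subgroup.map_subtype_le _

variable {p : ℕ}
  (hW1 : ∀ (Q : Type u) [Group Q] [Finite Q], IsPGroup p Q → Nontrivial Q → W Q ≠ ⊥)
  (hW2 : ∀ (Q R : Type u) [Group Q] [Group R] [Finite Q], IsPGroup p Q →
    ∀ φ : Q ≃* R, (W Q).map φ.toMonoidHom = W R)

include hW1 in
theorem wImg_ne_bot [Finite S] (hS : IsPGroup p S) {T : Subgroup Ω} (hT : T ≤ S) (hne : T ≠ ⊥) :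
    wImg W T ≠ ⊥ := by
  have := finite_of_le hT
  have : Nontrivial T := (Subgroup.nontrivial_iff_ne_bot T).2 hne
  intro h
  exact hW1 T (hS.to_le hT) this ((Subgroup.map_eq_bot_iff_of_injective _ T.subtype_injective).1 h)

include hW2 in
theorem normalizerIn_le_wImg [Finite S] (hS : IsPGroup p S) {T : Subgroup Ω} (hT : T ≤ S) :
    normalizerIn S T ≤ normalizerIn S (wImg W T) := by
  have := finite_of_le hT
  intro g hg
  refine ⟨hg.1, ?_⟩
  have hmap := hW2 T T (hS.to_le hT) (normAut g hg.2)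
  have := finite_of_le ((wImg_le W T).trans hT)
  refine mem_normalizer_of_forall ?_
  rintro _ ⟨w, hw, rfl⟩
  exact ⟨normAut g hg.2 w, hmap.le ⟨w, hw, rfl⟩, rfl⟩

include hW2 in
theorem le_normalizerIn_wImg [Finite S] (hS : IsPGroup p S) :
    S ≤ normalizerIn S (wImg W S) :=
  (le_normalizerIn le_rfl).trans (normalizerIn_le_wImg W hW2 hS le_rfl)

end WImg

section Local

variable {Ω : Type*} [Group Ω] {S : Subgroup Ω} {F : FusionSystem S} {p : ℕ} [Fact p.Prime]
  [Finite S]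

/-- The normalizer system of a subgroup that is not normal is a proper subsystem. -/
theorem normSys_proper {U : Subgroup Ω} (hU : U ≤ S) (hnot : ¬ F.IsNormal U) :
    ¬ ∀ P, F.Hom P ⊆ (normSys F U rfl hU).Hom P :=
  fun h => hnot ⟨hU, fun P _ hφ => (h P hφ).2.2.2⟩

theorem normSys_isSubsystemOf {U : Subgroup Ω} (hU : U ≤ S) :
    (normSys F U rfl hU).IsSubsystemOf F := fun _ _ h => h.1

theorem isSaturated_normSys (hS : IsPGroup p S) (hF : F.IsSaturated p) {U : Subgroup Ω}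
    (hU : F.IsFullyNormalized U) : (normSys F U rfl hU.1).IsSaturated p :=
  isSaturated_normalizerSystem hS hF hU _ fun _ => rfl

omit [Fact p.Prime] in
theorem normalizerHom_normSys {U : Subgroup Ω} (hU : U ≤ S) (V P : Subgroup Ω) :
    (normSys F U rfl hU).normalizerHom V P ⊆ F.normalizerHom U P ∩ F.normalizerHom V P :=
  fun _ h => ⟨h.1, normalizerHom_mono (normalizerIn_le U) (normSys_isSubsystemOf hU) V P h⟩

variable (F) in
/-- The maps acting on the normal subgroup `X` as elements of `S`. -/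
def innerOnSys (X : Subgroup Ω) (hX : X ≤ S) (hXn : S ≤ Subgroup.normalizer (X : Set Ω)) :
    FusionSystem S where
  Hom P := {φ | φ ∈ F.Hom P ∧ ∃ ψ ∈ F.Hom (P ⊔ X),
    (∀ x : P, ψ (Subgroup.inclusion le_sup_left x) = φ x) ∧
    ∃ s ∈ S, ∀ x : X, ψ (Subgroup.inclusion le_sup_right x) = s * (x : Ω) * s⁻¹}
  le_of_mem h := F.le_of_mem h.1
  injective_of_mem h := F.injective_of_mem h.1
  conj_mem {P g} hP hg := ⟨F.conj_mem hP hg, _, F.conj_mem (sup_le hP hX) hg, fun _ => rfl,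
    g, hg, fun _ => rfl⟩
  comp_mem := by
    rintro P Q φ ψ ⟨hφ, φ', hφ', hφe, s, hs, hse⟩ ⟨hψ, ψ', hψ', hψe, t, ht, hte⟩ h
    have hX' : img φ' X ≤ X := by
      intro y hy
      obtain ⟨x, hx, rfl⟩ := mem_img.1 hy
      rw [show x = Subgroup.inclusion le_sup_right ⟨(x : Ω), hx⟩ from rfl, hse]
      exact conj_mem_of_mem_normalizer (hXn hs) hx
    have hval := apply_mem_sup hφe h hX'
    refine ⟨F.comp_mem hφ hψ h, _, F.comp_mem hφ' hψ' hval, fun x => ?_, t * s, S.mul_mem ht hs,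
      fun x => ?_⟩
    · change ψ' ⟨φ' (Subgroup.inclusion le_sup_left x), _⟩ = ψ ⟨φ x, h x⟩
      rw [← hψe]
      exact congrArg ψ' (Subtype.ext (hφe x))
    · change ψ' ⟨φ' (Subgroup.inclusion le_sup_right x), _⟩ = _
      rw [show (⟨φ' (Subgroup.inclusion le_sup_right x), hval _⟩ : ↥(Q ⊔ X)) =
        Subgroup.inclusion le_sup_right ⟨s * (x : Ω) * s⁻¹,
          conj_mem_of_mem_normalizer (hXn hs) x.2⟩ from Subtype.ext (hse x), hte]
      simp [mul_assoc]
  inv_mem := by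
    rintro P φ ⟨hφ, φ', hφ', hφe, s, hs, hse⟩
    obtain ⟨χ, hχ, hχe⟩ := F.inv_mem hφ
    have hconj : ∀ {g : Ω}, g ∈ S → ∀ {x : Ω}, x ∈ X → g * x * g⁻¹ ∈ X := fun hg _ hx =>
      conj_mem_of_mem_normalizer (hXn hg) hx
    have himg : img φ' X = X := by
      ext y
      rw [mem_img]
      constructor
      · rintro ⟨x, hx, rfl⟩
        rw [show x = Subgroup.inclusion le_sup_right ⟨(x : Ω), hx⟩ from rfl, hse]
        exact hconj hs hx
      · intro hy
        refine ⟨Subgroup.inclusion le_sup_right ⟨_, hconj (S.inv_mem hs) hy⟩,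
          hconj (S.inv_mem hs) hy, ?_⟩
        rw [hse]
        simp [mul_assoc]
    obtain ⟨e, he, hee⟩ := exists_iso_of_range hφ' (Q := φ.range ⊔ X)
      ((range_ext_eq hφe).trans (by rw [himg]))
    refine ⟨χ, ⟨hχ, _, he.symm, fun y => ?_, s⁻¹, S.inv_mem hs, fun x => ?_⟩, hχe⟩
    · obtain ⟨_, x, rfl⟩ := y
      rw [hχe]
      change (e.symm _ : Ω) = x
      rw [← (Subtype.ext ((hee _).trans (hφe x)) :
        e (Subgroup.inclusion le_sup_left x) = Subgroup.inclusion le_sup_left (⟨φ x, x, rfl⟩ : φ.range)),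
        MulEquiv.symm_apply_apply]
      rfl
    · change (e.symm _ : Ω) = _
      have h1 : e (Subgroup.inclusion le_sup_right ⟨_, hconj (S.inv_mem hs) x.2⟩) =
          Subgroup.inclusion le_sup_right x := by
        refine Subtype.ext ((hee _).trans ?_)
        rw [hse]
        simp [mul_assoc]
      rw [← h1, MulEquiv.symm_apply_apply]
      rfl

theorem isSaturated_innerOnSys (hS : IsPGroup p S) (hF : F.IsSaturated p) {X : Subgroup Ω}
    (hX : F.IsNormal X) :
    (innerOnSys F X hX.1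
      (le_normalizer_of_stronglyClosed (stronglyClosed_of_isNormal hX))).IsSaturated p := by
  have hXS := hX.1
  have hsc := stronglyClosed_of_isNormal hX
  have := finite_of_le hXS
  have hXn : F.IsFullyNormalized X := ⟨hXS, fun R hR => by
    obtain ⟨φ, hφ, rfl⟩ := hR
    rw [(weaklyClosed_of_stronglyClosed hsc).2 φ hφ]⟩
  refine isSaturated_kNormalizer hS hF (Q := X) (autInducedBy S X) (T := S)
    (fun g => ⟨fun hg => ⟨hg, le_normalizer_of_stronglyClosed hsc hg,
      mem_autInducedBy_iff.2 ⟨g, hg, fun _ => rfl⟩⟩, fun h => h.1⟩)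
    (fullyAutomized_receptive_of_fullyNormalized hS hF hXn).2 ?_ _ fun P => ?_
  · rw [inf_idem, inf_eq_right.2 (autInducedBy_le_autGroup hXS), Subgroup.relIndex_self]
    exact (Fact.out : p.Prime).not_dvd_one
  · ext φ
    constructor
    · rintro ⟨hφ, ψ, hψ, hψe, s, hs, hse⟩
      exact ⟨hφ, le_S F hφ, apply_mem_S F hφ, ψ, hψ, hψe,
        normAut s (le_normalizer_of_stronglyClosed hsc hs),
        mem_autInducedBy_iff.2 ⟨s, hs, fun _ => rfl⟩, fun x => hse x⟩
    · rintro ⟨hφ, -, -, ψ, hψ, hψe, k, hk, hke⟩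
      obtain ⟨s, hs, hse⟩ := mem_autInducedBy_iff.1 hk
      exact ⟨hφ, ψ, hψ, hψe, s, hs, fun x => (hke x).trans (hse x)⟩

variable (F) in
/-- Every map acts on `X` as an element of `S`. -/
def InnerOn (X : Subgroup Ω) : Prop :=
  ∀ P, ∀ φ ∈ F.Hom P, ∃ s ∈ S, ∀ x : P, (x : Ω) ∈ X → φ x = s * (x : Ω) * s⁻¹

theorem innerOn_of_innerOnSys {X : Subgroup Ω} {hX : X ≤ S}
    {hXn : S ≤ Subgroup.normalizer (X : Set Ω)}
    (h : ∀ P, F.Hom P ⊆ (innerOnSys F X hX hXn).Hom P) : InnerOn F X := by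
  intro P φ hφ
  obtain ⟨-, ψ, -, hψe, s, hs, hse⟩ := h P hφ
  refine ⟨s, hs, fun x hx => ?_⟩
  rw [← hψe]
  exact (congrArg ψ (Subtype.ext rfl)).trans (hse ⟨x, hx⟩)

theorem mem_innerOnSys_of_fixed {X P : Subgroup Ω} {hX : X ≤ S}
    {hXn : S ≤ Subgroup.normalizer (X : Set Ω)} (hXP : X ≤ P) {φ : P →* Ω} (hφ : φ ∈ F.Hom P)
    (h : ∀ x : P, (x : Ω) ∈ X → φ x = x) : φ ∈ (innerOnSys F X hX hXn).Hom P := by
  obtain ⟨ψ, hψ, hψe⟩ := mem_of_eq_sup (sup_eq_left.2 hXP).symm hφ
  exact ⟨hφ, ψ, hψ, fun x => hψe _, 1, S.one_mem, fun x => by rw [hψe, h _ x.2]; simp⟩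

/-- `X C_S(X)` is not normal when `X` is the core and not centric. -/
theorem not_isNormal_sup_centralizerIn (hnot : ¬ centralizerIn S F.core ≤ F.core) :
    ¬ F.IsNormal (F.core ⊔ centralizerIn S F.core) :=
  fun h => hnot ((le_sup_right : centralizerIn S F.core ≤ _).trans (le_sSup h))

theorem isFullyNormalized_of_normal {Y : Subgroup Ω} (hY : Y ≤ S)
    (hYn : S ≤ Subgroup.normalizer (Y : Set Ω)) : F.IsFullyNormalized Y := by
  refine ⟨hY, fun R _ => ?_⟩
  rw [show normalizerIn S Y = S from le_antisymm (normalizerIn_le Y) (le_inf le_rfl hYn)]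
  exact Subgroup.card_le_of_le (normalizerIn_le R)

theorem le_normalizer_sup_centralizerIn {X : Subgroup Ω} (hXS : X ≤ S)
    (hXn : S ≤ Subgroup.normalizer (X : Set Ω)) :
    S ≤ Subgroup.normalizer ((X ⊔ centralizerIn S X : Subgroup Ω) : Set Ω) := by
  have := finite_of_le hXS
  intro s hs
  rw [← conjSub_eq_iff_mem_normalizer, ← range_conjHom, ← img_self]
  exact img_sup_centralizerIn_eq ((innerFusionSystem S).conj_mem
    (sup_le hXS (centralizerIn_le X)) hs) le_rfl (conj_img_eq (hXn hs) le_sup_left)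

end Local

section Quotient

variable {Ω : Type*} [Group Ω] {S : Subgroup Ω} {F : FusionSystem S} {p : ℕ} [Fact p.Prime]
  [Finite S] {Ω' : Type*} [Group Ω'] {S' : Subgroup Ω'} {θ : S →* Ω'} {X : Subgroup Ω}
  {E : FusionSystem S'}

omit [Fact p.Prime] in
theorem le_preimageAlong (hE : F.IsFactorSystem X θ E) (P' : Subgroup Ω') :
    X ≤ preimageAlong θ P' := fun x hx =>
  (mem_preimageAlong (θ := θ) (s := ⟨x, hE.1 hx⟩)).2 (by
    rw [(hE.2.1 _).2 (show ((⟨x, hE.1 hx⟩ : S) : Ω) ∈ X from hx)]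
    exact one_mem _)

omit [Fact p.Prime] in
theorem le_normalizer_preimageAlong (hE : F.IsFactorSystem X θ E) {U' : Subgroup Ω'}
    {s : S} (hs : θ s ∈ Subgroup.normalizer (U' : Set Ω')) :
    (s : Ω) ∈ Subgroup.normalizer ((preimageAlong θ U' : Subgroup Ω) : Set Ω) := by
  have := finite_of_le (preimageAlong_le θ U')
  refine mem_normalizer_of_forall fun x hx => ?_
  refine (mem_preimageAlong (θ := θ) (s := s * (⟨x, preimageAlong_le θ U' hx⟩ : S) * s⁻¹)).2 ?_
  rw [map_mul, map_mul, map_inv]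
  exact conj_mem_of_mem_normalizer hs (mem_preimageAlong.1 hx)

/-- Lifting maps of a normalizer system in the factor system. -/
theorem exists_lift_normalizerHom (hE : F.IsFactorSystem X θ E) {U' P' : Subgroup Ω'}
    (hU' : U' ≤ S') {φ' : P' →* Ω'} (hφ' : φ' ∈ E.normalizerHom U' P') :
    ∃ φ ∈ F.normalizerHom (preimageAlong θ U') (preimageAlong θ P'), InducedAlong θ φ φ' := by
  obtain ⟨hφ'E, hP', hφ'N, ψ', hψ', hψ'e, hψ'U⟩ := hφ'
  obtain ⟨hP'U, ψ, hψ, hM, hψS, hψθ, hψind⟩ := (hE.2.2.2 _ _).1 hψ'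
  have hPM : preimageAlong θ P' ≤ preimageAlong θ (P' ⊔ U') :=
    Subgroup.map_mono (Subgroup.comap_mono le_sup_left)
  have hUM : preimageAlong θ U' ≤ preimageAlong θ (P' ⊔ U') :=
    Subgroup.map_mono (Subgroup.comap_mono le_sup_right)
  have hP := preimageAlong_le θ P'
  have hind : ∀ (x : preimageAlong θ P') (h : θ ⟨x, hP x.2⟩ ∈ P'),
      φ' ⟨_, h⟩ = θ ⟨ψ (Subgroup.inclusion hPM x), hψS _⟩ := by
    intro x h
    rw [← hψ'e, ← hψind]
    rfl
  refine ⟨ψ.comp (Subgroup.inclusion hPM), mem_normalizerHom_of_img hψ hPM hUM ?_ (fun _ => rfl)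
    (fun x hx => ?_) (fun x => ?_), hP, fun x => hψS _, fun x => mem_preimageAlong.1 x.2,
    fun x => hind x _⟩
  · have := finite_of_le (preimageAlong_le θ U')
    refine Subgroup.eq_of_le_of_card_ge ?_ (card_img (F.injective_of_mem hψ) hUM).ge
    intro y hy
    obtain ⟨x, hx, rfl⟩ := mem_img.1 hy
    refine (mem_preimageAlong (θ := θ) (s := ⟨ψ x, hψS x⟩)).2 ?_
    rw [← hψind]
    exact (show img ψ' U' = U' from hψ'U).le (apply_mem_img ψ'
      (x := ⟨_, hψθ x⟩) (mem_preimageAlong (θ := θ) (s := ⟨x, hM x.2⟩) |>.1 hx))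
  · exact ⟨hP hx, le_normalizer_preimageAlong hE (s := ⟨x, hP hx⟩)
      (hP' (mem_preimageAlong (θ := θ) (s := ⟨x, hP hx⟩) |>.1 hx)).2⟩
  · refine ⟨hψS _, le_normalizer_preimageAlong hE (s := ⟨_, hψS _⟩) ?_⟩
    rw [← hind x (mem_preimageAlong (θ := θ) (s := ⟨x, hP x.2⟩) |>.1 x.2)]
    exact (hφ'N _).2

omit [Fact p.Prime] in
theorem lt_preimageAlong (hE : F.IsFactorSystem X θ E) {U' : Subgroup Ω'} (hU' : U' ≤ S')
    (hne : U' ≠ ⊥) : X < preimageAlong θ U' := by
  refine lt_of_le_not_ge (le_preimageAlong hE U') fun hle => hne ?_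
  rw [eq_bot_iff]
  intro y hy
  obtain ⟨s, rfl⟩ := hE.2.2.1.ge (hU' hy)
  exact (hE.2.1 s).2 (hle (mem_preimageAlong.2 hy))

theorem le_normalizerIn_preimageAlong (hE : F.IsFactorSystem X θ E) {U' : Subgroup Ω'}
    (hn : S' ≤ normalizerIn S' U') :
    S ≤ Subgroup.normalizer ((preimageAlong θ U' : Subgroup Ω) : Set Ω) := fun s hs =>
  le_normalizer_preimageAlong hE (s := ⟨s, hs⟩) (hn (hE.2.2.1.le ⟨⟨s, hs⟩, rfl⟩)).2

end Quotient

/-- A factor system modulo a nontrivial normal subgroup is smaller and saturated. -/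
theorem exists_quotient {Ω : Type u} [Group Ω] {S : Subgroup Ω} {F : FusionSystem S} {p : ℕ}
    [Fact p.Prime] [Finite S] (hS : IsPGroup p S) (hF : F.IsSaturated p) {X : Subgroup Ω}
    (hX : F.IsNormal X) (hne : X ≠ ⊥) :
    ∃ (Ω' : Type u) (_ : Group Ω') (S' : Subgroup Ω') (_ : Finite S') (θ : S →* Ω')
      (E : FusionSystem S'), IsPGroup p S' ∧ Nat.card S' < Nat.card S ∧ E.IsSaturated p ∧
        F.IsFactorSystem X θ E ∧ F.IsSurjectiveMorphism E θ := by
  have hsc := stronglyClosed_of_isNormal hX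
  have hn : (X.subgroupOf S).Normal := ⟨fun x hx g => Subgroup.mem_subgroupOf.2
    (conj_mem_of_mem_normalizer (le_normalizer_of_stronglyClosed hsc g.2) hx)⟩
  let θ : S →* S ⧸ X.subgroupOf S := QuotientGroup.mk' _
  have hker : ∀ s : S, θ s = 1 ↔ (s : Ω) ∈ X := fun s =>
    (QuotientGroup.eq_one_iff s).trans Subgroup.mem_subgroupOf
  have hrange : θ.range = ⊤ := QuotientGroup.range_mk' _
  have hE := isFactorSystem_factorSystem hsc hker hrange
  refine ⟨S ⧸ X.subgroupOf S, inferInstance, ⊤, inferInstance, θ, factorSystem hsc hker hrange,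
    (hS.to_quotient _).of_equiv Subgroup.topEquiv.symm, ?_,
    CfsgLib.Transfer.isSaturated_of_isFactorSystem hS hF hsc hE, hE,
    isSurjectiveMorphism_of_isFactorSystem hS hF hsc hE⟩
  rw [Subgroup.card_top, Subgroup.card_eq_card_quotient_mul_card_subgroup (X.subgroupOf S)]
  refine lt_mul_of_one_lt_right Nat.card_pos ?_
  rw [Subgroup.one_lt_card_iff_ne_bot]
  intro h
  exact hne (le_bot_iff.1 fun x hx => congrArg Subtype.val
    (Subgroup.mem_bot.1 (h.le (show (⟨x, hX.1 hx⟩ : S) ∈ X.subgroupOf S from hx))))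

end CfsgLib.Fusion
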