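import Cfsg.Prelude.Def_FusionComponents
import Cfsg.Agent.Lib.Fusion.Basic

/-!
# Direct products of fusion systems
-/

set_option autoImplicit false

open Cfsg Cfsg.FusionSystem

namespace CfsgLib.Fusion

variable {Ω₁ Ω₂ : Type*} [Group Ω₁] [Group Ω₂] {S₁ : Subgroup Ω₁} {S₂ : Subgroup Ω₂}

/-- The first projection of a subgroup of a product. -/
abbrev fstSub (P : Subgroup (Ω₁ × Ω₂)) : Subgroup Ω₁ := P.map (MonoidHom.fst Ω₁ Ω₂)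

/-- The second projection of a subgroup of a product. -/
abbrev sndSub (P : Subgroup (Ω₁ × Ω₂)) : Subgroup Ω₂ := P.map (MonoidHom.snd Ω₁ Ω₂)

/-- The product of two maps, restricted to a subgroup. -/
def pairMap (P : Subgroup (Ω₁ × Ω₂)) (φ₁ : fstSub P →* Ω₁) (φ₂ : sndSub P →* Ω₂) :
    P →* Ω₁ × Ω₂ :=
  (φ₁.comp ((MonoidHom.fst Ω₁ Ω₂).subgroupMap P)).prod
    (φ₂.comp ((MonoidHom.snd Ω₁ Ω₂).subgroupMap P))

/-- The maps of the product system. -/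
def productHom (F₁ : FusionSystem S₁) (F₂ : FusionSystem S₂) (P : Subgroup (Ω₁ × Ω₂)) :
    Set (P →* Ω₁ × Ω₂) :=
  {φ | P ≤ S₁.prod S₂ ∧
      ∃ φ₁ ∈ F₁.Hom (P.map (MonoidHom.fst Ω₁ Ω₂)), ∃ φ₂ ∈ F₂.Hom (P.map (MonoidHom.snd Ω₁ Ω₂)),
        ∀ (x : P) (h₁ : (x : Ω₁ × Ω₂).1 ∈ P.map (MonoidHom.fst Ω₁ Ω₂))
          (h₂ : (x : Ω₁ × Ω₂).2 ∈ P.map (MonoidHom.snd Ω₁ Ω₂)),
          φ x = (φ₁ ⟨(x : Ω₁ × Ω₂).1, h₁⟩, φ₂ ⟨(x : Ω₁ × Ω₂).2, h₂⟩)}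

theorem mem_fstSub {P : Subgroup (Ω₁ × Ω₂)} (x : P) : (x : Ω₁ × Ω₂).1 ∈ fstSub P :=
  ⟨x, x.2, rfl⟩

theorem mem_sndSub {P : Subgroup (Ω₁ × Ω₂)} (x : P) : (x : Ω₁ × Ω₂).2 ∈ sndSub P :=
  ⟨x, x.2, rfl⟩

/-- The product system. -/
def productSystem (F₁ : FusionSystem S₁) (F₂ : FusionSystem S₂) : FusionSystem (S₁.prod S₂) where
  Hom := productHom F₁ F₂
  le_of_mem := by
    rintro P φ ⟨hP, φ₁, h₁, φ₂, h₂, he⟩
    refine ⟨hP, fun x => ?_⟩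
    rw [he x (mem_fstSub x) (mem_sndSub x)]
    exact ⟨apply_mem_S F₁ h₁ _, apply_mem_S F₂ h₂ _⟩
  injective_of_mem := by
    rintro P φ ⟨hP, φ₁, h₁, φ₂, h₂, he⟩ a b hab
    rw [he a (mem_fstSub a) (mem_sndSub a), he b (mem_fstSub b) (mem_sndSub b), Prod.ext_iff] at hab
    exact Subtype.ext (Prod.ext (congrArg Subtype.val (F₁.injective_of_mem h₁ hab.1) :)
      (congrArg Subtype.val (F₂.injective_of_mem h₂ hab.2) :))
  conj_mem := by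
    intro P g hP hg
    refine ⟨hP, conjHom _ g.1, F₁.conj_mem ?_ hg.1, conjHom _ g.2, F₂.conj_mem ?_ hg.2,
      fun x _ _ => rfl⟩
    · rintro _ ⟨x, hx, rfl⟩
      exact (hP hx).1
    · rintro _ ⟨x, hx, rfl⟩
      exact (hP hx).2
  comp_mem := by
    rintro P Q φ ψ ⟨hP, φ₁, h₁, φ₂, h₂, he⟩ ⟨hQ, ψ₁, k₁, ψ₂, k₂, hf⟩ h
    have g₁ : ∀ y, φ₁ y ∈ fstSub Q := by
      rintro ⟨_, x, hx, rfl⟩
      refine ⟨φ ⟨x, hx⟩, h _, ?_⟩
      rw [he ⟨x, hx⟩ (mem_fstSub ⟨x, hx⟩) (mem_sndSub ⟨x, hx⟩)]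
      rfl
    have g₂ : ∀ y, φ₂ y ∈ sndSub Q := by
      rintro ⟨_, x, hx, rfl⟩
      refine ⟨φ ⟨x, hx⟩, h _, ?_⟩
      rw [he ⟨x, hx⟩ (mem_fstSub ⟨x, hx⟩) (mem_sndSub ⟨x, hx⟩)]
      rfl
    refine ⟨hP, _, F₁.comp_mem h₁ k₁ g₁, _, F₂.comp_mem h₂ k₂ g₂, fun x a b => ?_⟩
    refine (hf ⟨φ x, h x⟩ (mem_fstSub _) (mem_sndSub _)).trans ?_
    exact Prod.ext (congrArg ψ₁ (Subtype.ext (congrArg Prod.fst (he x a b))))
      (congrArg ψ₂ (Subtype.ext (congrArg Prod.snd (he x a b))))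
  inv_mem := by
    rintro P φ ⟨hP, φ₁, h₁, φ₂, h₂, he⟩
    have hinj : Function.Injective φ := fun a b hab => by
      rw [he a (mem_fstSub a) (mem_sndSub a), he b (mem_fstSub b) (mem_sndSub b),
        Prod.ext_iff] at hab
      exact Subtype.ext (Prod.ext (congrArg Subtype.val (F₁.injective_of_mem h₁ hab.1) :)
        (congrArg Subtype.val (F₂.injective_of_mem h₂ hab.2) :))
    have e₁ : fstSub φ.range = φ₁.range := by
      ext y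
      constructor
      · rintro ⟨_, ⟨x, rfl⟩, rfl⟩
        exact ⟨⟨_, mem_fstSub x⟩, (congrArg Prod.fst (he x (mem_fstSub x) (mem_sndSub x))).symm⟩
      · rintro ⟨⟨_, x, hx, rfl⟩, rfl⟩
        exact ⟨_, ⟨⟨x, hx⟩, rfl⟩, congrArg Prod.fst (he ⟨x, hx⟩ (mem_fstSub _) (mem_sndSub _))⟩
    have e₂ : sndSub φ.range = φ₂.range := by
      ext y
      constructor
      · rintro ⟨_, ⟨x, rfl⟩, rfl⟩
        exact ⟨⟨_, mem_sndSub x⟩, (congrArg Prod.snd (he x (mem_fstSub x) (mem_sndSub x))).symm⟩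
      · rintro ⟨⟨_, x, hx, rfl⟩, rfl⟩
        exact ⟨_, ⟨⟨x, hx⟩, rfl⟩, congrArg Prod.snd (he ⟨x, hx⟩ (mem_fstSub _) (mem_sndSub _))⟩
    obtain ⟨ψ₁, k₁, hk₁⟩ := F₁.inv_mem h₁
    obtain ⟨ψ₂, k₂, hk₂⟩ := F₂.inv_mem h₂
    refine ⟨P.subtype.comp (MonoidHom.ofInjective hinj).symm.toMonoidHom, ⟨?_,
      ψ₁.comp (Subgroup.inclusion e₁.le), mem_of_eq e₁.symm k₁ fun _ => rfl,
      ψ₂.comp (Subgroup.inclusion e₂.le), mem_of_eq e₂.symm k₂ fun _ => rfl, ?_⟩, fun x => ?_⟩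
    · rintro _ ⟨x, rfl⟩
      rw [he x (mem_fstSub x) (mem_sndSub x)]
      exact ⟨apply_mem_S F₁ h₁ _, apply_mem_S F₂ h₂ _⟩
    · intro z a b
      obtain ⟨x, rfl⟩ := (MonoidHom.ofInjective hinj).surjective z
      change ((((MonoidHom.ofInjective hinj).symm (MonoidHom.ofInjective hinj x)) : P) : Ω₁ × Ω₂) = _
      rw [MulEquiv.symm_apply_apply]
      exact Prod.ext
        ((hk₁ ⟨_, mem_fstSub x⟩).symm.trans (congrArg ψ₁ (Subtype.ext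
          (congrArg Prod.fst (he x (mem_fstSub x) (mem_sndSub x))).symm)))
        ((hk₂ ⟨_, mem_sndSub x⟩).symm.trans (congrArg ψ₂ (Subtype.ext
          (congrArg Prod.snd (he x (mem_fstSub x) (mem_sndSub x))).symm)))
    · change ((((MonoidHom.ofInjective hinj).symm (MonoidHom.ofInjective hinj x)) : P) : Ω₁ × Ω₂) = _
      rw [MulEquiv.symm_apply_apply]

theorem isProductSystem_productSystem (F₁ : FusionSystem S₁) (F₂ : FusionSystem S₂) :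
    IsProductSystem F₁ F₂ (productSystem F₁ F₂) :=
  fun _ _ => Iff.rfl

end CfsgLib.Fusion
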