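import Cfsg.Agent.Lib.Fusion.GeneratedSaturation
import Cfsg.Agent.Lib.Fusion.FactorHat
import Cfsg.Agent.Lib.Fusion.Centric

/-!
# The saturation criterion for systems generated by a saturated family
-/

set_option autoImplicit false

open Cfsg Cfsg.FusionSystem

namespace CfsgLib.Fusion

variable {Ω : Type*} [Group Ω] {S : Subgroup Ω} [Finite S] {F : FusionSystem S} {p : ℕ}
  [Fact p.Prime]

/-- A strictly smaller subgroup grows inside its normalizer in a `p`-subgroup of `S`. -/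
theorem lt_normalizer_inf (hS : IsPGroup p S) {M N : Subgroup Ω} (hN : N ≤ S) (hMN : M < N) :
    M < N ⊓ Subgroup.normalizer (M : Set Ω) := by
  have := finite_of_le hN
  exact lt_normalizerIn (S := N) (hS.to_le hN) hMN

/-- The link between `X` and `X'`: an isomorphism of the system between subgroups of their
normalizers carrying `X` onto `X'`. -/
def IsLink (F : FusionSystem S) (X X' : Subgroup Ω) {M M' : Subgroup Ω} (ψ : M ≃* M') : Prop :=
  IsIso F ψ ∧ X < M ∧ X' < M' ∧ M ≤ normalizerIn S X ∧ M' ≤ normalizerIn S X' ∧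
    ∀ x : M, (x : Ω) ∈ X ↔ (ψ x : Ω) ∈ X'

theorem IsLink.symm {X X' M M' : Subgroup Ω} {ψ : M ≃* M'} (h : IsLink F X X' ψ) :
    IsLink F X' X ψ.symm := by
  obtain ⟨h1, h2, h3, h4, h5, h6⟩ := h
  exact ⟨h1.symm, h3, h2, h5, h4, fun y => by rw [h6 (ψ.symm y), MulEquiv.apply_symm_apply]⟩

omit [Finite S] in
theorem IsLink.exists_res {X X' M M' : Subgroup Ω} {ψ : M ≃* M'} (h : IsLink F X X' ψ) :
    ∃ e : X ≃* X', IsIso F e ∧ ∀ x : X, (e x : Ω) = ψ (Subgroup.inclusion h.2.1.le x) := by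
  obtain ⟨h1, h2, h3, -, -, h6⟩ := h
  refine exists_iso_of_range (res_mem F h1 h2.le) ?_
  ext y
  constructor
  · rintro ⟨x, rfl⟩
    exact (h6 _).1 x.2
  · intro hy
    refine ⟨⟨ψ.symm ⟨y, h3.le hy⟩, ?_⟩, ?_⟩
    · rw [h6, MulEquiv.apply_symm_apply]; exact hy
    · exact congrArg Subtype.val (ψ.apply_symm_apply ⟨y, h3.le hy⟩)

/-- A map of a subgroup of `N_S(X)` carrying `X` onto `X'` gives a link. -/
theorem exists_link_of_map (X X' : Subgroup Ω) {M : Subgroup Ω} {φ : M →* Ω} (hφ : φ ∈ F.Hom M)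
    (hXM : X < M) (hM : M ≤ normalizerIn S X) {e : X ≃* X'}
    (he : ∀ x : X, φ (Subgroup.inclusion hXM.le x) = e x) :
    ∃ ψ : M ≃* φ.range, IsLink F X X' ψ ∧ ∀ x, (ψ x : Ω) = φ x := by
  obtain ⟨ψ, hψ, hψe⟩ := exists_iso_of_mem hφ
  have hiff : ∀ x : M, (x : Ω) ∈ X ↔ (ψ x : Ω) ∈ X' := by
    intro x
    rw [hψe]
    constructor
    · intro hx
      have h1 := he ⟨x, hx⟩
      exact (show φ x = (e ⟨x, hx⟩ : Ω) from h1).symm ▸ (e ⟨x, hx⟩).2
    · intro hx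
      have h1 := he (e.symm ⟨φ x, hx⟩)
      rw [MulEquiv.apply_symm_apply] at h1
      have h2 := F.injective_of_mem hφ h1
      rw [← h2]
      exact (e.symm ⟨φ x, hx⟩).2
  refine ⟨ψ, ⟨hψ, hXM, ?_, hM, ?_, hiff⟩, hψe⟩
  · have hle : X' ≤ φ.range := fun y hy =>
      ⟨Subgroup.inclusion hXM.le (e.symm ⟨y, hy⟩), by rw [he, MulEquiv.apply_symm_apply]⟩
    obtain ⟨g, hg, hgX⟩ := SetLike.exists_of_lt hXM
    refine lt_of_le_of_ne hle fun h => hgX ((hiff ⟨g, hg⟩).2 ?_)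
    exact h.symm ▸ (ψ ⟨g, hg⟩).2
  · rintro _ ⟨g, rfl⟩
    exact apply_mem_normalizerIn hφ hXM.le he (fun y hy => (hM hy).2) g

/-- The common target of the two ends of a link. -/
theorem exists_link_target (hS : IsPGroup p S) {X X' M M' : Subgroup Ω} {ψ : M ≃* M'}
    (h : IsLink F X X' ψ) (hsat : HasSatMember F p M) :
    ∃ (T X₁ : Subgroup Ω) (f₁ : M ≃* T) (f₂ : M' ≃* T) (e₁ : X ≃* X₁) (e₂ : X' ≃* X₁)
      (a : stabAut F T X₁),
      F.IsReceptive T ∧ X₁ ≤ T ∧ IsIso F f₁ ∧ IsIso F f₂ ∧ IsIso F e₁ ∧ IsIso F e₂ ∧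
      ¬ p ∣ (autInducedBy S T ⊓ stabAut F T X₁).relIndex (stabAut F T X₁) ∧
      (∀ x : X, (e₁ x : Ω) = f₁ (Subgroup.inclusion h.2.1.le x)) ∧
      (∀ x : X', (e₂ x : Ω) = f₂ (Subgroup.inclusion h.2.2.1.le x)) ∧
      (∀ x : M, f₂ (ψ x) = (a : MulAut T) (f₁ x)) ∧
      (∃ χ ∈ F.Hom (normalizerIn S X ⊓ Subgroup.normalizer (M : Set Ω)),
        (∀ g : ↥(normalizerIn S X ⊓ Subgroup.normalizer (M : Set Ω)),
          χ g ∈ normalizerIn S X₁ ∧ χ g ∈ normalizerIn S T) ∧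
        ∀ (x : ↥(normalizerIn S X ⊓ Subgroup.normalizer (M : Set Ω))) (hx : (x : Ω) ∈ M),
          χ x = f₁ ⟨x, hx⟩) ∧
      (∃ χ ∈ F.Hom (normalizerIn S X' ⊓ Subgroup.normalizer (M' : Set Ω)),
        (∀ g : ↥(normalizerIn S X' ⊓ Subgroup.normalizer (M' : Set Ω)),
          χ g ∈ normalizerIn S X₁ ∧ χ g ∈ normalizerIn S T) ∧
        ∀ (x : ↥(normalizerIn S X' ⊓ Subgroup.normalizer (M' : Set Ω))) (hx : (x : Ω) ∈ M'),
          χ x = f₂ ⟨x, hx⟩) := by
  obtain ⟨hψ, hXM, hXM', hM, hM', hiff⟩ := h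
  obtain ⟨T, hMT, hTa, hTr⟩ := hsat
  obtain ⟨e, he⟩ := isConj_iff.1 hMT
  have hTS := hTa.1
  have hMS := he.le_left
  have hM'S := hψ.le_right
  have := finite_of_le hTS
  have := finite_of_le hMS
  have := finite_of_le hM'S
  have hstab : ∀ {Z L : Subgroup Ω}, L ≤ S → Z ≤ L → L ≤ normalizerIn S Z →
      autInducedBy (normalizerIn S Z ⊓ Subgroup.normalizer (L : Set Ω)) L ≤ stabAut F L Z := by
    intro Z L hL _ _ α hα
    obtain ⟨g, hg, hge⟩ := mem_autInducedBy_iff.1 hα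
    refine ⟨autInducedBy_le_autGroup hL (mem_autInducedBy_iff.2
      ⟨g, normalizerIn_le Z hg.1, hge⟩), fun x => ?_⟩
    rw [hge]
    exact Subgroup.mem_normalizer_iff.1 hg.1.2 _
  obtain ⟨f₁, hf₁, hf₁U, hBT⟩ := exists_adapted_target hS he hTa hTr hXM.le
    ((isPGroup_autInducedBy hS M).to_le (autInducedBy_mono
      (inf_le_left.trans (normalizerIn_le X))))
    (hstab hMS hXM.le hM)
  set X₁ := img (T.subtype.comp f₁.toMonoidHom) X with hX₁
  have hX₁T : X₁ ≤ T := (img_le_range _ X).trans (range_subtype_comp f₁).le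
  have hmem₁ : ∀ x : M, (x : Ω) ∈ X ↔ (f₁ x : Ω) ∈ X₁ := by
    intro x
    rw [hX₁, mem_img]
    refine ⟨fun hx => ⟨x, hx, rfl⟩, ?_⟩
    rintro ⟨y, hy, hxy⟩
    rwa [f₁.injective (Subtype.ext hxy)] at hy
  set g₂ : M' ≃* T := ψ.symm.trans f₁ with hg₂
  have hg₂F : IsIso F g₂ := hψ.symm.trans hf₁
  have hmem₂ : ∀ y : M', (y : Ω) ∈ X' ↔ (g₂ y : Ω) ∈ X₁ := by
    intro y
    rw [show g₂ y = f₁ (ψ.symm y) from rfl, ← hmem₁, hiff, MulEquiv.apply_symm_apply]
  set U' := autInducedBy (normalizerIn S X' ⊓ Subgroup.normalizer (M' : Set Ω)) M' with hU'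
  have hU'le : U'.map (MulAut.congr g₂).toMonoidHom ≤ stabAut F T X₁ := by
    rintro _ ⟨u, hu, rfl⟩
    have hu' := hstab hM'S hXM'.le hM' hu
    refine ⟨congr_mem_autGroup hg₂F hu'.1, fun y => ?_⟩
    have h1 := hmem₂ (g₂.symm y)
    rw [MulEquiv.apply_symm_apply] at h1
    rw [← h1, hu'.2 (g₂.symm y), hmem₂]
    rfl
  obtain ⟨a, ha, haU⟩ := exists_conj_mem_of_le (p := p)
    (U := U'.map (MulAut.congr g₂).toMonoidHom)
    (T := autInducedBy S T ⊓ stabAut F T X₁) (N := stabAut F T X₁)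
    (((isPGroup_autInducedBy hS M').to_le (autInducedBy_mono
      (inf_le_left.trans (normalizerIn_le X')))).map _)
    ((isPGroup_autInducedBy hS T).to_le inf_le_left) hU'le inf_le_right hBT
  set f₂ : M' ≃* T := g₂.trans a with hf₂def
  have hf₂ : IsIso F f₂ := hg₂F.trans ((mem_autGroup_iff F hTS).1 ha.1)
  have hf₂U : ∀ u ∈ U', MulAut.congr f₂ u ∈ autInducedBy S T := by
    intro u hu
    rw [show MulAut.congr f₂ u = a * MulAut.congr g₂ u * a⁻¹ from MulEquiv.ext fun _ => rfl]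
    exact (haU _ ⟨u, hu, rfl⟩).1
  have hr₁ : img (T.subtype.comp f₁.toMonoidHom) X = X₁ := rfl
  have hr₂ : img (T.subtype.comp f₂.toMonoidHom) X' = X₁ := by
    ext y
    rw [mem_img]
    constructor
    · rintro ⟨x, hx, rfl⟩
      exact (ha.2 _).1 ((hmem₂ x).1 hx)
    · intro hy
      refine ⟨f₂.symm ⟨y, hX₁T hy⟩, ?_, congrArg Subtype.val (f₂.apply_symm_apply ⟨y, hX₁T hy⟩)⟩
      rw [hmem₂, ha.2]
      change ((f₂ (f₂.symm ⟨y, hX₁T hy⟩) : T) : Ω) ∈ X₁
      rw [MulEquiv.apply_symm_apply]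
      exact hy
  obtain ⟨e₁, he₁, he₁e, χ₁, hχ₁, hχ₁e, hχ₁X, hχ₁T⟩ := exists_adapted_extension hf₁ hTr hXM.le
    (M₁ := normalizerIn S X ⊓ Subgroup.normalizer (M : Set Ω))
    (le_inf (inf_le_left.trans (normalizerIn_le X)) inf_le_right) inf_le_left
    (le_inf hM Subgroup.le_normalizer)
    (fun g hg => hf₁U _ (mem_autInducedBy_iff.2 ⟨g, hg, fun _ => rfl⟩))
  obtain ⟨e₂, he₂, he₂e, χ₂, hχ₂, hχ₂e, hχ₂X, hχ₂T⟩ := exists_adapted_extension hf₂ hTr hXM'.le
    (M₁ := normalizerIn S X' ⊓ Subgroup.normalizer (M' : Set Ω))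
    (le_inf (inf_le_left.trans (normalizerIn_le X')) inf_le_right) inf_le_left
    (le_inf hM' Subgroup.le_normalizer)
    (fun g hg => hf₂U _ (mem_autInducedBy_iff.2 ⟨g, hg, fun _ => rfl⟩))
  rw [hr₂] at hχ₂X
  obtain ⟨e₂', he₂', he₂'e⟩ : ∃ e₂' : X' ≃* X₁, IsIso F e₂' ∧
      ∀ x : X', (e₂' x : Ω) = f₂ (Subgroup.inclusion hXM'.le x) :=
    exists_iso_of_range (res_mem F hf₂ hXM'.le)
      ((range_comp_inclusion (T.subtype.comp f₂.toMonoidHom) hXM'.le).trans hr₂)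
  exact ⟨T, X₁, f₁, f₂, e₁, e₂', ⟨a, ha⟩, hTr, hX₁T, hf₁, hf₂, he₁, he₂', hBT, he₁e, he₂'e,
    fun x => by simp [hf₂def, hg₂],
    ⟨χ₁, hχ₁, fun g => ⟨hχ₁X g, hχ₁T g⟩, fun x hx => hχ₁e ⟨x, hx⟩⟩,
    ⟨χ₂, hχ₂, fun g => ⟨hχ₂X g, hχ₂T g⟩, fun x hx => hχ₂e ⟨x, hx⟩⟩⟩

theorem reachesNormalizer_self {P : Subgroup Ω} (hP : P ≤ S) : ReachesNormalizer F P P :=
  ⟨le_normalizerIn hP, MulEquiv.refl P, isIso_refl hP, _, id_mem F (normalizerIn_le P),
    fun _ => rfl, fun g => g.2⟩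

/-- Both ends of a link reach `P` together. -/
theorem reaches_of_isLink (hS : IsPGroup p S) {P : Subgroup Ω} (hP : F.IsFullyNormalized P)
    (hsat : SatAbove F p (Nat.card P)) {X X' M M' : Subgroup Ω} {ψ : M ≃* M'}
    (hlink : IsLink F X X' ψ) (hX' : ReachesNormalizer F P X') : ReachesNormalizer F P X := by
  suffices H : ∀ (n : ℕ) (X X' M M' : Subgroup Ω) (ψ : M ≃* M'), IsLink F X X' ψ →
      Nat.card S - Nat.card M ≤ n → ReachesNormalizer F P X' → ReachesNormalizer F P X from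
    H _ X X' M M' ψ hlink le_rfl hX'
  clear hlink hX' ψ
  intro n
  induction n using Nat.strong_induction_on with
  | _ n ih =>
  -- both subgroups proper in the normalizers
  have hstep : ∀ (X X' M M' : Subgroup Ω) (ψ : M ≃* M'), IsLink F X X' ψ →
      Nat.card S - Nat.card M ≤ n → M < normalizerIn S X → M' < normalizerIn S X' →
      ReachesNormalizer F P X' → ReachesNormalizer F P X := by
    intro X X' M M' ψ hlink hn hMlt hM'lt hX'
    have hMS : M ≤ S := hlink.1.le_left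
    have hM'S : M' ≤ S := hlink.1.le_right
    have hXS : X ≤ S := hlink.2.1.le.trans hMS
    have := finite_of_le hMS
    have := finite_of_le hXS
    obtain ⟨eX, heX, -⟩ := hlink.exists_res
    have hcard : Nat.card P < Nat.card M := by
      obtain ⟨-, e', -, -⟩ := hX'
      have h1 : Nat.card X = Nat.card P := Nat.card_congr (eX.trans e').toEquiv
      exact h1 ▸ lt_of_not_ge fun h =>
        hlink.2.1.ne (Subgroup.eq_of_le_of_card_ge hlink.2.1.le h)
    obtain ⟨T, X₁, f₁, f₂, e₁, e₂, a, hTr, hX₁T, hf₁, hf₂, he₁, he₂, -, he₁e, he₂e, -,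
      ⟨χ₁, hχ₁, hχ₁n, hχ₁e⟩, ⟨χ₂, hχ₂, hχ₂n, hχ₂e⟩⟩ :=
      exists_link_target hS hlink (hsat M hMS hcard)
    have h1 := lt_normalizer_inf hS (normalizerIn_le X) hMlt
    have h2 := lt_normalizer_inf hS (normalizerIn_le X') hM'lt
    have hgrow : ∀ {A B : Subgroup Ω}, A < B → B ≤ S → Nat.card A < Nat.card B := by
      intro A B hAB hB
      have := finite_of_le hB
      exact lt_of_not_ge fun h => hAB.ne (Subgroup.eq_of_le_of_card_ge hAB.le h)
    have hlt1 := hgrow h1 (inf_le_left.trans (normalizerIn_le X))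
    have hlt2 := hgrow h2 (inf_le_left.trans (normalizerIn_le X'))
    have hle1 : Nat.card (normalizerIn S X ⊓ Subgroup.normalizer (M : Set Ω) : Subgroup Ω) ≤
        Nat.card S := Subgroup.card_le_of_le (inf_le_left.trans (normalizerIn_le X))
    have hle2 : Nat.card (normalizerIn S X' ⊓ Subgroup.normalizer (M' : Set Ω) : Subgroup Ω) ≤
        Nat.card S := Subgroup.card_le_of_le (inf_le_left.trans (normalizerIn_le X'))
    have hMM' : Nat.card M = Nat.card M' := Nat.card_congr ψ.toEquiv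
    obtain ⟨ψ₁, hψ₁, -⟩ := exists_link_of_map X X₁ hχ₁ (hlink.2.1.trans h1) inf_le_left
      (e := e₁) (fun x => (hχ₁e _ (hlink.2.1.le x.2)).trans (he₁e x).symm)
    obtain ⟨ψ₂, hψ₂, -⟩ := exists_link_of_map X' X₁ hχ₂ (hlink.2.2.1.trans h2) inf_le_left
      (e := e₂) (fun x => (hχ₂e _ (hlink.2.2.1.le x.2)).trans (he₂e x).symm)
    have hc2 := Nat.card_congr ψ₂.toEquiv
    exact ih (Nat.card S - Nat.card (normalizerIn S X ⊓ Subgroup.normalizer (M : Set Ω) :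
        Subgroup Ω)) (by omega) _ _ _ _ ψ₁ hψ₁ le_rfl
      (ih (Nat.card S - Nat.card (normalizerIn S X' ⊓ Subgroup.normalizer (M' : Set Ω) :
        Subgroup Ω)) (by omega) _ _ _ _ ψ₂.symm hψ₂.symm (by omega) hX')
  intro X X' M M' ψ hlink hn hX'
  obtain ⟨hψ, hXM, hXM', hM, hM', hiff⟩ := id hlink
  rcases eq_or_lt_of_le hM' with hMeq | hM'lt
  · -- compose with the map of `N_S(X')`
    obtain ⟨h', e', he', φ, hφ, hφe, hφn⟩ := hX'
    have hval : ∀ x : M, (ψ x : Ω) ∈ normalizerIn S X' := fun x => hM' (ψ x).2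
    set θ : M →* Ω := φ.comp ((M'.subtype.comp ψ.toMonoidHom).codRestrict _ hval) with hθdef
    have hθ : θ ∈ F.Hom M := F.comp_mem hψ hφ hval
    obtain ⟨eX, heX, heXe⟩ := hlink.exists_res
    have hθe : ∀ x : X, θ (Subgroup.inclusion hXM.le x) = (eX.trans e') x := by
      intro x
      refine Eq.trans ?_ (hφe (eX x))
      exact congrArg φ (Subtype.ext (heXe x).symm)
    obtain ⟨ψ', hψ', hψ'e⟩ := exists_link_of_map X P hθ hXM hM (e := eX.trans e') hθe
    have hPS := hP.1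
    have hXP : F.IsConj P X := isConj_symm (isConj_iff.2 ⟨_, heX.trans he'⟩)
    rcases eq_or_lt_of_le hM with hMeq' | hMlt
    · obtain ⟨θ', hθ', hθ'e⟩ : ∃ θ' ∈ F.Hom (normalizerIn S X), ∀ x : normalizerIn S X,
          θ' x = θ ⟨x, hMeq' ▸ x.2⟩ := by
        subst hMeq'
        exact ⟨θ, hθ, fun _ => rfl⟩
      refine ⟨hXM.le.trans hM, eX.trans e', heX.trans he', θ', hθ', fun x => ?_, fun g => ?_⟩
      · rw [hθ'e]
        exact hθe x
      · rw [hθ'e]
        exact hφn _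
    · refine hstep X P M θ.range ψ' hψ' hn hMlt ?_ (reachesNormalizer_self hPS)
      refine lt_of_le_of_ne hψ'.2.2.2.2.1 fun h => ?_
      have h1 := Nat.card_congr ψ'.toEquiv
      rw [h] at h1
      have := finite_of_le (normalizerIn_le (S := S) X)
      exact hMlt.ne (Subgroup.eq_of_le_of_card_ge hM (h1 ▸ hP.2 X hXP))
  rcases eq_or_lt_of_le hM with hMeq | hMlt
  · -- `M` is the whole normalizer of `X`
    obtain ⟨h', e', he', φ, hφ, hφe, hφn⟩ := hX'
    have hval : ∀ x : M, (ψ x : Ω) ∈ normalizerIn S X' := fun x => hM' (ψ x).2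
    set θ : M →* Ω := φ.comp ((M'.subtype.comp ψ.toMonoidHom).codRestrict _ hval) with hθdef
    have hθ : θ ∈ F.Hom M := F.comp_mem hψ hφ hval
    obtain ⟨eX, heX, heXe⟩ := hlink.exists_res
    obtain ⟨θ', hθ', hθ'e⟩ : ∃ θ' ∈ F.Hom (normalizerIn S X), ∀ x : normalizerIn S X,
        θ' x = θ ⟨x, hMeq ▸ x.2⟩ := by
      subst hMeq
      exact ⟨θ, hθ, fun _ => rfl⟩
    refine ⟨hXM.le.trans hM, eX.trans e', heX.trans he', θ', hθ', fun x => ?_, fun g => ?_⟩
    · rw [hθ'e]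
      refine Eq.trans ?_ (hφe (eX x))
      exact congrArg φ (Subtype.ext (heXe x).symm)
    · rw [hθ'e]
      exact hφn _
  exact hstep X X' M M' ψ hlink hn hMlt hM'lt hX'

/-- A map of a larger subgroup restricts to a link. -/
theorem exists_link_of_restrict (hS : IsPGroup p S) {X M : Subgroup Ω} {φ : M →* Ω}
    (hφ : φ ∈ F.Hom M) (hXM : X < M) :
    ∃ (X' M₁ M₁' : Subgroup Ω) (ψ : M₁ ≃* M₁'), IsLink F X X' ψ ∧
      X' = (φ.comp (Subgroup.inclusion hXM.le)).range ∧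
      ∀ (x : M₁) (hx : (x : Ω) ∈ M), (ψ x : Ω) = φ ⟨x, hx⟩ := by
  have hMS := le_S F hφ
  have h1 := lt_normalizer_inf hS hMS hXM
  obtain ⟨e, he, hee⟩ := exists_iso_of_mem (res_mem F hφ hXM.le)
  obtain ⟨ψ, hψ, hψe⟩ := exists_link_of_map X _ (res_mem F hφ (inf_le_left :
      M ⊓ Subgroup.normalizer (X : Set Ω) ≤ M)) h1
    (le_inf (inf_le_left.trans hMS) inf_le_right) (e := e) (fun x => (hee x).symm)
  exact ⟨_, _, _, ψ, hψ, rfl, fun x hx => hψe x⟩

/-- Every member of the class of `P` reaches `P`. -/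
theorem reaches_of_isConj (hS : IsPGroup p S) {P : Subgroup Ω} (hP : F.IsFullyNormalized P)
    (hPlt : P < S) (hsat : SatAbove F p (Nat.card P)) (hgen : GeneratedOutside F P) {Q : Subgroup Ω}
    (hQ : F.IsConj P Q) : ReachesNormalizer F P Q := by
  have hclass : ∀ {X : Subgroup Ω}, F.IsConj P X → X < S := fun {X} hX => by
    refine lt_of_le_of_ne (le_right_of_isConj hX) fun h => ?_
    have h1 := card_eq_of_isConj hX
    rw [h] at h1
    exact hPlt.ne (Subgroup.eq_of_le_of_card_ge hPlt.le h1.ge)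
  have hres : ∀ {X M : Subgroup Ω} {φ : M →* Ω} (hφ : φ ∈ F.Hom M) (hXM : X < M),
      (ReachesNormalizer F P X ↔ ReachesNormalizer F P (φ.comp (Subgroup.inclusion hXM.le)).range) := by
    intro X M φ hφ hXM
    obtain ⟨X', M₁, M₁', ψ, hψ, rfl, -⟩ := exists_link_of_restrict hS hφ hXM
    exact ⟨fun h => reaches_of_isLink hS hP hsat hψ.symm h,
      fun h => reaches_of_isLink hS hP hsat hψ h⟩
  let D : FusionSystem S :=
    { Hom := fun X => {φ | φ ∈ F.Hom X ∧ (F.IsConj P X →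
        (ReachesNormalizer F P X ↔ ReachesNormalizer F P φ.range))}
      le_of_mem := fun {X φ} h => F.le_of_mem h.1
      injective_of_mem := fun {X φ} h => F.injective_of_mem h.1
      conj_mem := fun {X g} hX hg => by
        refine ⟨F.conj_mem hX hg, fun hc => ?_⟩
        have h1 := hres (F.conj_mem le_rfl hg) (hclass hc)
        exact h1
      comp_mem := by
        intro X Z φ θ hφ hθ h
        refine ⟨F.comp_mem hφ.1 hθ.1 h, fun hc => (hφ.2 hc).trans ?_⟩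
        have hcφ : F.IsConj P φ.range := isConj_trans hc ⟨φ, hφ.1, rfl⟩
        have hr : (θ.comp (φ.codRestrict Z h)).range =
            (θ.comp (Subgroup.inclusion (show φ.range ≤ Z by rintro _ ⟨x, rfl⟩; exact h x))).range := by
          ext y
          constructor
          · rintro ⟨x, rfl⟩; exact ⟨⟨φ x, x, rfl⟩, rfl⟩
          · rintro ⟨⟨_, x, rfl⟩, rfl⟩; exact ⟨x, rfl⟩
        rw [hr]
        rcases eq_or_lt_of_le (show φ.range ≤ Z by rintro _ ⟨x, rfl⟩; exact h x) with he | hlt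
        · subst he
          exact hθ.2 hcφ
        · exact hres hθ.1 hlt
      inv_mem := by
        intro X φ hφ
        obtain ⟨θ, hθ, hθe⟩ := F.inv_mem hφ.1
        refine ⟨θ, ⟨hθ, fun hc => ?_⟩, hθe⟩
        have hr : θ.range = X := by
          ext y
          constructor
          · rintro ⟨⟨_, x, rfl⟩, rfl⟩; rw [hθe]; exact x.2
          · exact fun hy => ⟨_, hθe ⟨y, hy⟩⟩
        rw [hr]
        exact (hφ.2 (isConj_trans hc (isConj_symm ⟨φ, hφ.1, rfl⟩))).symm }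
  obtain ⟨φ, hφ, rfl⟩ := hQ
  have h := (hgen D (fun X hX φ hφ => ⟨hφ, fun hc => absurd hc hX⟩) P hφ).2 (isConj_refl hP.1)
  exact h.1 (reachesNormalizer_self hP.1)

end CfsgLib.Fusion
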