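import Cfsg.Agent.Lib.Fusion.PPrimeGen
import Cfsg.Agent.Lib.Cores.Basic
import Cfsg.Prelude.Def_Solvable

/-!
# Elements centralizing the centralizer of `U` in the p-core modulo `U`
-/

set_option autoImplicit false

open Cfsg

namespace CfsgLib.Fusion

variable {G : Type*} [Group G] {p : ℕ}

/-- A translation by a fixed element of exponent `n` disappears in the `n`-th power. -/
theorem conj_pow_of_translate {x q z : G} (hz : x * z * x⁻¹ = z) (h : x * q * x⁻¹ = z * q)
    (n : ℕ) : x ^ n * q * (x ^ n)⁻¹ = z ^ n * q := by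
  induction n with
  | zero => simp
  | succ n ih =>
    calc x ^ (n + 1) * q * (x ^ (n + 1))⁻¹ = x * (x ^ n * q * (x ^ n)⁻¹) * x⁻¹ := by
          rw [pow_succ']; group
      _ = (x * z ^ n * x⁻¹) * (x * q * x⁻¹) := by rw [ih]; group
      _ = z ^ (n + 1) * q := by rw [← conj_pow, hz, h, pow_succ]; group

/-- The elements centralizing, modulo `U`, the centralizer of `U` in the `p`-core. -/
def centralModStab (p : ℕ) (U : Subgroup G) [hU : U.Normal] : Subgroup G where
  carrier := {g | ∀ c ∈ pCore p G, (∀ u ∈ U, c * u * c⁻¹ = u) → g * c * g⁻¹ * c⁻¹ ∈ U}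
  one_mem' := fun c _ _ => by simp
  mul_mem' := by
    intro a b ha hb c hc hcu
    have h := U.mul_mem (hU.conj_mem _ (hb c hc hcu) a) (ha c hc hcu)
    convert h using 1
    group
  inv_mem' := by
    intro a ha c hc hcu
    have h := hU.conj_mem _ (U.inv_mem (ha c hc hcu)) a⁻¹
    convert h using 1
    group

theorem mem_centralModStab {U : Subgroup G} [U.Normal] {g : G} :
    g ∈ centralModStab p U ↔
      ∀ c ∈ pCore p G, (∀ u ∈ U, c * u * c⁻¹ = u) → g * c * g⁻¹ * c⁻¹ ∈ U := Iff.rfl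

theorem pCore_normal_inst (p : ℕ) [Finite G] : (pCore p G).Normal := by
  have := Cores.pCore_characteristic (G := G) p
  infer_instance

theorem centralModStab_normal [Finite G] {U : Subgroup G} [hU : U.Normal] :
    (centralModStab p U).Normal := by
  refine ⟨fun a ha g c hc hcu => ?_⟩
  have := pCore_normal_inst (G := G) p
  have h := hU.conj_mem _ (ha (g⁻¹ * c * g⁻¹⁻¹) (this.conj_mem c hc g⁻¹) fun u hu => ?_) g
  · convert h using 1
    group
  · have h1 := hcu _ (hU.conj_mem u hu g)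
    calc g⁻¹ * c * g⁻¹⁻¹ * u * (g⁻¹ * c * g⁻¹⁻¹)⁻¹
        = g⁻¹ * (c * (g * u * g⁻¹) * c⁻¹) * g := by group
      _ = u := by rw [h1]; group

/-- A normal subgroup centralizing `U` and acting trivially on `C_Q(U)` modulo `U` lies in the
core `Q` when `Q` contains its centralizer. -/
theorem le_pCore_of_centralModStab [Finite G] [Fact p.Prime]
    (hG : Subgroup.centralizer ((pCore p G : Subgroup G) : Set G) ≤ pCore p G)
    {U : Subgroup G} [U.Normal] (hU : U ≤ pCore p G) {M : Subgroup G} [M.Normal]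
    (h1 : ∀ x ∈ M, ∀ u ∈ U, x * u * x⁻¹ = u) (h2 : M ≤ centralModStab p U) :
    M ≤ pCore p G := by
  have hQn := pCore_normal_inst (G := G) p
  obtain ⟨a, ha⟩ := IsPGroup.iff_card.1 (Cores.isPGroup_pCore (G := G) p)
  have hq : ∀ z ∈ pCore p G, z ^ p ^ a = 1 := fun z hz => by
    have := congrArg Subtype.val (pow_card_eq_one' (x := (⟨z, hz⟩ : pCore p G)))
    rwa [ha] at this
  refine Cores.le_pCore fun x => ⟨a + a + a, Subtype.ext ?_⟩
  change (x : G) ^ p ^ (a + a + a) = 1
  -- the first power centralizes `C_Q(U)`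
  have hA : ∀ c ∈ pCore p G, (∀ u ∈ U, c * u * c⁻¹ = u) →
      (x : G) ^ p ^ a * c * ((x : G) ^ p ^ a)⁻¹ = c := fun c hc hcu => by
    rw [conj_pow_of_translate (z := (x : G) * c * (x : G)⁻¹ * c⁻¹)
      (h1 x x.2 _ (h2 x.2 c hc hcu)) (by group) _, hq _ (hU (h2 x.2 c hc hcu)), one_mul]
  -- the second one centralizes `Q`
  have hB : (x : G) ^ (p ^ a * p ^ a) ∈ Subgroup.centralizer (pCore p G : Set G) := by
    intro q hq'
    set y : G := (x : G) ^ p ^ a
    have hy : y ∈ M := M.pow_mem x.2 _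
    have hz : y * q * y⁻¹ * q⁻¹ ∈ pCore p G :=
      (pCore p G).mul_mem (hQn.conj_mem q hq' y) ((pCore p G).inv_mem hq')
    have hzu : ∀ u ∈ U, y * q * y⁻¹ * q⁻¹ * u * (y * q * y⁻¹ * q⁻¹)⁻¹ = u := fun u hu => by
      have hm : y * q * y⁻¹ * q⁻¹ ∈ M := by
        have h := M.mul_mem hy (‹M.Normal›.conj_mem _ (M.inv_mem hy) q)
        convert h using 1
        group
      exact h1 _ hm u hu
    have h3 : y ^ p ^ a * q * (y ^ p ^ a)⁻¹ = q := by
      rw [conj_pow_of_translate (z := y * q * y⁻¹ * q⁻¹) (hA _ hz hzu) (by group) _, hq _ hz,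
        one_mul]
    rw [pow_mul]
    exact (mul_inv_eq_iff_eq_mul.1 h3).symm
  rw [show p ^ (a + a + a) = p ^ a * p ^ a * p ^ a by rw [pow_add, pow_add], pow_mul]
  exact hq _ (hG hB)

end CfsgLib.Fusion
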