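import Cfsg.Agent.Lib.Fusion.ResidualDescent

/-!
# A normal subsystem commutes with the coprime commutators in the centralizer of its group
-/

set_option autoImplicit false

open Cfsg Cfsg.FusionSystem

namespace CfsgLib.Fusion

variable {Ω : Type*} [Group Ω] {S T : Subgroup Ω} [Finite S] {F : FusionSystem S}
  {E : FusionSystem T} {p : ℕ} [Fact p.Prime]

open scoped Classical in
/-- An extension trivial modulo `T` can be averaged over a coprime automorphism fixing `T`. -/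
theorem exists_extension_fix_commutator (hS : IsPGroup p S) (hE : E.IsInvariantIn F)
    {R : Subgroup Ω} (hR : E.IsCentric R) {φ : R →* Ω} (hφ : φ ∈ E.Hom R)
    (hext : HasTrivialExtHom F E φ) {M : Subgroup Ω} (hTM : T ≤ M)
    (hM : M ≤ T ⊔ centralizerIn S T) {δ : MulAut M} (hδ : δ ∈ F.autGroup M)
    (hfix : ∀ x : M, (x : Ω) ∈ T → δ x = x) (hco : (orderOf δ).Coprime p)
    {c : M} (hc : (c : Ω) ∈ centralizerIn S T) :
    ∃ ψ ∈ F.Hom (R ⊔ Subgroup.zpowers ((c : Ω)⁻¹ * (δ c : Ω))),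
      (∀ x : R, ψ (Subgroup.inclusion le_sup_left x) = φ x) ∧
      ψ ⟨_, Subgroup.mem_sup_right (Subgroup.mem_zpowers ((c : Ω)⁻¹ * (δ c : Ω)))⟩ =
        (c : Ω)⁻¹ * (δ c : Ω) := by
  have hT := hE.2.1
  have hTS := hT.1
  have := finite_of_le hTS
  have hMS : M ≤ S := hM.trans (sup_le hTS (centralizerIn_le T))
  have := finite_of_le hMS
  have hδF := (mem_autGroup_iff F hMS).1 hδ
  obtain ⟨ψ, hψ, hψe, hψc⟩ := hext
  set Q := M ⊓ centralizerIn S T with hQdef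
  have hQC : Q ≤ centralizerIn S T := inf_le_right
  have hQS : Q ≤ S := inf_le_left.trans hMS
  have hRT := hR.1
  have hR'T : φ.range ≤ T := range_le_S E hφ
  have hR'c : IsCentricRelTo F T φ.range :=
    (isCentricRelTo_of_isCentric hE hR).of_isConj hT ⟨φ, hE.1 R hφ, rfl⟩
  -- `δ` stabilizes `Q`
  have hpowfix : ∀ (i : ℕ) (x : M), (x : Ω) ∈ T → (δ ^ i) x = x := by
    intro i x hx
    induction i with
    | zero => rfl
    | succ i ih => rw [pow_succ', MulAut.mul_apply, ih, hfix x hx]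
  have hδQ : ∀ (i : ℕ) (q : M), (q : Ω) ∈ centralizerIn S T →
      (((δ ^ i) q : M) : Ω) ∈ centralizerIn S T := by
    intro i q hq
    refine ⟨hMS ((δ ^ i) q).2, fun t ht => ?_⟩
    have h1 : (⟨t, hTM ht⟩ : M) * q = q * ⟨t, hTM ht⟩ := Subtype.ext (hq.2 t ht)
    have h2 := congrArg (δ ^ i) h1
    rw [map_mul, map_mul, hpowfix i ⟨t, hTM ht⟩ ht] at h2
    exact congrArg Subtype.val h2
  -- the extension on `R ⊔ Q` and its defect
  set A := R ⊔ Q
  set B := φ.range ⊔ Q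
  have hAC : A ≤ R ⊔ centralizerIn S T := sup_le_sup_left hQC R
  have hAM : A ≤ M := sup_le (hRT.trans hTM) inf_le_left
  have hBM : B ≤ M := sup_le (hR'T.trans hTM) inf_le_left
  have := finite_of_le (hAM.trans hMS)
  have := finite_of_le (hBM.trans hMS)
  set ψA := ψ.comp (Subgroup.inclusion hAC) with hψA
  have hψAF : ψA ∈ F.Hom A := res_mem F hψ hAC
  have hψR : ∀ (r : Ω) (hr : r ∈ R), ψA ⟨r, le_sup_left (b := Q) hr⟩ = φ ⟨r, hr⟩ :=
    fun r hr => hψe ⟨r, hr⟩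
  have hzc : ∀ q ∈ Q, ∀ hq : q ∈ A, ∀ s : R, φ s * (q⁻¹ * ψA ⟨q, hq⟩) = q⁻¹ * ψA ⟨q, hq⟩ * φ s := by
    intro q hq hqA s
    have h1 : (⟨(s : Ω), le_sup_left (b := Q) s.2⟩ : A) * ⟨q, hqA⟩ =
        ⟨q, hqA⟩ * ⟨(s : Ω), le_sup_left (b := Q) s.2⟩ := Subtype.ext (hq.2.2 s (hRT s.2))
    have h2 := congrArg ψA h1
    rw [map_mul, map_mul, hψR _ s.2] at h2
    have h3 : φ s * q⁻¹ = q⁻¹ * φ s := by
      rw [eq_inv_mul_iff_mul_eq, ← mul_assoc, ← hq.2.2 _ (hR'T ⟨s, rfl⟩), mul_inv_cancel_right]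
    rw [← mul_assoc, h3, mul_assoc, h2, mul_assoc]
  have hz : ∀ (q : Ω) (hq : q ∈ Q),
      q⁻¹ * ψA ⟨q, le_sup_right (a := R) hq⟩ ∈ φ.range := by
    intro q hq
    refine centralizer_inf_mem hR'c (hR'T.trans hTS) (hψc q hq.2) ?_
    rintro _ ⟨s, rfl⟩
    exact hzc q hq _ s
  let Z := Subgroup.center φ.range
  let _ : CommGroup Z :=
    { (inferInstance : Group Z) with
      mul_comm := fun a b => Subtype.ext (Subgroup.mem_center_iff.1 b.2 a) }
  let z : ∀ q : Ω, q ∈ Q → Z := fun q hq => ⟨⟨_, hz q hq⟩, Subgroup.mem_center_iff.2 (by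
    rintro ⟨_, s, rfl⟩
    exact Subtype.ext (hzc q hq _ s))⟩
  have hzval : ∀ q hq, ((z q hq : φ.range) : Ω) = q⁻¹ * ψA ⟨q, le_sup_right (a := R) hq⟩ :=
    fun q hq => rfl
  have hzB : ∀ w : Z, ((w : φ.range) : Ω) ∈ B := fun w => le_sup_left (b := Q) (w : φ.range).2
  let zB : Z → B := fun w => ⟨_, hzB w⟩
  -- iterates of `δ` on `Q`
  have hqi : ∀ (i : ℕ) (q : Ω) (hq : q ∈ Q), (((δ ^ i) ⟨q, hq.1⟩ : M) : Ω) ∈ Q := fun i q hq =>
    ⟨((δ ^ i) _).2, hδQ i _ hq.2⟩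
  let zi : ℕ → ∀ q : Ω, q ∈ Q → Z := fun i q hq => z _ (hqi i q hq)
  -- restrictions of `δ`
  have hAstab : ∀ (i : ℕ) (x : M), (x : Ω) ∈ A → (((δ ^ i) x : M) : Ω) ∈ A := by
    intro i x hx
    have hle : A ≤ (A.comap (M.subtype.comp (δ ^ i).toMonoidHom)).map M.subtype := sup_le
      (fun r hr => ⟨⟨r, hTM (hRT hr)⟩, by
        change (((δ ^ i) ⟨r, hTM (hRT hr)⟩ : M) : Ω) ∈ A
        rw [hpowfix i ⟨r, hTM (hRT hr)⟩ (hRT hr)]
        exact le_sup_left (b := Q) hr, rfl⟩)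
      fun q hq => ⟨⟨q, hq.1⟩, le_sup_right (a := R) (hqi i q hq), rfl⟩
    obtain ⟨y, hy, hyx⟩ := hle hx
    exact (show y = x from Subtype.ext hyx) ▸ hy
  have hBstab : ∀ (i : ℕ) (x : M), (x : Ω) ∈ B → (((δ ^ i) x : M) : Ω) ∈ B := by
    intro i x hx
    have hle : B ≤ (B.comap (M.subtype.comp (δ ^ i).toMonoidHom)).map M.subtype := sup_le
      (fun r hr => ⟨⟨r, hTM (hR'T hr)⟩, by
        change (((δ ^ i) ⟨r, hTM (hR'T hr)⟩ : M) : Ω) ∈ B
        rw [hpowfix i ⟨r, hTM (hR'T hr)⟩ (hR'T hr)]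
        exact le_sup_left (b := Q) hr, rfl⟩)
      fun q hq => ⟨⟨q, hq.1⟩, le_sup_right (a := φ.range) (hqi i q hq), rfl⟩
    obtain ⟨y, hy, hyx⟩ := hle hx
    exact (show y = x from Subtype.ext hyx) ▸ hy
  have hrange : ψA.range = B := by
    refine le_antisymm ?_ ?_
    · rintro _ ⟨⟨x, hx⟩, rfl⟩
      have hle : A ≤ (B.comap ψA).map A.subtype := sup_le
        (fun r hr => ⟨⟨r, le_sup_left (b := Q) hr⟩, le_sup_left (b := Q) ⟨⟨r, hr⟩, (hψR r hr).symm⟩,
          rfl⟩)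
        fun q hq => ⟨⟨q, le_sup_right (a := R) hq⟩, by
          have h1 := B.mul_mem (le_sup_right (a := φ.range) hq) (le_sup_left (b := Q) (hz q hq))
          rwa [mul_inv_cancel_left] at h1, rfl⟩
      obtain ⟨y, hy, hyx⟩ := hle hx
      exact (show y = ⟨x, hx⟩ from Subtype.ext hyx) ▸ hy
    · refine sup_le ?_ fun q hq => ?_
      · rintro _ ⟨s, rfl⟩; exact ⟨_, hψR _ s.2⟩
      · obtain ⟨s, hs⟩ := hz q hq
        refine ⟨⟨q, le_sup_right (a := R) hq⟩ * ⟨(s : Ω), le_sup_left (b := Q) s.2⟩⁻¹, ?_⟩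
        rw [map_mul, map_inv, hψR _ s.2, hs]
        group
  obtain ⟨e, he, hee⟩ := exists_iso_of_range hψAF hrange
  have heQ : ∀ q (hq : q ∈ Q), (e ⟨q, le_sup_right (a := R) hq⟩ : Ω) =
      q * ((z q hq : φ.range) : Ω) := fun q hq => by
    rw [hee, hzval q hq, mul_inv_cancel_left]
  have hfixB : ∀ (α : MulAut B), (∀ r : B, (r : Ω) ∈ φ.range → α r = r) →
      ∀ w : Z, α (zB w) = zB w := fun α hα w => hα _ (w : φ.range).2
  set n := orderOf δ with hn
  -- the single differences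
  have hstep : ∀ i : ℕ, ∃ η ∈ F.autGroup B, (∀ r : B, (r : Ω) ∈ φ.range → η r = r) ∧
      ∀ q (hq : q ∈ Q), (η ⟨q, le_sup_right (a := φ.range) hq⟩ : Ω) =
        q * ((zi i q hq * (z q hq)⁻¹ : Z) : φ.range) := by
    intro i
    obtain ⟨dA, hdA, hdAe⟩ := exists_iso_of_range (res_mem F ((mem_autGroup_iff F hMS).1
      (pow_mem hδ i)) hAM) (show ((M.subtype.comp (δ ^ i).toMonoidHom).comp
        (Subgroup.inclusion hAM)).range = A from by
      refine Subgroup.eq_of_le_of_card_ge ?_ ?_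
      · rintro _ ⟨x, rfl⟩; exact hAstab i _ x.2
      · exact (Nat.card_congr (MonoidHom.ofInjective (F.injective_of_mem (res_mem F
          ((mem_autGroup_iff F hMS).1 (pow_mem hδ i)) hAM))).toEquiv).le)
    obtain ⟨dB, hdB, hdBe⟩ := exists_iso_of_range (res_mem F ((mem_autGroup_iff F hMS).1
      (pow_mem hδ i)) hBM) (show ((M.subtype.comp (δ ^ i).toMonoidHom).comp
        (Subgroup.inclusion hBM)).range = B from by
      refine Subgroup.eq_of_le_of_card_ge ?_ ?_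
      · rintro _ ⟨x, rfl⟩; exact hBstab i _ x.2
      · exact (Nat.card_congr (MonoidHom.ofInjective (F.injective_of_mem (res_mem F
          ((mem_autGroup_iff F hMS).1 (pow_mem hδ i)) hBM))).toEquiv).le)
    have hdBR : ∀ r : B, (r : Ω) ∈ φ.range → dB.symm r = r := fun r hr => by
      rw [MulEquiv.symm_apply_eq]
      refine Subtype.ext ?_
      rw [hdBe]
      exact (congrArg Subtype.val (hpowfix i ⟨r, hBM r.2⟩ (hR'T hr))).symm
    set η : MulAut B := ((e.symm.trans dA).trans e).trans dB.symm with hη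
    have hηR : ∀ r : B, (r : Ω) ∈ φ.range → η r = r := by
      intro r hr
      obtain ⟨s, hs⟩ := hr
      have h1 : e.symm r = ⟨(s : Ω), le_sup_left (b := Q) s.2⟩ := by
        rw [MulEquiv.symm_apply_eq]
        exact Subtype.ext (by rw [hee, hψR _ s.2, hs])
      have h2 : dA ⟨(s : Ω), le_sup_left (b := Q) s.2⟩ = ⟨(s : Ω), le_sup_left (b := Q) s.2⟩ :=
        Subtype.ext (by
          rw [hdAe]
          exact congrArg Subtype.val (hpowfix i ⟨s, hTM (hRT s.2)⟩ (hRT s.2)))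
      change dB.symm (e (dA (e.symm r))) = r
      rw [h1, h2, ← h1, MulEquiv.apply_symm_apply, hdBR r ⟨s, hs⟩]
    refine ⟨η, (mem_autGroup_iff F (hBM.trans hMS)).2
      (((he.symm.trans hdA).trans he).trans hdB.symm), hηR, fun q hq => ?_⟩
    -- compute on `e q`
    have h1 : η (e ⟨q, le_sup_right (a := R) hq⟩) =
        (⟨q, le_sup_right (a := φ.range) hq⟩ : B) * zB (zi i q hq) := by
      change dB.symm (e (dA (e.symm (e ⟨q, le_sup_right (a := R) hq⟩)))) = _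
      rw [MulEquiv.symm_apply_apply]
      have h2 : dA ⟨q, le_sup_right (a := R) hq⟩ =
          ⟨(((δ ^ i) ⟨q, hq.1⟩ : M) : Ω), le_sup_right (a := R) (hqi i q hq)⟩ :=
        Subtype.ext (hdAe _)
      rw [h2]
      have h3 : e ⟨(((δ ^ i) ⟨q, hq.1⟩ : M) : Ω), le_sup_right (a := R) (hqi i q hq)⟩ =
          dB ⟨q, le_sup_right (a := φ.range) hq⟩ * zB (zi i q hq) := Subtype.ext (by
        rw [heQ _ (hqi i q hq), Subgroup.coe_mul, hdBe]
        rfl)
      rw [h3, map_mul, MulEquiv.symm_apply_apply, hdBR (zB _) (zi i q hq : φ.range).2]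
    have h4 : (⟨q, le_sup_right (a := φ.range) hq⟩ : B) =
        e ⟨q, le_sup_right (a := R) hq⟩ * (zB (z q hq))⁻¹ := Subtype.ext (by
      rw [Subgroup.coe_mul, Subgroup.coe_inv, heQ q hq]
      simp [zB])
    conv_lhs => rw [h4, map_mul, map_inv, h1, hfixB η hηR]
    simp [zB, mul_assoc]
  have hmul : ∀ {α β : MulAut B} {w v : ∀ q : Ω, q ∈ Q → Z},
      (∀ r : B, (r : Ω) ∈ φ.range → α r = r) →
      (∀ q hq, (α ⟨q, le_sup_right (a := φ.range) hq⟩ : Ω) = q * ((w q hq : φ.range) : Ω)) →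
      (∀ q hq, (β ⟨q, le_sup_right (a := φ.range) hq⟩ : Ω) = q * ((v q hq : φ.range) : Ω)) →
      ∀ q hq, ((α * β) ⟨q, le_sup_right (a := φ.range) hq⟩ : Ω) =
        q * ((w q hq * v q hq : Z) : φ.range) := by
    intro α β w v hα hw hv q hq
    have h1 : β ⟨q, le_sup_right (a := φ.range) hq⟩ =
        ⟨q, le_sup_right (a := φ.range) hq⟩ * zB (v q hq) := Subtype.ext (hv q hq)
    rw [MulAut.mul_apply, h1, map_mul, hfixB α hα, Subgroup.coe_mul, hw q hq]
    simp [zB, mul_assoc]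
  have hprod : ∀ l : ℕ, ∃ η ∈ F.autGroup B, (∀ r : B, (r : Ω) ∈ φ.range → η r = r) ∧
      ∀ q (hq : q ∈ Q), (η ⟨q, le_sup_right (a := φ.range) hq⟩ : Ω) =
        q * (((∏ i ∈ Finset.range l, zi i q hq) * ((z q hq)⁻¹) ^ l : Z) : φ.range) := by
    intro l
    induction l with
    | zero => exact ⟨1, one_mem _, fun _ _ => rfl, fun q hq => by simp⟩
    | succ l ih =>
      obtain ⟨η, hη, hηR, hηe⟩ := ih
      obtain ⟨θ, hθ, hθR, hθe⟩ := hstep l
      refine ⟨η * θ, mul_mem hη hθ, fun r hr => by rw [MulAut.mul_apply, hθR r hr, hηR r hr],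
        fun q hq => ?_⟩
      rw [hmul hηR hηe hθe q hq, Finset.prod_range_succ, pow_succ]
      congr 3
      exact mul_mul_mul_comm _ _ _ _
  have hpow : ∀ (η : MulAut B) (w : ∀ q : Ω, q ∈ Q → Z), η ∈ F.autGroup B →
      (∀ r : B, (r : Ω) ∈ φ.range → η r = r) →
      (∀ q hq, (η ⟨q, le_sup_right (a := φ.range) hq⟩ : Ω) = q * ((w q hq : φ.range) : Ω)) →
      ∀ j : ℕ, (∀ r : B, (r : Ω) ∈ φ.range → (η ^ j) r = r) ∧
        ∀ q hq, ((η ^ j) ⟨q, le_sup_right (a := φ.range) hq⟩ : Ω) =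
          q * ((w q hq ^ j : Z) : φ.range) := by
    intro η w _ hR hw j
    induction j with
    | zero => exact ⟨fun _ _ => rfl, fun q hq => by simp⟩
    | succ j ih =>
      refine ⟨fun r hr => by rw [pow_succ', MulAut.mul_apply, ih.1 r hr, hR r hr], fun q hq => ?_⟩
      rw [pow_succ', hmul hR hw ih.2 q hq, pow_succ']
  -- choose the exponent
  have hR'S := hR'T.trans hTS
  have := finite_of_le hR'S
  obtain ⟨k, hk⟩ := IsPGroup.iff_card.1 (hS.to_le hR'S)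
  obtain ⟨j, hj⟩ : ∃ j : ℕ, ∀ w : Z, w ^ (n * j) = w := by
    obtain ⟨N, hN0, hN1⟩ := Nat.chineseRemainder (Nat.Coprime.pow_right k hco) 0 1
    obtain ⟨j, rfl⟩ : n ∣ N := (Nat.modEq_zero_iff_dvd).1 hN0
    refine ⟨j, fun w => Subtype.ext ?_⟩
    have h1 : ((w : φ.range)) ^ p ^ k = 1 := hk ▸ pow_card_eq_one'
    rw [SubmonoidClass.coe_pow]
    conv_rhs => rw [← pow_one (w : φ.range)]
    exact pow_eq_pow_iff_modEq.2 (hN1.of_dvd (orderOf_dvd_of_pow_eq_one h1))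
  obtain ⟨η, hη, hηR, hηe⟩ := hprod n
  obtain ⟨hjR, hje⟩ := hpow η (fun q hq => (∏ i ∈ Finset.range n, zi i q hq) * ((z q hq)⁻¹) ^ n)
    hη hηR hηe j
  set Φ := (B.subtype.comp ((η ^ j : MulAut B).toMonoidHom)).comp e.toMonoidHom with hΦ
  have hΦF : Φ ∈ F.Hom A := mem_of_eq rfl
    (he.trans ((mem_autGroup_iff F (hBM.trans hMS)).1 (pow_mem hη j))) fun _ => rfl
  have hΦQ : ∀ q (hq : q ∈ Q), Φ ⟨q, le_sup_right (a := R) hq⟩ =
      q * (((∏ i ∈ Finset.range n, zi i q hq) ^ j : Z) : φ.range) := by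
    intro q hq
    change ((η ^ j) (e ⟨q, le_sup_right (a := R) hq⟩) : Ω) = _
    have h1 : e ⟨q, le_sup_right (a := R) hq⟩ =
        ⟨q, le_sup_right (a := φ.range) hq⟩ * zB (z q hq) := Subtype.ext (heQ q hq)
    rw [h1, map_mul, hfixB _ hjR, Subgroup.coe_mul, hje q hq]
    rw [mul_pow, ← pow_mul, inv_pow, hj]
    simp [zB, mul_assoc]
  -- invariance of the average
  have hcQ : (c : Ω) ∈ Q := ⟨c.2, hc⟩
  have hdQ : (δ c : Ω) ∈ Q := ⟨(δ c).2, by simpa using hδQ 1 c hc⟩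
  have hshift : ∀ i, zi i (δ c : Ω) hdQ = zi (i + 1) (c : Ω) hcQ := by
    intro i
    refine Subtype.ext (Subtype.ext ?_)
    have he1 : (((δ ^ i) ⟨(δ c : Ω), hdQ.1⟩ : M) : Ω) = (((δ ^ (i + 1)) ⟨(c : Ω), hcQ.1⟩ : M) : Ω) := by
      rw [pow_succ, MulAut.mul_apply]
    simp only [zi, z, he1]
  have hper : zi n (c : Ω) hcQ = zi 0 (c : Ω) hcQ := by
    refine Subtype.ext (Subtype.ext ?_)
    simp only [zi, z, hn, pow_orderOf_eq_one, pow_zero]
  have hW : (∏ i ∈ Finset.range n, zi i (δ c : Ω) hdQ) = ∏ i ∈ Finset.range n, zi i (c : Ω) hcQ := by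
    rw [Finset.prod_congr rfl fun i _ => hshift i]
    have h1 := Finset.prod_range_succ' (fun i => zi i (c : Ω) hcQ) n
    rw [Finset.prod_range_succ, hper] at h1
    exact (mul_right_cancel h1).symm
  have hyA : R ⊔ Subgroup.zpowers ((c : Ω)⁻¹ * (δ c : Ω)) ≤ A := sup_le_sup_left
    (Subgroup.zpowers_le.2 (Q.mul_mem (Q.inv_mem hcQ) hdQ)) R
  refine ⟨Φ.comp (Subgroup.inclusion hyA), res_mem F hΦF hyA, fun x => ?_, ?_⟩
  · change ((η ^ j) (e ⟨(x : Ω), _⟩) : Ω) = φ x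
    have h1 : (e ⟨(x : Ω), le_sup_left (b := Q) x.2⟩ : Ω) = φ x := (hee _).trans (hψR _ x.2)
    rw [hjR _ (h1 ▸ ⟨x, rfl⟩)]
    exact h1
  · change Φ ⟨(c : Ω)⁻¹ * (δ c : Ω), _⟩ = _
    have h1 : (⟨(c : Ω)⁻¹ * (δ c : Ω), hyA (Subgroup.mem_sup_right (Subgroup.mem_zpowers _))⟩ : A) =
        (⟨(c : Ω), le_sup_right (a := R) hcQ⟩ : A)⁻¹ * ⟨(δ c : Ω), le_sup_right (a := R) hdQ⟩ :=
      Subtype.ext rfl
    rw [h1, map_mul, map_inv, hΦQ _ hcQ, hΦQ _ hdQ, hW]
    set w := ((((∏ i ∈ Finset.range n, zi i (c : Ω) hcQ) ^ j : Z) : φ.range) : Ω) with hw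
    have hwT : w ∈ T := hR'T (SetLike.coe_mem _)
    have hcomm1 : w * (c : Ω) = (c : Ω) * w := hc.2 w hwT
    have hcomm2 : w * (δ c : Ω) = (δ c : Ω) * w := hdQ.2.2 w hwT
    calc ((c : Ω) * w)⁻¹ * ((δ c : Ω) * w) = (w * (c : Ω))⁻¹ * (w * (δ c : Ω)) := by
          rw [hcomm1, hcomm2]
      _ = (c : Ω)⁻¹ * (δ c : Ω) := by group

/-- A normal subsystem lies in the centralizer of an element of `C_S(T)` fixed by suitable
extensions of its maps on centric subgroups. -/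
theorem hom_subset_centralizerHom_of_fixed (hS : IsPGroup p S) (hE : E.IsNormalIn F p) {y : Ω}
    (hyC : y ∈ centralizerIn S T)
    (hfix : ∀ R : Subgroup Ω, E.IsCentric R → ∀ φ : R →* Ω, φ ∈ E.Hom R →
      HasTrivialExtHom F E φ → ∃ ψ ∈ F.Hom (R ⊔ Subgroup.zpowers y),
        (∀ x : R, ψ (Subgroup.inclusion le_sup_left x) = φ x) ∧
        ψ ⟨y, Subgroup.mem_sup_right (Subgroup.mem_zpowers y)⟩ = y) :
    ∀ P : Subgroup Ω, E.Hom P ⊆ F.centralizerHom (Subgroup.zpowers y) P := by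
  obtain ⟨⟨hEs, hF, hinv⟩, hext⟩ := hE
  have hT := hinv.2.1
  have hTS := hT.1
  have := finite_of_le hTS
  have hTp := hS.to_le hTS
  set Y := Subgroup.zpowers y
  let D : FusionSystem T :=
    { Hom := fun P => {φ | φ ∈ E.Hom P ∧ ∃ ψ ∈ F.Hom (P ⊔ Y),
        (∀ x : P, ψ (Subgroup.inclusion le_sup_left x) = φ x) ∧
        ψ ⟨y, Subgroup.mem_sup_right (Subgroup.mem_zpowers y)⟩ = y}
      le_of_mem := fun h => E.le_of_mem h.1
      injective_of_mem := fun h => E.injective_of_mem h.1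
      conj_mem := fun {P g} hP hg => ⟨E.conj_mem hP hg, conjHom _ g,
        F.conj_mem (sup_le (hP.trans hTS) (Subgroup.zpowers_le.2 hyC.1)) (hTS hg), fun x => rfl, by
          change g * y * g⁻¹ = y
          rw [hyC.2 g hg, mul_inv_cancel_right]⟩
      comp_mem := by
        rintro P Q φ χ ⟨hφ, ψ₁, hψ₁, h1, h1'⟩ ⟨hχ, ψ₂, hψ₂, h2, h2'⟩ hv
        have hle : ∀ x, ψ₁ x ∈ Q ⊔ Y := by
          rintro ⟨x, hx⟩
          have : P ⊔ Y ≤ ((Q ⊔ Y).comap ψ₁).map (P ⊔ Y).subtype := sup_le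
            (fun r hr => ⟨⟨r, le_sup_left (b := Y) hr⟩, by
              change ψ₁ ⟨r, _⟩ ∈ Q ⊔ Y
              rw [show (⟨r, le_sup_left (b := Y) hr⟩ : ↥(P ⊔ Y)) =
                Subgroup.inclusion le_sup_left ⟨r, hr⟩ from rfl, h1]
              exact le_sup_left (b := Y) (hv _), rfl⟩)
            (Subgroup.zpowers_le.2 ⟨⟨y, Subgroup.mem_sup_right (Subgroup.mem_zpowers y)⟩, by
              change ψ₁ _ ∈ Q ⊔ Y
              rw [h1']
              exact Subgroup.mem_sup_right (Subgroup.mem_zpowers y), rfl⟩)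
          obtain ⟨z, hz, hzx⟩ := this hx
          exact (show z = ⟨x, hx⟩ from Subtype.ext hzx) ▸ hz
        refine ⟨E.comp_mem hφ hχ hv, _, F.comp_mem hψ₁ hψ₂ hle, fun x => ?_, ?_⟩
        · refine Eq.trans ?_ (h2 ⟨φ x, hv x⟩)
          exact congrArg ψ₂ (Subtype.ext (h1 x))
        · refine Eq.trans ?_ h2'
          exact congrArg ψ₂ (Subtype.ext h1')
      inv_mem := by
        rintro P φ ⟨hφ, ψ, hψ, h1, h1'⟩
        obtain ⟨φi, hφi, hφie⟩ := E.inv_mem hφ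
        obtain ⟨ψi, hψi, hψie⟩ := F.inv_mem hψ
        have hle : φ.range ⊔ Y ≤ ψ.range := sup_le
          (by rintro _ ⟨x, rfl⟩; exact ⟨_, h1 x⟩) (Subgroup.zpowers_le.2 ⟨_, h1'⟩)
        refine ⟨φi, ⟨hφi, ψi.comp (Subgroup.inclusion hle), res_mem F hψi hle, ?_, ?_⟩, hφie⟩
        · rintro ⟨_, x, rfl⟩
          rw [hφie]
          refine Eq.trans ?_ (hψie (Subgroup.inclusion le_sup_left x))
          exact congrArg ψi (Subtype.ext (h1 x).symm)
        · refine Eq.trans ?_ (hψie ⟨y, Subgroup.mem_sup_right (Subgroup.mem_zpowers y)⟩)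
          exact congrArg ψi (Subtype.ext h1'.symm) }
  have hgen : ∀ {R : Subgroup Ω}, E.IsCentric R → ∀ {φ : R →* Ω}, φ ∈ E.Hom R →
      HasTrivialExtHom F E φ → φ ∈ D.Hom R := fun hR φ hφ hφe =>
    ⟨hφ, hfix _ hR φ hφ hφe⟩
  have hcp : ContainsCentricPElements D E p := fun R hR β hβ hk => by
    obtain ⟨k, hk⟩ := hk
    refine (mem_autGroup_iff D hR.1).2 (hgen hR ((mem_autGroup_iff E hR.1).1 hβ) ?_)
    exact hasTrivialExtHom_of_pElement hS hF hEs hinv hR hβ (k := k)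
      (by rw [← hk, pow_orderOf_eq_one])
  have hTc : E.IsCentric T := isCentric_top_sub
  have htop : ∀ α ∈ E.autGroup T, autIncl α ∈ D.Hom T := by
    intro α hα
    refine hgen hTc ((mem_autGroup_iff E le_rfl).1 hα) ?_
    obtain ⟨β, hβ, hβT, hβC⟩ := hext α hα
    exact ⟨_, (mem_autGroup_iff F (sup_le hTS (centralizerIn_le T))).1 hβ, fun x => hβT x,
      fun d hd => (hβC ⟨d, Subgroup.mem_sup_right hd⟩ hd).1⟩
  have hsub : (centricPElementSys E p).IsSubsystemOf E := fun _ _ h => h.1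
  obtain ⟨-, hfr, -⟩ := index_prime_to_of_centric_pElements hTp hEs hsub
    containsCentricPElements_centricPElementSys
  intro P φ hφ
  obtain ⟨α, hα, φ₀, hφ₀, he⟩ := hfr P φ hφ
  have hφD : φ ∈ D.Hom P := mem_of_eq rfl
    (D.comp_mem (hφ₀.2 D hcp) (htop α hα) fun x => apply_mem_S _ hφ₀ x) fun x => he x _
  obtain ⟨-, ψ, hψ, hψe, hψy⟩ := hφD
  have hcent : ∀ {x : Ω}, x ∈ T → x ∈ centralizerIn S Y := fun {x} hx => by
    refine ⟨hTS hx, fun w hw => ?_⟩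
    obtain ⟨k, rfl⟩ := Subgroup.mem_zpowers_iff.1 hw
    exact (Commute.zpow_right (hyC.2 x hx : Commute x y) k).symm.eq
  refine ⟨hinv.1 P hφ, fun x hx => hcent (le_S E hφ hx),
    fun x => hcent (apply_mem_S E hφ x), ψ, hψ, hψe, ?_⟩
  rintro ⟨x, hx⟩
  obtain ⟨k, rfl⟩ := Subgroup.mem_zpowers_iff.1 hx
  have h1 : (Subgroup.inclusion (le_sup_right : Y ≤ P ⊔ Y) ⟨y ^ k, hx⟩) =
      (⟨y, Subgroup.mem_sup_right (Subgroup.mem_zpowers y)⟩ : ↥(P ⊔ Y)) ^ k := Subtype.ext (by simp)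
  rw [h1, map_zpow, hψy]

/-- A normal subsystem lies in the centralizer of a coprime commutator in the centralizer of its
group. -/
theorem hom_subset_centralizerHom_commutator (hS : IsPGroup p S) (hE : E.IsNormalIn F p)
    {M : Subgroup Ω} (hTM : T ≤ M) (hM : M ≤ T ⊔ centralizerIn S T) {δ : MulAut M}
    (hδ : δ ∈ F.autGroup M) (hfix : ∀ x : M, (x : Ω) ∈ T → δ x = x) (hco : (orderOf δ).Coprime p)
    {c : M} (hc : (c : Ω) ∈ centralizerIn S T) :
    ∀ P : Subgroup Ω, E.Hom P ⊆ F.centralizerHom (Subgroup.zpowers ((c : Ω)⁻¹ * (δ c : Ω))) P := by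
  have hT := hE.1.2.2.2.1
  have hTS := hT.1
  have hδc : (δ c : Ω) ∈ centralizerIn S T := by
    refine ⟨(hM.trans (sup_le hTS (centralizerIn_le T))) (δ c).2, fun t ht => ?_⟩
    have h1 : (⟨t, hTM ht⟩ : M) * c = c * ⟨t, hTM ht⟩ := Subtype.ext (hc.2 t ht)
    have h2 := congrArg δ h1
    rw [map_mul, map_mul, hfix ⟨t, hTM ht⟩ ht] at h2
    exact congrArg Subtype.val h2
  exact hom_subset_centralizerHom_of_fixed hS hE
    ((centralizerIn S T).mul_mem ((centralizerIn S T).inv_mem hc) hδc) fun R hR φ hφ hφe =>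
    exists_extension_fix_commutator hS hE.1.2.2 hR hφ hφe hTM hM hδ hfix hco hc

/-- The reduction of the residual limit to a normal subsystem. -/
theorem hom_eq_residualLimit_of_pSolvable (hS : IsPGroup p S) (hF : F.IsSaturated p)
    (hE : E.IsNormalIn F p)
    (hCE : ∀ Y : Subgroup Ω, Y ≤ centralizerIn S T →
      (∀ P : Subgroup Ω, E.Hom P ⊆ F.centralizerHom Y P) → Y ≤ T)
    [hn : ((E.autGroup T).subgroupOf (F.autGroup T)).Normal]
    (hsolv : IsPSolvable p (↥(F.autGroup T) ⧸ (E.autGroup T).subgroupOf (F.autGroup T)))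
    {U V : Subgroup Ω} {Finf : FusionSystem U} (hFinf : Finf.IsResidualLimitOf F p)
    {Einf : FusionSystem V} (hEinf : Einf.IsResidualLimitOf E p) :
    ∀ P : Subgroup Ω, Finf.Hom P = Einf.Hom P := by
  set C := centralizerIn S T
  obtain ⟨F₀, hF₀, hEF₀, haut, hlim⟩ := exists_normal_reduction hS hF hE.1 hsolv
  have hT := hE.1.2.2.2.1
  have hTS := hT.1
  have := finite_of_le hTS
  have hXS : T ⊔ C ≤ S := sup_le hTS (centralizerIn_le T)
  have := finite_of_le hXS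
  have hXp := hS.to_le hXS
  have hF₀i := hF₀.1.2.2
  have hT₀ : F₀.StronglyClosed T :=
    ⟨le_sup_left, fun R hR φ hφ x => hT.2 R hR φ (hF₀i.1 R hφ) x⟩
  have hEi₀ : E.IsInvariantIn F₀ :=
    isInvariantIn_of_le hE.1.2.2 hS hF₀.1.1 hF₀i.1 le_sup_left hEF₀
  -- the hyperfocal subgroup lies in `T`
  have hhyp : F₀.hyperfocalSubgroup p ≤ T := by
    refine hyperfocalSubgroup_le_of_generators hXp hF₀.1.1 hT₀ T le_rfl fun M hTM hMX β hβ x => ?_
    have hMS := hMX.trans hXS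
    have := finite_of_le hMS
    let A : Subgroup (F₀.autGroup M) :=
      { carrier := {β | ∀ y : M, (y : Ω)⁻¹ * ((β : MulAut M) y : M) ∈ T}
        one_mem' := fun y => by simp
        mul_mem' := by
          intro β γ hβ hγ y
          have h1 := T.mul_mem (hγ y) (hβ ((γ : MulAut M) y))
          rwa [mul_assoc, mul_inv_cancel_left] at h1
        inv_mem' := by
          intro β hβ y
          have h1 := T.inv_mem (hβ ((β : MulAut M)⁻¹ y))
          rw [MulAut.apply_inv_self, mul_inv_rev, inv_inv] at h1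
          exact h1 }
    refine (?_ : pResidual p (F₀.autGroup M) ≤ A) hβ x
    refine (Subgroup.closure_le _).2 fun b hb => ?_
    -- write `M = T (M ∩ C)`
    have hdec : ∀ y : M, ∃ t ∈ T, ∃ d ∈ C, t * d = (y : Ω) := by
      intro y
      have hn : C ≤ Subgroup.normalizer (T : Set Ω) := fun d hd =>
        mem_normalizer_of_forall_commute hd.2
      have h1 : (y : Ω) ∈ ((T ⊔ C : Subgroup Ω) : Set Ω) := hMX y.2
      rw [Subgroup.coe_mul_of_right_le_normalizer_left _ _ hn] at h1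
      exact Set.mem_mul.1 h1
    have hbF₀ := (mem_autGroup_iff F₀ hMX).1 b.2
    have hbT : ∀ y : M, (y : Ω) ∈ T → ((b : MulAut M) y : Ω) ∈ T := fun y hy =>
      autGroup_apply_mem hT₀ b.2 hy
    obtain ⟨a, ha, hae⟩ := exists_iso_of_range (res_mem F₀ hbF₀ hTM)
      ((weaklyClosed_of_stronglyClosed hT₀).2 _ (res_mem F₀ hbF₀ hTM))
    have haE : (a : MulAut T) ∈ E.autGroup T := haut ▸ (mem_autGroup_iff F₀ le_sup_left).2 ha
    obtain ⟨β₀, hβ₀, hβ₀T, hβ₀C⟩ := hE.2 a haE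
    -- restrict the extension to `M`
    have hβ₀F := (mem_autGroup_iff F hXS).1 hβ₀
    have hMstab : ∀ y : ↥(T ⊔ C), (y : Ω) ∈ M → ((β₀ y : ↥(T ⊔ C)) : Ω) ∈ M := by
      intro y hy
      obtain ⟨t, ht, d, hd, hyd⟩ := hdec ⟨y, hy⟩
      have hdM : d ∈ M := by
        have h1 := M.mul_mem (M.inv_mem (hTM ht)) hy
        rwa [← hyd, inv_mul_cancel_left] at h1
      have h2 : y = Subgroup.inclusion le_sup_left ⟨t, ht⟩ * ⟨d, Subgroup.mem_sup_right hd⟩ :=
        Subtype.ext hyd.symm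
      rw [h2, map_mul, Subgroup.coe_mul, hβ₀T]
      refine M.mul_mem (hTM (a ⟨t, ht⟩).2) ?_
      have h3 := (hβ₀C ⟨d, Subgroup.mem_sup_right hd⟩ hd).1
      have h4 := M.mul_mem hdM (hTM h3)
      rwa [mul_inv_cancel_left] at h4
    obtain ⟨g, hg, hge⟩ := exists_iso_of_range (res_mem F hβ₀F hMX)
      (show (((T ⊔ C).subtype.comp β₀.toMonoidHom).comp (Subgroup.inclusion hMX)).range = M from by
        refine Subgroup.eq_of_le_of_card_ge ?_ ?_
        · rintro _ ⟨y, rfl⟩; exact hMstab _ y.2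
        · exact (Nat.card_congr (MonoidHom.ofInjective (F.injective_of_mem
            (res_mem F hβ₀F hMX))).toEquiv).le)
    have hgA : (g : MulAut M) ∈ F.autGroup M := (mem_autGroup_iff F hMS).2 hg
    set δ : MulAut M := g⁻¹ * (b : MulAut M) with hδdef
    have hδF : δ ∈ F.autGroup M := mul_mem (inv_mem hgA) (autGroup_mono hF₀i.1 M b.2)
    have hgT : ∀ y : M, (y : Ω) ∈ T → g y = (b : MulAut M) y := by
      intro y hy
      refine Subtype.ext ?_
      rw [hge]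
      have h1 := hae ⟨y, hy⟩
      refine (hβ₀T ⟨y, hy⟩).trans (h1.trans ?_)
      rfl
    have hδT : ∀ y : M, (y : Ω) ∈ T → δ y = y := fun y hy => by
      rw [hδdef, MulAut.mul_apply, ← hgT y hy, MulAut.inv_apply_self]
    -- `b` and `δ` agree modulo `T`
    have hgmod : ∀ y : M, (y : Ω) ∈ C → (y : Ω)⁻¹ * (g y : Ω) ∈ T := fun y hy => by
      rw [hge]
      exact (hβ₀C (Subgroup.inclusion hMX y) hy).1
    have hCmod : ∀ y : M, (y : Ω) ∈ C → (δ y : Ω) ∈ C := by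
      intro y hy
      refine ⟨hMS (δ y).2, fun t ht => ?_⟩
      have h1 : (⟨t, hTM ht⟩ : M) * y = y * ⟨t, hTM ht⟩ := Subtype.ext (hy.2 t ht)
      have h2 := congrArg δ h1
      rw [map_mul, map_mul, hδT ⟨t, hTM ht⟩ ht] at h2
      exact congrArg Subtype.val h2
    have hbmod : ∀ y : M, (y : Ω) ∈ C → (δ y : Ω)⁻¹ * ((b : MulAut M) y : Ω) ∈ T := fun y hy => by
      have h1 := hgmod (δ y) (hCmod y hy)
      rwa [hδdef, MulAut.mul_apply, MulAut.apply_inv_self] at h1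
    obtain ⟨k, r, hr, hord⟩ := Nat.exists_eq_pow_mul_and_not_dvd
      (orderOf_pos δ).ne' p (Fact.out : p.Prime).ne_one
    have hbco : (orderOf (b : MulAut M)).Coprime p := by rw [Subgroup.orderOf_coe]; exact hb
    obtain ⟨j, hj⟩ := exists_pow_eq_self_of_coprime (x := (b : MulAut M)) (hbco.symm.pow_left k)
    have hiter : ∀ (i : ℕ) (y : M), (y : Ω) ∈ C → ((δ ^ i) y : Ω) ∈ C ∧
        ((δ ^ i) y : Ω)⁻¹ * (((b : MulAut M) ^ i) y : Ω) ∈ T := by
      intro i y hy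
      induction i with
      | zero => exact ⟨hy, by simp⟩
      | succ i ih =>
        rw [pow_succ', pow_succ', MulAut.mul_apply, MulAut.mul_apply]
        refine ⟨hCmod _ ih.1, ?_⟩
        have h1 := hbmod _ ih.1
        have h2 := hbT (((δ ^ i) y)⁻¹ * ((b : MulAut M) ^ i) y) (by simpa using ih.2)
        rw [map_mul, map_inv, Subgroup.coe_mul, Subgroup.coe_inv] at h2
        have h3 := T.mul_mem h1 h2
        rwa [mul_assoc, mul_inv_cancel_left] at h3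
    set δ' := δ ^ (p ^ k * j) with hδ'
    have hδ'co : (orderOf δ').Coprime p := by
      refine Nat.Coprime.coprime_dvd_left ?_ ((Fact.out : p.Prime).coprime_iff_not_dvd.2 hr).symm
      refine orderOf_dvd_of_pow_eq_one ?_
      rw [hδ', ← pow_mul, mul_right_comm, ← hord, pow_mul, pow_orderOf_eq_one, one_pow]
    have hδ'T : ∀ (i : ℕ) (y : M), (y : Ω) ∈ T → (δ ^ i) y = y := by
      intro i y hy
      induction i with
      | zero => rfl
      | succ i ih => rw [pow_succ', MulAut.mul_apply, ih, hδT y hy]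
    intro y
    obtain ⟨t, ht, d, hd, hyd⟩ := hdec y
    have hdM : d ∈ M := by
      have h1 := M.mul_mem (M.inv_mem (hTM ht)) y.2
      rwa [← hyd, inv_mul_cancel_left] at h1
    have hbd : d⁻¹ * ((b : MulAut M) ⟨d, hdM⟩ : Ω) ∈ T := by
      obtain ⟨h1, h2⟩ := hiter (p ^ k * j) ⟨d, hdM⟩ hd
      rw [show (b : MulAut M) ^ (p ^ k * j) = b by rw [pow_mul, hj]] at h2
      have h3 : d⁻¹ * (δ' ⟨d, hdM⟩ : Ω) ∈ T := by
        refine hCE (Subgroup.zpowers (d⁻¹ * (δ' ⟨d, hdM⟩ : Ω)))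
          (Subgroup.zpowers_le.2 (C.mul_mem (C.inv_mem hd) h1))
          (hom_subset_centralizerHom_commutator hS hE hTM hMX (pow_mem hδF _)
            (fun w hw => hδ'T _ w hw) hδ'co (c := ⟨d, hdM⟩) hd) (Subgroup.mem_zpowers _)
      have h4 := T.mul_mem h3 h2
      rwa [hδ', mul_assoc, mul_inv_cancel_left] at h4
    have h5 : y = ⟨t, hTM ht⟩ * ⟨d, hdM⟩ := Subtype.ext hyd.symm
    rw [h5, map_mul, Subgroup.coe_mul, Subgroup.coe_mul, mul_inv_rev]
    change d⁻¹ * t⁻¹ * (((b : MulAut M) ⟨t, hTM ht⟩ : Ω) * ((b : MulAut M) ⟨d, hdM⟩ : Ω)) ∈ T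
    set u := t⁻¹ * ((b : MulAut M) ⟨t, hTM ht⟩ : Ω) with hu
    have huT : u ∈ T := T.mul_mem (T.inv_mem ht) (hbT _ ht)
    have h6 : d⁻¹ * u = u * d⁻¹ := by
      rw [inv_mul_eq_iff_eq_mul, ← mul_assoc, ← hd.2 u huT, mul_inv_cancel_right]
    rw [show d⁻¹ * t⁻¹ * (((b : MulAut M) ⟨t, hTM ht⟩ : Ω) * ((b : MulAut M) ⟨d, hdM⟩ : Ω)) =
      d⁻¹ * u * ((b : MulAut M) ⟨d, hdM⟩ : Ω) by rw [hu]; group, h6, mul_assoc]
    exact T.mul_mem huT hbd
  -- the limit of `F` lies in `E`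
  obtain ⟨hUF₀, -⟩ := hlim Finf hFinf
  obtain ⟨hUh, hUr⟩ := isResidualLimit_stable hFinf
  obtain ⟨hVh, hVr⟩ := isResidualLimit_stable hEinf
  have hp : p.Prime := Fact.out
  have hUwn := isWeaklyNormalIn_residualLimit hFinf hp F hS ⟨hF, hF, isInvariantIn_self hS hF⟩
  have hVwn := isWeaklyNormalIn_residualLimit hEinf hp F hS hE.1
  obtain ⟨D, hDs, hD⟩ := exists_saturated_pPowerIndex hXp hF₀.1.1 (hyperfocalSubgroup_le p) le_rfl
  have hUT : U ≤ T := (le_of_pPowerIndex_of_stable hXp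
    (isInvariantIn_of_le hUwn.2.2 hS hF₀.1.1 hF₀i.1 (le_S_of_isSubsystemOf hUF₀) hUF₀)
    hUwn.1 hUh hD).1.trans hhyp
  have hUE : Finf.IsSubsystemOf E := by
    intro P φ hφ
    have hP := (le_S Finf hφ).trans hUT
    obtain ⟨α, hα, φ₀, hφ₀, he⟩ := hEi₀.2.2.2 P hP φ (hUF₀ P hφ)
    exact mem_of_eq rfl (E.comp_mem hφ₀ ((mem_autGroup_iff E le_rfl).1 (haut ▸ hα))
      fun x => apply_mem_S E hφ₀ x) fun x => he x _
  refine fun P => Set.Subset.antisymm ?_ ?_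
  · exact stable_le_residualLimit hEinf hp (hS.to_le hTS) inferInstance Finf
      ⟨hUwn.1, hE.1.1, isInvariantIn_of_le hUwn.2.2 hS hE.1.1 hE.1.2.2.1 hUT hUE⟩ hUh hUr P
  · exact stable_le_residualLimit hFinf hp hS inferInstance Einf hVwn hVh hVr P

end CfsgLib.Fusion
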