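import Cfsg.Agent.Lib.Fusion.SmallControl
import Cfsg.Agent.Lib.Fusion.Invariant
import Cfsg.Agent.Lib.Fusion.Extender
import Cfsg.Agent.Lib.Cores.Basic

/-!
# Centric subgroups meeting a normal subsystem in a non-centric subgroup
-/

set_option autoImplicit false

open Cfsg Cfsg.FusionSystem

namespace CfsgLib.Fusion

variable {Ω : Type*} [Group Ω] {S : Subgroup Ω} (F : FusionSystem S)

/-- The automorphisms stabilizing the series `1 ≤ P ∩ T ≤ P`. -/
def meetStab (T : Subgroup Ω) (hT : F.StronglyClosed T) (P : Subgroup Ω) : Subgroup (MulAut P) where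
  carrier := {α | α ∈ F.autGroup P ∧ (∀ r : P, (r : Ω) ∈ T → α r = r) ∧
    ∀ y : P, ((y⁻¹ * α y : P) : Ω) ∈ T}
  one_mem' := ⟨one_mem _, fun r _ => rfl, fun y => by simp⟩
  mul_mem' := by
    rintro a b ⟨ha, ha1, ha2⟩ ⟨hb, hb1, hb2⟩
    refine ⟨mul_mem ha hb, fun r hr => by rw [MulAut.mul_apply, hb1 r hr, ha1 r hr], fun y => ?_⟩
    have h := T.mul_mem (hb2 y) (ha2 (b y))
    rwa [← Subgroup.coe_mul, mul_assoc, mul_inv_cancel_left] at h
  inv_mem' := by
    rintro a ⟨ha, ha1, ha2⟩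
    refine ⟨inv_mem ha, fun r hr => ?_, fun y => ?_⟩
    · conv_lhs => rw [← ha1 r hr]
      exact MulAut.inv_apply_self P a r
    · have h := T.inv_mem (ha2 (a⁻¹ y))
      rwa [MulAut.apply_inv_self, ← Subgroup.coe_inv, mul_inv_rev, inv_inv] at h

variable {F} {T : Subgroup Ω} {hT : F.StronglyClosed T}

theorem meetStab_le (P : Subgroup Ω) : meetStab F T hT P ≤ F.autGroup P := fun _ h => h.1

theorem meetStab_normal (P : Subgroup Ω) :
    ((meetStab F T hT P).subgroupOf (F.autGroup P)).Normal := ⟨fun a ha b => by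
  rw [Subgroup.mem_subgroupOf] at ha ⊢
  obtain ⟨h0, h1, h2⟩ := ha
  refine ⟨mul_mem (mul_mem b.2 h0) (inv_mem b.2), fun r hr => ?_, fun y => ?_⟩
  · simp only [Subgroup.coe_mul, Subgroup.coe_inv, MulAut.mul_apply]
    rw [h1 _ (autGroup_apply_mem hT (inv_mem b.2) hr), MulAut.apply_inv_self]
  · simp only [Subgroup.coe_mul, Subgroup.coe_inv, MulAut.mul_apply]
    have h := autGroup_apply_mem hT b.2 (h2 ((b : MulAut P)⁻¹ y))
    rwa [map_mul, map_inv, MulAut.apply_inv_self] at h⟩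

variable {p : ℕ} [Fact p.Prime] [Finite S]

theorem isPGroup_meetStab (hS : IsPGroup p S) {P : Subgroup Ω} (hPS : P ≤ S) :
    IsPGroup p (meetStab F T hT P) := by
  have := finite_of_le hPS
  refine IsPGroup.of_card (n := (Nat.card (meetStab F T hT P)).primeFactorsList.length)
    (Nat.eq_prime_pow_of_unique_prime_dvd Nat.card_pos.ne' fun {q} hq hdvd => ?_)
  by_contra hqp
  have := Fact.mk hq
  obtain ⟨⟨a, haK⟩, hα⟩ := exists_prime_orderOf_dvd_card' q hdvd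
  rw [Subgroup.orderOf_mk] at hα
  obtain ⟨_, h1, h2⟩ := haK
  have hco : (orderOf a).Coprime p := by rw [hα]; exact (Nat.coprime_primes hq Fact.out).2 hqp
  have hone : a = 1 := MulEquiv.ext fun y =>
    apply_eq_of_diff_fixed (hS.to_le hPS) hco (h1 _ (h2 y))
  rw [hone, orderOf_one] at hα
  exact hq.ne_one hα.symm

/-- A centric subgroup meeting the normal subsystem `E` in a non-centric subgroup is not radical. -/
theorem not_radical_of_meet (hS : IsPGroup p S) (hF : F.IsSaturated p) {E : FusionSystem T}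
    (hE : E.IsSubsystemOf F) (hT : F.StronglyClosed T) {P : Subgroup Ω} (hP : F.IsCentric P)
    (hPT : ¬ E.IsCentric (P ⊓ T)) :
    (∃ φ ∈ F.Hom P, ∃ x ∈ S ⊓ Subgroup.normalizer (φ.range : Set Ω), x ∉ φ.range ∧
      ∃ α ∈ ((pCore p ↥(F.autGroup φ.range)).map (F.autGroup φ.range).subtype :
        Subgroup (MulAut ↥φ.range)),
        ∀ y : ↥φ.range, ((α y : ↥φ.range) : Ω) = x * (y : Ω) * x⁻¹) ∧ ¬ F.IsRadical p P := by
  have hPS := hP.1
  set R := P ⊓ T with hR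
  have hRS : R ≤ S := inf_le_left.trans hPS
  obtain ⟨R₀, hRR₀, hR₀⟩ := exists_fullyNormalized F hRS
  -- `C_T(R₀)` is not in `R₀`
  have hCR₀ : ¬ centralizerIn T R₀ ≤ R₀ := by
    intro hle
    refine hPT ⟨inf_le_right, fun R' hR' c hc => ?_⟩
    obtain ⟨e, h, he, ψ, hψ, hψe, hψN⟩ := exists_hom_normalizerIn_of_fullyNormalized hS hF hR₀
      (isConj_trans (isConj_symm (isConj_of_isSubsystemOf hE hR')) hRR₀)
    have hcN : c ∈ normalizerIn S R' := ⟨hT.1 hc.1, mem_normalizer_of_forall_commute hc.2⟩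
    have hcT : ψ ⟨c, hcN⟩ ∈ T := hT.2 (Subgroup.zpowers c) (Subgroup.zpowers_le.2 hc.1) _
      (res_mem F hψ (Subgroup.zpowers_le.2 hcN)) ⟨c, Subgroup.mem_zpowers c⟩
    have hcC : ψ ⟨c, hcN⟩ ∈ centralizerIn S R₀ :=
      apply_mem_centralizerIn hψ h hψe (c := ⟨c, hcN⟩) ⟨hT.1 hc.1, hc.2⟩
    have h1 := hle ⟨hcT, hcC.2⟩
    obtain ⟨z, hz⟩ := e.surjective ⟨_, h1⟩
    have h2 := F.injective_of_mem hψ ((hψe z).trans (congrArg Subtype.val hz))
    have h3 : (z : Ω) = c := congrArg Subtype.val h2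
    exact h3 ▸ z.2
  -- move `P` so as to meet `T` in `R₀`
  obtain ⟨e, h, he, ψ, hψ, hψe, hψN⟩ := exists_hom_normalizerIn_of_fullyNormalized hS hF hR₀ hRR₀
  have hTn := le_normalizer_of_stronglyClosed hT
  have hPN : P ≤ normalizerIn S R := fun y hy => by
    refine ⟨hPS hy, ?_⟩
    have := finite_of_le hRS
    exact mem_normalizer_of_forall fun r hr =>
      ⟨P.mul_mem (P.mul_mem hy hr.1) (P.inv_mem hy), conj_mem_of_mem_normalizer (hTn (hPS hy)) hr.2⟩
  set φ := ψ.comp (Subgroup.inclusion hPN) with hφdef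
  have hφ : φ ∈ F.Hom P := res_mem F hψ hPN
  set Q := φ.range with hQdef
  have hQS : Q ≤ S := range_le_S F hφ
  obtain ⟨eP, heP, hePe⟩ := exists_iso_of_range hφ hQdef.symm
  have hQT : ∀ y : P, (y : Ω) ∈ T ↔ φ y ∈ T := by
    intro y
    constructor
    · intro hy
      exact hT.2 (Subgroup.zpowers (y : Ω)) (Subgroup.zpowers_le.2 hy) _
        (res_mem F hφ (Subgroup.zpowers_le.2 y.2)) ⟨y, Subgroup.mem_zpowers _⟩
    · intro hy
      have hle : Subgroup.zpowers (φ y) ≤ Q := Subgroup.zpowers_le.2 ⟨y, rfl⟩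
      have h1 := hT.2 _ (Subgroup.zpowers_le.2 hy) _ (res_mem F heP.symm hle)
        ⟨φ y, Subgroup.mem_zpowers _⟩
      have h2 : (eP.symm ⟨φ y, y, rfl⟩ : Ω) = y := by
        rw [show (⟨φ y, y, rfl⟩ : Q) = eP y from Subtype.ext (hePe y).symm,
          MulEquiv.symm_apply_apply]
      exact h2 ▸ h1
  have hQR : Q ⊓ T = R₀ := by
    ext z
    constructor
    · rintro ⟨⟨y, rfl⟩, hz⟩
      have hyR : (y : Ω) ∈ R := ⟨y.2, (hQT y).2 hz⟩
      change ψ (Subgroup.inclusion hPN y) ∈ R₀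
      rw [show Subgroup.inclusion hPN y = Subgroup.inclusion h ⟨y, hyR⟩ from rfl, hψe]
      exact (e _).2
    · intro hz
      obtain ⟨r, hr⟩ := e.surjective ⟨z, hz⟩
      have hrP : (r : Ω) ∈ P := r.2.1
      have h1 : φ ⟨r, hrP⟩ = z := (hψe r).trans (congrArg Subtype.val hr)
      exact ⟨⟨_, h1⟩, h1 ▸ (hQT ⟨r, hrP⟩).1 r.2.2⟩
  -- an element of `T` stabilizing `1 ≤ R₀ ≤ Q`
  have hQnR : Q ≤ Subgroup.normalizer (R₀ : Set Ω) := by
    rintro _ ⟨y, rfl⟩
    exact (hψN _).2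
  set C := centralizerIn T R₀ with hC
  have hCS : C ≤ S := inf_le_left.trans hT.1
  have hCn : Q ≤ Subgroup.normalizer (C : Set Ω) := fun q hq => by
    have := finite_of_le hCS
    refine mem_normalizer_of_forall fun c hc =>
      ⟨conj_mem_of_mem_normalizer (hTn (hQS hq)) hc.1, fun r hr => ?_⟩
    have h1 : q⁻¹ * r * q ∈ R₀ := by
      simpa using conj_mem_of_mem_normalizer (inv_mem (hQnR hq)) hr
    have h2 := hc.2 _ h1
    calc r * (q * c * q⁻¹) = q * (q⁻¹ * r * q * c) * q⁻¹ := by group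
      _ = q * (c * (q⁻¹ * r * q)) * q⁻¹ := by rw [h2]
      _ = q * c * q⁻¹ * r := by group
  obtain ⟨c, hcC, hcR⟩ := SetLike.not_le_iff_exists.1 hCR₀
  have hcQ : c ∉ Q := fun hq => hcR (hQR ▸ ⟨hq, hcC.1⟩ : c ∈ R₀)
  have hM : Q ⊔ C ≤ S := sup_le hQS hCS
  have := finite_of_le hM
  have hlt : Q < Q ⊔ C := lt_of_le_not_ge le_sup_left fun hle => hcQ (hle (Subgroup.mem_sup_right hcC))
  obtain ⟨z, ⟨hzM, hzN⟩, hzQ⟩ := SetLike.exists_of_lt (lt_normalizerIn (hS.to_le hM) hlt)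
  have hz' : z ∈ ((Q ⊔ C : Subgroup Ω) : Set Ω) := hzM
  rw [Subgroup.coe_mul_of_left_le_normalizer_right Q C hCn] at hz'
  obtain ⟨q, hq, x, hx, rfl⟩ := hz'
  have hxN : x ∈ Subgroup.normalizer (Q : Set Ω) := by
    simpa using mul_mem (inv_mem (Subgroup.le_normalizer hq)) hzN
  have hxQ : x ∉ Q := fun h => hzQ (Q.mul_mem hq h)
  have hxA : normAut x hxN ∈ meetStab F T hT Q := by
    refine ⟨autInducedBy_le_autGroup hQS (mem_autInducedBy_iff.2 ⟨x, hCS hx, fun _ => rfl⟩),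
      fun r hr => Subtype.ext ?_, fun y => ?_⟩
    · rw [normAut_apply, ← hx.2 r (hQR ▸ ⟨r.2, hr⟩ : (r : Ω) ∈ R₀), mul_inv_cancel_right]
    · change (y : Ω)⁻¹ * (x * (y : Ω) * x⁻¹) ∈ T
      rw [show (y : Ω)⁻¹ * (x * (y : Ω) * x⁻¹) = ((y : Ω)⁻¹ * x * y) * x⁻¹ by group]
      refine T.mul_mem ?_ (T.inv_mem hx.1)
      simpa using conj_mem_of_mem_normalizer (hTn (S.inv_mem (hQS y.2))) hx.1
  have := finite_of_le hQS
  refine ⟨⟨φ, hφ, x, ⟨hCS hx, hxN⟩, hxQ, normAut x hxN, ⟨⟨_, hxA.1⟩, ?_, rfl⟩, fun y => rfl⟩,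
    fun hr => ?_⟩
  · exact (Cores.le_pCore (hn := meetStab_normal Q) (isPGroup_meetStab hS hQS).comap_subtype)
      (show (⟨_, hxA.1⟩ : F.autGroup Q) ∈ (meetStab F T hT Q).subgroupOf (F.autGroup Q) from hxA)
  -- pulled back to `P`
  set a : MulAut P := MulAut.congr eP.symm (normAut x hxN) with ha
  have haK : a ∈ meetStab F T hT P := by
    obtain ⟨h0, h1, h2⟩ := hxA
    refine ⟨congr_mem_autGroup heP.symm h0, fun r hr => ?_, fun y => ?_⟩
    · change eP.symm (normAut x hxN (eP r)) = r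
      rw [h1 (eP r) (hePe r ▸ (hQT r).1 hr), MulEquiv.symm_apply_apply]
    · refine (hQT _).2 ?_
      rw [← hePe]
      change ((eP (y⁻¹ * eP.symm (normAut x hxN (eP y))) : Q) : Ω) ∈ T
      rw [map_mul, map_inv, MulEquiv.apply_symm_apply]
      exact h2 (eP y)
  have := finite_of_le hPS
  obtain ⟨u, hu⟩ := le_inn_of_normal_pgroup hr (meetStab_le P) (meetStab_normal P)
    (isPGroup_meetStab hS hPS) haK
  refine hxQ (mem_of_normAut_mem_inn hQS (hP.2 Q ⟨φ, hφ, rfl⟩) (hCS hx) (hg := hxN) ⟨eP u, ?_⟩)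
  refine MulEquiv.ext fun y => ?_
  obtain ⟨v, rfl⟩ := eP.surjective y
  have h3 := DFunLike.congr_fun hu v
  change MulAut.conj u v = eP.symm (normAut x hxN (eP v)) at h3
  rw [MulAut.conj_apply] at h3 ⊢
  rw [← map_inv, ← map_mul, ← map_mul, h3, MulEquiv.apply_symm_apply]

end CfsgLib.Fusion
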