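import Cfsg.Agent.Lib.Fusion.TransportProperties

/-!
# Conjugates of components; the layer under automorphisms
-/

set_option autoImplicit false

open Cfsg Cfsg.FusionSystem

namespace CfsgLib.Fusion

variable {Ω : Type*} [Group Ω] {S T : Subgroup Ω} {F : FusionSystem S} {C : FusionSystem T}
  {p : ℕ}

theorem imageAlong_preimage_eq {Ω' : Type*} [Group Ω'] {γ : T →* Ω'} (hγ : Function.Injective γ)
    {P : Subgroup Ω} (hP : P ≤ T) : preimageAlong γ (imageAlong γ P) = P := by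
  ext x
  constructor
  · rintro ⟨z, ⟨w, hw, hwz⟩, rfl⟩
    exact hγ hwz ▸ hw
  · exact fun hx => ⟨⟨x, hP hx⟩, apply_mem_imageAlong (x := ⟨x, hP hx⟩) hx, rfl⟩

/-- A factor system by the trivial subgroup is an isomorphic system. -/
theorem transported_of_isFactorSystem_bot {Ω' : Type*} [Group Ω'] {T' : Subgroup Ω'}
    {γ : T →* Ω'} (hγ : Function.Injective γ) {E : FusionSystem T'}
    (hE : C.IsFactorSystem ⊥ γ E) : Transported C E γ := by
  obtain ⟨-, -, hr, hEhom⟩ := hE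
  refine ⟨hγ, hr, fun P hP φ hφ => ?_⟩
  have hpre := imageAlong_preimage_eq hγ hP
  constructor
  · intro hφC
    let f : imageAlong γ P →* Ω' := (γ.comp (φ.codRestrict T hφ)).comp
      (imageEquiv hγ hP).symm.toMonoidHom
    have hf : ∀ x : P, f ⟨γ ⟨x, hP x.2⟩, apply_mem_imageAlong x.2⟩ = γ ⟨φ x, hφ x⟩ := fun x =>
      congrArg (fun z => γ ⟨φ z, hφ z⟩) ((imageEquiv hγ hP).symm_apply_apply x)
    refine ⟨f, (hEhom _ _).2 ⟨hr ▸ Subgroup.map_le_range _ _,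
      φ.comp (Subgroup.inclusion hpre.le), res_mem C hφC hpre.le, ?_⟩, hf⟩
    exact ⟨hpre.le.trans hP, fun x => hφ _, fun x => apply_mem_imageAlong (hpre.le x.2),
      fun x => hf (Subgroup.inclusion hpre.le x)⟩
  · rintro ⟨ψ, hψ, hψe⟩
    obtain ⟨-, φ₁, hφ₁, hP₁, hφ₁T, hP₁', hind⟩ := (hEhom _ _).1 hψ
    refine mem_of_eq hpre hφ₁ fun x => ?_
    have h1 := hind x
    have h2 := hψe ⟨x, hpre.le x.2⟩
    exact congrArg Subtype.val (hγ (h2.symm.trans h1))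

/-- Cancelling a common source. -/
theorem Transported.cancel {Ω₁ Ω₂ : Type*} [Group Ω₁] [Group Ω₂] {T₁ : Subgroup Ω₁}
    {T₂ : Subgroup Ω₂} {E₁ : FusionSystem T₁} {E₂ : FusionSystem T₂} {κ₁ : T →* Ω₁}
    {κ₂ : T →* Ω₂} (h₁ : Transported C E₁ κ₁) (h₂ : Transported C E₂ κ₂) {ι : T₁ →* Ω₂}
    (hι : ∀ (x : T) (hx : κ₁ x ∈ T₁), ι ⟨κ₁ x, hx⟩ = κ₂ x) : Transported E₁ E₂ ι := by
  have hex : ∀ y : T₁, ∃ x : T, ∃ hx : κ₁ x ∈ T₁, y = ⟨κ₁ x, hx⟩ := fun y => by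
    obtain ⟨x, hx⟩ := h₁.exists_preimage y
    exact ⟨x, hx ▸ y.2, Subtype.ext hx.symm⟩
  refine ⟨fun a b hab => ?_, ?_, fun P₁ hP₁ φ₁ hφ₁ => ?_⟩
  · obtain ⟨x, hx, rfl⟩ := hex a
    obtain ⟨y, hy, rfl⟩ := hex b
    rw [hι, hι] at hab
    exact Subtype.ext (congrArg κ₁ (h₂.inj hab))
  · rw [← h₂.range_eq]
    refine le_antisymm ?_ ?_
    · rintro _ ⟨a, rfl⟩
      obtain ⟨x, hx, rfl⟩ := hex a
      exact ⟨x, (hι x hx).symm⟩
    · rintro _ ⟨x, rfl⟩
      exact ⟨⟨κ₁ x, h₁.range_eq.le ⟨x, rfl⟩⟩, hι _ _⟩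
  have hP := h₁.imageAlong_inv_le P₁
  have he := h₁.imageAlong_inv hP₁
  have him : imageAlong κ₂ (imageAlong h₁.inv P₁) = imageAlong ι P₁ := by
    ext y
    constructor
    · rintro ⟨x, hx, rfl⟩
      refine ⟨⟨κ₁ x, h₁.range_eq.le ⟨x, rfl⟩⟩, he.le (apply_mem_imageAlong hx), hι _ _⟩
    · rintro ⟨a, ha, rfl⟩
      obtain ⟨x, hx, rfl⟩ := hex a
      refine ⟨x, ?_, (hι x hx).symm⟩
      exact (mem_imageAlong_apply_iff h₁.inj).1 (he.ge ha)
  constructor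
  · intro hφ
    obtain ⟨φ, hφC, hφe⟩ := h₁.pullHom hP he hφ
    obtain ⟨ψ, hψ, hψe⟩ := h₂.push him hφC
    refine ⟨ψ, hψ, fun z => ?_⟩
    obtain ⟨z, hzm⟩ := z
    obtain ⟨x, hx, rfl⟩ := he.ge hzm
    have hv := apply_mem_S C hφC ⟨(x : Ω), hx⟩
    have h1 := hφe ⟨(x : Ω), hx⟩ x.2 hv hzm
    have h2 := hψe ⟨(x : Ω), hx⟩ x.2 hv (him.le (apply_mem_imageAlong hx))
    refine Eq.trans (congrArg ψ (Subtype.ext (hι x _))) (h2.trans ?_)
    refine Eq.trans (hι _ (h₁.range_eq.le ⟨_, rfl⟩)).symm ?_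
    exact congrArg ι (Subtype.ext h1.symm)
  · rintro ⟨ψ, hψ, hψe⟩
    obtain ⟨φ, hφC, hφe⟩ := h₂.pullHom hP him hψ
    obtain ⟨χ, hχ, hχe⟩ := h₁.push he hφC
    suffices φ₁ = χ by rw [this]; exact hχ
    refine hom_ext_imageAlong he fun x hx hx' => ?_
    have hv := apply_mem_S C hφC x
    rw [hχe x hx hv hx']
    have h1 := hψe ⟨κ₁ ⟨(x : Ω), hx⟩, hx'⟩
    have h2 := hφe x hx hv (him.le (apply_mem_imageAlong x.2))
    obtain ⟨y, hy, hye⟩ := hex ⟨φ₁ ⟨κ₁ ⟨(x : Ω), hx⟩, hx'⟩, hφ₁ _⟩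
    rw [hye, hι y hy] at h1
    have h3 : κ₂ y = κ₂ ⟨φ x, hv⟩ := by
      rw [← h1, ← h2]
      exact congrArg ψ (Subtype.ext (hι _ _))
    exact (congrArg Subtype.val hye).trans (congrArg κ₁ (h₂.inj h3))

theorem subgroup_le_of_isSubnormalIn (h : C.IsSubnormalIn F p) : T ≤ S := by
  induction h with
  | refl F p => exact le_rfl
  | step _ hDF ih => exact ih.trans hDF.1.2.2.2.1.1

/-- An automorphism in an invariant subsystem's automizer gives an automorphism of it. -/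
theorem transported_of_isInvariantIn (hCF : C.IsInvariantIn F) {α : MulAut T}
    (hα : α ∈ F.autGroup T) : Transported C C (autIncl α) := by
  refine ⟨autIncl_injective α, autIncl_range α, fun P hP φ hφ => ?_⟩
  constructor
  · intro hφC
    obtain ⟨χ, hχ, hχe⟩ := hCF.2.2.1 P hP φ hφC α hα
    exact ⟨χ, hχ, fun x => hχe x (hφ x) _⟩
  · rintro ⟨ψ, hψ, hψe⟩
    have hQ : imageAlong (autIncl α) P ≤ T :=
      (Subgroup.map_le_range _ _).trans (autIncl_range α).le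
    obtain ⟨χ, hχ, hχe⟩ := hCF.2.2.1 _ hQ ψ hψ _ (inv_mem hα)
    have heq : ((imageAlong (autIncl α) P).subgroupOf T).map
        (T.subtype.comp (α⁻¹).toMonoidHom) = P := by
      ext y
      constructor
      · rintro ⟨z, ⟨w, hw, hwz⟩, rfl⟩
        have h1 : z = α w := Subtype.ext hwz.symm
        change ((α⁻¹ z : T) : Ω) ∈ P
        rw [h1, MulAut.inv_apply_self]
        exact hw
      · intro hy
        refine ⟨α ⟨y, hP hy⟩, apply_mem_imageAlong (x := ⟨y, hP hy⟩) hy, ?_⟩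
        exact congrArg Subtype.val (MulAut.inv_apply_self T α ⟨y, hP hy⟩)
    refine mem_of_eq heq hχ fun y => ?_
    have hy : (y : Ω) ∈ P := heq.le y.2
    have h0 : ((α⁻¹ ⟨((α ⟨y, hP hy⟩ : T) : Ω), (α ⟨y, hP hy⟩).2⟩ : T) : Ω) = y :=
      congrArg Subtype.val (MulAut.inv_apply_self T α ⟨y, hP hy⟩)
    have h1 := hχe ⟨((α ⟨y, hP hy⟩ : T) : Ω), apply_mem_imageAlong (x := ⟨(y : Ω), hP hy⟩) hy⟩
      (apply_mem_S C hψ _) (h0.symm ▸ y.2)
    refine Eq.trans ?_ ((congrArg χ (Subtype.ext h0)).symm.trans h1).symm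
    have h2 := hψe ⟨(y : Ω), hy⟩
    have h3 : (⟨ψ ⟨((α ⟨y, hP hy⟩ : T) : Ω), apply_mem_imageAlong (x := ⟨(y : Ω), hP hy⟩) hy⟩,
        apply_mem_S C hψ _⟩ : T) = α ⟨φ ⟨y, hy⟩, hφ _⟩ := Subtype.ext h2
    rw [h3, MulAut.inv_apply_self]

/-- An automorphism of a system gives an isomorphism with itself. -/
theorem transported_of_mem_hom [Finite S] {γ : S →* Ω} (hγ : γ ∈ F.Hom S) :
    Transported F F γ := by
  have hr : γ.range = S := Subgroup.eq_of_le_of_card_ge (range_le_S F hγ)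
    (Nat.card_congr (MonoidHom.ofInjective (F.injective_of_mem hγ)).toEquiv).le
  obtain ⟨e, he, hee⟩ := exists_iso_of_range hγ hr
  refine ⟨F.injective_of_mem hγ, hr, fun P hP φ hφ => ?_⟩
  have hQ : imageAlong γ P ≤ S := (Subgroup.map_le_range _ _).trans hr.le
  have hback : ∀ z : imageAlong γ P, (e.symm ⟨z, hQ z.2⟩ : Ω) ∈ P := by
    intro z
    obtain ⟨x, hx, hxz⟩ := z.2
    rw [show (⟨(z : Ω), hQ z.2⟩ : S) = e x from Subtype.ext (hxz.symm.trans (hee x).symm),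
      MulEquiv.symm_apply_apply]
    exact hx
  constructor
  · intro hφF
    refine ⟨_, F.comp_mem (F.comp_mem (res_mem F he.symm hQ) hφF hback) hγ fun z => hφ _,
      fun x => ?_⟩
    refine congrArg γ (Subtype.ext (congrArg φ (Subtype.ext ?_)))
    change (e.symm ⟨γ ⟨x, hP x.2⟩, _⟩ : Ω) = x
    rw [show (⟨γ ⟨x, hP x.2⟩, hQ (apply_mem_imageAlong x.2)⟩ : S) = e ⟨x, hP x.2⟩ from
      Subtype.ext (hee _).symm, MulEquiv.symm_apply_apply]
  · rintro ⟨ψ, hψ, hψe⟩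
    have hfw : ∀ x : P, γ (Subgroup.inclusion hP x) ∈ imageAlong γ P := fun x =>
      apply_mem_imageAlong (x := Subgroup.inclusion hP x) x.2
    refine mem_of_eq rfl (F.comp_mem (F.comp_mem (res_mem F hγ hP) hψ hfw) he.symm fun x =>
      apply_mem_S F hψ _) fun x => ?_
    change φ x = (e.symm ⟨ψ ⟨γ ⟨x, hP x.2⟩, _⟩, _⟩ : Ω)
    rw [show (⟨ψ ⟨γ ⟨x, hP x.2⟩, hfw x⟩, apply_mem_S F hψ _⟩ : S) = e ⟨φ x, hφ x⟩ from
      Subtype.ext ((hψe x).trans (hee _).symm), MulEquiv.symm_apply_apply]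

variable [Fact p.Prime]

omit [Fact p.Prime] in
/-- A conjugate of a subnormal subsystem is subnormal. -/
theorem isSubnormalIn_conjugate (hsub : C.IsSubnormalIn F p) (hfin : Finite S) (hp : p.Prime)
    (hS : IsPGroup p S) {T' : Subgroup Ω} {γ : T →* Ω} (hγ : γ ∈ F.Hom T)
    {E : FusionSystem T'} (hE : Transported C E γ) : E.IsSubnormalIn F p := by
  induction hsub generalizing T' γ with
  | refl F p =>
    have := Fact.mk hp
    exact (Transported.isSubnormalIn (IsSubnormalIn.refl F p) hfin hp hS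
      (transported_of_mem_hom hγ)).2 E (hE.congr_hom fun x => rfl)
  | @step U S C D F p hCD hDF ih =>
    have hUS := hDF.1.2.2.2.1.1
    have hTU := subgroup_le_of_isSubnormalIn hCD
    have := finite_of_le hUS
    have := Fact.mk hp
    have hinv := hDF.1.2.2
    obtain ⟨α, hα, γ₁, hγ₁, he⟩ := hinv.2.2.2 _ hTU γ hγ
    obtain ⟨E₁, hE₁⟩ := exists_transported_image (κ := γ₁) (D.injective_of_mem hγ₁) rfl C
    have hsn := ih inferInstance hp (hS.to_le hUS) hγ₁ hE₁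
    have hr : γ₁.range ≤ _ := subgroup_le_of_isSubnormalIn hsn
    have hE' : Transported E₁ E ((autIncl α).comp (Subgroup.inclusion hr)) :=
      hE₁.cancel hE fun x hx => (he x (hr hx)).symm
    exact IsSubnormalIn.step ((Transported.isSubnormalIn hsn inferInstance hp (hS.to_le hUS)
      (transported_of_isInvariantIn hinv hα)).2 E hE') hDF

/-- A conjugate of a component is a component. -/
theorem isComponentIn_conjugate [Finite S] (hS : IsPGroup p S) (hC : C.IsComponentIn F p)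
    {T' : Subgroup Ω} {γ : T →* Ω} (hγ : γ ∈ F.Hom T) {E : FusionSystem T'}
    (hE : C.IsFactorSystem ⊥ γ E) : E.IsComponentIn F p := by
  have h := transported_of_isFactorSystem_bot (F.injective_of_mem hγ) hE
  have hTS := le_S F hγ
  have := finite_of_le hTS
  exact ⟨isSubnormalIn_conjugate hC.1 inferInstance (Fact.out : p.Prime) hS hγ h,
    h.quasisimple (hS.to_le hTS) hC.2⟩

omit [Fact p.Prime] in
/-- An automorphism of a system. -/
theorem transported_of_isMorphism (α : S ≃* S) (hα : F.IsMorphism F (S.subtype.comp α.toMonoidHom))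
    (hα' : F.IsMorphism F (S.subtype.comp α.symm.toMonoidHom)) :
    Transported F F (S.subtype.comp α.toMonoidHom) := by
  refine ⟨Subtype.val_injective.comp α.injective, range_subtype_comp α, fun P hP φ hφ => ?_⟩
  constructor
  · intro hφF
    obtain ⟨φ', hφ', h1, h2, h3, h4⟩ := hα.2 P φ hφF
    exact ⟨φ', hφ', fun x => h4 x⟩
  · rintro ⟨ψ, hψ, hψe⟩
    obtain ⟨φ', hφ', h1, h2, h3, h4⟩ := hα'.2 _ ψ hψ
    have heq : imageAlong (S.subtype.comp α.symm.toMonoidHom)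
        (imageAlong (S.subtype.comp α.toMonoidHom) P) = P := by
      ext y
      constructor
      · rintro ⟨z, ⟨w, hw, hwz⟩, rfl⟩
        have h5 : z = α w := Subtype.ext hwz.symm
        change (α.symm z : Ω) ∈ P
        rw [h5, MulEquiv.symm_apply_apply]
        exact hw
      · intro hy
        refine ⟨α ⟨y, hP hy⟩, apply_mem_imageAlong (x := ⟨y, hP hy⟩) hy, ?_⟩
        exact congrArg Subtype.val (α.symm_apply_apply ⟨y, hP hy⟩)
    refine mem_of_eq heq hφ' fun y => ?_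
    have hy : (y : Ω) ∈ P := heq.le y.2
    have h5 := h4 ⟨(α ⟨y, hP hy⟩ : Ω), apply_mem_imageAlong (x := ⟨(y : Ω), hP hy⟩) hy⟩
    have h0 : (α.symm ⟨(α ⟨y, hP hy⟩ : Ω), h1 (apply_mem_imageAlong (x := ⟨(y : Ω), hP hy⟩) hy)⟩ : Ω)
        = y := congrArg Subtype.val (α.symm_apply_apply ⟨(y : Ω), hP hy⟩)
    refine Eq.trans ?_ ((congrArg φ' (Subtype.ext h0)).symm.trans h5).symm
    have h6 : (⟨ψ ⟨(α ⟨y, hP hy⟩ : Ω), apply_mem_imageAlong (x := ⟨(y : Ω), hP hy⟩) hy⟩,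
        h2 _⟩ : S) = α ⟨φ ⟨y, hy⟩, hφ _⟩ := Subtype.ext (hψe ⟨y, hy⟩)
    change φ ⟨y, hy⟩ = (α.symm _ : Ω)
    rw [h6, MulEquiv.symm_apply_apply]

/-- The layer is characteristic. -/
theorem layer_invariant [Finite S] (hS : IsPGroup p S) (α : S ≃* S)
    (hα : F.IsMorphism F (S.subtype.comp α.toMonoidHom))
    (hα' : F.IsMorphism F (S.subtype.comp α.symm.toMonoidHom))
    {E : FusionSystem T} (hE : E.IsLayerOf F p) :
    imageAlong (S.subtype.comp α.toMonoidHom) T = T ∧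
      ∀ (P : Subgroup Ω) (φ : ↥P →* Ω), φ ∈ E.Hom P →
        ∀ φ' : ↥(imageAlong (S.subtype.comp α.toMonoidHom) P) →* Ω,
          InducedAlong (S.subtype.comp α.toMonoidHom) φ φ' →
            φ' ∈ E.Hom (imageAlong (S.subtype.comp α.toMonoidHom) P) := by
  obtain ⟨hn, hcomp, hmin⟩ := hE
  have hTS := hn.1.2.2.2.1.1
  have := finite_of_le hTS
  have ht := transported_of_isMorphism α hα hα'
  have ht' := transported_of_isMorphism α.symm hα' (by simpa using hα)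
  set ι := S.subtype.comp α.toMonoidHom with hιdef
  set κ := S.subtype.comp α.symm.toMonoidHom with hκdef
  have hικ : ∀ (x : S) (hx : κ x ∈ S), ι ⟨κ x, hx⟩ = x := fun x hx =>
    congrArg Subtype.val (α.apply_symm_apply x)
  have hκι : ∀ (x : S) (hx : ι x ∈ S), κ ⟨ι x, hx⟩ = x := fun x hx =>
    congrArg Subtype.val (α.symm_apply_apply x)
  obtain ⟨E', hE'⟩ := exists_transported_image (κ := κ.comp (Subgroup.inclusion hTS))
    (ht'.inj.comp (Subgroup.inclusion_injective hTS)) (range_comp_inclusion_eq_imageAlong hTS) E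
  have hn' := ht'.isNormalIn hS hTS hE' hn
  have hcont : ∀ (U : Subgroup Ω) (C : FusionSystem U), C.IsComponentIn F p →
      C.IsSubsystemOf E' := by
    intro U C hC P φ hφ
    have hUS := subgroup_le_of_isSubnormalIn hC.1
    obtain ⟨C₀, hC₀⟩ := exists_transported_image (κ := ι.comp (Subgroup.inclusion hUS))
      (ht.inj.comp (Subgroup.inclusion_injective hUS)) (range_comp_inclusion_eq_imageAlong hUS) C
    have hsub := hcomp _ C₀ (ht.isComponentIn hS hUS hC₀ hC)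
    have hPU := le_S C hφ
    obtain ⟨φ₀, hφ₀, h0⟩ := hC₀.push (P' := imageAlong ι P)
      (imageAlong_comp_inclusion hUS hPU) hφ
    have hφ₀E := hsub _ hφ₀
    have heq : imageAlong (κ.comp (Subgroup.inclusion hTS)) (imageAlong ι P) = P := by
      rw [imageAlong_comp_inclusion hTS (le_S E hφ₀E)]
      ext y
      constructor
      · rintro ⟨z, ⟨w, hw, hwz⟩, rfl⟩
        rw [show z = ⟨ι w, hwz ▸ z.2⟩ from Subtype.ext hwz.symm, hκι]
        exact hw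
      · intro hy
        exact ⟨⟨ι ⟨y, hUS (hPU hy)⟩, ht.range_eq.le ⟨_, rfl⟩⟩,
          apply_mem_imageAlong (x := ⟨y, hUS (hPU hy)⟩) hy, hκι _ _⟩
    obtain ⟨ψ, hψ, hψe⟩ := hE'.push heq hφ₀E
    suffices φ = ψ by rw [this]; exact hψ
    refine MonoidHom.ext fun y => ?_
    let x : S := ⟨y, hUS (hPU y.2)⟩
    have hv := apply_mem_S C hφ y
    have hx₀ : ι x ∈ imageAlong ι P := apply_mem_imageAlong y.2
    have h1 := h0 y (hPU y.2) hv hx₀
    have h2 := hψe ⟨ι x, hx₀⟩ (le_S E hφ₀E hx₀) (apply_mem_S E hφ₀E _)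
      (by
        change κ ⟨ι x, _⟩ ∈ P
        rw [hκι]; exact y.2)
    refine Eq.trans ?_ ((congrArg ψ (Subtype.ext (hκι x _))).symm.trans h2).symm
    refine Eq.trans (hκι ⟨φ y, hUS hv⟩ (ht.range_eq.le ⟨_, rfl⟩)).symm ?_
    exact congrArg κ (Subtype.ext h1.symm)
  have hsub := hmin _ E' hn' hcont
  have hTT' : T ≤ imageAlong κ T := le_S E' (hsub T (id_mem E le_rfl))
  have hTeq : T = imageAlong κ T := by
    have := finite_of_le (ht'.imageAlong_le T)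
    refine Subgroup.eq_of_le_of_card_ge hTT' ?_
    exact (Nat.card_congr (imageEquiv ht'.inj hTS).toEquiv).ge
  have hTι : imageAlong ι T = T := by
    conv_lhs => rw [hTeq]
    ext y
    constructor
    · rintro ⟨z, ⟨w, hw, hwz⟩, rfl⟩
      rw [show z = ⟨κ w, hwz ▸ z.2⟩ from Subtype.ext hwz.symm, hικ]
      exact hw
    · intro hy
      exact ⟨⟨κ ⟨y, hTS hy⟩, ht'.range_eq.le ⟨_, rfl⟩⟩,
        apply_mem_imageAlong (x := ⟨y, hTS hy⟩) hy, hικ _ _⟩
  refine ⟨hTι, fun P φ hφ φ' hind => ?_⟩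
  obtain ⟨hPS, hφS, hP', he⟩ := hind
  have hPT := le_S E hφ
  have hQT : imageAlong ι P ≤ T := hTι ▸ imageAlong_mono hPT
  have heq : imageAlong (κ.comp (Subgroup.inclusion hTS)) (imageAlong ι P) = P := by
    rw [imageAlong_comp_inclusion hTS hQT]
    ext y
    constructor
    · rintro ⟨z, ⟨w, hw, hwz⟩, rfl⟩
      rw [show z = ⟨ι w, hwz ▸ z.2⟩ from Subtype.ext hwz.symm, hκι]
      exact hw
    · intro hy
      exact ⟨⟨ι ⟨y, hPS hy⟩, ht.range_eq.le ⟨_, rfl⟩⟩,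
        apply_mem_imageAlong (x := ⟨y, hPS hy⟩) hy, hκι _ _⟩
  obtain ⟨φ₁, hφ₁, h1⟩ := hE'.pullHom hQT heq (hsub P hφ)
  suffices φ' = φ₁ by rw [this]; exact hφ₁
  refine hom_ext_imageAlong rfl fun x hx hx' => ?_
  have hv := apply_mem_S E hφ₁ ⟨ι ⟨x, hx⟩, hx'⟩
  have h2 := h1 ⟨ι ⟨x, hx⟩, hx'⟩ (hQT hx') hv (by
    change κ ⟨ι ⟨x, hx⟩, _⟩ ∈ P
    rw [hκι]; exact x.2)
  have h3 : κ ⟨φ₁ ⟨ι ⟨x, hx⟩, hx'⟩, hTS hv⟩ = φ x :=
    h2.symm.trans (congrArg φ (Subtype.ext (hκι ⟨(x : Ω), hx⟩ _)))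
  refine (he x).trans ?_
  refine Eq.trans ?_ (hικ ⟨φ₁ ⟨ι ⟨x, hx⟩, hx'⟩, hTS hv⟩ (h3 ▸ hφS x))
  exact congrArg ι (Subtype.ext h3.symm)

end CfsgLib.Fusion
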