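import Cfsg.Agent.Lib.Fusion.SubnormalConstrained
import Cfsg.Agent.Lib.Fusion.NormalSubgroupSystem
import Cfsg.Agent.Lib.Fusion.ModelConstrained
import Cfsg.Agent.Lib.Fusion.ModelExists

/-!
# Constrained fusion systems of subnormal subgroups and of central quotients
-/

set_option autoImplicit false

universe u

open Cfsg Cfsg.FusionSystem

namespace CfsgLib.Fusion

variable {G : Type u} [Group G] [Finite G] {p : ℕ} [hp : Fact p.Prime]

/-- The system of a normal subgroup of a group with constrained system is constrained. -/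
theorem isConstrained_groupFusion_step {K H : Subgroup G} (hHK : H ≤ K)
    [hN : (H.subgroupOf K).Normal] {S : Subgroup G} (T : Sylow p K)
    (hT : (T : Subgroup K) = S.subgroupOf K)
    (hC : (groupFusionSystem (S.subgroupOf K)).IsConstrained p) :
    (∃ U : Sylow p H, (U : Subgroup H) = S.subgroupOf H) ∧
      (groupFusionSystem (S.subgroupOf H)).IsConstrained p := by
  classical
  have hTp : IsPGroup p (S.subgroupOf K) := hT ▸ T.2
  have hreal : (groupFusionSystem (S.subgroupOf K)).IsRealizedBy (S.subgroupOf K).subtype := by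
    refine ⟨Subtype.coe_injective, fun P hP φ hφ => ⟨?_, ?_⟩⟩
    · rintro ⟨-, -, g, hg⟩; exact ⟨g, hg⟩
    · rintro ⟨g, hg⟩; exact ⟨hP, hφ, g, hg⟩
  set N := H.subgroupOf K with hNdef
  let E := subgroupSystem hreal N
  have hEn := (isSubgroupSystem_subgroupSystem hreal N).isNormalIn hTp hreal T
    (hT.trans (Subgroup.range_subtype _).symm)
  have hEc := isConstrained_of_isWeaklyNormalIn hTp hC hEn.1
  set T' : Subgroup K := (N.comap (S.subgroupOf K).subtype).map (S.subgroupOf K).subtype with hT'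
  have hmem : ∀ x : K, x ∈ T' ↔ (x : G) ∈ S ∧ (x : G) ∈ H := fun x => by
    constructor
    · rintro ⟨y, hy, rfl⟩; exact ⟨y.2, hy⟩
    · rintro ⟨h1, h2⟩; exact ⟨⟨x, h1⟩, h2, rfl⟩
  let incl : H →* K := Subgroup.inclusion hHK
  have hincl : ∀ x : H, ((incl x : K) : G) = x := fun _ => rfl
  have hinj : Function.Injective incl := Subgroup.inclusion_injective hHK
  -- a Sylow subgroup
  have hU : ¬ p ∣ (S.subgroupOf H).index := by
    have h1 : ¬ p ∣ (S.subgroupOf K ⊓ N).relIndex N :=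
      not_dvd_relIndex_inf hTp le_top
        (by rw [Subgroup.relIndex_top_right]; exact hT ▸ T.not_dvd_index) le_top
        (fun x _ => by rw [Subgroup.normalizer_eq_top N]; trivial)
    rwa [Subgroup.inf_relIndex_right, ← Subgroup.relIndex_map_map_of_injective _ _
      K.subtype_injective, Subgroup.subgroupOf_map_subtype, hNdef,
      Subgroup.map_subgroupOf_eq_of_le hHK, ← Subgroup.inf_relIndex_right,
      inf_assoc, inf_eq_right.2 hHK, Subgroup.inf_relIndex_right] at h1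
  have hHp : IsPGroup p (S.subgroupOf H) := by
    intro x
    have hx : incl x ∈ S.subgroupOf K := x.2
    obtain ⟨k, hk⟩ := hTp ⟨_, hx⟩
    refine ⟨k, Subtype.ext (hinj ?_)⟩
    rw [SubgroupClass.coe_pow, map_pow, OneMemClass.coe_one, map_one]
    exact congrArg Subtype.val hk
  refine ⟨⟨hHp.toSylow hU, IsPGroup.toSylow_coe _ _⟩, ?_⟩
  -- a model of the subsystem is a model
  have hT'p : IsPGroup p T' := hTp.to_le (Subgroup.map_subtype_le _)
  obtain ⟨M, _, ι₀, hfin, ⟨hι₀, hι₀hom⟩, ⟨W, hW⟩, hcore⟩ := exists_model hT'p hEc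
  let e : ↥(S.subgroupOf H) →* T' := (incl.comp (S.subgroupOf H).subtype).codRestrict T'
    fun x => (hmem _).2 ⟨x.2, x.1.2⟩
  have he : Function.Bijective e := by
    refine ⟨fun a b h => Subtype.ext (hinj (congrArg Subtype.val h)), fun y => ?_⟩
    obtain ⟨h1, h2⟩ := (hmem y).1 y.2
    exact ⟨⟨⟨y.1, h2⟩, h1⟩, rfl⟩
  refine isConstrained_of_isModel (G := M) (ι := ι₀.comp e) hHp ⟨hfin, ⟨hι₀.comp he.1, ?_⟩, ⟨W, ?_⟩, hcore⟩
  swap
  · rw [hW, MonoidHom.range_comp, MonoidHom.range_eq_top.2 he.2, ← MonoidHom.range_eq_map]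
  intro P hP φ hφ
  let P' : Subgroup K := P.map incl
  have hP' : P' ≤ T' := by
    rintro _ ⟨x, hx, rfl⟩
    exact (hmem _).2 ⟨hP hx, x.2⟩
  let q : P ≃* P' := P.equivMapOfInjective incl hinj
  let φ' : P' →* K := (incl.comp φ).comp q.symm.toMonoidHom
  have hφ' : ∀ x : P, φ' (q x) = incl (φ x) := fun x =>
    congrArg (incl ∘ φ) (q.symm_apply_apply x)
  have hφ'T : ∀ y, φ' y ∈ T' := fun y => (hmem _).2 ⟨hφ _, (φ (q.symm y)).2⟩
  have key : ∀ m : M, (∀ y : P', ι₀ ⟨φ' y, hφ'T y⟩ = m * ι₀ ⟨y, hP' y.2⟩ * m⁻¹) ↔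
      ∀ x : P, ι₀ (e ⟨φ x, hφ x⟩) = m * ι₀ (e ⟨x, hP x.2⟩) * m⁻¹ := by
    intro m
    constructor
    · intro h x
      have h1 := h (q x)
      rw [show (⟨φ' (q x), hφ'T (q x)⟩ : T') = e ⟨φ x, hφ x⟩ from Subtype.ext (hφ' x)] at h1
      exact h1
    · intro h y
      obtain ⟨x, rfl⟩ := q.surjective y
      rw [show (⟨φ' (q x), hφ'T (q x)⟩ : T') = e ⟨φ x, hφ x⟩ from Subtype.ext (hφ' x)]
      exact h x
  simp only [MonoidHom.comp_apply]
  rw [← (exists_congr key : (∃ m : M, ∀ y : P', _) ↔ ∃ m : M, ∀ x : P, _),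
    ← hι₀hom P' hP' φ' hφ'T]
  constructor
  · rintro ⟨-, -, g, hg⟩
    refine ⟨hP', hφ'T, fun _ _ => ⟨incl g, g.2, ?_⟩⟩
    intro y
    obtain ⟨x, rfl⟩ := q.surjective y
    change φ' (q x) = incl g * incl x * (incl g)⁻¹
    rw [hφ', hg x, map_mul, map_mul, map_inv]
  · rintro ⟨-, -, h⟩
    obtain ⟨n, hn, hne⟩ := h (hP'.trans (Subgroup.map_subtype_le _))
      fun y => Subgroup.map_subtype_le _ (hφ'T y)
    refine ⟨hP, hφ, ⟨(n : G), hn⟩, fun x => hinj ?_⟩
    rw [← hφ']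
    exact (hne (q x)).trans (by rw [map_mul, map_mul, map_inv]; rfl)

/-- The systems of subnormal subgroups of a group with constrained system are constrained. -/
theorem isConstrained_groupFusion_of_isSubnormal (S : Sylow p G)
    (hC : (groupFusionSystem (S : Subgroup G)).IsConstrained p) {H : Subgroup G}
    (hH : H.IsSubnormal) :
    (∃ U : Sylow p H, (U : Subgroup H) = (S : Subgroup G).subgroupOf H) ∧
      (groupFusionSystem ((S : Subgroup G).subgroupOf H)).IsConstrained p := by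
  induction hH with
  | top =>
    have hi : ¬ p ∣ ((S : Subgroup G).subgroupOf ⊤).index := by
      rw [← Subgroup.relIndex, Subgroup.relIndex_top_right]
      exact S.not_dvd_index
    have hSp : IsPGroup p ((S : Subgroup G).subgroupOf ⊤) := S.2.comap_subtype
    refine ⟨⟨hSp.toSylow hi, IsPGroup.toSylow_coe _ _⟩, ?_⟩
    obtain ⟨M, _, ι, hfin, ⟨hι, hhom⟩, ⟨W, hW⟩, hcore⟩ := exists_model S.2 hC
    let e := Subgroup.subgroupOfEquivOfLe (le_top : (S : Subgroup G) ≤ ⊤)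
    refine isConstrained_of_isModel (G := M) (ι := ι.comp e.toMonoidHom) hSp
      ⟨hfin, ⟨hι.comp e.injective, ?_⟩, ⟨W, ?_⟩, hcore⟩
    swap
    · rw [hW, MonoidHom.range_comp, (MonoidHom.range_eq_top (f := e.toMonoidHom)).2 e.surjective, ← MonoidHom.range_eq_map]
    intro P hP φ hφ
    let τ : (⊤ : Subgroup G) →* G := (⊤ : Subgroup G).subtype
    let P' : Subgroup G := P.map τ
    have hP' : P' ≤ S := by rintro _ ⟨x, hx, rfl⟩; exact hP hx
    let q : P ≃* P' := P.equivMapOfInjective τ Subtype.coe_injective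
    let φ' : P' →* G := (τ.comp φ).comp q.symm.toMonoidHom
    have hφ' : ∀ x : P, φ' (q x) = τ (φ x) := fun x => congrArg (τ ∘ φ) (q.symm_apply_apply x)
    have hφ'S : ∀ y, φ' y ∈ (S : Subgroup G) := fun y => hφ _
    have key : ∀ m : M, (∀ y : P', ι ⟨φ' y, hφ'S y⟩ = m * ι ⟨y, hP' y.2⟩ * m⁻¹) ↔
        ∀ x : P, ι (e ⟨φ x, hφ x⟩) = m * ι (e ⟨x, hP x.2⟩) * m⁻¹ := by
      intro m
      constructor
      · intro h x
        have h1 := h (q x)
        rw [show (⟨φ' (q x), hφ'S (q x)⟩ : (S : Subgroup G)) = e ⟨φ x, hφ x⟩ from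
          Subtype.ext (hφ' x)] at h1
        exact h1
      · intro h y
        obtain ⟨x, rfl⟩ := q.surjective y
        rw [show (⟨φ' (q x), hφ'S (q x)⟩ : (S : Subgroup G)) = e ⟨φ x, hφ x⟩ from
          Subtype.ext (hφ' x)]
        exact h x
    simp only [MonoidHom.comp_apply, MulEquiv.coe_toMonoidHom]
    rw [← (exists_congr key : (∃ m : M, ∀ y : P', _) ↔ ∃ m : M, ∀ x : P, _),
      ← hhom P' hP' φ' hφ'S]
    constructor
    · rintro ⟨-, -, g, hg⟩
      refine ⟨hP', hφ'S, τ g, fun y => ?_⟩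
      obtain ⟨x, rfl⟩ := q.surjective y
      rw [hφ', hg x, map_mul, map_mul, map_inv]
      rfl
    · rintro ⟨-, -, g, hg⟩
      refine ⟨hP, hφ, ⟨g, Subgroup.mem_top g⟩, fun x => Subtype.ext ?_⟩
      exact (hφ' x).symm.trans (hg (q x))
  | step H K hle _ hN ih =>
    obtain ⟨⟨T, hT⟩, hK⟩ := ih
    have := hN
    exact isConstrained_groupFusion_step hle T hT hK

/-- Dividing by a central subgroup preserves constraint. -/
theorem isConstrained_groupFusion_quotient (T : Sylow p G) (Z : Subgroup G) [Z.Normal]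
    (hZ : Z ≤ Subgroup.center G) (hC : (groupFusionSystem (T : Subgroup G)).IsConstrained p) :
    (groupFusionSystem ((T : Subgroup G).map (QuotientGroup.mk' Z))).IsConstrained p := by
  classical
  set π := QuotientGroup.mk' Z
  set F := groupFusionSystem (T : Subgroup G)
  obtain ⟨hFs, Q₀, hQ₀, hQ₀c⟩ := hC
  have hQn : F.IsNormal F.core := isNormal_core
  have hQc : F.IsCentric F.core := isCentric_of_le (le_sSup hQ₀) hQn.1 hQ₀c
  set Q := F.core
  have hQT : Q ≤ (T : Subgroup G) := hQn.1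
  -- a conjugate of `T` lying in `T Z` lies in `T`
  have hlift : ∀ (x g : G), x ∈ (T : Subgroup G) → π (g * x * g⁻¹) ∈ (T : Subgroup G).map π →
      g * x * g⁻¹ ∈ (T : Subgroup G) := by
    intro x g hx hm
    obtain ⟨t, ht, hte⟩ := hm
    set z := t⁻¹ * (g * x * g⁻¹) with hz
    have hzZ : z ∈ Z := QuotientGroup.eq.1 hte
    obtain ⟨a, ha⟩ := T.2 ⟨t, ht⟩
    obtain ⟨b, hb⟩ := T.2 ⟨x, hx⟩
    have hta : t ^ p ^ (a + b) = 1 := by
      rw [pow_add, pow_mul, show t ^ p ^ a = 1 from congrArg Subtype.val ha, one_pow]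
    have hxb : (g * x * g⁻¹) ^ p ^ (a + b) = 1 := by
      rw [conj_pow, pow_add, mul_comm (p ^ a), pow_mul,
        show x ^ p ^ b = 1 from congrArg Subtype.val hb, one_pow, mul_one, mul_inv_cancel]
    have hcomm : Commute t⁻¹ (g * x * g⁻¹) := by
      have h1 : Commute t⁻¹ z := Subgroup.mem_center_iff.1 (hZ hzZ) _
      have h2 : g * x * g⁻¹ = t * z := by rw [hz, mul_inv_cancel_left]
      rw [h2]
      exact (Commute.inv_left (Commute.refl t)).mul_right h1
    have hzp : z ^ p ^ (a + b) = 1 := by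
      rw [hz, hcomm.mul_pow, inv_pow, hta, hxb, inv_one, one_mul]
    have hzg : IsPGroup p (Subgroup.zpowers z) := by
      obtain ⟨j, -, hj⟩ := (Nat.dvd_prime_pow hp.out).1 (orderOf_dvd_of_pow_eq_one hzp)
      exact IsPGroup.of_card (n := j) (by rw [Nat.card_zpowers, hj])
    obtain ⟨R, hR⟩ := hzg.exists_le_sylow
    obtain ⟨k, hk⟩ := MulAction.exists_smul_eq G R T
    have hzR : z ∈ (R : Subgroup G) := hR (Subgroup.mem_zpowers z)
    have hzT : z ∈ (T : Subgroup G) := by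
      rw [← hk, Sylow.coe_subgroup_smul]
      refine ⟨z, hzR, ?_⟩
      change k * z * k⁻¹ = z
      rw [Subgroup.mem_center_iff.1 (hZ hzZ) k, mul_inv_cancel_right]
    rw [show g * x * g⁻¹ = t * z by rw [hz, mul_inv_cancel_left]]
    exact mul_mem ht hzT
  have hTbar : ¬ p ∣ ((T : Subgroup G).map π).index := fun h => T.not_dvd_index
    (h.trans (Subgroup.index_map_dvd _ (QuotientGroup.mk'_surjective Z)))
  let Tb : Sylow p (G ⧸ Z) := (T.2.map π).toSylow hTbar
  have hsat : (groupFusionSystem ((T : Subgroup G).map π)).IsSaturated p :=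
    IsPGroup.toSylow_coe (T.2.map π) hTbar ▸ isSaturated_groupFusion (S := Tb)
  have hnorm : (groupFusionSystem ((T : Subgroup G).map π)).IsNormal (Q.map π) := by
    refine ⟨Subgroup.map_mono hQT, ?_⟩
    rintro P φ ⟨hP, hφ, g', hg⟩
    obtain ⟨g, rfl⟩ := QuotientGroup.mk'_surjective Z g'
    set P₀ := (T : Subgroup G) ⊓ P.comap π with hP₀
    have hP₀P : P ≤ P₀.map π := fun y hy => by
      obtain ⟨x, hx, rfl⟩ := hP hy
      exact ⟨x, ⟨hx, hy⟩, rfl⟩
    have hmap : ∀ x : P₀, g * (x : G) * g⁻¹ ∈ (T : Subgroup G) := fun x => hlift x g x.2.1 (by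
      rw [map_mul, map_mul, map_inv, ← hg ⟨π x, x.2.2⟩]
      exact hφ _)
    obtain ⟨ψ, hψ, hψe, hψQ⟩ := hQn.2 P₀ (conjHom P₀ g) ⟨inf_le_left, hmap, g, fun _ => rfl⟩
    obtain ⟨hle, hψT, h, hh⟩ := hψ
    have hsupmap : P ⊔ Q.map π ≤ (P₀ ⊔ Q).map π := by
      rw [Subgroup.map_sup]; exact sup_le_sup_right hP₀P _
    have hconj : ∀ y : ↥(P ⊔ Q.map π), π h * (y : G ⧸ Z) * (π h)⁻¹ ∈ (T : Subgroup G).map π := by
      intro y
      obtain ⟨x, hx, hxy⟩ := hsupmap y.2
      rw [← hxy, ← map_inv, ← map_mul, ← map_mul, ← hh ⟨x, hx⟩]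
      exact ⟨_, hψT _, rfl⟩
    refine ⟨conjHom _ (π h), ⟨sup_le hP (Subgroup.map_mono hQT), hconj, π h, fun _ => rfl⟩,
      fun y => ?_, ?_⟩
    · obtain ⟨x, hx, hxy⟩ := hP₀P y.2
      rw [hg y]
      change π h * (y : G ⧸ Z) * (π h)⁻¹ = _
      rw [← hxy, ← map_inv, ← map_mul, ← map_mul, ← map_inv, ← map_mul, ← map_mul]
      refine congrArg π ?_
      have h1 := hψe ⟨x, hx⟩
      rw [hh] at h1
      exact h1
    · have himg : ∀ q, q ∈ Q ↔ ∃ q₀ ∈ Q, h * q₀ * h⁻¹ = q := fun q => by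
        conv_lhs => rw [← hψQ]
        constructor
        · rintro ⟨x, hx, rfl⟩; exact ⟨x, hx, (hh x).symm⟩
        · rintro ⟨q₀, hq₀, rfl⟩; exact ⟨⟨q₀, le_sup_right (a := P₀) hq₀⟩, hq₀, hh _⟩
      refine le_antisymm ?_ ?_
      · rintro _ ⟨y, hy, rfl⟩
        obtain ⟨q, hq, hqy⟩ := (hy : (y : G ⧸ Z) ∈ Q.map π)
        exact ⟨h * q * h⁻¹, (himg _).2 ⟨q, hq, rfl⟩, by
          change π (h * q * h⁻¹) = π h * (y : G ⧸ Z) * (π h)⁻¹
          rw [← show π q = (y : G ⧸ Z) from hqy, map_mul, map_mul, map_inv]⟩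
      · rintro _ ⟨q, hq, rfl⟩
        obtain ⟨q₀, hq₀, rfl⟩ := (himg q).1 hq
        refine ⟨⟨π q₀, le_sup_right (a := P) ⟨q₀, hq₀, rfl⟩⟩, ⟨q₀, hq₀, rfl⟩, ?_⟩
        change π h * π q₀ * (π h)⁻¹ = _
        rw [map_mul, map_mul, map_inv]
  refine ⟨hsat, Q.map π, hnorm, hnorm.1, fun R hR => ?_⟩
  obtain ⟨φ, hφ, rfl⟩ := hR
  rw [(weaklyClosed_of_stronglyClosed (stronglyClosed_of_isNormal hnorm)).2 φ hφ]
  rintro c ⟨⟨t, ht, rfl⟩, hc⟩
  refine ⟨t, mem_core_of_stabilizes T.2 hFs hQn hQc (R := Q ⊓ Z) ⟨inf_le_left.trans hQT, ?_⟩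
    inf_le_left ht (fun r hr => by rw [Subgroup.mem_center_iff.1 (hZ hr.2) t, mul_inv_cancel_right])
    fun q hq => ⟨?_, ?_⟩, rfl⟩
  · rintro R' hR' ψ ⟨-, -, g, hg⟩ x
    rw [hg x, Subgroup.mem_center_iff.1 (hZ (hR' x.2).2) g, mul_inv_cancel_right]
    exact hR' x.2
  · exact Q.mul_mem (Q.inv_mem hq) (conj_mem_of_mem_normalizer
      (mem_normalizer_of_stronglyClosed (stronglyClosed_of_isNormal hQn) ht) hq)
  · refine (QuotientGroup.eq_one_iff (N := Z) _).1 ?_
    change π (q⁻¹ * (t * q * t⁻¹)) = 1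
    rw [map_mul, map_mul, map_mul, map_inv, map_inv,
      ← Subgroup.mem_centralizer_iff.1 hc (π q) ⟨q, hq, rfl⟩, mul_inv_cancel_right, inv_mul_cancel]

end CfsgLib.Fusion
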