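import Mathlib

/-!
# Groups generated by a Sylow subgroup and elements of order prime to p
-/

set_option autoImplicit false

namespace CfsgLib.Fusion

variable {A : Type*} [Group A] {p : ℕ} [Fact p.Prime]

/-- An exponent congruent to one modulo a given number prime to `p`, killing the `p`-part of the
order of `x`. -/
theorem exists_pPrime_exponent [Finite A] (x : A) {n : ℕ} (hn : n.Coprime p) :
    ∃ m : ℕ, m ≡ 1 [MOD n] ∧ (orderOf (x ^ m)).Coprime p := by
  have hp : p.Prime := Fact.out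
  obtain ⟨a, b, hb, hx⟩ := Nat.exists_eq_pow_mul_and_not_dvd (orderOf_pos x).ne' p hp.ne_one
  have hco : (p ^ a).Coprime n := hn.symm.pow_left a
  obtain ⟨m, hm0, hm1⟩ := Nat.chineseRemainder hco 0 1
  refine ⟨m, hm1, ?_⟩
  obtain ⟨c, hc⟩ := Nat.modEq_zero_iff_dvd.1 hm0
  refine Nat.Coprime.coprime_dvd_left (m := orderOf (x ^ m)) (n := p) (k := b) ?_
    ((hp.coprime_iff_not_dvd.2 hb).symm)
  refine orderOf_dvd_of_pow_eq_one ?_
  rw [← pow_mul, hc, mul_right_comm, ← hx, pow_mul, pow_orderOf_eq_one, one_pow]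

/-- An element in the image of a group element of order prime to `p` also lifts one. -/
theorem exists_pPrime_lift [Finite A] {B : Type*} [Group B] (f : A →* B) {x : A}
    (h : (orderOf (f x)).Coprime p) :
    ∃ m : ℕ, f (x ^ m) = f x ∧ (orderOf (x ^ m)).Coprime p := by
  obtain ⟨m, hm, hm'⟩ := exists_pPrime_exponent x h
  exact ⟨m, by rw [map_pow, pow_eq_pow_iff_modEq.2 hm |>.trans (pow_one _)], hm'⟩

/-- A normal subgroup of index prime to `p` containing the elements of order prime to `p` is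
everything. -/
theorem eq_top_of_pPrime_mem [Finite A] {N : Subgroup A} [hN : N.Normal] (h : ¬ p ∣ N.index)
    (hp' : ∀ x : A, (orderOf x).Coprime p → x ∈ N) : N = ⊤ := by
  have hp : p.Prime := Fact.out
  refine eq_top_iff.2 fun x _ => ?_
  obtain ⟨a, b, hb, hx⟩ := Nat.exists_eq_pow_mul_and_not_dvd (orderOf_pos x).ne' p hp.ne_one
  have h1 : x ^ p ^ a ∈ N := hp' _ (by
    refine Nat.Coprime.coprime_dvd_left ?_ ((hp.coprime_iff_not_dvd.2 hb).symm)
    refine orderOf_dvd_of_pow_eq_one ?_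
    rw [← pow_mul, ← hx, pow_orderOf_eq_one])
  rw [← QuotientGroup.eq_one_iff, ← orderOf_eq_one_iff, ← Nat.dvd_one]
  have h2 : orderOf (x : A ⧸ N) ∣ p ^ a := orderOf_dvd_of_pow_eq_one (by
    rw [← QuotientGroup.mk_pow, QuotientGroup.eq_one_iff]; exact h1)
  have h3 : orderOf (x : A ⧸ N) ∣ N.index := orderOf_dvd_natCard _
  rw [← ((hp.coprime_iff_not_dvd.2 h).pow_left a).gcd_eq_one]
  exact Nat.dvd_gcd h2 h3

/-- A normal subgroup containing a subgroup of index prime to `p` and the elements of order prime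
to `p` is everything. -/
theorem eq_top_of_pPrime_mem_of_le [Finite A] {N R : Subgroup A} [N.Normal] (hR : ¬ p ∣ R.index)
    (hRN : R ≤ N) (hp' : ∀ x : A, (orderOf x).Coprime p → x ∈ N) : N = ⊤ :=
  eq_top_of_pPrime_mem (fun h => hR (h.trans (Subgroup.index_dvd_of_le hRN))) hp'

/-- An element whose order is prime to `p` and some `p`-power of which is one is one. -/
theorem eq_one_of_pow_prime_of_coprime {x : A} {k : ℕ} (hk : x ^ p ^ k = 1)
    (hx : (orderOf x).Coprime p) : x = 1 := by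
  rw [← orderOf_eq_one_iff, ← Nat.dvd_one, ← (hx.pow_right k).gcd_eq_one]
  exact Nat.dvd_gcd dvd_rfl (orderOf_dvd_of_pow_eq_one hk)

/-- An element of order prime to `p` that differs from an element of `N` by a `p`-element lies in
`N`, provided `N` is normal in a group containing all of them. -/
theorem mem_of_diff_pElement {X N : Subgroup A} (hN : ∀ a ∈ N, ∀ b ∈ X, b * a * b⁻¹ ∈ N)
    {x y : A} (hx : x ∈ X) (hy : y ∈ X) (hyN : y ∈ N) (hco : (orderOf x).Coprime p) {k : ℕ}
    (hd : (y⁻¹ * x) ^ p ^ k = 1) : x ∈ N := by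
  have : (N.subgroupOf X).Normal := ⟨fun a ha b => hN _ ha _ b.2⟩
  let π := QuotientGroup.mk' (N.subgroupOf X)
  have h1 : π ⟨x, hx⟩ = π (⟨y, hy⟩⁻¹ * ⟨x, hx⟩) := by
    rw [map_mul, map_inv, show π ⟨y, hy⟩ = 1 from (QuotientGroup.eq_one_iff _).2 hyN, inv_one,
      one_mul]
  have h2 : (π ⟨x, hx⟩) ^ p ^ k = 1 := by
    rw [h1, ← map_pow]
    convert map_one π using 2
    exact Subtype.ext hd
  have h3 := eq_one_of_pow_prime_of_coprime h2 (hco.coprime_dvd_left (by
    refine (orderOf_map_dvd π _).trans ?_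
    rw [Subgroup.orderOf_mk]))
  exact Subgroup.mem_subgroupOf.1
    ((QuotientGroup.eq_one_iff (N := N.subgroupOf X) ⟨x, hx⟩).1 h3)

/-- The index is not changed by a map whose kernel on the bigger group lies in the smaller one. -/
theorem relIndex_map_of_inf_ker_le {B : Type*} [Group B] (f : A →* B) {T H : Subgroup A}
    (hT : T ≤ H) (hk : H ⊓ f.ker ≤ T) : (T.map f).relIndex (H.map f) = T.relIndex H := by
  have h := Subgroup.index_map_eq (H := T.subgroupOf H) (f.subgroupMap_surjective H)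
    (fun x hx => hk ⟨x.2, by simpa [MonoidHom.mem_ker, Subtype.ext_iff] using hx⟩)
  rw [Subgroup.relIndex, Subgroup.relIndex, ← h]
  congr 1
  ext ⟨y, hy⟩
  constructor
  · rintro ⟨t, ht, hte⟩
    exact ⟨⟨t, hT ht⟩, ht, Subtype.ext hte⟩
  · rintro ⟨t, ht, hte⟩
    exact ⟨t, ht, congrArg Subtype.val hte⟩

end CfsgLib.Fusion
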