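import Cfsg.Agent.Lib.Fusion.Alperin
import Cfsg.Agent.Lib.Fusion.Normal
import Cfsg.Agent.Lib.Fusion.PPrimeGen

/-!
# Comparing systems through automorphisms of order prime to p
-/

set_option autoImplicit false

open Cfsg Cfsg.FusionSystem

namespace CfsgLib.Fusion

variable {Ω : Type*} [Group Ω] {T : Subgroup Ω} {p : ℕ} [Fact p.Prime]

/-- A saturated system with a normal subgroup `U` is contained in a system whose automorphism
groups above `U` are normalized by its own and contain its automorphisms of order prime to `p`. -/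
theorem le_of_pPrime_autGroup [Finite T] (hT : IsPGroup p T) {E₁ E₂ : FusionSystem T}
    (hE : E₁.IsSaturated p) {U : Subgroup Ω} (hU : E₁.IsNormal U)
    (hn : ∀ P : Subgroup Ω, U ≤ P → P ≤ T → ∀ a ∈ E₂.autGroup P, ∀ b ∈ E₁.autGroup P,
      b * a * b⁻¹ ∈ E₂.autGroup P)
    (hp' : ∀ P : Subgroup Ω, U ≤ P → P ≤ T → ∀ α ∈ E₁.autGroup P, (orderOf α).Coprime p →
      α ∈ E₂.autGroup P) : E₁ ≤ E₂ := by
  refine alperin hT hE E₂ fun P hP => ?_
  obtain ⟨hUP, hPT, hfn⟩ : U ≤ P ∧ P ≤ T ∧ E₁.IsFullyNormalized P := by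
    rcases hP with rfl | hP
    · exact ⟨hU.1, le_rfl, isFullyNormalized_self⟩
    · exact ⟨le_of_isNormal hT hU hP.1 (isRadical_of_isEssential hT hP), hP.2.1.1, hP.2.1⟩
  have := finite_of_le hPT
  obtain ⟨-, hi⟩ := (isFullyAutomized_iff hT).1
    (fullyAutomized_receptive_of_fullyNormalized hT hE hfn).1
  have : ((E₂.autGroup P).subgroupOf (E₁.autGroup P)).Normal :=
    ⟨fun a ha b => hn P hUP hPT _ ha _ b.2⟩
  intro α hα
  have h := eq_top_of_pPrime_mem_of_le (p := p)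
    (N := (E₂.autGroup P).subgroupOf (E₁.autGroup P))
    (R := (autInducedBy T P).subgroupOf (E₁.autGroup P)) hi
    (fun a ha => autInducedBy_le_autGroup hPT ha)
    (fun a ha => hp' P hUP hPT _ a.2 ((Subgroup.orderOf_coe a).symm ▸ ha))
  exact (h.ge (Subgroup.mem_top (⟨α, hα⟩ : E₁.autGroup P)) : _)

/-- Two automorphisms of a `p`-group that agree on a subgroup `U` and modulo `U` differ by a
`p`-element. -/
theorem exists_pow_eq_one_of_agree {P U : Subgroup Ω} (hP : IsPGroup p P) [Finite P]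
    {α β : MulAut P} (hU : ∀ u : P, (u : Ω) ∈ U → ((β⁻¹ u : P) : Ω) ∈ U)
    (hfix : ∀ u : P, (u : Ω) ∈ U → α u = β u)
    (hdiff : ∀ x : P, (((β x)⁻¹ * α x : P) : Ω) ∈ U) :
    ∃ k : ℕ, (β⁻¹ * α) ^ p ^ k = 1 := by
  obtain ⟨k, hk⟩ := IsPGroup.iff_card.1 hP
  have hu : ∀ u : P, (u : Ω) ∈ U → (β⁻¹ * α) u = u := fun u hu => by
    rw [MulAut.mul_apply, hfix u hu, MulAut.inv_apply_self]
  refine ⟨k, MulEquiv.ext fun x => ?_⟩
  have hz : (((β⁻¹ ((β x)⁻¹ * α x)) : P) : Ω) ∈ U := hU _ (hdiff x)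
  set z : P := β⁻¹ ((β x)⁻¹ * α x) with hzdef
  have hx : (β⁻¹ * α) x = x * z := by
    rw [hzdef, map_mul, map_inv, MulAut.inv_apply_self, MulAut.mul_apply]
    group
  have h : ∀ n : ℕ, ((β⁻¹ * α) ^ n) x = x * z ^ n := by
    intro n
    induction n with
    | zero => simp
    | succ n ih => rw [pow_succ', MulAut.mul_apply, ih, map_mul, map_pow, hx, hu z hz, pow_succ',
        mul_assoc]
  rw [h, ← hk, pow_card_eq_one', mul_one, MulAut.one_apply]

end CfsgLib.Fusion
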