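import Cfsg.Agent.S5118
import Cfsg.Agent.Lib.Fusion.PPrimeCompare
import Cfsg.Agent.Lib.Fusion.GroupSystem
import Cfsg.Agent.Lib.Fusion.NormSys
import Cfsg.Agent.Lib.Fusion.SylowTools
import Cfsg.Agent.Lib.Fusion.StronglyClosedSub
import Cfsg.Agent.Lib.Fusion.CentralModStab
import Cfsg.Agent.Lib.Fusion.Invariant

/-!
# Normal subsystems of constrained group systems are given by their group on the core
-/

set_option autoImplicit false

open Cfsg Cfsg.FusionSystem

namespace CfsgLib.Fusion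

variable {G : Type*} [Group G] {S T U : Subgroup G}

/-- A normal subgroup of the ambient group inside `T` is normal in the system of a subgroup. -/
theorem isNormal_fusionSystemOfSubgroup {H : Subgroup G} (hTH : T ≤ H) [hU : U.Normal]
    (hUT : U ≤ T) : (fusionSystemOfSubgroup H T hTH).IsNormal U := by
  refine ⟨hUT, ?_⟩
  rintro P φ ⟨hP, hφT, g, hgH, hg⟩
  refine ⟨conjHom (P ⊔ U) g, ⟨sup_le hP hUT, fun x => ?_, g, hgH, fun _ => rfl⟩,
    fun x => (hg x).symm, ?_⟩
  · have h : P ⊔ U ≤ T.comap (MulAut.conj g).toMonoidHom :=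
      sup_le (fun y hy => by simpa [← hg ⟨y, hy⟩] using hφT ⟨y, hy⟩)
        (fun y hy => hUT (hU.conj_mem y hy g))
    exact h x.2
  · ext y
    constructor
    · rintro ⟨x, hx, rfl⟩
      exact hU.conj_mem _ hx g
    · intro hy
      refine ⟨⟨g⁻¹ * y * g⁻¹⁻¹, le_sup_right (a := P) (hU.conj_mem y hy g⁻¹)⟩,
        hU.conj_mem y hy g⁻¹, ?_⟩
      simp [mul_assoc]

/-- A normal subgroup inside `S` is normal in the system of the group. -/
theorem isNormal_groupFusion_of_normal [hU : U.Normal] (hUS : U ≤ S) :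
    (groupFusionSystem S).IsNormal U := by
  refine ⟨hUS, ?_⟩
  rintro P φ ⟨hP, hφT, g, hg⟩
  obtain ⟨ψ, ⟨h1, h2, g', -, h3⟩, h4, h5⟩ :=
    (isNormal_fusionSystemOfSubgroup (H := ⊤) (T := S) (le_top) hUS).2 P φ
      ⟨hP, hφT, g, trivial, hg⟩
  exact ⟨ψ, ⟨h1, h2, g', h3⟩, h4, h5⟩

/-- Strong closure in the system of a group, on elements. -/
theorem conj_mem_of_stronglyClosed_group (hT : (groupFusionSystem S).StronglyClosed T) {g t : G}
    (ht : t ∈ T) (h : g * t * g⁻¹ ∈ S) : g * t * g⁻¹ ∈ T := by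
  refine hT.2 _ (Subgroup.zpowers_le.2 ht) (conjHom (Subgroup.zpowers t) g)
    ⟨(Subgroup.zpowers_le.2 ht).trans hT.1, fun x => ?_, g, fun _ => rfl⟩
    ⟨t, Subgroup.mem_zpowers t⟩
  obtain ⟨k, hk⟩ := Subgroup.mem_zpowers_iff.1 x.2
  rw [conjHom_apply, ← hk, ← conj_zpow]
  exact S.zpow_mem h k

variable [Finite G] {p : ℕ} [Fact p.Prime] {P₀ : Sylow p G}

/-- The intersection of a strongly closed subgroup with the core is normal. -/
theorem inf_pCore_normal_of_stronglyClosed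
    (hT : (groupFusionSystem (P₀ : Subgroup G)).StronglyClosed T) :
    (T ⊓ pCore p G).Normal :=
  ⟨fun _ hx g => ⟨conj_mem_of_stronglyClosed_group hT hx.1
      (Cores.pCore_le_sylow P₀ ((pCore_normal_inst p).conj_mem _ hx.2 g)),
    (pCore_normal_inst p).conj_mem _ hx.2 g⟩⟩

/-- The centralizer in `T` of `T ∩ Q` lies in it. -/
theorem centralizer_inf_pCore_le
    (hG : Subgroup.centralizer ((pCore p G : Subgroup G) : Set G) ≤ pCore p G)
    (hT : (groupFusionSystem (P₀ : Subgroup G)).StronglyClosed T) {x : G} (hx : x ∈ T)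
    (hxc : ∀ u ∈ T ⊓ pCore p G, x * u * x⁻¹ = u) : x ∈ T ⊓ pCore p G := by
  have := inf_pCore_normal_of_stronglyClosed hT
  have hQn := pCore_normal_inst (G := G) p
  have := centralModStab_normal (p := p) (U := T ⊓ pCore p G)
  set U := T ⊓ pCore p G
  let M : Subgroup G := (MulAut.conjNormal (H := U)).ker ⊓ centralModStab p U
  refine ⟨hx, le_pCore_of_centralModStab hG inf_le_right (M := M) (fun y hy u hu => ?_)
    inf_le_right ⟨?_, fun c hc _ => ⟨?_, ?_⟩⟩⟩
  · simpa using congrArg Subtype.val (DFunLike.congr_fun (MonoidHom.mem_ker.1 hy.1) ⟨u, hu⟩)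
  · exact MonoidHom.mem_ker.2 (MulEquiv.ext fun u => Subtype.ext (hxc u u.2))
  · have hcS := Cores.pCore_le_sylow P₀ hc
    rw [show x * c * x⁻¹ * c⁻¹ = x * (c * x⁻¹ * c⁻¹) by group]
    exact T.mul_mem hx (conj_mem_of_stronglyClosed_group hT (T.inv_mem hx)
      ((P₀ : Subgroup G).mul_mem ((P₀ : Subgroup G).mul_mem hcS (hT.1 (T.inv_mem hx)))
        ((P₀ : Subgroup G).inv_mem hcS)))
  · exact (pCore p G).mul_mem (hQn.conj_mem c hc x) ((pCore p G).inv_mem hc)

/-- Two elements of `H` inducing the same on `U` differ by an element of `U` when the centralizer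
of `U` in `H` lies in `U`. -/
theorem inv_mul_mem_of_same_action {H : Subgroup G}
    (hker : ∀ h ∈ H, (∀ u ∈ U, h * u * h⁻¹ = u) → h ∈ U) {y z : G} (hy : y ∈ H) (hz : z ∈ H)
    (h : ∀ u ∈ U, y * u * y⁻¹ = z * u * z⁻¹) : y⁻¹ * z ∈ U :=
  hker _ (H.mul_mem (H.inv_mem hy) hz) fun u hu => by
    rw [show y⁻¹ * z * u * (y⁻¹ * z)⁻¹ = y⁻¹ * (z * u * z⁻¹) * y by group, ← h u hu]
    group

/-- In a constrained group, a normal subgroup with Sylow subgroup `T` inducing the automorphisms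
of `E` on `U = T ∩ Q` and centralizing nothing else has fusion system `E`. -/
theorem hom_eq_fusionSystemOfSubgroup_of_aut {E : FusionSystem T}
    (hE : E.IsWeaklyNormalIn (groupFusionSystem (P₀ : Subgroup G)) p) (hUE : E.IsNormal U)
    (hUc : E.IsCentric U) [hUn : U.Normal] {H : Subgroup G} [H.Normal] (hTH : T ≤ H)
    (hi : ¬ p ∣ T.relIndex H)
    (haut : ∀ α : MulAut U, α ∈ E.autGroup U ↔ ∃ h ∈ H, MulAut.conjNormal h = α)
    (hker : ∀ h ∈ H, (∀ u ∈ U, h * u * h⁻¹ = u) → h ∈ U) (P : Subgroup G) :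
    E.Hom P = (fusionSystemOfSubgroup H T hTH).Hom P := by
  obtain ⟨hEs, hFs, hinv⟩ := hE
  have hsub := hinv.1
  have hTsc := hinv.2.1
  have hTS : T ≤ (P₀ : Subgroup G) := hTsc.1
  have hTp : IsPGroup p T := P₀.2.to_le hTS
  have hEcc := conjClosed_of_isInvariantIn hinv
  have hUS : U ≤ (P₀ : Subgroup G) := hUE.1.trans hTS
  have hUsc := stronglyClosed_of_isNormal (isNormal_groupFusion_of_normal hUS)
  have hTeq : T = (P₀ : Subgroup G) ⊓ H :=
    eq_of_le_of_not_dvd (P₀.2.to_le inf_le_left) (le_inf hTS hTH) inf_le_right hi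
  set E' := fusionSystemOfSubgroup H T hTH with hE'def
  have hE' : E'.IsWeaklyNormalIn (groupFusionSystem (P₀ : Subgroup G)) p := by
    subst hTeq
    exact (Cfsg.Agent.S5118.result p P₀ H).1
  have hEcc' := conjClosed_of_isInvariantIn hE'.2.2
  have hres : ∀ {P : Subgroup G} {α : MulAut P}, U ≤ P → P ≤ T →
      α ∈ (groupFusionSystem (P₀ : Subgroup G)).autGroup P → ∀ u : P, (u : G) ∈ U →
      ((α⁻¹ u : P) : G) ∈ U := fun _ _ hα u hu => autGroup_apply_mem hUsc (inv_mem hα) hu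
  refine Set.Subset.antisymm (le_of_pPrime_autGroup hTp hEs hUE (E₂ := E') ?_ ?_ P)
    (le_of_pPrime_autGroup hTp hE'.1 (isNormal_fusionSystemOfSubgroup hTH hUE.1) (E₂ := E) ?_ ?_ P)
  · intro R _ hRT a ha b hb
    exact congr_mem_autGroup_of_conjClosed hEcc' hRT hE'.2.2.1 ha (autGroup_mono hsub R hb)
  · -- an automorphism in `E` lifts to one induced by `H`
    intro R hUR hRT α hα hco
    have hαF := autGroup_mono hsub R hα
    have : Finite R := inferInstance
    obtain ⟨e, he, hee⟩ := exists_iso_of_range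
      (res_mem E ((mem_autGroup_iff E hRT).1 hα) hUR)
      ((weaklyClosed_of_stronglyClosed (stronglyClosed_of_isNormal hUE)).2 _
        (res_mem E ((mem_autGroup_iff E hRT).1 hα) hUR))
    obtain ⟨h, hh, hhe⟩ := (haut e).1 ((mem_autGroup_iff E hUE.1).2 he)
    have hact : ∀ u (hu : u ∈ U), ((α ⟨u, hUR hu⟩ : R) : G) = h * u * h⁻¹ := fun u hu => by
      rw [← MulAut.conjNormal_apply (H := U) h ⟨u, hu⟩, hhe]
      exact (hee ⟨u, hu⟩).symm
    have hdiff : ∀ x : R, ((α x : R) : G)⁻¹ * (h * (x : G) * h⁻¹) ∈ U := fun x => by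
      refine inv_mul_mem_of_same_action hker (hTH (hRT (α x).2))
        (H.mul_mem (H.mul_mem hh (hTH (hRT x.2))) (H.inv_mem hh)) fun u hu => ?_
      obtain ⟨v, hv⟩ : ∃ v ∈ U, h * v * h⁻¹ = u :=
        ⟨h⁻¹ * u * h⁻¹⁻¹, hUn.conj_mem u hu h⁻¹, by group⟩
      obtain ⟨hv, rfl⟩ := hv
      rw [show h * (x : G) * h⁻¹ * (h * v * h⁻¹) * (h * (x : G) * h⁻¹)⁻¹ =
        h * ((x : G) * v * (x : G)⁻¹) * h⁻¹ by group, ← hact v hv,
        ← hact _ (hUn.conj_mem v hv x)]
      rw [show (⟨(x : G) * v * (x : G)⁻¹, hUR (hUn.conj_mem v hv x)⟩ : R) =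
        x * ⟨v, hUR hv⟩ * x⁻¹ from rfl, map_mul, map_mul, map_inv]
      rfl
    have hmem : ∀ x ∈ R, h * x * h⁻¹ ∈ R := fun x hx => by
      have := R.mul_mem (α ⟨x, hx⟩).2 (hUR (hdiff ⟨x, hx⟩))
      rwa [mul_inv_cancel_left] at this
    set β : MulAut R := normAut h (mem_normalizer_of_forall hmem)
    have hβ : β ∈ E'.autGroup R :=
      (mem_autGroup_iff E' hRT).2 ⟨hRT, fun x => hRT (β x).2, h, hh, fun x => rfl⟩
    have hβF := autGroup_mono hE'.2.2.1 R hβ
    obtain ⟨k, hk⟩ := exists_pow_eq_one_of_agree (hTp.to_le hRT) (hres hUR hRT hβF)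
      (fun u hu => Subtype.ext ((hact u hu).trans rfl)) fun x => by
        simpa [β, mul_assoc] using U.inv_mem (hdiff x)
    exact mem_of_diff_pElement (X := (groupFusionSystem (P₀ : Subgroup G)).autGroup R)
      (fun a ha b hb => congr_mem_autGroup_of_conjClosed hEcc' hRT hE'.2.2.1 ha hb)
      hαF hβF hβ hco hk
  · intro R _ hRT a ha b hb
    exact congr_mem_autGroup_of_conjClosed hEcc hRT hsub ha (autGroup_mono hE'.2.2.1 R hb)
  · -- an automorphism induced by `H` lifts to one in `E`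
    intro R hUR hRT α hα hco
    have hαF := autGroup_mono hE'.2.2.1 R hα
    obtain ⟨-, -, h, hh, hhα⟩ := (mem_autGroup_iff E' hRT).1 hα
    set e : MulAut U := MulAut.conjNormal h
    have he : IsIso E e := (mem_autGroup_iff E hUE.1).1 ((haut e).2 ⟨h, hh, rfl⟩)
    have hext : R ≤ extender T U (U.subtype.comp e.toMonoidHom) := fun x hx => by
      refine mem_extender_iso_iff.2 ⟨hRT hx,
        mem_normalizer_of_forall (fun u hu => hUn.conj_mem u hu x),
        mem_autInducedBy_iff.2 ⟨α ⟨x, hx⟩, hRT (α ⟨x, hx⟩).2, fun u => ?_⟩⟩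
      have h1 := hhα ⟨x, hx⟩
      simp only [MonoidHom.comp_apply, Subgroup.coe_subtype, MulEquiv.coe_toMonoidHom] at h1
      simp [e, h1, MulAut.conjNormal_symm_apply, mul_assoc]
    obtain ⟨ψ, hψ, hψe⟩ := exists_extension (receptive_of_isCentric hTp hEs hUc) he hUR hext
    simp only [MonoidHom.comp_apply, Subgroup.coe_subtype, MulEquiv.coe_toMonoidHom] at hhα
    have hψu : ∀ u (hu : u ∈ U), ψ ⟨u, hUR hu⟩ = h * u * h⁻¹ := fun u hu => hψe ⟨u, hu⟩
    have hdiff : ∀ x : R, ((α x : R) : G)⁻¹ * ψ x ∈ U := fun x => by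
      refine inv_mul_mem_of_same_action hker (hTH (hRT (α x).2))
        (hTH (apply_mem_S E hψ x)) fun u hu => ?_
      have hv : h⁻¹ * u * h⁻¹⁻¹ ∈ U := hUn.conj_mem u hu h⁻¹
      have h1 := hψu _ (hUn.conj_mem _ hv (x : G))
      rw [show (⟨(x : G) * (h⁻¹ * u * h⁻¹⁻¹) * (x : G)⁻¹, hUR (hUn.conj_mem _ hv (x : G))⟩ : R) =
        x * ⟨_, hUR hv⟩ * x⁻¹ from rfl, map_mul, map_mul, map_inv, hψu _ hv] at h1
      rw [hhα]
      convert h1.symm using 1 <;> group
    have hrange : ψ.range = R := by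
      refine Subgroup.eq_of_le_of_card_ge ?_ ?_
      · rintro _ ⟨x, rfl⟩
        have := R.mul_mem (α x).2 (hUR (hdiff x))
        rwa [mul_inv_cancel_left] at this
      · exact (Nat.card_congr (MonoidHom.ofInjective (E.injective_of_mem hψ)).toEquiv).le
    obtain ⟨β, hβi, hβe⟩ := exists_iso_of_range hψ hrange
    have hβ : β ∈ E.autGroup R := (mem_autGroup_iff E hRT).2 hβi
    have hβF := autGroup_mono hsub R hβ
    obtain ⟨k, hk⟩ := exists_pow_eq_one_of_agree (hTp.to_le hRT) (hres hUR hRT hβF)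
      (fun u hu => Subtype.ext (by rw [hhα, hβe]; exact (hψu u hu).symm)) fun x => by
        simpa [hβe] using U.inv_mem (hdiff x)
    exact mem_of_diff_pElement (X := (groupFusionSystem (P₀ : Subgroup G)).autGroup R)
      (fun a ha b hb => congr_mem_autGroup_of_conjClosed hEcc hRT hsub ha hb)
      hαF hβF hβ hco hk

end CfsgLib.Fusion
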