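import Cfsg.Agent.Lib.Fusion.ConstrainedSubsystemEq
import Cfsg.Agent.Lib.Fusion.InnerSat

/-!
# Lifting automorphisms of a normal subsystem that act trivially on the centralizer modulo U
-/

set_option autoImplicit false

open Cfsg Cfsg.FusionSystem

namespace CfsgLib.Fusion

variable {G : Type*} [Group G] [Finite G] {p : ℕ} [Fact p.Prime] {P₀ : Sylow p G}
  {T U : Subgroup G} [hUn : U.Normal]

/-- If `g` of order prime to `p` moves each element of `C_Q(U)` by one fixed by it modulo `U`, it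
fixes it modulo `U`. -/
theorem mem_centralModStab_of_stab_twice {g : G} (hg : (orderOf g).Coprime p)
    (h : ∀ c ∈ pCore p G, (∀ u ∈ U, c * u * c⁻¹ = u) →
      g * (g * c * g⁻¹ * c⁻¹) * g⁻¹ * (g * c * g⁻¹ * c⁻¹)⁻¹ ∈ U) :
    g ∈ centralModStab p U := by
  intro c hc hcu
  set d := g * c * g⁻¹ * c⁻¹ with hd
  let π := QuotientGroup.mk' U
  obtain ⟨a, ha⟩ := IsPGroup.iff_card.1 (Cores.isPGroup_pCore (G := G) p)
  have hdQ : d ∈ pCore p G :=
    (pCore p G).mul_mem ((pCore_normal_inst p).conj_mem c hc g) ((pCore p G).inv_mem hc)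
  have hdp : d ^ p ^ a = 1 := by
    have := congrArg Subtype.val (pow_card_eq_one' (x := (⟨d, hdQ⟩ : pCore p G)))
    rwa [ha] at this
  have h1 : π g * π d * (π g)⁻¹ = π d := by
    have h0 : g * d * g⁻¹ * d⁻¹ ∈ U := h c hc hcu
    rw [← mul_inv_eq_one, ← map_inv, ← map_inv, ← map_mul, ← map_mul, ← map_mul]
    exact (QuotientGroup.eq_one_iff _).2 h0
  have h2 : π g * π c * (π g)⁻¹ = π d * π c := by
    rw [← map_inv, ← map_mul, ← map_mul, ← map_mul]
    congr 1
    rw [hd]; group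
  have h3 := conj_pow_of_translate h1 h2 (orderOf g)
  rw [← map_pow, pow_orderOf_eq_one, map_one, one_mul, inv_one, mul_one] at h3
  have h4 : π d = 1 := by
    refine eq_one_of_pow_prime_of_coprime (p := p) (k := a) (by rw [← map_pow, hdp, map_one]) ?_
    exact hg.coprime_dvd_left (orderOf_dvd_of_pow_eq_one (mul_eq_right.1 h3.symm))
  exact (QuotientGroup.eq_one_iff _).1 h4

/-- An automorphism of `U` in `E` of order prime to `p` normalizing `Aut_T(U)` is induced by an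
element centralizing `C_Q(U)` modulo `U`. -/
theorem exists_centralModStab_lift {E : FusionSystem T}
    (hE : E.IsNormalIn (groupFusionSystem (P₀ : Subgroup G)) p) (hU : U = T ⊓ pCore p G)
    (hG : Subgroup.centralizer ((pCore p G : Subgroup G) : Set G) ≤ pCore p G)
    (hUE : E.IsNormal U) (hUc : E.IsCentric U)
    {α : MulAut U} (hα : α ∈ E.autGroup U) (hco : (orderOf α).Coprime p)
    (hR : ∀ r ∈ autInducedBy T U, α * r * α⁻¹ ∈ autInducedBy T U) :
    ∃ g ∈ centralModStab p U, MulAut.conjNormal g = α := by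
  obtain ⟨⟨hEs, -, hinv⟩, hext⟩ := hE
  have hsub := hinv.1
  have hTsc := hinv.2.1
  have hTp : IsPGroup p T := P₀.2.to_le hTsc.1
  have hQS : pCore p G ≤ (P₀ : Subgroup G) := Cores.pCore_le_sylow P₀
  have hQn := pCore_normal_inst (G := G) p
  -- extend to `T`
  have hT : T ≤ extender T U (U.subtype.comp α.toMonoidHom) := fun t ht => by
    have hn := mem_normalizer_of_forall (fun u hu => hUn.conj_mem u hu t)
    refine mem_extender_iso_iff.2 ⟨ht, hn, ?_⟩
    have h1 := hR _ (mem_autInducedBy_iff.2 ⟨t, ht, fun _ => rfl⟩ :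
      normAut t hn ∈ autInducedBy T U)
    convert h1 using 1
    exact MulEquiv.ext fun u => rfl
  obtain ⟨ψ, hψ, hψe⟩ := exists_extension (receptive_of_isCentric hTp hEs hUc)
    ((mem_autGroup_iff E hUE.1).1 hα) hUE.1 hT
  have hrange : ψ.range = T := Subgroup.eq_of_le_of_card_ge (range_le_S E hψ)
    (Nat.card_congr (MonoidHom.ofInjective (E.injective_of_mem hψ)).toEquiv).le
  obtain ⟨a₁, ha₁, ha₁e⟩ := exists_iso_of_range hψ hrange
  obtain ⟨m, hm, hmco⟩ := exists_pPrime_exponent (a₁ : MulAut T) hco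
  set a := a₁ ^ m
  have ha : a ∈ E.autGroup T := pow_mem ((mem_autGroup_iff E le_rfl).2 ha₁) m
  have haU : ∀ u : U, ((a (Subgroup.inclusion hUE.1 u) : T) : G) = α u := by
    suffices hk : ∀ (k : ℕ) (u : U),
        (a₁ ^ k) (Subgroup.inclusion hUE.1 u) = Subgroup.inclusion hUE.1 ((α ^ k) u) from fun u => by
      rw [hk m u, show α ^ m = α from (pow_eq_pow_iff_modEq.2 hm).trans (pow_one α)]
      rfl
    intro k
    induction k with
    | zero => intro u; rfl
    | succ k ih =>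
      intro u
      rw [pow_succ', MulAut.mul_apply, ih, pow_succ', MulAut.mul_apply]
      exact Subtype.ext ((ha₁e _).trans (hψe _))
  -- extend to `T C_S(T)` and pick an element of order prime to `p`
  obtain ⟨β, hβ, hβT, hβC⟩ := hext a ha
  rw [autGroup_groupFusion (sup_le hTsc.1 (centralizerIn_le T)), mem_autInducedBy_iff] at hβ
  obtain ⟨g₁, -, hg₁⟩ := hβ
  have hg₁T : ∀ x : T, g₁ * x * g₁⁻¹ = a x := fun x => by
    rw [← hβT x]
    exact (hg₁ (Subgroup.inclusion le_sup_left x)).symm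
  have hg₁C : ∀ c ∈ centralizerIn (P₀ : Subgroup G) T,
      c⁻¹ * (g₁ * c * g₁⁻¹) ∈ T ⊓ Subgroup.centralizer (T : Set G) := fun c hc => by
    rw [← hg₁ ⟨c, le_sup_right (a := T) hc⟩]
    exact hβC ⟨c, le_sup_right (a := T) hc⟩ hc
  have hpowT : ∀ (k : ℕ) (x : T), g₁ ^ k * x * (g₁ ^ k)⁻¹ = ((a ^ k) x : T) := by
    intro k
    induction k with
    | zero => intro x; simp
    | succ k ih =>
      intro x
      rw [pow_succ' a, MulAut.mul_apply, ← hg₁T, ← ih, pow_succ']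
      group
  have hpowC : ∀ (k : ℕ), ∀ c ∈ centralizerIn (P₀ : Subgroup G) T,
      c⁻¹ * (g₁ ^ k * c * (g₁ ^ k)⁻¹) ∈ T ⊓ Subgroup.centralizer (T : Set G) := by
    intro k c hc
    induction k with
    | zero => simp
    | succ k ih =>
      set z := c⁻¹ * (g₁ ^ k * c * (g₁ ^ k)⁻¹) with hz
      have h1 : g₁ * z * g₁⁻¹ ∈ T ⊓ Subgroup.centralizer (T : Set G) := by
        refine ⟨by rw [hg₁T ⟨z, ih.1⟩]; exact (a ⟨z, ih.1⟩).2, fun x hx => ?_⟩
        obtain ⟨y, hy⟩ := a.surjective ⟨x, hx⟩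
        have h2 : x = g₁ * y * g₁⁻¹ := ((hg₁T y).trans (congrArg Subtype.val hy)).symm
        rw [h2, show g₁ * (y : G) * g₁⁻¹ * (g₁ * z * g₁⁻¹) = g₁ * ((y : G) * z) * g₁⁻¹ by group,
          ih.2 y y.2]
        group
      have h3 := Subgroup.mul_mem _ (hg₁C c hc) h1
      convert h3 using 1
      rw [hz, pow_succ']
      group
  obtain ⟨n, hn, hnco⟩ := exists_pPrime_exponent g₁ hmco
  have hgT : ∀ x : T, g₁ ^ n * x * (g₁ ^ n)⁻¹ = a x := fun x => by
    rw [hpowT, (pow_eq_pow_iff_modEq.2 hn).trans (pow_one a)]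
  set g := g₁ ^ n
  refine ⟨g, mem_centralModStab_of_stab_twice hnco fun c hc hcu => ?_,
    MulEquiv.ext fun u => Subtype.ext ?_⟩
  swap
  · rw [MulAut.conjNormal_apply, ← haU, ← hgT]
    rfl
  have hcS := hQS hc
  set d := g * c * g⁻¹ * c⁻¹ with hd
  have hdQ : d ∈ pCore p G :=
    (pCore p G).mul_mem (hQn.conj_mem c hc g) ((pCore p G).inv_mem hc)
  have hcT : ∀ {x : G}, x ∈ (P₀ : Subgroup G) → x ∈ Subgroup.normalizer (T : Set G) :=
    fun hx => mem_normalizer_of_stronglyClosed hTsc hx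
  -- conjugation by `d` on `T` is inner
  set γ : MulAut T := normAut c (hcT hcS)
  have hγ : γ ∈ (groupFusionSystem (P₀ : Subgroup G)).autGroup T :=
    autInducedBy_le_autGroup hTsc.1 (mem_autInducedBy_iff.2 ⟨c, hcS, fun _ => rfl⟩)
  have hdaut : normAut d (hcT (hQS hdQ)) = a * (γ * a⁻¹ * γ⁻¹) := by
    have hainv : ∀ w : T, ((a⁻¹ w : T) : G) = g⁻¹ * w * g := fun w => by
      have h1 := hgT (a⁻¹ w)
      rw [MulAut.apply_inv_self] at h1
      rw [← h1]; group
    have hγinv : ∀ w : T, ((γ⁻¹ w : T) : G) = c⁻¹ * w * c := fun w => by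
      have h1 := congrArg Subtype.val (MulAut.apply_inv_self T γ w)
      rw [normAut_apply] at h1
      conv_rhs => rw [← h1]
      group
    refine MulEquiv.ext fun x => Subtype.ext ?_
    rw [normAut_apply, MulAut.mul_apply, MulAut.mul_apply, MulAut.mul_apply, ← hgT,
      show ∀ w : T, ((γ w : T) : G) = c * w * c⁻¹ from fun w => normAut_apply c _ w,
      hainv, hγinv, hd]
    group
  have hdE : normAut d (hcT (hQS hdQ)) ∈ E.autGroup T := by
    rw [hdaut]
    exact mul_mem ha (congr_mem_autGroup_of_conjClosed (conjClosed_of_isInvariantIn hinv) le_rfl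
      hsub (inv_mem ha) hγ)
  obtain ⟨t, ht, hte⟩ : ∃ t ∈ T, ∀ x : T, d * x * d⁻¹ = t * x * t⁻¹ := by
    obtain ⟨-, hi⟩ := (isFullyAutomized_iff hTp).1
      (fullyAutomized_receptive_of_fullyNormalized hTp hEs isFullyNormalized_self).1
    rw [← inn_eq] at hi
    have hm' : normAut d (hcT (hQS hdQ)) ∈ autInducedBy (P₀ : Subgroup G) T :=
      mem_autInducedBy_iff.2 ⟨d, hQS hdQ, fun _ => rfl⟩
    obtain ⟨k, hk⟩ := isPGroup_autInducedBy P₀.2 T ⟨_, hm'⟩
    have hdp : normAut d (hcT (hQS hdQ)) ^ p ^ k = 1 := congrArg Subtype.val hk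
    have := inn_subgroupOf_normal E T
    have h2 : (⟨_, hdE⟩ : E.autGroup T) ∈ (Cfsg.Inn T).subgroupOf (E.autGroup T) := by
      rw [← QuotientGroup.eq_one_iff, ← orderOf_eq_one_iff, ← Nat.dvd_one,
        ← (((Fact.out : p.Prime).coprime_iff_not_dvd.2 hi).pow_left k).gcd_eq_one]
      refine Nat.dvd_gcd (orderOf_dvd_of_pow_eq_one ?_) (orderOf_dvd_natCard _)
      rw [← QuotientGroup.mk_pow, QuotientGroup.eq_one_iff,
        show (⟨_, hdE⟩ : E.autGroup T) ^ p ^ k = 1 from Subtype.ext hdp]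
      exact one_mem _
    rw [Subgroup.mem_subgroupOf, inn_eq, mem_autInducedBy_iff] at h2
    obtain ⟨t, ht, hte⟩ := h2
    exact ⟨t, ht, fun x => hte x⟩
  have hdu : ∀ u ∈ U, d * u * d⁻¹ = u := fun u hu => by
    have hu' : g⁻¹ * u * g⁻¹⁻¹ ∈ U := hUn.conj_mem u hu g⁻¹
    calc d * u * d⁻¹ = g * c * g⁻¹ * (c⁻¹ * u * c⁻¹⁻¹) * g * c⁻¹ * g⁻¹ := by rw [hd]; group
      _ = g * (c * (g⁻¹ * u * g⁻¹⁻¹) * c⁻¹) * g⁻¹ := by
        have h1 : c⁻¹ * u * c⁻¹⁻¹ = u := by
          conv_lhs => rw [← hcu u hu]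
          group
        rw [h1]
        group
      _ = u := by rw [hcu _ hu']; group
  have htU : t ∈ U := by
    rw [hU]
    refine centralizer_inf_pCore_le hG hTsc ht fun u hu => ?_
    rw [← hU] at hu
    rw [← hte ⟨u, hUE.1 hu⟩]
    exact hdu u hu
  have htQ : t ∈ pCore p G := (hU.le htU).2
  set e := t⁻¹ * d with he
  have heC : e ∈ centralizerIn (P₀ : Subgroup G) T := by
    refine ⟨(P₀ : Subgroup G).mul_mem ((P₀ : Subgroup G).inv_mem (hTsc.1 ht)) (hQS hdQ),
      fun x hx => ?_⟩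
    have h1 := hte ⟨x, hx⟩
    calc x * e = t⁻¹ * (t * x * t⁻¹) * d := by rw [he]; group
      _ = t⁻¹ * (d * x * d⁻¹) * d := by rw [h1]
      _ = e * x := by rw [he]; group
  have hz : e⁻¹ * (g * e * g⁻¹) ∈ U := by
    have heQ : e ∈ pCore p G := (pCore p G).mul_mem ((pCore p G).inv_mem htQ) hdQ
    rw [hU]
    exact ⟨(hpowC n e heC).1, (pCore p G).mul_mem ((pCore p G).inv_mem heQ) (hQn.conj_mem e heQ g)⟩
  have h5 := U.mul_mem (U.mul_mem (hUn.conj_mem t htU g) (hUn.conj_mem _ hz e)) (U.inv_mem htU)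
  convert h5 using 1
  rw [he]
  group

end CfsgLib.Fusion
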