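import Cfsg.Agent.Lib.Fusion.ConstrainedSubsystemLift
import Cfsg.Agent.Lib.Fusion.CentralKernelTransfer
import Cfsg.Agent.Lib.Fusion.FactorBasic

/-!
# The normal subgroup of a constrained group attached to a normal subsystem
-/

set_option autoImplicit false

open Cfsg Cfsg.FusionSystem

namespace CfsgLib.Fusion

variable {G : Type*} [Group G] [Finite G] {p : ℕ} [Fact p.Prime]

/-- Normal subsystems of the system of a `p`-constrained group without `p'`-core come from exactly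
one normal subgroup. -/
theorem existsUnique_normal_subgroup_of_isNormalIn {P₀ : Sylow p G} {T : Subgroup G}
    (hG : Subgroup.centralizer ((pCore p G : Subgroup G) : Set G) ≤ pCore p G)
    {E : FusionSystem T} (hE : E.IsNormalIn (groupFusionSystem (P₀ : Subgroup G)) p) :
    ∃ H : Subgroup G, (∃ hTH : T ≤ H, H.Normal ∧ ¬ p ∣ T.relIndex H ∧
        ∀ P : Subgroup G, E.Hom P = (fusionSystemOfSubgroup H T hTH).Hom P) ∧
      ∀ H' : Subgroup G, (∃ hTH' : T ≤ H', H'.Normal ∧ ¬ p ∣ T.relIndex H' ∧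
        ∀ P : Subgroup G, E.Hom P = (fusionSystemOfSubgroup H' T hTH').Hom P) → H' = H := by
  have hp : p.Prime := Fact.out
  obtain ⟨hEs, hFs, hinv⟩ := hE.1
  have hsub := hinv.1
  have hTsc := hinv.2.1
  have hTS : T ≤ (P₀ : Subgroup G) := hTsc.1
  have hTp : IsPGroup p T := P₀.2.to_le hTS
  have hEcc := conjClosed_of_isInvariantIn hinv
  have hQn := pCore_normal_inst (G := G) p
  have hQS : pCore p G ≤ (P₀ : Subgroup G) := Cores.pCore_le_sylow P₀
  -- the subgroup `U`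
  obtain ⟨U, hU⟩ : ∃ U : Subgroup G, U = T ⊓ pCore p G := ⟨_, rfl⟩
  have hUn : U.Normal := hU ▸ inf_pCore_normal_of_stronglyClosed hTsc
  have hUT : U ≤ T := hU ▸ inf_le_left
  have hUQ : U ≤ pCore p G := hU ▸ inf_le_right
  have hCTU : ∀ x ∈ T, (∀ u ∈ U, x * u * x⁻¹ = u) → x ∈ U := by
    intro x hx h
    rw [hU] at h ⊢
    exact centralizer_inf_pCore_le hG hTsc hx h
  have hUsc : E.StronglyClosed U := by
    refine ⟨hUT, fun R hR φ hφ x => ?_⟩
    obtain ⟨-, -, g, hg⟩ := hsub R hφ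
    rw [hg]
    exact hUn.conj_mem _ (hR x.2) g
  have hUc : E.IsCentric U := ⟨hUT, fun R hR x hx => by
    obtain ⟨φ, hφ, rfl⟩ := hR
    rw [(weaklyClosed_of_stronglyClosed hUsc).2 φ hφ] at hx ⊢
    exact hCTU x hx.1 fun u hu => by rw [← hx.2 u hu, mul_inv_cancel_right]⟩
  have hUE : E.IsNormal U := by
    obtain ⟨n, hn, hLn⟩ := exists_series_of_isNormal P₀.2
      (isNormal_groupFusion_of_normal (S := (P₀ : Subgroup G)) (U := pCore p G) hQS)
    have hscE : ∀ X : Subgroup G, (groupFusionSystem (P₀ : Subgroup G)).IsNormal X →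
        E.StronglyClosed (T ⊓ X) := fun X hX =>
      ⟨inf_le_left, fun R hR φ hφ x => ⟨apply_mem_S E hφ x,
        (stronglyClosed_of_isNormal hX).2 R (hR.trans inf_le_right) φ (hsub R hφ) x⟩⟩
    refine isNormal_of_series hTp hEs hUsc
      (fun i => T ⊓ (pCore p G).lowerCentralSeries (n - i)) n (by simp [hn])
      (by simp only [Nat.sub_self]; exact hU.symm)
      (fun i _ => hU ▸ inf_le_inf_left _ ((pCore p G).lowerCentralSeries_le_self _))
      (fun i _ => hscE _ (hLn _)) fun i hi => Subgroup.commutator_le.2 fun a ha b hb => ⟨?_, ?_⟩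
    · rw [commutatorElement_def]
      exact T.mul_mem (T.mul_mem (T.mul_mem (hUT ha) hb.1) (T.inv_mem (hUT ha))) (T.inv_mem hb.1)
    · have h1 : (pCore p G).lowerCentralSeries (n - i) =
          ⁅(pCore p G).lowerCentralSeries (n - (i + 1)), pCore p G⁆ := by
        rw [show n - i = (n - (i + 1)) + 1 by omega]
        rfl
      rw [h1, Subgroup.commutator_comm]
      exact Subgroup.commutator_mem_commutator (hUQ ha) hb.2
  let φ : G →* MulAut U := MulAut.conjNormal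
  have hφ1 : ∀ {x : G}, φ x = 1 ↔ ∀ u ∈ U, x * u * x⁻¹ = u := fun {x} =>
    ⟨fun h u hu => by simpa [φ] using congrArg Subtype.val (DFunLike.congr_fun h ⟨u, hu⟩),
      fun h => MulEquiv.ext fun u => Subtype.ext (h u u.2)⟩
  -- the automorphisms of `E` on `U` and those induced by `T`
  set A := E.autGroup U
  have hφF : ∀ g : G, φ g ∈ (groupFusionSystem (P₀ : Subgroup G)).autGroup U := fun g => by
    rw [autGroup_groupFusion (hUT.trans hTS), mem_autInducedBy_iff]
    exact ⟨g, trivial, fun u => rfl⟩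
  have hAn : ∀ g : G, ∀ a ∈ A, φ g * a * (φ g)⁻¹ ∈ A := fun g a ha =>
    congr_mem_autGroup_of_conjClosed hEcc hUT hsub ha (hφF g)
  have hR : T.map φ = autInducedBy T U := by
    ext α
    rw [mem_autInducedBy_iff]
    constructor
    · rintro ⟨t, ht, rfl⟩
      exact ⟨t, ht, fun _ => rfl⟩
    · rintro ⟨t, ht, hte⟩
      exact ⟨t, ht, MulEquiv.ext fun u => Subtype.ext (hte u).symm⟩
  have hRA : T.map φ ≤ A := hR ▸ autInducedBy_le_autGroup hUT
  have hRi : ¬ p ∣ (T.map φ).relIndex A := by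
    rw [hR]
    exact ((isFullyAutomized_iff hTp).1 (fullyAutomized_receptive_of_fullyNormalized hTp hEs
      ⟨hUT, fun R hR => by
        obtain ⟨ψ, hψ, rfl⟩ := hR
        rw [(weaklyClosed_of_stronglyClosed hUsc).2 ψ hψ]⟩).1).2
  -- the group `K`
  let W := centralModStab p U
  have hWn : W.Normal := centralModStab_normal
  let K : Subgroup G := A.comap φ ⊓ W
  have hKn : K.Normal := by
    refine ⟨fun k hk g => ⟨?_, hWn.conj_mem k hk.2 g⟩⟩
    change φ (g * k * g⁻¹) ∈ A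
    rw [map_mul, map_mul, map_inv]
    exact hAn g _ hk.1
  have hTW : T ≤ W := fun t ht c hc hcu => by
    rw [hU]
    refine ⟨?_, (pCore p G).mul_mem (hQn.conj_mem c hc t) ((pCore p G).inv_mem hc)⟩
    have hcS := hQS hc
    rw [show t * c * t⁻¹ * c⁻¹ = t * (c * t⁻¹ * c⁻¹) by group]
    exact T.mul_mem ht (conj_mem_of_stronglyClosed_group hTsc (T.inv_mem ht)
      ((P₀ : Subgroup G).mul_mem ((P₀ : Subgroup G).mul_mem hcS (hTS (T.inv_mem ht)))
        ((P₀ : Subgroup G).inv_mem hcS)))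
  have hTK : T ≤ K := fun t ht => ⟨hRA ⟨t, ht, rfl⟩, hTW ht⟩
  -- the group `C`
  let C : Subgroup G := φ.ker ⊓ W
  have hCn : C.Normal := inferInstance
  have hC1 : ∀ x ∈ C, ∀ u ∈ U, x * u * x⁻¹ = u := fun x hx => hφ1.1 hx.1
  have hCQ : C ≤ pCore p G := le_pCore_of_centralModStab hG hUQ hC1 inf_le_right
  have hCK : C ≤ K := fun x hx =>
    ⟨show φ x ∈ A by rw [MonoidHom.mem_ker.1 hx.1]; exact one_mem _, hx.2⟩
  have hKC : K ⊓ φ.ker ≤ C := fun x hx => ⟨hx.2, hx.1.2⟩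
  -- `K` covers `A`
  have hKA : K.map φ = A := by
    refine le_antisymm (Subgroup.map_le_iff_le_comap.2 inf_le_left) ?_
    let M : Subgroup A := (K.map φ).subgroupOf A
    have hMn : M.Normal := by
      refine ⟨fun a ha b => ?_⟩
      obtain ⟨-, -, g, hg⟩ := hsub U ((mem_autGroup_iff E hUT).1 b.2)
      have hb : φ g = (b : MulAut U) := MulEquiv.ext fun u => Subtype.ext (hg u).symm
      obtain ⟨k, hk, hke⟩ := ha
      refine ⟨g * k * g⁻¹, hKn.conj_mem k hk g, ?_⟩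
      simp [hke, hb]
    let R₀ : Subgroup A := (T.map φ).subgroupOf A
    have hR₀p : IsPGroup p R₀ := (hTp.map φ).comap_subtype
    obtain ⟨Rs, hRs⟩ : ∃ Rs : Sylow p A, (Rs : Subgroup A) = R₀ :=
      ⟨hR₀p.toSylow hRi, IsPGroup.toSylow_coe _ _⟩
    have hR₀M : R₀ ≤ M := fun a ha => Subgroup.map_mono hTK ha
    -- the normalizer of the Sylow subgroup
    let N₀ : Subgroup A := Subgroup.normalizer (R₀ : Set A)
    have hN : N₀ ≤ M := by
      have h := eq_top_of_pPrime_mem_of_le (p := p) (A := N₀) (N := M.subgroupOf N₀)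
        (R := R₀.subgroupOf N₀)
        (fun h => hRi (by
          change p ∣ R₀.index
          rw [← Subgroup.relIndex_mul_index (Subgroup.le_normalizer : R₀ ≤ N₀)]
          exact dvd_mul_of_dvd_left h _))
        (fun a ha => hR₀M ha) fun a ha => by
          obtain ⟨g, hgW, hg⟩ := exists_centralModStab_lift hE hU hG hUE hUc
            (α := ((a : A) : MulAut U)) a.1.2 (by
              rwa [Subgroup.orderOf_coe, Subgroup.orderOf_coe]) fun r hr => by
              rw [← hR] at hr ⊢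
              exact (Subgroup.mem_normalizer_iff.1 a.2 ⟨r, hRA hr⟩).1 hr
          exact ⟨g, ⟨show φ g ∈ A from hg ▸ a.1.2, hgW⟩, hg⟩
      intro a ha
      exact (h.ge (Subgroup.mem_top (⟨a, ha⟩ : N₀)) : _)
    have hf := Sylow.normalizer_sup_eq_top' Rs (hRs ▸ hR₀M)
    intro α hα
    have hm : (⟨α, hα⟩ : A) ∈ Subgroup.normalizer ((Rs : Subgroup A) : Set A) ⊔ M :=
      hf.ge (Subgroup.mem_top _)
    rw [hRs] at hm
    exact (sup_le hN le_rfl hm : _)
  -- splitting off `C`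
  have hTCS : T ⊔ C ≤ (P₀ : Subgroup G) := sup_le hTS (hCQ.trans hQS)
  have hTCK : T ⊔ C ≤ K := sup_le hTK hCK
  have hTCi : ¬ p ∣ (T ⊔ C).relIndex K := by
    rw [← relIndex_map_of_inf_ker_le φ hTCK (hKC.trans le_sup_right), hKA, Subgroup.map_sup,
      (Subgroup.map_eq_bot_iff C).2 inf_le_left, sup_bot_eq]
    exact hRi
  obtain ⟨Hk, hHkn, hTHk, hHkC, hHkK, hHkp⟩ := exists_normal_supplement_mod (p := p)
    (T.subgroupOf K) (C.subgroupOf K) (U.subgroupOf K) hTp.comap_subtype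
    ((P₀.2.to_le (hCQ.trans hQS)).comap_subtype) (fun x hx => hUT hx)
    (fun k c hc => k.2.2 c (hCQ hc) (hC1 _ hc))
    (fun x hx => hCTU _ hx.1 (hC1 _ hx.2))
    (by rw [← Subgroup.subgroupOf_sup hTK hCK]; exact hTCi)
    (fun g t ht h => by
      rw [← Subgroup.subgroupOf_sup hTK hCK] at h
      exact conj_mem_of_stronglyClosed_group hTsc ht (hTCS h))
  let H : Subgroup G := Hk.map K.subtype
  have hHK : H ≤ K := Subgroup.map_subtype_le _
  have hmemH : ∀ {x : G} (hx : x ∈ K), x ∈ H ↔ (⟨x, hx⟩ : K) ∈ Hk := fun hx =>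
    ⟨fun ⟨y, hy, hye⟩ => by rwa [show (⟨_, hx⟩ : K) = y from Subtype.ext hye.symm],
      fun h => ⟨_, h, rfl⟩⟩
  have hTH : T ≤ H := fun t ht => (hmemH (hTK ht)).2 (hTHk (show (⟨t, hTK ht⟩ : K) ∈
    T.subgroupOf K from ht))
  have hHker : ∀ h ∈ H, (∀ u ∈ U, h * u * h⁻¹ = u) → h ∈ U := fun h hh hu =>
    hHkC (show (⟨h, hHK hh⟩ : K) ∈ Hk ⊓ C.subgroupOf K from
      ⟨(hmemH _).1 hh, hKC ⟨hHK hh, hφ1.2 hu⟩⟩)
  have hHA : H.map φ = A := by
    refine le_antisymm ((Subgroup.map_mono hHK).trans hKA.le) ?_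
    rw [← hKA]
    rintro _ ⟨k, hk, rfl⟩
    obtain ⟨a, ha, c, hc, hac⟩ := Subgroup.mem_sup_of_normal_right.1
      (hHkK.ge (Subgroup.mem_top (⟨k, hk⟩ : K)))
    refine ⟨a, ⟨a, ha, rfl⟩, ?_⟩
    rw [show k = (a : G) * c from (congrArg Subtype.val hac).symm, map_mul,
      MonoidHom.mem_ker.1 (show (c : G) ∈ φ.ker from hc.1), mul_one]
  have hTi : ∀ {X : Subgroup G}, T ≤ X → X.map φ = A → (X ⊓ φ.ker ≤ T) →
      ¬ p ∣ T.relIndex X := by
    intro X hTX hXA hX
    rw [← relIndex_map_of_inf_ker_le φ hTX hX, hXA]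
    exact hRi
  have hHi : ¬ p ∣ T.relIndex H :=
    hTi hTH hHA fun x hx => hUT (hHker x hx.1 (hφ1.1 hx.2))
  -- `H` is normal
  have hHn : H.Normal := by
    refine ⟨fun h hh g => ?_⟩
    let N : Subgroup Hk := (Hk.comap (MulAut.conjNormal (H := K) g).toMonoidHom).subgroupOf Hk
    have hNn : N.Normal := inferInstance
    have hNtop : N = ⊤ := eq_top_of_pPrime_mem_of_le (p := p)
      (R := (T.subgroupOf K).subgroupOf Hk) (by
        change ¬ p ∣ (T.subgroupOf K).relIndex Hk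
        rw [← Subgroup.relIndex_map_map_of_injective _ _ K.subtype_injective,
          Subgroup.subgroupOf_map_subtype, inf_of_le_left hTK]
        exact hHi)
      (fun x hx => by
        change MulAut.conjNormal (H := K) g (x : K) ∈ Hk
        set y : K := MulAut.conjNormal (H := K) g (x : K) with hy
        obtain ⟨k, hk, hke⟩ := exists_conj_mem_of_le (U := Subgroup.zpowers (y : G))
          (T := T ⊔ C) (N := K) (by
            have h1 : (y : G) ∈ T.map (MulAut.conj g).toMonoidHom := ⟨_, hx, rfl⟩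
            exact (hTp.map _).to_le (Subgroup.zpowers_le.2 h1))
          (P₀.2.to_le hTCS) (Subgroup.zpowers_le.2 y.2) hTCK hTCi
        have h2 := hke y (Subgroup.mem_zpowers _)
        have h3 : k * (y : G) * k⁻¹ ∈ T := by
          have h4 : k * g * ((x : K) : G) * (k * g)⁻¹ = k * (y : G) * k⁻¹ := by
            rw [hy, MulAut.conjNormal_apply]; group
          rw [← h4] at h2 ⊢
          exact conj_mem_of_stronglyClosed_group hTsc hx (hTCS h2)
        have h5 := hHkn.conj_mem _ ((hmemH (hTK h3)).1 (hTH h3)) ⟨k, hk⟩⁻¹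
        convert h5 using 1
        refine Subtype.ext ?_
        simp [mul_assoc])
      fun x hx => hHkp _ (by
        rw [← Subgroup.orderOf_coe, ← MulEquiv.orderOf_eq (MulAut.conjNormal (H := K) g)] at hx
        exact hx)
    obtain ⟨y, hy, rfl⟩ := hh
    exact ⟨_, hNtop.ge (Subgroup.mem_top (⟨y, hy⟩ : Hk)), rfl⟩
  refine ⟨H, ⟨hTH, hHn, hHi, hom_eq_fusionSystemOfSubgroup_of_aut hE.1 hUE hUc hTH hHi
    (fun α => by rw [show E.autGroup U = H.map φ from hHA.symm]; rfl) hHker⟩, ?_⟩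
  rintro H' ⟨hTH', hH'n, hH'i, hH'E⟩
  have hSH' : (P₀ : Subgroup G) ⊓ H' = T :=
    (eq_of_le_of_not_dvd (P₀.2.to_le inf_le_left) (le_inf hTS hTH') inf_le_right hH'i).symm
  have hH'A : H'.map φ = A := by
    ext α
    rw [show A = E.autGroup U from rfl, mem_autGroup_iff E hUT]
    change _ ↔ U.subtype.comp α.toMonoidHom ∈ E.Hom U
    rw [hH'E]
    constructor
    · rintro ⟨h, hh, rfl⟩
      exact ⟨hUT, fun u => hUT (φ h u).2, h, hh, fun u => rfl⟩
    · rintro ⟨-, -, h, hh, hhe⟩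
      exact ⟨h, hh, MulEquiv.ext fun u => Subtype.ext (hhe u).symm⟩
  have hH'K : H' ≤ K := fun h hh => ⟨hH'A.le ⟨h, hh, rfl⟩, fun c hc hcu => by
    have hdQ := (pCore p G).mul_mem (hQn.conj_mem c hc h) ((pCore p G).inv_mem hc)
    have hdH : h * c * h⁻¹ * c⁻¹ ∈ H' := by
      rw [show h * c * h⁻¹ * c⁻¹ = h * (c * h⁻¹ * c⁻¹) by group]
      exact H'.mul_mem hh (hH'n.conj_mem _ (H'.inv_mem hh) c)
    refine hCTU _ (hSH'.le ⟨hQS hdQ, hdH⟩) fun u hu => ?_
    have hu' : h⁻¹ * (c⁻¹ * u * c⁻¹⁻¹) * h⁻¹⁻¹ ∈ U :=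
      hUn.conj_mem _ (hUn.conj_mem u hu c⁻¹) h⁻¹
    have h1 : c⁻¹ * u * c⁻¹⁻¹ = u := by
      conv_lhs => rw [← hcu u hu]
      group
    rw [h1] at hu'
    calc h * c * h⁻¹ * c⁻¹ * u * (h * c * h⁻¹ * c⁻¹)⁻¹
        = h * c * h⁻¹ * (c⁻¹ * u * c⁻¹⁻¹) * h * c⁻¹ * h⁻¹ := by group
      _ = h * (c * (h⁻¹ * u * h⁻¹⁻¹) * c⁻¹) * h⁻¹ := by rw [h1]; group
      _ = u := by rw [hcu _ hu']; group⟩
  have hle : H' ≤ H := by
    let N : Subgroup H' := H.subgroupOf H'
    have hN : N = ⊤ := eq_top_of_pPrime_mem_of_le (p := p) (R := T.subgroupOf H') hH'i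
      (fun x hx => hTH hx) fun x hx => (hmemH (hH'K x.2)).2 (hHkp _ (by
        rwa [Subgroup.orderOf_mk, Subgroup.orderOf_coe]))
    exact Subgroup.subgroupOf_eq_top.1 hN
  refine le_antisymm hle fun h hh => ?_
  obtain ⟨h', hh', hhe⟩ := hH'A.ge (hHA.le ⟨h, hh, rfl⟩)
  have h1 : h'⁻¹ * h ∈ T := hUT (hHker _ (H.mul_mem (H.inv_mem (hle hh')) hh) (hφ1.1 (by
    rw [map_mul, map_inv, hhe, inv_mul_cancel])))
  simpa using H'.mul_mem hh' (hTH' h1)

end CfsgLib.Fusion
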