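import Cfsg.Agent.Lib.Fusion.FunctorSolvable
import Cfsg.Agent.Lib.Fusion.FactorHat

/-!
# Solvable systems are constrained
-/

set_option autoImplicit false

open Cfsg Cfsg.FusionSystem
open scoped commutatorElement

namespace CfsgLib.Fusion

universe u

variable {p : ℕ} [Fact p.Prime] {Ω : Type u} [Group Ω] {S : Subgroup Ω} [Finite S]
  {F : FusionSystem S}

/-- Above a proper strongly closed subgroup of a solvable system lies one with abelian factor. -/
theorem exists_abelian_step (hS : IsPGroup p S) (hF : F.IsSaturated p) (hsol : F.IsSolvableSystem)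
    {R : Subgroup Ω} (hR : F.StronglyClosed R) (hRS : R ≠ S) :
    ∃ U, R < U ∧ F.StronglyClosed U ∧ ⁅U, U⁆ ≤ R := by
  have hn : (R.subgroupOf S).Normal := ⟨fun x hx g => Subgroup.mem_subgroupOf.2
    (conj_mem_of_mem_normalizer (le_normalizer_of_stronglyClosed hR g.2) hx)⟩
  let θ : S →* S ⧸ R.subgroupOf S := QuotientGroup.mk' _
  have hker : ∀ s : S, θ s = 1 ↔ (s : Ω) ∈ R := fun s =>
    (QuotientGroup.eq_one_iff s).trans Subgroup.mem_subgroupOf
  have hrange : θ.range = ⊤ := QuotientGroup.range_mk' _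
  have hE := isFactorSystem_factorSystem (F := F) hR hker hrange
  set E := factorSystem (F := F) hR hker hrange
  have hθ := isSurjectiveMorphism_of_isFactorSystem hS hF hR hE
  have hcore : E.core ≠ ⊥ := hsol R hR hRS E hE
  have hQ : E.IsNormal E.core := isNormal_core
  set Z : Subgroup (S ⧸ R.subgroupOf S) := (Subgroup.center ↥E.core).map E.core.subtype with hZ
  have hZn : E.IsNormal Z := isNormal_of_characteristic hQ (Subgroup.map_subtype_le _) (by
    have h : Z.subgroupOf E.core = Subgroup.center ↥E.core :=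
      Subgroup.comap_map_eq_self_of_injective E.core.subtype_injective _
    rw [h]
    infer_instance)
  have hZne : Z ≠ ⊥ := by
    intro h
    have hnt : Nontrivial ↥E.core := (Subgroup.nontrivial_iff_ne_bot _).2 hcore
    have hp : IsPGroup p ↥E.core := (hS.to_quotient (R.subgroupOf S)).to_subgroup _
    have h1 := hp.center_nontrivial
    refine (Subgroup.nontrivial_iff_ne_bot _).1 h1 ?_
    refine le_bot_iff.1 fun x hx => Subgroup.mem_bot.2 (Subtype.ext ?_)
    exact Subgroup.mem_bot.1 (h.le ⟨x, hx, rfl⟩)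
  refine ⟨preimageAlong θ Z, lt_preimageAlong hE le_top hZne,
    stronglyClosed_preimageAlong hE hθ (stronglyClosed_of_isNormal hZn), ?_⟩
  refine Subgroup.commutator_le.2 fun a ha b hb => ?_
  have haS := preimageAlong_le θ Z ha
  have hbS := preimageAlong_le θ Z hb
  refine (hker ⁅(⟨a, haS⟩ : S), ⟨b, hbS⟩⁆).1 ?_
  rw [map_commutatorElement, commutatorElement_eq_one_iff_mul_comm]
  obtain ⟨x, hx, hxe⟩ := (mem_preimageAlong (θ := θ) (s := ⟨a, haS⟩)).1 ha
  obtain ⟨y, hy, hye⟩ := (mem_preimageAlong (θ := θ) (s := ⟨b, hbS⟩)).1 hb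
  rw [← hxe, ← hye]
  exact congrArg Subtype.val (Subgroup.mem_center_iff.1 hy x)

/-- The core of a solvable system contains its centralizer. -/
theorem centralizerIn_core_le_of_isSolvableSystem (hS : IsPGroup p S) (hF : F.IsSaturated p)
    (hsol : F.IsSolvableSystem) : centralizerIn S F.core ≤ F.core := by
  by_contra hnc
  have hX : F.IsNormal F.core := isNormal_core
  set X := F.core with hXdef
  have hsc := stronglyClosed_of_isNormal hX
  have hXn := le_normalizer_of_stronglyClosed hsc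
  set Y := X ⊔ centralizerIn S X with hYdef
  have hY : F.StronglyClosed Y := stronglyClosed_sup_centralizerIn hS hF hsc
  obtain ⟨R, ⟨hR, hRY⟩, hmax⟩ := exists_max_card (S := S)
    (fun R => F.StronglyClosed R ∧ R ⊓ Y ≤ X) (fun R => Nat.card R) (fun R h => h.1.1)
    ⟨X, hsc, inf_le_left⟩
  have hRS : R ≠ S := by
    rintro rfl
    rw [inf_eq_right.2 hY.1] at hRY
    exact hnc (le_sup_right.trans hRY)
  obtain ⟨U, hRU, hU, hUU⟩ := exists_abelian_step hS hF hsol hR hRS
  have hUY : ¬ U ⊓ Y ≤ X := fun h => hRU.ne (by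
    have := finite_of_le hU.1
    exact Subgroup.eq_of_le_of_card_ge hRU.le (hmax U ⟨hU, h⟩))
  -- `W` is normal
  set W := X ⊔ U ⊓ Y with hWdef
  have hUYn : S ≤ Subgroup.normalizer ((U ⊓ Y : Subgroup Ω) : Set Ω) := by
    intro s hs
    have := finite_of_le (inf_le_left.trans hU.1 : U ⊓ Y ≤ S)
    exact mem_normalizer_of_forall fun x hx =>
      ⟨conj_mem_of_mem_normalizer (le_normalizer_of_stronglyClosed hU hs) hx.1,
        conj_mem_of_mem_normalizer (le_normalizer_of_stronglyClosed hY hs) hx.2⟩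
  have hW : F.StronglyClosed W := by
    refine ⟨sup_le hX.1 (inf_le_left.trans hU.1), fun P hP φ hφ x => ?_⟩
    obtain ⟨ψ, hψ, hψe, hψX⟩ := hX.2 P φ hφ
    obtain ⟨a, ha, b, hb, hab⟩ :=
      exists_mul_of_mem_sup ((inf_le_left.trans hU.1).trans hXn)
        ((sup_comm X (U ⊓ Y)).le (hP x.2) : (x : Ω) ∈ U ⊓ Y ⊔ X)
    have hbM : b ∈ P ⊔ X := Subgroup.mem_sup_right hb
    have haM : a ∈ P ⊔ X := by
      rw [show a = (x : Ω) * b⁻¹ from eq_mul_inv_of_mul_eq hab.symm]
      exact mul_mem (Subgroup.mem_sup_left x.2) (inv_mem hbM)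
    rw [← hψe, show Subgroup.inclusion le_sup_left x =
      (⟨a, haM⟩ : ↥(P ⊔ X)) * ⟨b, hbM⟩ from Subtype.ext hab, map_mul]
    have hres : ∀ {T : Subgroup Ω}, F.StronglyClosed T → a ∈ T → ψ ⟨a, haM⟩ ∈ T := by
      intro T hT haT
      exact hT.2 _ (Subgroup.zpowers_le.2 haT) _
        (res_mem F hψ (Subgroup.zpowers_le.2 haM)) ⟨a, Subgroup.mem_zpowers a⟩
    exact mul_mem (Subgroup.mem_sup_right ⟨hres hU ha.1, hres hY ha.2⟩)
      (Subgroup.mem_sup_left (hψX.le (apply_mem_img ψ (x := ⟨b, hbM⟩) hb)))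
  have hWX : W ≤ X → False := fun h => hUY (le_sup_right.trans h)
  obtain ⟨n, hn, hnn⟩ := exists_series_of_isNormal hS hX
  have hWY : W ≤ Y := sup_le le_sup_left inf_le_right
  refine hWX (le_sSup (show W ∈ {Q : Subgroup Ω | F.IsNormal Q} from ?_))
  refine isNormal_of_series hS hF hW
    (fun i => if i ≤ n then X.lowerCentralSeries (n - i) else W) (n + 1)
    (by simpa using hn) (if_neg (by omega)) (fun i _ => ?_) (fun i _ => ?_) fun i hi => ?_
  · try dsimp only
    split_ifs
    · exact (X.lowerCentralSeries_le_self _).trans le_sup_left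
    · exact le_rfl
  · try dsimp only
    split_ifs
    · exact stronglyClosed_of_isNormal (hnn _)
    · exact hW
  · try dsimp only
    rw [if_pos (show i ≤ n by omega)]
    split_ifs with h
    · -- `W` acts on `X` as inner automorphisms
      refine Subgroup.commutator_le.2 fun w hw a ha => ?_
      obtain ⟨c, hc, x, hx, rfl⟩ := exists_mul_of_mem_sup ((centralizerIn_le X).trans hXn)
        ((sup_comm X (centralizerIn S X)).le (hWY hw))
      have haX : a ∈ X := X.lowerCentralSeries_le_self _ ha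
      have h1 : ⁅c * x, a⁆ = ⁅x, a⁆ := by
        have hxa : x * a * x⁻¹ ∈ X := X.mul_mem (X.mul_mem hx haX) (X.inv_mem hx)
        have h2 : c * (x * a * x⁻¹) = x * a * x⁻¹ * c := (hc.2 _ hxa).symm
        calc ⁅c * x, a⁆ = c * (x * a * x⁻¹) * c⁻¹ * a⁻¹ := by
              simp [commutatorElement_def, mul_assoc]
          _ = ⁅x, a⁆ := by rw [h2, mul_inv_cancel_right, commutatorElement_def]
      rw [h1, show n - i = n - (i + 1) + 1 by omega, Subgroup.lowerCentralSeries_succ,
        Subgroup.commutator_comm]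
      exact Subgroup.commutator_mem_commutator hx ha
    · obtain rfl : i = n := by omega
      rw [Nat.sub_self, Subgroup.lowerCentralSeries_zero]
      refine Subgroup.commutator_le.2 fun w hw v hv => ?_
      have hdec : ∀ z ∈ W, ∃ u ∈ U ⊓ Y, ∃ x ∈ X, z = u * x := fun z hz =>
        exists_mul_of_mem_sup ((inf_le_left.trans hU.1).trans hXn)
          ((sup_comm X (U ⊓ Y)).le hz)
      obtain ⟨a, ha, x, hx, rfl⟩ := hdec w hw
      obtain ⟨b, hb, y, hy, rfl⟩ := hdec v hv
      have hnX : (X.subgroupOf S).Normal :=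
        ⟨fun z hz g => Subgroup.mem_subgroupOf.2 (conj_mem_of_mem_normalizer (hXn g.2) hz)⟩
      let π := QuotientGroup.mk' (X.subgroupOf S)
      have hπ : ∀ s : S, π s = 1 ↔ (s : Ω) ∈ X := fun s =>
        (QuotientGroup.eq_one_iff s).trans Subgroup.mem_subgroupOf
      have haS := hU.1 ha.1
      have hbS := hU.1 hb.1
      refine (hπ ⁅(⟨a, haS⟩ : S) * ⟨x, hX.1 hx⟩, ⟨b, hbS⟩ * ⟨y, hX.1 hy⟩⁆).1 ?_
      rw [map_commutatorElement, map_mul, map_mul, (hπ ⟨x, hX.1 hx⟩).2 hx, (hπ ⟨y, hX.1 hy⟩).2 hy,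
        mul_one, mul_one, ← map_commutatorElement, hπ]
      refine hRY ⟨hUU (Subgroup.commutator_mem_commutator ha.1 hb.1), ?_⟩
      simp only [commutatorElement_def, Subgroup.coe_mul, Subgroup.coe_inv]
      exact Y.mul_mem (Y.mul_mem (Y.mul_mem ha.2 hb.2) (Y.inv_mem ha.2)) (Y.inv_mem hb.2)

/-- Solvable systems are constrained. -/
theorem isConstrained_of_isSolvableSystem (hS : IsPGroup p S) (hF : F.IsSaturated p)
    (hsol : F.IsSolvableSystem) : F.IsConstrained p :=
  ⟨hF, F.core, isNormal_core, (isNormal_core (F := F)).1, fun Q hQ => by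
    obtain ⟨φ, hφ, rfl⟩ := hQ
    rw [(weaklyClosed_of_stronglyClosed (stronglyClosed_of_isNormal isNormal_core)).2 φ hφ]
    exact centralizerIn_core_le_of_isSolvableSystem hS hF hsol⟩

/-- For odd `p`, a `Qd(p)`-free system is constrained. -/
theorem isConstrained_of_qdFree (hp : p ≠ 2) (hS : IsPGroup p S) (hF : F.IsSaturated p)
    (hfree : F.IsSectionFree p ↥(Cfsg.qd p)) : F.IsConstrained p :=
  isConstrained_of_isSolvableSystem hS hF (isSolvableSystem_of_qdFree hp hS hF hfree)

end CfsgLib.Fusion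

namespace CfsgLib.Fusion

universe v

variable {p : ℕ} [Fact p.Prime] {Ω : Type v} [Group Ω] {S : Subgroup Ω} [Finite S]
  {F : FusionSystem S}

/-- A chain of strongly closed subgroups with abelian factors from `R` to the top. -/
theorem exists_abelian_chain (hS : IsPGroup p S) (hF : F.IsSaturated p) (hsol : F.IsSolvableSystem)
    {R : Subgroup Ω} (hR : F.StronglyClosed R) :
    ∃ (n : ℕ) (T : Fin (n + 1) → Subgroup Ω), T 0 = R ∧ T (Fin.last n) = S ∧ Monotone T ∧
      (∀ i, F.StronglyClosed (T i)) ∧ ∀ i : Fin n, ⁅T i.succ, T i.succ⁆ ≤ T (Fin.castSucc i) := by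
  suffices h : ∀ (k : ℕ) (R : Subgroup Ω), Nat.card S - Nat.card R = k → F.StronglyClosed R →
      ∃ (n : ℕ) (T : Fin (n + 1) → Subgroup Ω), T 0 = R ∧ T (Fin.last n) = S ∧ Monotone T ∧
        (∀ i, F.StronglyClosed (T i)) ∧ ∀ i : Fin n, ⁅T i.succ, T i.succ⁆ ≤ T (Fin.castSucc i) from
    h _ R rfl hR
  clear hR R
  intro k
  induction k using Nat.strong_induction_on with
  | _ k ih =>
  intro R hk hR
  by_cases hRS : R = S
  · exact ⟨0, fun _ => R, rfl, hRS, monotone_const, fun _ => hR, fun i => i.elim0⟩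
  obtain ⟨U, hRU, hU, hUU⟩ := exists_abelian_step hS hF hsol hR hRS
  have := finite_of_le hU.1
  have h1 : Nat.card R < Nat.card U := lt_of_le_of_ne (Subgroup.card_le_of_le hRU.le)
    fun h => hRU.ne (Subgroup.eq_of_le_of_card_ge hRU.le h.ge)
  have h2 := Subgroup.card_le_of_le hU.1
  obtain ⟨n, T, hT0, hTn, hTm, hTc, hTa⟩ := ih _ (by omega) U rfl hU
  refine ⟨n + 1, Fin.cons R T, rfl, ?_, ?_, Fin.cases hR hTc, Fin.cases ?_ fun i => ?_⟩
  · rw [← Fin.succ_last, Fin.cons_succ, hTn]
  · exact Fin.monotone_iff_le_succ.2 (Fin.cases (by simpa [hT0] using hRU.le)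
      fun i => by simpa [← Fin.succ_castSucc] using hTm (Fin.castSucc_le_succ i))
  · simpa [hT0] using hUU
  · simpa [← Fin.succ_castSucc] using hTa i

/-- The image of a strongly closed subgroup in a factor system is strongly closed. -/
theorem stronglyClosed_imageAlong {Ω' : Type*} [Group Ω'] {S' : Subgroup Ω'} {θ : S →* Ω'}
    {E : FusionSystem S'} {X W : Subgroup Ω} (hE : F.IsFactorSystem X θ E)
    (hW : F.StronglyClosed W) : E.StronglyClosed (imageAlong θ W) := by
  refine ⟨?_, fun P' hP' φ' hφ' x => ?_⟩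
  · rintro _ ⟨s, -, rfl⟩
    exact hE.2.2.1.le ⟨s, rfl⟩
  obtain ⟨hP'S, φ, hφ, hP, hφS, hθP, hφe⟩ := (hE.2.2.2 P' φ').1 hφ'
  obtain ⟨t, ht, htx⟩ := hP' x.2
  have htP : (t : Ω) ∈ preimageAlong θ P' := mem_preimageAlong.2 (htx ▸ x.2)
  refine ⟨⟨φ ⟨t, htP⟩, hφS _⟩, ?_, ?_⟩
  · exact hW.2 _ (Subgroup.zpowers_le.2 ht) _
      (res_mem F hφ (Subgroup.zpowers_le.2 htP)) ⟨(t : Ω), Subgroup.mem_zpowers _⟩
  · rw [← hφe ⟨t, htP⟩]
    exact congrArg φ' (Subtype.ext htx)

/-- A system is solvable when every proper strongly closed subgroup has a strongly closed subgroup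
outside it with derived subgroup inside it. -/
theorem isSolvableSystem_of_step (hS : IsPGroup p S) (hF : F.IsSaturated p)
    (hstep : ∀ R, F.StronglyClosed R → R ≠ S →
      ∃ W, F.StronglyClosed W ∧ ¬ W ≤ R ∧ ⁅W, W⁆ ≤ R) : F.IsSolvableSystem := by
  intro R hR hRS _ E hE hcore
  obtain ⟨W₀, hW₀, hW₀R, hW₀a⟩ := hstep R hR hRS
  set θ := QuotientGroup.mk' (R.subgroupOf S) with hθdef
  have hEsat := CfsgLib.Transfer.isSaturated_of_isFactorSystem hS hF hR hE
  set W := imageAlong θ W₀ with hW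
  have hWab : ⁅W, W⁆ = ⊥ := by
    rw [Subgroup.commutator_eq_bot_iff_le_centralizer]
    rintro _ ⟨a, ha, rfl⟩ _ ⟨b, hb, rfl⟩
    rw [← commutatorElement_eq_one_iff_mul_comm, ← map_commutatorElement]
    exact (hE.2.1 _).2 (hW₀a (Subgroup.commutator_mem_commutator hb ha))
  have hWn : E.IsNormal W := isNormal_of_commutative
    ((hS.to_quotient (R.subgroupOf S)).to_subgroup _) hEsat (stronglyClosed_imageAlong hE hW₀) hWab
  have h1 : W = ⊥ := le_bot_iff.1 (hcore ▸
    (le_sSup (show W ∈ {Q : Subgroup (S ⧸ R.subgroupOf S) | E.IsNormal Q} from hWn)))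
  refine hW₀R fun u hu => ?_
  have h2 : θ ⟨u, hW₀.1 hu⟩ ∈ (⊥ : Subgroup (S ⧸ R.subgroupOf S)) := h1.le ⟨_, hu, rfl⟩
  exact (hE.2.1 _).1 (Subgroup.mem_bot.1 h2)

/-- A system with a chain of strongly closed subgroups with abelian factors is solvable. -/
theorem isSolvableSystem_of_chain (hS : IsPGroup p S) (hF : F.IsSaturated p) {n : ℕ}
    {T : Fin (n + 1) → Subgroup Ω} (hT0 : T 0 = ⊥) (hTn : T (Fin.last n) = S)
    (hTc : ∀ i, F.StronglyClosed (T i)) (hTa : ∀ i : Fin n, ⁅T i.succ, T i.succ⁆ ≤ T (Fin.castSucc i)) :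
    F.IsSolvableSystem := by
  refine isSolvableSystem_of_step hS hF fun R hR hRS => ?_
  obtain ⟨i, hi, hiR⟩ : ∃ i : Fin n, T (Fin.castSucc i) ≤ R ∧ ¬ T i.succ ≤ R := by
    by_contra hcon
    push Not at hcon
    have h : ∀ i, T i ≤ R := Fin.induction (hT0 ▸ bot_le) fun i hi => hcon i hi
    exact hRS (le_antisymm hR.1 (hTn ▸ h (Fin.last n)))
  exact ⟨_, hTc i.succ, hiR, (hTa i).trans hi⟩

end CfsgLib.Fusion

namespace CfsgLib.Fusion

universe w w'

variable {p : ℕ} [Fact p.Prime] {Ω : Type w} [Group Ω] {S : Subgroup Ω} [Finite S]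
  {F : FusionSystem S} {T : Subgroup Ω} {E : FusionSystem T}

/-- The canonical descending series of strongly closed subgroups of a normal subsystem. -/
def derivedClosed (E : FusionSystem T) : ℕ → Subgroup Ω
  | 0 => T
  | i + 1 => sInf {W | E.StronglyClosed W ∧ ⁅derivedClosed E i, derivedClosed E i⁆ ≤ W}

omit [Finite S] in
theorem stronglyClosed_derivedClosed (i : ℕ) : E.StronglyClosed (derivedClosed E i) := by
  have hT : E.StronglyClosed T := ⟨le_rfl, fun R _ φ hφ x => (E.le_of_mem hφ).2 x⟩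
  induction i with
  | zero => exact hT
  | succ i ih =>
    have hmem : T ∈ {W | E.StronglyClosed W ∧ ⁅derivedClosed E i, derivedClosed E i⁆ ≤ W} :=
      ⟨hT, Subgroup.commutator_le.2 fun a ha b hb => T.mul_mem (T.mul_mem (T.mul_mem (ih.1 ha) (ih.1 hb))
        (T.inv_mem (ih.1 ha))) (T.inv_mem (ih.1 hb))⟩
    refine ⟨sInf_le hmem, fun R hR φ hφ x => Subgroup.mem_sInf.2 fun W hW => ?_⟩
    exact hW.1.2 R (hR.trans (sInf_le hW)) φ hφ x

/-- The series is invariant under a subsystem's ambient automorphisms, hence strongly closed. -/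
theorem stronglyClosed_derivedClosed_of_invariant (hE : E.IsInvariantIn F) (i : ℕ) :
    F.StronglyClosed (derivedClosed E i) := by
  obtain ⟨-, hT, hinv, hfac⟩ := hE
  have hα : ∀ α ∈ F.autGroup T, ∀ x : T, (x : Ω) ∈ derivedClosed E i →
      ((α x : T) : Ω) ∈ derivedClosed E i := by
    induction i with
    | zero => exact fun α _ x _ => (α x).2
    | succ i ih =>
      intro α hα
      let f := T.subtype.comp α.toMonoidHom
      let W : Subgroup Ω := ((derivedClosed E (i + 1)).comap f).map T.subtype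
      have hW : W ∈ {W | E.StronglyClosed W ∧ ⁅derivedClosed E i, derivedClosed E i⁆ ≤ W} := by
        refine ⟨⟨Subgroup.map_subtype_le _, fun R hR φ hφ x => ?_⟩, Subgroup.commutator_le.2 ?_⟩
        · have hRT : R ≤ T := hR.trans (Subgroup.map_subtype_le _)
          have hφT := (E.le_of_mem hφ).2 x
          obtain ⟨χ, hχ, hχe⟩ := hinv R hRT φ hφ α hα
          refine ⟨⟨φ x, hφT⟩, ?_, rfl⟩
          have hαx : ((α ⟨x, hRT x.2⟩ : T) : Ω) ∈ (R.subgroupOf T).map f :=
            ⟨⟨x, hRT x.2⟩, x.2, rfl⟩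
          change ((α ⟨φ x, hφT⟩ : T) : Ω) ∈ derivedClosed E (i + 1)
          rw [← hχe x hφT hαx]
          refine (stronglyClosed_derivedClosed (i + 1)).2 _ ?_ χ hχ _
          rintro _ ⟨y, hy, rfl⟩
          obtain ⟨z, hz, hzy⟩ := hR hy
          rw [show y = z from Subtype.ext hzy.symm]
          exact hz
        · intro a ha b hb
          have hle := (stronglyClosed_derivedClosed (E := E) i).1
          refine ⟨⁅(⟨a, hle ha⟩ : T), (⟨b, hle hb⟩ : T)⁆, ?_, rfl⟩
          change f ⁅(⟨a, hle ha⟩ : T), (⟨b, hle hb⟩ : T)⁆ ∈ derivedClosed E (i + 1)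
          rw [map_commutatorElement]
          exact Subgroup.mem_sInf.2 fun V hV => hV.2
            (Subgroup.commutator_mem_commutator (ih α hα _ ha) (ih α hα _ hb))
      intro x hx
      obtain ⟨z, hz, hzx⟩ := Subgroup.mem_sInf.1 hx W hW
      rw [show x = z from Subtype.ext hzx.symm]
      exact hz
  have hc := stronglyClosed_derivedClosed (E := E) i
  refine ⟨hc.1.trans hT.1, fun R hR φ hφ x => ?_⟩
  obtain ⟨α, hαG, φ₀, hφ₀, hφe⟩ := hfac R (hR.trans hc.1) φ hφ
  have h1 := hc.2 R hR φ₀ hφ₀ x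
  rw [hφe x (hc.1 h1)]
  exact hα α hαG _ h1

omit [Finite S] in
theorem derivedClosed_le_chain {n : ℕ} {C : Fin (n + 1) → Subgroup Ω} (hCn : C (Fin.last n) = T)
    (hCc : ∀ i, E.StronglyClosed (C i)) (hCa : ∀ i : Fin n, ⁅C i.succ, C i.succ⁆ ≤ C (Fin.castSucc i))
    (i : Fin (n + 1)) : derivedClosed E (n - i) ≤ C i := by
  induction i using Fin.reverseInduction with
  | last => rw [Fin.val_last, Nat.sub_self, hCn]; exact le_rfl
  | cast i ih =>
    have hi := i.isLt
    rw [Fin.val_castSucc, show n - (i : ℕ) = n - (i.succ : Fin (n + 1)) + 1 by rw [Fin.val_succ]; omega]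
    exact sInf_le ⟨hCc _, (Subgroup.commutator_mono ih ih).trans (hCa i)⟩

/-- Solvability of an extension. -/
theorem isSolvableSystem_iff_normal (hS : IsPGroup p S) (hF : F.IsSaturated p)
    (hE : E.IsNormalIn F p) {Ω' : Type w'} [Group Ω'] {S' : Subgroup Ω'} {θ : S →* Ω'}
    {D : FusionSystem S'} (hD : F.IsFactorSystem T θ D) :
    F.IsSolvableSystem ↔ E.IsSolvableSystem ∧ D.IsSolvableSystem := by
  obtain ⟨hEsat, -, hinv⟩ := hE.1
  have hT := hinv.2.1
  have := finite_of_le hT.1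
  have hT' : IsPGroup p T := hS.to_le hT.1
  have hS'r := hD.2.2.1
  have hS' : IsPGroup p S' := hS'r ▸ hS.of_surjective θ.rangeRestrict θ.rangeRestrict_surjective
  have : Finite S' := hS'r ▸ Finite.of_surjective θ.rangeRestrict θ.rangeRestrict_surjective
  have hDsat := CfsgLib.Transfer.isSaturated_of_isFactorSystem hS hF hT hD
  have hθ := isSurjectiveMorphism_of_isFactorSystem hS hF hT hD
  constructor
  · intro hsol
    obtain ⟨n, C, hC0, hCn, -, hCc, hCa⟩ :=
      exists_abelian_chain hS hF hsol (stronglyClosed_of_isNormal isNormal_bot)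
    refine ⟨isSolvableSystem_of_chain hT' hEsat (n := n) (T := fun i => C i ⊓ T)
      (by simp [hC0]) (by simp [hCn, hT.1]) (fun i => ⟨inf_le_right, fun R hR φ hφ x => ?_⟩) ?_,
      isSolvableSystem_of_step hS' hDsat fun R' hR' hR'S => ?_⟩
    · exact ⟨(hCc i).2 R (hR.trans inf_le_left) φ (hinv.1 R hφ) x, (E.le_of_mem hφ).2 x⟩
    · intro i
      refine le_inf ((Subgroup.commutator_mono inf_le_left inf_le_left).trans (hCa i)) ?_
      exact Subgroup.commutator_le.2 fun a ha b hb =>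
        T.mul_mem (T.mul_mem (T.mul_mem ha.2 hb.2) (T.inv_mem ha.2)) (T.inv_mem hb.2)
    · have hR := stronglyClosed_preimageAlong hD hθ hR'
      have hRS : preimageAlong θ R' ≠ S := fun h => hR'S (le_antisymm hR'.1 fun y hy => by
        obtain ⟨s, rfl⟩ := hS'r.ge hy
        exact mem_preimageAlong.1 (h.ge s.2))
      obtain ⟨U, hRU, hU, hUU⟩ := exists_abelian_step hS hF hsol hR hRS
      refine ⟨_, stronglyClosed_imageAlong hD hU, fun h => hRU.not_ge fun u hu => ?_,
        Subgroup.commutator_le.2 ?_⟩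
      · exact (mem_preimageAlong (θ := θ) (s := ⟨u, hU.1 hu⟩)).2 (h ⟨_, hu, rfl⟩)
      · rintro _ ⟨a, ha, rfl⟩ _ ⟨b, hb, rfl⟩
        rw [← map_commutatorElement]
        exact mem_preimageAlong.1 (hUU (Subgroup.commutator_mem_commutator ha hb))
  · rintro ⟨hEsol, hDsol⟩
    refine isSolvableSystem_of_step hS hF fun R hR hRS => ?_
    by_cases hTR : T ≤ R
    · have hR' := stronglyClosed_imageAlong hD hR
      have hback : ∀ s : S, θ s ∈ imageAlong θ R → (s : Ω) ∈ R := by
        rintro s ⟨t, ht, hte⟩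
        have h1 : ((t⁻¹ * s : S) : Ω) ∈ R :=
          hTR ((hD.2.1 _).1 (by rw [map_mul, map_inv, hte, inv_mul_cancel]))
        simpa using R.mul_mem ht h1
      have hR'S : imageAlong θ R ≠ S' := fun h => hRS (le_antisymm hR.1 fun s hs =>
        hback ⟨s, hs⟩ (h ▸ hS'r.le ⟨_, rfl⟩))
      obtain ⟨U', hU', hU'c, hU'a⟩ := exists_abelian_step hS' hDsat hDsol hR' hR'S
      refine ⟨_, stronglyClosed_preimageAlong hD hθ hU'c, fun h => hU'.not_ge fun u hu => ?_,
        Subgroup.commutator_le.2 ?_⟩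
      · obtain ⟨s, rfl⟩ := hS'r.ge (hU'c.1 hu)
        exact ⟨s, h (mem_preimageAlong.2 hu), rfl⟩
      · intro a ha b hb
        have haS := preimageAlong_le θ U' ha
        have hbS := preimageAlong_le θ U' hb
        refine hback ⁅(⟨a, haS⟩ : S), (⟨b, hbS⟩ : S)⁆ ?_
        rw [map_commutatorElement]
        exact hU'a (Subgroup.commutator_mem_commutator
          ((mem_preimageAlong (θ := θ) (s := ⟨a, haS⟩)).1 ha)
          ((mem_preimageAlong (θ := θ) (s := ⟨b, hbS⟩)).1 hb))
    · obtain ⟨n, C, hC0, hCn, -, hCc, hCa⟩ :=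
        exists_abelian_chain hT' hEsat hEsol (stronglyClosed_of_isNormal isNormal_bot)
      obtain ⟨i, hi, hi'⟩ : ∃ i, ¬ derivedClosed E i ≤ R ∧ derivedClosed E (i + 1) ≤ R := by
        by_contra hcon
        push Not at hcon
        have hall : ∀ i, ¬ derivedClosed E i ≤ R := fun i => by
          induction i with
          | zero => exact hTR
          | succ i ih => exact hcon i ih
        refine hall n ?_
        have h := derivedClosed_le_chain hCn hCc hCa 0
        rw [Fin.val_zero, Nat.sub_zero, hC0] at h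
        exact h.trans bot_le
      exact ⟨_, stronglyClosed_derivedClosed_of_invariant hinv i, hi,
        le_trans (le_sInf fun V hV => hV.2) hi'⟩

end CfsgLib.Fusion
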