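import Cfsg.Agent.Lib.Fusion.Invariant
import Cfsg.Agent.Lib.Fusion.GroupSystem
import Cfsg.Agent.Lib.Fusion.Inner
import Cfsg.Agent.S5340

/-!
# Groups with a dihedral Sylow 2-subgroup and one class of involutions
-/

set_option autoImplicit false

open Cfsg Cfsg.FusionSystem

namespace CfsgLib.Fusion

/-- `Aut_F(S) = Inn S` when `Aut S` is a `p`-group. -/
theorem autGroup_self_eq_inn_of_pow {Ω : Type*} [Group Ω] {S : Subgroup Ω} {F : FusionSystem S}
    {p : ℕ} [Fact p.Prime] [Finite S] (hS : IsPGroup p S) (hF : F.IsSaturated p)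
    (h : ∀ α : MulAut S, ∃ k : ℕ, α ^ p ^ k = 1) : F.autGroup S = Cfsg.Inn S := by
  obtain ⟨ha, -⟩ := fullyAutomized_receptive_of_fullyNormalized hS hF
    (isFullyNormalized_self (F := F))
  obtain ⟨-, hi⟩ := (isFullyAutomized_iff hS).1 ha
  rw [inn_eq]
  refine (eq_of_le_of_not_dvd (R := F.autGroup S) ?_ (autInducedBy_le_autGroup le_rfl) le_rfl hi).symm
  intro α
  obtain ⟨k, hk⟩ := h α
  exact ⟨k, Subtype.ext hk⟩

variable {G : Type*} [Group G] [Finite G]

/-- The data of a dihedral 2-group of order `2^(m+1)`. -/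
structure DihedralData (a t : G) (m : ℕ) : Prop where
  two_le : 2 ≤ m
  order : orderOf a = 2 ^ m
  sq : t * t = 1
  inv : t * a * t⁻¹ = a⁻¹
  not_mem : t ∉ Subgroup.zpowers a

namespace DihedralData

variable {a t : G} {m : ℕ}

theorem conj_zpowers (h : DihedralData a t m) {x : G} (hx : x ∈ Subgroup.zpowers a) :
    t * x * t⁻¹ = x⁻¹ := by
  obtain ⟨i, rfl⟩ := Subgroup.mem_zpowers_iff.1 hx
  rw [← conj_zpow, h.inv, inv_zpow]

theorem mem_iff (h : DihedralData a t m) {x : G} :
    x ∈ Subgroup.closure {a, t} ↔ x ∈ Subgroup.zpowers a ∨ t * x ∈ Subgroup.zpowers a := by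
  have ha : a ∈ Subgroup.closure {a, t} := Subgroup.subset_closure (Set.mem_insert a {t})
  have ht : t ∈ Subgroup.closure {a, t} := Subgroup.subset_closure (Set.mem_insert_of_mem a rfl)
  constructor
  · intro hx
    induction hx using Subgroup.closure_induction with
    | mem y hy =>
      rcases hy with rfl | rfl
      · exact Or.inl (Subgroup.mem_zpowers _)
      · exact Or.inr (by rw [h.sq]; exact one_mem _)
    | one => exact Or.inl (one_mem _)
    | mul x y _ _ hx hy =>
      rcases hx with hx | hx <;> rcases hy with hy | hy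
      · exact Or.inl (mul_mem hx hy)
      · refine Or.inr ?_
        have h1 := mul_mem (inv_mem hx) hy
        rwa [← h.conj_zpowers hx, show t * x * t⁻¹ * (t * y) = t * (x * y) by group] at h1
      · refine Or.inr ?_
        rw [← mul_assoc]
        exact mul_mem hx hy
      · refine Or.inl ?_
        have h1 := mul_mem (inv_mem hx) hy
        rw [← h.conj_zpowers hx] at h1
        rwa [show t * (t * x) * t⁻¹ * (t * y) = (t * t) * (x * y) by group, h.sq, one_mul] at h1
    | inv x _ hx =>
      rcases hx with hx | hx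
      · exact Or.inl (inv_mem hx)
      · refine Or.inr ?_
        have h1 := h.conj_zpowers (inv_mem hx)
        rw [inv_inv] at h1
        have h2 : t * x⁻¹ = t * x := by
          rw [← h1, mul_inv_rev, inv_eq_of_mul_eq_one_right h.sq]
          rw [mul_assoc t (x⁻¹ * t) t, mul_assoc, h.sq, mul_one]
        rwa [h2]
  · rintro (hx | hx)
    · exact Subgroup.zpowers_le.2 ha hx
    · have h1 := mul_mem (inv_mem ht) (Subgroup.zpowers_le.2 ha hx)
      rwa [inv_mul_cancel_left] at h1

theorem sq_eq_one (h : DihedralData a t m) {x : G} (hx : t * x ∈ Subgroup.zpowers a) :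
    x * x = 1 := by
  have h1 := h.conj_zpowers hx
  rw [mul_inv_rev, inv_eq_of_mul_eq_one_right h.sq] at h1
  rw [← mul_assoc t t x, h.sq, one_mul] at h1
  have h2 : x = x⁻¹ := mul_right_cancel h1
  conv_lhs => arg 2; rw [h2]
  exact mul_inv_cancel x

theorem not_mem' (h : DihedralData a t m) {x : G} (hx : t * x ∈ Subgroup.zpowers a) :
    x ∉ Subgroup.zpowers a := fun h1 => h.not_mem (by
      have := mul_mem hx (inv_mem h1)
      rwa [mul_inv_cancel_right] at this)

theorem card (h : DihedralData a t m) : Nat.card (Subgroup.closure {a, t}) = 2 ^ (m + 1) := by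
  have hf : Function.Bijective (fun u : Subgroup.zpowers a ⊕ Subgroup.zpowers a =>
      (Sum.elim (fun x => (⟨x.1, h.mem_iff.2 (Or.inl x.2)⟩ : Subgroup.closure {a, t}))
        (fun x => ⟨t * x.1, h.mem_iff.2 (Or.inr (by
          rw [← mul_assoc, h.sq, one_mul]; exact x.2))⟩) u)) := by
    constructor
    · rintro (x | x) (y | y) hxy <;> have h' := congrArg Subtype.val hxy <;>
        simp only [Sum.elim_inl, Sum.elim_inr] at h'
      · exact congrArg Sum.inl (Subtype.ext h')
      · exact absurd (eq_mul_inv_of_mul_eq h'.symm ▸ mul_mem x.2 (inv_mem y.2)) h.not_mem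
      · exact absurd (eq_mul_inv_of_mul_eq h' ▸ mul_mem y.2 (inv_mem x.2)) h.not_mem
      · exact congrArg Sum.inr (Subtype.ext (mul_left_cancel h'))
    · rintro ⟨x, hx⟩
      rcases h.mem_iff.1 hx with hx | hx
      · exact ⟨Sum.inl ⟨x, hx⟩, rfl⟩
      · exact ⟨Sum.inr ⟨t * x, hx⟩, Subtype.ext (by simp [← mul_assoc, h.sq])⟩
  rw [← Nat.card_eq_of_bijective _ hf, Nat.card_sum, Nat.card_zpowers, h.order, pow_succ]
  ring

theorem generated (h : DihedralData a t m) :
    Subgroup.closure {x : G | x ∈ Subgroup.closure {a, t} ∧ orderOf x = 2} =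
      Subgroup.closure {a, t} := by
  refine le_antisymm ((Subgroup.closure_le _).2 fun x hx => hx.1) ?_
  set C := Subgroup.closure {x : G | x ∈ Subgroup.closure {a, t} ∧ orderOf x = 2}
  have hinvo : ∀ x, t * x ∈ Subgroup.zpowers a → x ∈ C := fun x hx =>
    Subgroup.subset_closure ⟨h.mem_iff.2 (Or.inr hx), orderOf_eq_prime (by rw [pow_two]; exact h.sq_eq_one hx)
      fun h1 => h.not_mem' hx (h1 ▸ one_mem _)⟩
  have ht : t ∈ C := hinvo t (by rw [h.sq]; exact one_mem _)
  have hta : t * a ∈ C := hinvo _ (by rw [← mul_assoc, h.sq, one_mul]; exact Subgroup.mem_zpowers a)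
  rw [Subgroup.closure_le]
  rintro x (rfl | rfl)
  · have := mul_mem ht hta
    rwa [← mul_assoc, h.sq, one_mul] at this
  · exact ht

/-- The automorphism group of a dihedral 2-group of order at least 8 is a 2-group. -/
theorem aut_pow (h : DihedralData a t m) (α : MulAut (Subgroup.closure {a, t})) :
    ∃ k : ℕ, α ^ 2 ^ k = 1 := by
  classical
  let A : Subgroup.closure {a, t} := ⟨a, h.mem_iff.2 (Or.inl (Subgroup.mem_zpowers a))⟩
  let T : Subgroup.closure {a, t} :=
    ⟨t, h.mem_iff.2 (Or.inr (by rw [h.sq]; exact one_mem _))⟩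
  have hA : orderOf A = 2 ^ m := by rw [← Subgroup.orderOf_coe]; exact h.order
  -- every automorphism maps `A` to a power of `A`
  have himg : ∀ β : MulAut (Subgroup.closure {a, t}), ∃ i : ℕ, β A = A ^ i := by
    intro β
    rcases h.mem_iff.1 (β A).2 with h1 | h1
    · obtain ⟨i, hi⟩ := Subgroup.mem_zpowers_iff.1 h1
      have h2 : β A ∈ Subgroup.zpowers A :=
        Subgroup.mem_zpowers_iff.2 ⟨i, Subtype.ext (by simpa [A] using hi)⟩
      obtain ⟨j, -, hj⟩ := Finset.mem_image.1 ((mem_zpowers_iff_mem_range_orderOf).1 h2)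
      exact ⟨j, hj.symm⟩
    · exfalso
      have h2 : orderOf (β A) ∣ 2 := orderOf_dvd_of_pow_eq_one (Subtype.ext (by
        simpa [pow_two] using h.sq_eq_one h1))
      rw [MulEquiv.orderOf_eq β A, hA] at h2
      have := Nat.le_of_dvd two_pos h2
      have : 2 ^ 2 ≤ 2 ^ m := Nat.pow_le_pow_right two_pos h.two_le
      omega
  choose f hf using himg
  -- the action on the cyclic subgroup
  have hcop : ∀ β, Nat.Coprime (f β) (2 ^ m) := by
    intro β
    have h1 : orderOf (A ^ f β) = 2 ^ m := by rw [← hf β, MulEquiv.orderOf_eq β A, hA]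
    rw [orderOf_pow, hA] at h1
    have h2 : Nat.gcd (2 ^ m) (f β) = 1 := by
      have hd := Nat.gcd_dvd_left (2 ^ m) (f β)
      rcases Nat.div_eq_self.1 h1 with h3 | h3
      · exact absurd h3 (by positivity)
      · exact h3
    rwa [Nat.gcd_comm] at h2
  have hpw : ∀ β (n : ℕ), (β ^ n) A = A ^ (f β ^ n) := by
    intro β n
    induction n with
    | zero => simp
    | succ n ih =>
      rw [pow_succ', MulAut.mul_apply, ih, map_pow, hf β, ← pow_mul, ← pow_succ']
  set β := α ^ Nat.totient (2 ^ m) with hβ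
  have hβA : β A = A := by
    rw [hβ, hpw]
    have h1 : f α ^ Nat.totient (2 ^ m) ≡ 1 [MOD orderOf A] := by
      rw [hA]; exact Nat.ModEq.pow_totient (hcop α)
    rw [pow_eq_pow_iff_modEq.2 h1, pow_one]
  -- `T ↦ T * A^i`
  obtain ⟨i, hi⟩ : ∃ i : ℤ, β T = T * A ^ i := by
    rcases h.mem_iff.1 (β T).2 with h1 | h1
    · exfalso
      obtain ⟨i, hi⟩ := Subgroup.mem_zpowers_iff.1 h1
      have h2 : β T = β (A ^ i) := by
        rw [map_zpow, hβA]
        exact Subtype.ext (by simpa [A] using hi.symm)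
      exact h.not_mem (Subgroup.mem_zpowers_iff.2 ⟨i, by
        simpa [A, T] using (congrArg Subtype.val (β.injective h2)).symm⟩)
    · obtain ⟨i, hi⟩ := Subgroup.mem_zpowers_iff.1 h1
      refine ⟨i, Subtype.ext ?_⟩
      simp only [Subgroup.coe_mul, SubgroupClass.coe_zpow, T, A]
      rw [hi, ← mul_assoc]
      exact ((congrArg (· * _) h.sq).trans (one_mul _)).symm
  have hpT : ∀ n : ℕ, (β ^ n) A = A ∧ (β ^ n) T = T * A ^ (i * n) := by
    intro n
    induction n with
    | zero => simp
    | succ n ih =>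
      refine ⟨by rw [pow_succ', MulAut.mul_apply, ih.1, hβA], ?_⟩
      rw [pow_succ', MulAut.mul_apply, ih.2, map_mul, map_zpow, hi, hβA, mul_assoc, ← zpow_add]
      push_cast
      ring_nf
  have hone : β ^ 2 ^ m = 1 := by
    obtain ⟨h1, h2⟩ := hpT (2 ^ m)
    have h3 : A ^ (i * ((2 ^ m : ℕ) : ℤ)) = 1 := by
      rw [mul_comm, zpow_mul, zpow_natCast, ← hA, pow_orderOf_eq_one, one_zpow]
    rw [h3, mul_one] at h2
    refine MulEquiv.ext fun x => ?_
    have hle : Subgroup.closure {A, T} ≤ MonoidHom.eqLocus (β ^ 2 ^ m).toMonoidHom (MonoidHom.id _) := by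
      rw [Subgroup.closure_le]
      rintro y (rfl | rfl)
      · exact h1
      · exact h2
    have htop : Subgroup.closure {A, T} = ⊤ := by
      refine Subgroup.map_injective (Subgroup.subtype_injective _) ?_
      rw [MonoidHom.map_closure, ← MonoidHom.range_eq_map, Subgroup.range_subtype, Set.image_pair]
      rfl
    exact hle (htop.ge (Subgroup.mem_top x))
  rw [hβ, ← pow_mul] at hone
  have hm : 1 ≤ m := le_trans one_le_two h.two_le
  rw [Nat.totient_prime_pow Nat.prime_two hm, Nat.add_one_sub_one, mul_one, ← pow_add] at hone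
  exact ⟨_, hone⟩

theorem conjData (h : DihedralData a t m) (k : G) :
    DihedralData (k * a * k⁻¹) (k * t * k⁻¹) m := by
  refine ⟨h.two_le, ?_, ?_, ?_, ?_⟩
  · exact (MulEquiv.orderOf_eq (MulAut.conj k) a).trans h.order
  · rw [show k * t * k⁻¹ * (k * t * k⁻¹) = k * (t * t) * k⁻¹ by group, h.sq]
    group
  · have := congrArg (fun x => k * x * k⁻¹) h.inv
    beta_reduce at this
    rw [show k * t * k⁻¹ * (k * a * k⁻¹) * (k * t * k⁻¹)⁻¹ = k * (t * a * t⁻¹) * k⁻¹ by group,
      this]
    group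
  · intro hx
    obtain ⟨i, hi⟩ := Subgroup.mem_zpowers_iff.1 hx
    rw [conj_zpow] at hi
    exact h.not_mem (Subgroup.mem_zpowers_iff.2 ⟨i, by simpa using hi⟩)

/-- One class of involutions and dihedral Sylow 2-subgroups: the fusion system is simple. -/
theorem isSimple (h : DihedralData a t m)
    (hclass : ∀ x y : G, orderOf x = 2 → orderOf y = 2 → IsConj x y)
    (hi : ¬ 2 ∣ (Subgroup.closure {a, t}).index) (S : Sylow 2 G) :
    (groupFusionSystem (S : Subgroup G)).IsSimple 2 := by
  have hp : IsPGroup 2 (Subgroup.closure {a, t}) := IsPGroup.of_card h.card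
  obtain ⟨k, hk⟩ := MulAction.exists_smul_eq G (hp.toSylow hi) S
  have hd := h.conjData k
  have hS : (S : Subgroup G) = Subgroup.closure {k * a * k⁻¹, k * t * k⁻¹} := by
    rw [← hk]
    change (Subgroup.closure {a, t}).map (MulAut.conj k).toMonoidHom = _
    rw [MonoidHom.map_closure, Set.image_pair]
    rfl
  have hne : (S : Subgroup G) ≠ ⊥ := by
    intro h1
    have := hd.card
    rw [← hS, h1, Subgroup.card_bot] at this
    exact absurd this (Nat.one_lt_two_pow (by omega)).ne
  refine Cfsg.Agent.S5340.result 2 S.2 _ (isSaturated_groupFusion S) hne ?_ ?_ ?_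
  · rw [hS]
    exact hd.generated
  · intro A B hA hB hAc hBc
    obtain ⟨x, hx, hxA⟩ : ∃ x, orderOf x = 2 ∧ Subgroup.zpowers x = A := by
      obtain ⟨x, hxA, hx1⟩ := (Subgroup.bot_or_exists_ne_one A).resolve_left fun h1 => by
        rw [h1, Subgroup.card_bot] at hAc; omega
      have hxo : orderOf x = 2 := by
        have h1 : orderOf (⟨x, hxA⟩ : A) ∣ 2 := hAc ▸ orderOf_dvd_natCard _
        rw [Subgroup.orderOf_mk] at h1
        exact ((Nat.dvd_prime Nat.prime_two).1 h1).resolve_left (by simpa using hx1)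
      exact ⟨x, hxo, Subgroup.eq_of_le_of_card_ge (Subgroup.zpowers_le.2 hxA)
        (by rw [Nat.card_zpowers, hxo, hAc])⟩
    obtain ⟨y, hy, hyB⟩ : ∃ y, orderOf y = 2 ∧ Subgroup.zpowers y = B := by
      obtain ⟨x, hxA, hx1⟩ := (Subgroup.bot_or_exists_ne_one B).resolve_left fun h1 => by
        rw [h1, Subgroup.card_bot] at hBc; omega
      have hxo : orderOf x = 2 := by
        have h1 : orderOf (⟨x, hxA⟩ : B) ∣ 2 := hBc ▸ orderOf_dvd_natCard _
        rw [Subgroup.orderOf_mk] at h1
        exact ((Nat.dvd_prime Nat.prime_two).1 h1).resolve_left (by simpa using hx1)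
      exact ⟨x, hxo, Subgroup.eq_of_le_of_card_ge (Subgroup.zpowers_le.2 hxA)
        (by rw [Nat.card_zpowers, hxo, hBc])⟩
    obtain ⟨g, hg⟩ := _root_.isConj_iff.1 (hclass x y hx hy)
    refine isConj_groupFusion_iff.2 ⟨hA, hB, g, ?_⟩
    rw [← hxA, ← hyB, ← hg]
    exact MonoidHom.map_zpowers _ _
  · have : Finite (S : Subgroup G) := inferInstance
    refine autGroup_self_eq_inn_of_pow S.2 (isSaturated_groupFusion S) fun α => ?_
    revert α
    rw [hS]
    exact fun α => hd.aut_pow α

end DihedralData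

end CfsgLib.Fusion
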