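import Cfsg.Agent.Lib.Fusion.NormalCentralizer

/-!
# Saturated systems on a direct product of two strongly closed subgroups
-/

set_option autoImplicit false

open Cfsg Cfsg.FusionSystem

namespace CfsgLib.Fusion.DirectFactor

variable {Ω : Type*} [Group Ω] {S S₁ S₂ : Subgroup Ω} {F : FusionSystem S}

/-- The standing hypotheses. -/
structure Setting (F : FusionSystem S) (S₁ S₂ : Subgroup Ω) : Prop where
  prod : Cfsg.IsInternalDirectProduct S₁ S₂ S
  h₁ : F.StronglyClosed S₁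
  h₂ : F.StronglyClosed S₂

variable (D : Setting F S₁ S₂)
include D

theorem left_le : S₁ ≤ S := D.prod.1

theorem right_le : S₂ ≤ S := D.prod.2.1

theorem comm {a b : Ω} (ha : a ∈ S₁) (hb : b ∈ S₂) : a * b = b * a := D.prod.2.2.1 a ha b hb

theorem exists_mul {g : Ω} (hg : g ∈ S) : ∃ a ∈ S₁, ∃ b ∈ S₂, g = a * b := by
  have h : g ∈ (↑(S₁ ⊔ S₂) : Set Ω) := by rw [D.prod.2.2.2.2]; exact hg
  rw [Subgroup.coe_mul_of_right_le_normalizer_left S₁ S₂ fun b hb =>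
    mem_normalizer_of_forall_commute fun a ha => comm D ha hb] at h
  obtain ⟨a, ha, b, hb, rfl⟩ := h
  exact ⟨a, ha, b, hb, rfl⟩

theorem eq_one_of_mem {b : Ω} (ha : b ∈ S₁) (hb : b ∈ S₂) : b = 1 := by
  have h : b ∈ S₁ ⊓ S₂ := ⟨ha, hb⟩
  rwa [D.prod.2.2.2.1, Subgroup.mem_bot] at h

theorem left_le_centralizerIn : S₁ ≤ centralizerIn S S₂ :=
  fun a ha => ⟨left_le D ha, fun b hb => (comm D ha hb).symm⟩

theorem right_le_centralizerIn {P : Subgroup Ω} (hP : P ≤ S₁) : S₂ ≤ centralizerIn S P :=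
  fun b hb => ⟨right_le D hb, fun a ha => comm D (hP ha) hb⟩

/-- An element of `S₁` in `P ⊔ S₂`, with `P ≤ S₁`, lies in `P`. -/
theorem mem_of_mem_sup {P : Subgroup Ω} (hP : P ≤ S₁) {x : Ω} (hx : x ∈ P ⊔ S₂) (hx₁ : x ∈ S₁) :
    x ∈ P := by
  have h : x ∈ (↑(P ⊔ S₂) : Set Ω) := hx
  rw [Subgroup.coe_mul_of_right_le_normalizer_left P S₂ fun b hb =>
    mem_normalizer_of_forall_commute fun a ha => comm D (hP ha) hb] at h
  obtain ⟨q, hq, b, hb, rfl⟩ := h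
  have : b = 1 := eq_one_of_mem D (by
    have := S₁.mul_mem (S₁.inv_mem (hP hq)) hx₁
    rwa [inv_mul_cancel_left] at this) hb
  rw [this]
  simpa using hq

theorem img_left [Finite S] {M : Subgroup Ω} {ψ : M →* Ω} (hψ : ψ ∈ F.Hom M) (h : S₁ ≤ M) :
    img ψ S₁ = S₁ := img_stronglyClosed_eq D.h₁ hψ h

theorem img_right [Finite S] {M : Subgroup Ω} {ψ : M →* Ω} (hψ : ψ ∈ F.Hom M) (h : S₂ ≤ M) :
    img ψ S₂ = S₂ := img_stronglyClosed_eq D.h₂ hψ h

theorem range_mem {P : Subgroup Ω} (hP : P ≤ S₁) {φ : P →* Ω} (hφ : φ ∈ F.Hom P) (x : P) :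
    φ x ∈ S₁ := D.h₁.2 P hP φ hφ x

theorem range_le {P : Subgroup Ω} (hP : P ≤ S₁) {φ : P →* Ω} (hφ : φ ∈ F.Hom P) : φ.range ≤ S₁ := by
  rintro _ ⟨x, rfl⟩
  exact range_mem D hP hφ x

theorem conj_le {P Q : Subgroup Ω} (hP : P ≤ S₁) (h : F.IsConj P Q) : Q ≤ S₁ := by
  obtain ⟨φ, hφ, rfl⟩ := h
  exact range_le D hP hφ

variable [Finite S] {p : ℕ} [Fact p.Prime]

/-- A map onto a fully normalized subgroup extends to the sum with `S₂`. -/
theorem exists_ext_to (hS : IsPGroup p S) (hF : F.IsSaturated p) {P Q : Subgroup Ω} (hP : P ≤ S₁)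
    (hQ : F.IsFullyNormalized Q) {e : P ≃* Q} (he : IsIso F e) :
    ∃ f : ↥(P ⊔ S₂) ≃* ↥(Q ⊔ S₂), IsIso F f ∧
      ∀ x : P, (f (Subgroup.inclusion le_sup_left x) : Ω) = e x := by
  obtain ⟨ψ, hψ, hψe⟩ := exists_extension (fullyAutomized_receptive_of_fullyNormalized hS hF hQ).2
    he (le_sup_left (b := S₂))
    (sup_le (le_extender he) ((right_le_centralizerIn D hP).trans (centralizerIn_le_extender _ _)))
  have hr : ψ.range = Q ⊔ S₂ := by
    rw [range_ext_eq (φ := Q.subtype.comp e.toMonoidHom) hψe, range_subtype_comp,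
      img_right D hψ le_sup_right]
  obtain ⟨f, hf, hfe⟩ := exists_iso_of_range hψ hr
  exact ⟨f, hf, fun x => (hfe _).trans (hψe x)⟩

/-- Every map between subgroups of `S₁` extends to the sum with `S₂`. -/
theorem exists_ext (hS : IsPGroup p S) (hF : F.IsSaturated p) {P : Subgroup Ω} (hP : P ≤ S₁)
    {φ : P →* Ω} (hφ : φ ∈ F.Hom P) :
    ∃ ψ ∈ F.Hom (P ⊔ S₂), ∀ x : P, ψ (Subgroup.inclusion le_sup_left x) = φ x := by
  obtain ⟨Q, hPQ, hQ⟩ := exists_fullyNormalized F (hP.trans (left_le D))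
  obtain ⟨e, he⟩ := isConj_iff.1 hPQ
  obtain ⟨i, hi, hie⟩ := exists_iso_of_mem hφ
  obtain ⟨f₁, hf₁, hf₁e⟩ := exists_ext_to D hS hF hP hQ he
  obtain ⟨f₂, hf₂, hf₂e⟩ := exists_ext_to D hS hF (range_le D hP hφ) hQ (hi.symm.trans he)
  refine ⟨_, hf₁.trans hf₂.symm, fun x => ?_⟩
  change (f₂.symm (f₁ (Subgroup.inclusion le_sup_left x)) : Ω) = φ x
  have h : f₁ (Subgroup.inclusion le_sup_left x) = f₂ (Subgroup.inclusion le_sup_left (i x)) :=
    Subtype.ext (by rw [hf₁e, hf₂e]; simp)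
  rw [h, MulEquiv.symm_apply_apply]
  exact hie x

/-- The action on `S₂` of a map extends to `S`. -/
theorem exists_global (hS : IsPGroup p S) (hF : F.IsSaturated p) {P : Subgroup Ω}
    {ψ : ↥(P ⊔ S₂) →* Ω} (hψ : ψ ∈ F.Hom (P ⊔ S₂)) :
    ∃ A : S ≃* S, IsIso F A ∧
      ∀ (y : Ω) (hy : y ∈ S₂), (A ⟨y, right_le D hy⟩ : Ω) = ψ ⟨y, Subgroup.mem_sup_right hy⟩ := by
  have h2 := right_le D
  obtain ⟨b, hb, hbe⟩ := exists_iso_of_range (res_mem F hψ (le_sup_right : S₂ ≤ P ⊔ S₂))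
    ((range_comp_inclusion _ _).trans (img_right D hψ le_sup_right))
  have hrec : F.IsReceptive S₂ :=
    receptive_of_fullyCentralized hS hF (isFullyCentralized_of_stronglyClosed D.h₂)
  have hM : S ≤ extender S S₂ (S₂.subtype.comp b.toMonoidHom) := by
    intro g hg
    obtain ⟨a, ha, c, hc, rfl⟩ := exists_mul D hg
    have hconj : ∀ x ∈ S₂, a * c * x * (a * c)⁻¹ = c * x * c⁻¹ := by
      intro x hx
      have := comm D ha (S₂.mul_mem (S₂.mul_mem hc hx) (S₂.inv_mem hc))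
      calc a * c * x * (a * c)⁻¹ = a * (c * x * c⁻¹) * a⁻¹ := by group
        _ = c * x * c⁻¹ := by rw [this, mul_inv_cancel_right]
    have := finite_of_le h2
    have hn : a * c ∈ Subgroup.normalizer (S₂ : Set Ω) := mem_normalizer_of_forall fun x hx => by
      rw [hconj x hx]
      exact S₂.mul_mem (S₂.mul_mem hc hx) (S₂.inv_mem hc)
    refine mem_extender_iff.2 ⟨hg, hn, b ⟨c, hc⟩, h2 (b _).2, fun x => ?_⟩
    have hx : normAut (a * c) hn x = ⟨c, hc⟩ * x * (⟨c, hc⟩ : S₂)⁻¹ :=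
      Subtype.ext (by rw [normAut_apply, hconj x x.2]; rfl)
    rw [hx]
    simp
  obtain ⟨g, hg, hge⟩ := exists_extension hrec hb h2 hM
  have hr : g.range = S := by
    refine Subgroup.eq_of_le_of_card_ge (range_le_S F hg) ?_
    exact (Nat.card_congr (MonoidHom.ofInjective (F.injective_of_mem hg)).toEquiv).le
  obtain ⟨A, hA, hAe⟩ := exists_iso_of_range hg hr
  exact ⟨A, hA, fun y hy => (hAe _).trans ((hge ⟨y, hy⟩).trans (hbe _))⟩

omit [Fact p.Prime] in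
/-- The restriction to `S₁` of an automorphism of the system on `S`. -/
theorem exists_restrict {A : S ≃* S} (hA : IsIso F A) :
    ∃ α ∈ F.autGroup S₁, ∀ (x : Ω) (hx : x ∈ S₁),
      ((α ⟨x, hx⟩ : S₁) : Ω) = A ⟨x, left_le D hx⟩ := by
  obtain ⟨α, hα, hαe⟩ := exists_iso_of_range (res_mem F hA (left_le D))
    ((range_comp_inclusion _ _).trans (img_left D hA.mem (left_le D)))
  exact ⟨α, (mem_autGroup_iff F (left_le D)).2 hα, fun x hx => hαe ⟨x, hx⟩⟩

/-- An automorphism of `S₁` in the system extends to `S`. -/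
theorem exists_lift (hS : IsPGroup p S) (hF : F.IsSaturated p) {α : MulAut S₁}
    (hα : α ∈ F.autGroup S₁) :
    ∃ A : S ≃* S, IsIso F A ∧ ∀ (x : Ω) (hx : x ∈ S₁),
      (A ⟨x, left_le D hx⟩ : Ω) = ((α ⟨x, hx⟩ : S₁) : Ω) := by
  obtain ⟨ψ, hψ, hψe⟩ := exists_ext D hS hF le_rfl ((mem_autGroup_iff F (left_le D)).1 hα).mem
  have e : S₁ ⊔ S₂ = S := D.prod.2.2.2.2
  have hg : ψ.comp (Subgroup.inclusion e.ge) ∈ F.Hom S := res_mem F hψ e.ge
  have hr : (ψ.comp (Subgroup.inclusion e.ge)).range = S := by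
    refine Subgroup.eq_of_le_of_card_ge (range_le_S F hg) ?_
    exact (Nat.card_congr (MonoidHom.ofInjective (F.injective_of_mem hg)).toEquiv).le
  obtain ⟨A, hA, hAe⟩ := exists_iso_of_range hg hr
  exact ⟨A, hA, fun x hx => (hAe _).trans (hψe ⟨x, hx⟩)⟩

/-- Frattini: every map is an automorphism of `S₁` following one centralizing `S₂`. -/
theorem frattini (hS : IsPGroup p S) (hF : F.IsSaturated p) {P : Subgroup Ω} (hP : P ≤ S₁)
    {φ : P →* Ω} (hφ : φ ∈ F.Hom P) :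
    ∃ A : S ≃* S, IsIso F A ∧ ∃ φ₀ ∈ F.centralizerHom S₂ P,
      ∀ (x : P) (hx : φ₀ x ∈ S), φ x = (A ⟨φ₀ x, hx⟩ : Ω) := by
  obtain ⟨ψ, hψ, hψe⟩ := exists_ext D hS hF hP hφ
  obtain ⟨A, hA, hAe⟩ := exists_global D hS hF hψ
  set g := (S.subtype.comp A.symm.toMonoidHom).comp (ψ.codRestrict S (apply_mem_S F hψ)) with hg
  have hgF : g ∈ F.Hom (P ⊔ S₂) := F.comp_mem hψ hA.symm.mem _
  have hφ₀ : g.comp (Subgroup.inclusion le_sup_left) ∈ F.Hom P := res_mem F hgF le_sup_left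
  refine ⟨A, hA, _, ⟨hφ₀, hP.trans (left_le_centralizerIn D), fun x =>
    left_le_centralizerIn D (range_mem D hP hφ₀ x), g, hgF, fun x => rfl, fun y => ?_⟩,
    fun x hx => ?_⟩
  · change (A.symm ⟨ψ (Subgroup.inclusion le_sup_right y), _⟩ : Ω) = y
    have h : A ⟨y, right_le D y.2⟩ =
        ⟨ψ (Subgroup.inclusion le_sup_right y), apply_mem_S F hψ _⟩ := Subtype.ext (hAe y y.2)
    rw [← h, MulEquiv.symm_apply_apply]
  · have h : (⟨g (Subgroup.inclusion le_sup_left x), hx⟩ : S) =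
        A.symm ⟨ψ (Subgroup.inclusion le_sup_left x), apply_mem_S F hψ _⟩ := Subtype.ext rfl
    change φ x = (A ⟨g (Subgroup.inclusion le_sup_left x), hx⟩ : Ω)
    rw [h, MulEquiv.apply_symm_apply]
    exact (hψe x).symm

omit [Fact p.Prime] in
/-- Transport along an automorphism of `S`. -/
theorem exists_transport {A : S ≃* S} (hA : IsIso F A) {P : Subgroup Ω} {φ : P →* Ω}
    (hφ : φ ∈ F.Hom P) {P' : Subgroup Ω} (hP' : P' ≤ S)
    (hback : ∀ x : P', (A.symm ⟨x, hP' x.2⟩ : Ω) ∈ P) :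
    ∃ χ ∈ F.Hom P', ∀ (x : P) (h : (A ⟨x, le_S F hφ x.2⟩ : Ω) ∈ P'),
      χ ⟨_, h⟩ = (A ⟨φ x, apply_mem_S F hφ x⟩ : Ω) := by
  have h1 := F.comp_mem (res_mem F hA.symm.mem hP') hφ hback
  refine ⟨_, F.comp_mem h1 hA.mem (apply_mem_S F h1), fun x h => ?_⟩
  refine congrArg (fun z : S => (A z : Ω)) (Subtype.ext (congrArg φ (Subtype.ext ?_)))
  change (A.symm (A ⟨x, le_S F hφ x.2⟩) : Ω) = x
  rw [MulEquiv.symm_apply_apply]

/-- Invariance of the maps centralizing `S₂`. -/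
theorem transport_centralizerHom {A : S ≃* S} (hA : IsIso F A) {P : Subgroup Ω} (hP : P ≤ S₁)
    {φ : P →* Ω} (hφ : φ ∈ F.centralizerHom S₂ P) {P' : Subgroup Ω} (hP' : P' ≤ S₁)
    (hback : ∀ x : P', (A.symm ⟨x, left_le D (hP' x.2)⟩ : Ω) ∈ P) :
    ∃ χ ∈ F.centralizerHom S₂ P',
      ∀ (x : P) (h : (A ⟨x, left_le D (hP x.2)⟩ : Ω) ∈ P') (hx : φ x ∈ S),
        χ ⟨_, h⟩ = (A ⟨φ x, hx⟩ : Ω) := by
  obtain ⟨-, -, -, ψ, hψ, hψe, hψf⟩ := hφ
  have hle : P' ⊔ S₂ ≤ S := sup_le (hP'.trans (left_le D)) (right_le D)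
  have hres := res_mem F hA.symm.mem hle
  have hS₂ := img_right D hres (le_sup_right (a := P'))
  have hback' : ∀ x : ↥(P' ⊔ S₂), (A.symm ⟨x, hle x.2⟩ : Ω) ∈ P ⊔ S₂ := fun x =>
    apply_mem_sup (φ := ((S.subtype.comp A.symm.toMonoidHom).comp (Subgroup.inclusion hle)).comp
      (Subgroup.inclusion le_sup_left)) (fun _ => rfl) hback hS₂.le x
  obtain ⟨χ, hχ, hχe⟩ := exists_transport D hA hψ hle hback'
  have hχ' : χ.comp (Subgroup.inclusion le_sup_left) ∈ F.Hom P' := res_mem F hχ le_sup_left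
  refine ⟨_, ⟨hχ', hP'.trans (left_le_centralizerIn D), fun x =>
    left_le_centralizerIn D (range_mem D hP' hχ' x), χ, hχ, fun x => rfl, fun y => ?_⟩,
    fun x h hx => ?_⟩
  · have hy : (A.symm ⟨y, right_le D y.2⟩ : Ω) ∈ S₂ :=
      hS₂.le (mem_img.2 ⟨⟨y, Subgroup.mem_sup_right y.2⟩, y.2, rfl⟩)
    have h' : (A ⟨_, le_S F hψ (Subgroup.mem_sup_right hy)⟩ : Ω) = y := by simp
    have := hχe ⟨_, Subgroup.mem_sup_right hy⟩ (by rw [h']; exact Subgroup.mem_sup_right y.2)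
    simp only [h'] at this
    refine this.trans ?_
    refine Eq.trans (congrArg (fun z : S => (A z : Ω)) (Subtype.ext ?_)) h'
    exact hψf ⟨_, hy⟩
  · refine Eq.trans (hχe (Subgroup.inclusion le_sup_left x) _) ?_
    exact congrArg (fun z : S => (A z : Ω)) (Subtype.ext (hψe x))

omit [Fact p.Prime] in
theorem autInducedBy_eq {Q : Subgroup Ω} (hQ : Q ≤ S₁) :
    autInducedBy S Q = autInducedBy S₁ Q := by
  refine le_antisymm (fun α hα => ?_) (autInducedBy_mono (left_le D))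
  obtain ⟨g, hg, h⟩ := mem_autInducedBy_iff.1 hα
  obtain ⟨a, ha, c, hc, rfl⟩ := exists_mul D hg
  refine mem_autInducedBy_iff.2 ⟨a, ha, fun x => ?_⟩
  rw [h x]
  calc a * c * x * (a * c)⁻¹ = a * (c * x * c⁻¹) * a⁻¹ := by group
    _ = _ := by rw [← comm D (hQ x.2) hc, mul_inv_cancel_right]

omit [Fact p.Prime] in
theorem normalizerIn_sup {Q : Subgroup Ω} (hQ : Q ≤ S₁) :
    normalizerIn S (Q ⊔ S₂) = normalizerIn S Q := by
  have := finite_of_le (hQ.trans (left_le D))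
  have := finite_of_le (sup_le (hQ.trans (left_le D)) (right_le D))
  ext g
  constructor
  · rintro ⟨hgS, hg⟩
    refine ⟨hgS, mem_normalizer_of_forall fun x hx => mem_of_mem_sup D hQ
      (conj_mem_of_mem_normalizer hg (Subgroup.mem_sup_left hx)) ?_⟩
    obtain ⟨a, ha, c, hc, rfl⟩ := exists_mul D hgS
    rw [show a * c * x * (a * c)⁻¹ = a * (c * x * c⁻¹) * a⁻¹ by group,
      ← comm D (hQ hx) hc, mul_inv_cancel_right]
    exact S₁.mul_mem (S₁.mul_mem ha (hQ hx)) (S₁.inv_mem ha)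
  · rintro ⟨hgS, hg⟩
    refine ⟨hgS, conjSub_eq_iff_mem_normalizer.1 ?_⟩
    rw [conjSub, Subgroup.map_sup, ← conjSub, ← conjSub, conjSub_eq_iff_mem_normalizer.2 hg]
    congr 1
    refine conjSub_eq_iff_mem_normalizer.2 ?_
    obtain ⟨a, ha, c, hc, rfl⟩ := exists_mul D hgS
    exact mul_mem (mem_normalizer_of_forall_commute fun y hy => (comm D ha hy).symm)
      (Subgroup.le_normalizer hc)

omit [Fact p.Prime] in
theorem isFullyNormalized_sup {Q : Subgroup Ω} (hQ₁ : Q ≤ S₁) (hQ : F.IsFullyNormalized Q) :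
    F.IsFullyNormalized (Q ⊔ S₂) := by
  refine ⟨sup_le hQ.1 (right_le D), fun R hR => ?_⟩
  obtain ⟨ψ, hψ, rfl⟩ := hR
  have hconj : F.IsConj Q (img ψ Q) :=
    ⟨_, res_mem F hψ le_sup_left, range_comp_inclusion _ _⟩
  rw [← img_self ψ, img_sup ψ le_sup_left le_sup_right, img_right D hψ le_sup_right,
    normalizerIn_sup D hQ₁, normalizerIn_sup D (conj_le D hQ₁ hconj)]
  exact hQ.2 _ hconj

variable {R R' : FusionSystem S₁}

theorem isSaturated_full (hS : IsPGroup p S) (hF : F.IsSaturated p)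
    (hR : ∀ P : Subgroup Ω, P ≤ S₁ → R.Hom P = F.Hom P) : R.IsSaturated p := by
  intro P hP
  have := finite_of_le (left_le D)
  obtain ⟨Q, hPQ, hQ⟩ := exists_fullyNormalized F (hP.trans (left_le D))
  have hQ₁ := conj_le D hP hPQ
  obtain ⟨hauto, hrec⟩ := fullyAutomized_receptive_of_fullyNormalized hS hF hQ
  refine ⟨Q, ?_, ?_, hQ₁, fun P' φ hφ hr => ?_⟩
  · obtain ⟨φ, hφ, hφr⟩ := hPQ
    exact ⟨φ, (hR P hP).ge hφ, hφr⟩
  · refine (isFullyAutomized_iff (hS.to_le (left_le D))).2 ⟨hQ₁, ?_⟩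
    have e : R.autGroup Q = F.autGroup Q := by
      simp only [FusionSystem.autGroup, hR Q hQ₁]
    rw [e, ← autInducedBy_eq D hQ₁]
    exact ((isFullyAutomized_iff hS).1 hauto).2
  · have hP' := le_S R hφ
    have hφF := (hR P' hP').le hφ
    obtain ⟨ψ, hψ, hψe⟩ := hrec.2 P' φ hφF hr
    have hle : extender S₁ P' φ ≤ extender S P' φ := Subgroup.closure_mono fun g hg =>
      ⟨left_le D hg.1, hg.2.1, hg.2.2.imp fun h hh => ⟨left_le D hh.1, hh.2⟩⟩
    have hN : extender S₁ P' φ ≤ S₁ := (extender_le_normalizerIn P' φ).trans inf_le_left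
    exact ⟨_, (hR _ hN).ge (res_mem F hψ hle), fun x hx hxN => hψe x hx (hle hxN)⟩

theorem isSaturated_centralizing (hS : IsPGroup p S) (hF : F.IsSaturated p)
    (hR' : ∀ P : Subgroup Ω, P ≤ S₁ → R'.Hom P = F.centralizerHom S₂ P) : R'.IsSaturated p := by
  intro P hP
  have := finite_of_le (left_le D)
  obtain ⟨Q₀, hPQ₀, hQ₀⟩ := exists_fullyNormalized F (hP.trans (left_le D))
  obtain ⟨φ, hφ, hφr⟩ := hPQ₀
  obtain ⟨A, hA, φ₀, hφ₀, hd⟩ := frattini D hS hF hP hφ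
  set Q := φ₀.range with hQdef
  have hQ₁ : Q ≤ S₁ := range_le D hP hφ₀.1
  have hQ : F.IsFullyNormalized Q := by
    refine ⟨hQ₁.trans (left_le D), fun T hT => ?_⟩
    have hc : F.IsConj Q Q₀ :=
      isConj_trans (isConj_symm ⟨φ₀, hφ₀.1, rfl⟩) ⟨φ, hφ, hφr⟩
    refine (hQ₀.2 T (isConj_trans (isConj_symm hc) hT)).trans ?_
    obtain ⟨i, hi, hie⟩ := exists_iso_of_mem hφ₀.1
    obtain ⟨e, he, hee⟩ := exists_iso_of_range hφ hφr
    have hres := res_mem F hA.symm.mem (normalizerIn_le (S := S) Q₀)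
    have : Finite (normalizerIn S Q) := finite_of_le (normalizerIn_le Q)
    have hmem : ∀ g : normalizerIn S Q₀,
        (A.symm ⟨g, normalizerIn_le Q₀ g.2⟩ : Ω) ∈ normalizerIn S Q :=
      fun g => apply_mem_normalizerIn (e := e.symm.trans i) hres (le_normalizerIn hQ₀.1)
        (fun y => by
          obtain ⟨x, rfl⟩ := e.surjective y
          have h1 : A ⟨φ₀ x, apply_mem_S F hφ₀.1 x⟩ = ⟨(e x : Ω), hQ₀.1 (e x).2⟩ :=
            Subtype.ext ((hd x _).symm.trans (hee x).symm)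
          change (A.symm ⟨(e x : Ω), _⟩ : Ω) = (i (e.symm (e x)) : Ω)
          rw [← h1, MulEquiv.symm_apply_apply, MulEquiv.symm_apply_apply, hie]) inf_le_right g
    refine Nat.card_le_card_of_injective (fun g => (⟨_, hmem g⟩ : normalizerIn S Q)) ?_
    intro a b hab
    have h1 : (A.symm ⟨a, normalizerIn_le Q₀ a.2⟩ : Ω) = A.symm ⟨b, normalizerIn_le Q₀ b.2⟩ :=
      congrArg (fun w : normalizerIn S Q => (w : Ω)) hab
    exact Subtype.ext (congrArg Subtype.val (A.symm.injective (Subtype.ext h1)) :)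
  obtain ⟨hauto, -⟩ := fullyAutomized_receptive_of_fullyNormalized hS hF hQ
  refine ⟨Q, ⟨φ₀, (hR' P hP).ge hφ₀, rfl⟩, ?_, hQ₁, fun P' χ hχ hr => ?_⟩
  · refine (isFullyAutomized_iff (hS.to_le (left_le D))).2 ⟨hQ₁, fun hd => ?_⟩
    refine ((isFullyAutomized_iff hS).1 hauto).2 ?_
    rw [autInducedBy_eq D hQ₁]
    refine hd.trans (Dvd.intro _ (Subgroup.relIndex_mul_relIndex _ _ _
      (autInducedBy_le_autGroup hQ₁) (Subgroup.closure_mono fun β hβ => ((hR' Q hQ₁).le hβ).1)))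
  · have hP' := le_S R' hχ
    obtain ⟨hχF, -, -, ψ, hψ, hψe, hψf⟩ := (hR' P' hP').le hχ
    have hψr : ψ.range = Q ⊔ S₂ := by
      rw [range_ext_eq hψe, hr, img_right D hψ le_sup_right]
    obtain ⟨f, hf, hfe⟩ := exists_iso_of_range hψ hψr
    have hrec := (fullyAutomized_receptive_of_fullyNormalized hS hF
      (isFullyNormalized_sup D hQ₁ hQ)).2
    set N := extender S₁ P' χ with hNdef
    have hN₁ : N ≤ S₁ := (extender_le_normalizerIn P' χ).trans inf_le_left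
    have := finite_of_le (le_S F hψ)
    have hMle : N ⊔ S₂ ≤ extender S (P' ⊔ S₂) ((Q ⊔ S₂).subtype.comp f.toMonoidHom) := by
      refine sup_le (fun g hg => ?_) (le_sup_right.trans (le_extender hf))
      obtain ⟨hg₁, hgn, k, hk, hke⟩ := mem_extender_iff.1 hg
      have hfix : ∀ a ∈ S₁, ∀ y ∈ S₂, a * y * a⁻¹ = y := fun a ha y hy => by
        rw [comm D ha hy, mul_inv_cancel_right]
      have hgn' : g ∈ Subgroup.normalizer ((P' ⊔ S₂ : Subgroup Ω) : Set Ω) := by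
        have h1 : g ∈ normalizerIn S P' := ⟨left_le D hg₁, hgn⟩
        rw [← normalizerIn_sup D hP'] at h1
        exact h1.2
      refine mem_extender_iff.2 ⟨left_le D hg₁, hgn', k, left_le D hk, fun x => ?_⟩
      let l : ↥(P' ⊔ S₂) →* Ω := (ψ.comp (normAut g hgn').toMonoidHom)
      let r : ↥(P' ⊔ S₂) →* Ω := (MulAut.conj k).toMonoidHom.comp ψ
      suffices hlr : l = r by
        have := DFunLike.congr_fun hlr x
        change (f (normAut g hgn' x) : Ω) = k * (f x : Ω) * k⁻¹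
        rw [hfe, hfe]
        exact this
      refine MonoidHom.ext fun z => ?_
      have hle : P' ⊔ S₂ ≤ (l.eqLocus r).map (P' ⊔ S₂).subtype := by
        refine sup_le (fun y hy => ?_) fun y hy => ?_
        · refine ⟨⟨y, Subgroup.mem_sup_left hy⟩, ?_, rfl⟩
          change ψ (normAut g hgn' ⟨y, _⟩) = k * ψ ⟨y, _⟩ * k⁻¹
          rw [show normAut g hgn' ⟨y, Subgroup.mem_sup_left hy⟩ =
            Subgroup.inclusion le_sup_left (normAut g hgn ⟨y, hy⟩) from Subtype.ext rfl, hψe,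
            show (⟨y, Subgroup.mem_sup_left hy⟩ : ↥(P' ⊔ S₂)) =
              Subgroup.inclusion le_sup_left (⟨y, hy⟩ : P') from rfl, hψe]
          exact hke _
        · refine ⟨⟨y, Subgroup.mem_sup_right hy⟩, ?_, rfl⟩
          change ψ (normAut g hgn' ⟨y, _⟩) = k * ψ ⟨y, _⟩ * k⁻¹
          rw [show normAut g hgn' ⟨y, Subgroup.mem_sup_right hy⟩ =
            ⟨y, Subgroup.mem_sup_right hy⟩ from Subtype.ext (hfix g hg₁ y hy)]
          exact ((hψf ⟨y, hy⟩).trans (hfix k hk y hy).symm).trans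
            (congrArg (fun u => k * u * k⁻¹) (hψf ⟨y, hy⟩).symm)
      obtain ⟨w, hw, hwz⟩ := hle z.2
      exact (show w = z from Subtype.ext hwz) ▸ hw
    have hsub : P' ⊔ S₂ ≤ N ⊔ S₂ := sup_le_sup_right (le_extender hχ) S₂
    obtain ⟨g, hg, hge⟩ := exists_extension hrec hf hsub hMle
    have hres : g.comp (Subgroup.inclusion le_sup_left) ∈ F.Hom N := res_mem F hg le_sup_left
    refine ⟨_, (hR' N hN₁).ge ⟨hres, hN₁.trans (left_le_centralizerIn D), fun x =>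
      left_le_centralizerIn D (range_mem D hN₁ hres x), g, hg, fun x => rfl, fun y => ?_⟩,
      fun x hx hxN => ?_⟩
    · exact (hge ⟨y, Subgroup.mem_sup_right y.2⟩).trans ((hfe _).trans (hψf y))
    · exact (hge ⟨x, Subgroup.mem_sup_left hx⟩).trans ((hfe _).trans (hψe ⟨x, hx⟩))

theorem main (hS : IsPGroup p S) (hF : F.IsSaturated p)
    (hR : ∀ P : Subgroup Ω, P ≤ S₁ → R.Hom P = F.Hom P)
    (hR' : ∀ P : Subgroup Ω, P ≤ S₁ → R'.Hom P = F.centralizerHom S₂ P) :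
    R.IsSaturated p ∧ R'.IsSaturated p ∧ R'.IsNormalIn F p ∧ R'.IsNormalIn R p ∧
      R.IsWeaklyNormalIn F p := by
  have hsR := isSaturated_full D hS hF hR
  have hsR' := isSaturated_centralizing D hS hF hR'
  have := finite_of_le (left_le D)
  have hsub : R'.IsSubsystemOf F := fun P φ hφ => ((hR' P (le_S R' hφ)).le hφ).1
  have hsubR : R.IsSubsystemOf F := fun P φ hφ => (hR P (le_S R hφ)).le hφ
  have hsub' : R'.IsSubsystemOf R := fun P φ hφ => (hR P (le_S R' hφ)).ge (hsub P hφ)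
  have heq : R.autGroup S₁ = F.autGroup S₁ := by
    simp only [FusionSystem.autGroup, hR S₁ le_rfl]
  have hfr : ∀ (P : Subgroup Ω), P ≤ S₁ → ∀ φ ∈ F.Hom P, ∃ α ∈ F.autGroup S₁, ∃ φ₀ ∈ R'.Hom P,
      ∀ (x : P) (hx : φ₀ x ∈ S₁), φ x = ((α ⟨φ₀ x, hx⟩ : S₁) : Ω) := by
    intro P hP φ hφ
    obtain ⟨A, hA, φ₀, hφ₀, hd⟩ := frattini D hS hF hP hφ
    obtain ⟨α, hα, hαe⟩ := exists_restrict D hA
    exact ⟨α, hα, φ₀, (hR' P hP).ge hφ₀, fun x hx => (hd x _).trans (hαe _ hx).symm⟩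
  -- the transports
  have hpre : ∀ (P : Subgroup Ω) (α : MulAut S₁) (A : S ≃* S),
      (∀ (x : Ω) (hx : x ∈ S₁), (A ⟨x, left_le D hx⟩ : Ω) = ((α ⟨x, hx⟩ : S₁) : Ω)) →
      ∀ (hle : (P.subgroupOf S₁).map (S₁.subtype.comp α.toMonoidHom) ≤ S)
        (z : (P.subgroupOf S₁).map (S₁.subtype.comp α.toMonoidHom)),
        (A.symm ⟨z, hle z.2⟩ : Ω) ∈ P := by
    rintro P α A hAe hle ⟨_, x, hx, rfl⟩
    have h : A ⟨x, left_le D x.2⟩ = ⟨(S₁.subtype.comp α.toMonoidHom) x, hle ⟨x, hx, rfl⟩⟩ :=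
      Subtype.ext (hAe x x.2)
    rw [← h, MulEquiv.symm_apply_apply]
    exact hx
  have hinv' : ∀ (P : Subgroup Ω) (hP : P ≤ S₁) (φ : P →* Ω), φ ∈ R'.Hom P → ∀ α ∈ F.autGroup S₁,
      ∃ χ ∈ R'.Hom ((P.subgroupOf S₁).map (S₁.subtype.comp α.toMonoidHom)),
        ∀ (x : P) (hφx : φ x ∈ S₁) (hαx : ((α ⟨x, hP x.2⟩ : S₁) : Ω) ∈
          (P.subgroupOf S₁).map (S₁.subtype.comp α.toMonoidHom)),
          χ ⟨(α ⟨x, hP x.2⟩ : S₁), hαx⟩ = ((α ⟨φ x, hφx⟩ : S₁) : Ω) := by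
    intro P hP φ hφ α hα
    obtain ⟨A, hA, hAe⟩ := exists_lift D hS hF hα
    have hP' : (P.subgroupOf S₁).map (S₁.subtype.comp α.toMonoidHom) ≤ S₁ := by
      rintro _ ⟨x, -, rfl⟩
      exact (α x).2
    obtain ⟨χ, hχ, hχe⟩ := transport_centralizerHom D hA hP ((hR' P hP).le hφ) hP'
      (fun z => hpre P α A hAe (hP'.trans (left_le D)) z)
    refine ⟨χ, (hR' _ hP').ge hχ, fun x hφx hαx => ?_⟩
    have h1 := hAe x (hP x.2)
    have h2 := hχe x (by rw [h1]; exact hαx) (left_le D hφx)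
    simp only [h1] at h2
    exact h2.trans (hAe _ hφx)
  refine ⟨hsR, hsR', ⟨⟨hsR', hF, hsub, D.h₁, hinv', hfr⟩, ?_⟩,
    ⟨⟨hsR', hsR, hsub', ⟨le_rfl, fun P hP φ hφ x => apply_mem_S R hφ x⟩,
      fun P hP φ hφ α hα => hinv' P hP φ hφ α (heq.le hα), fun P hP φ hφ => ?_⟩, ?_⟩,
    hsR, hF, hsubR, D.h₁, ?_, fun P hP φ hφ => ?_⟩
  · -- extension to `S`
    intro α hα
    obtain ⟨-, -, -, ψ, hψ, hψe, hψf⟩ :=
      (hR' S₁ le_rfl).le ((mem_autGroup_iff R' le_rfl).1 hα).mem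
    set M := S₁ ⊔ centralizerIn S S₁ with hM
    have hMeq : M = S₁ ⊔ S₂ := by
      refine le_antisymm (sup_le le_sup_left ((centralizerIn_le _).trans D.prod.2.2.2.2.ge)) ?_
      exact sup_le_sup_left (right_le_centralizerIn D le_rfl) _
    have hg : ψ.comp (Subgroup.inclusion hMeq.le) ∈ F.Hom M := res_mem F hψ hMeq.le
    have hr : (ψ.comp (Subgroup.inclusion hMeq.le)).range = M := by
      have hMS : M = S := hMeq.trans D.prod.2.2.2.2
      have := finite_of_le hMS.le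
      refine Subgroup.eq_of_le_of_card_ge ((range_le_S F hg).trans hMS.ge) ?_
      exact (Nat.card_congr (MonoidHom.ofInjective (F.injective_of_mem hg)).toEquiv).le
    obtain ⟨β, hβ, hβe⟩ := exists_iso_of_range hg hr
    refine ⟨β, (mem_autGroup_iff F hβ.le_left).2 hβ, fun x => (hβe _).trans (hψe x),
      fun c hc => ?_⟩
    obtain ⟨a, ha, b, hb, hab⟩ := exists_mul D hc.1
    have hacomm : ∀ x ∈ S₁, x * a = a * x := fun x hx => by
      have h1 := hc.2 x hx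
      rw [hab, ← mul_assoc, mul_assoc a b x, ← comm D hx hb, ← mul_assoc] at h1
      exact mul_right_cancel h1
    have hβc : ((β c : M) : Ω) = ((α ⟨a, ha⟩ : S₁) : Ω) * b := by
      rw [hβe c]
      change ψ (Subgroup.inclusion hMeq.le c) = _
      rw [show Subgroup.inclusion hMeq.le c =
        Subgroup.inclusion le_sup_left (⟨a, ha⟩ : S₁) *
          Subgroup.inclusion le_sup_right (⟨b, hb⟩ : S₂) from Subtype.ext hab, map_mul, hψe, hψf]
      rfl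
    have hz : a⁻¹ * ((α ⟨a, ha⟩ : S₁) : Ω) ∈ S₁ := S₁.mul_mem (S₁.inv_mem ha) (α _).2
    rw [hβc, hab, show (a * b)⁻¹ * (((α ⟨a, ha⟩ : S₁) : Ω) * b) =
      b⁻¹ * (a⁻¹ * ((α ⟨a, ha⟩ : S₁) : Ω)) * b by group,
      ← comm D hz (S₂.inv_mem hb), inv_mul_cancel_right]
    refine ⟨hz, Subgroup.mem_centralizer_iff.2 fun x hx => ?_⟩
    have h2 : x * ((α ⟨a, ha⟩ : S₁) : Ω) = ((α ⟨a, ha⟩ : S₁) : Ω) * x := by
      have h3 := congrArg (fun u : S₁ => ((α u : S₁) : Ω))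
        (show α⁻¹ ⟨x, hx⟩ * ⟨a, ha⟩ = ⟨a, ha⟩ * α⁻¹ ⟨x, hx⟩ from
          Subtype.ext (hacomm _ (α⁻¹ ⟨x, hx⟩).2))
      simpa using h3
    have h4 : x * a⁻¹ = a⁻¹ * x := ((Commute.inv_right (hacomm x hx : Commute x a)) :)
    rw [← mul_assoc, h4, mul_assoc, h2, mul_assoc]
  · obtain ⟨α, hα, φ₀, hφ₀, h⟩ := hfr P hP φ ((hR P hP).le hφ)
    exact ⟨α, heq.ge hα, φ₀, hφ₀, h⟩
  · -- extension inside `S₁`
    intro α hα
    set M := S₁ ⊔ centralizerIn S₁ S₁ with hM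
    have hMeq : M = S₁ := sup_eq_left.2 (centralizerIn_le _)
    have hg : (S₁.subtype.comp α.toMonoidHom).comp (Subgroup.inclusion hMeq.le) ∈ R.Hom M :=
      res_mem R (hsub' S₁ ((mem_autGroup_iff R' le_rfl).1 hα).mem) hMeq.le
    have hr : ((S₁.subtype.comp α.toMonoidHom).comp (Subgroup.inclusion hMeq.le)).range = M := by
      rw [range_comp_inclusion]
      refine le_antisymm ((img_le_range _ _).trans ?_) ?_
      · rw [range_subtype_comp]
        exact le_sup_left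
      · intro y hy
        exact mem_img.2 ⟨α.symm ⟨y, hMeq.le hy⟩, hMeq.ge (α.symm _).2, by simp⟩
    obtain ⟨β, hβ, hβe⟩ := exists_iso_of_range hg hr
    refine ⟨β, (mem_autGroup_iff R hβ.le_left).2 hβ, fun x => hβe _, fun c hc => ?_⟩
    have hc₁ := hMeq.le c.2
    have hb : ((β c : M) : Ω) = ((α ⟨c, hc₁⟩ : S₁) : Ω) := hβe c
    rw [hb]
    refine ⟨S₁.mul_mem (S₁.inv_mem hc₁) (α _).2, Subgroup.mul_mem _ (Subgroup.inv_mem _ hc.2) ?_⟩
    refine Subgroup.mem_centralizer_iff.2 fun x hx => ?_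
    have h3 := congrArg (fun u : S₁ => ((α u : S₁) : Ω))
      (show α⁻¹ ⟨x, hx⟩ * ⟨c, hc₁⟩ = ⟨c, hc₁⟩ * α⁻¹ ⟨x, hx⟩ from
        Subtype.ext (hc.2 _ (α⁻¹ ⟨x, hx⟩).2))
    simpa using h3
  · intro P hP φ hφ α hα
    obtain ⟨A, hA, hAe⟩ := exists_lift D hS hF hα
    have hP' : (P.subgroupOf S₁).map (S₁.subtype.comp α.toMonoidHom) ≤ S₁ := by
      rintro _ ⟨x, -, rfl⟩
      exact (α x).2
    obtain ⟨χ, hχ, hχe⟩ := exists_transport D hA ((hR P hP).le hφ) (hP'.trans (left_le D))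
      (fun z => hpre P α A hAe (hP'.trans (left_le D)) z)
    refine ⟨χ, (hR _ hP').ge hχ, fun x hφx hαx => ?_⟩
    have h1 := hAe x (hP x.2)
    have h2 := hχe x (by rw [h1]; exact hαx)
    simp only [h1] at h2
    exact h2.trans (hAe _ hφx)
  · obtain ⟨α, hα, φ₀, hφ₀, h⟩ := hfr P hP φ hφ
    exact ⟨α, hα, φ₀, hsub' P hφ₀, h⟩

end CfsgLib.Fusion.DirectFactor
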