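import Mathlib

/-!
# Automorphisms of abelian 2-groups with distinct invariants
-/

set_option autoImplicit false

namespace CfsgLib.Fusion

variable {n : ℕ} {a : Fin n → ℕ}

private theorem exists_succ_smul (k : ℕ) {e : (i : Fin n) → ZMod (2 ^ a i)} (h2 : 2 • e = 0)
    (hk : ∃ y, 2 ^ k • y = e) (he : ∀ i, a i = k + 1 → e i = 0) :
    ∃ y, 2 ^ (k + 1) • y = e := by
  classical
  obtain ⟨y, rfl⟩ := hk
  refine ⟨fun i => if a i ≤ k then 0 else (((y i).val / 2 : ℕ) : ZMod (2 ^ a i)), funext fun i => ?_⟩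
  have hy : ((2 ^ k * (y i).val : ℕ) : ZMod (2 ^ a i)) = (2 ^ k • y) i := by
    rw [Pi.smul_apply, nsmul_eq_mul, Nat.cast_mul, ZMod.natCast_zmod_val]
  simp only [Pi.smul_apply]
  split_ifs with h
  · rw [smul_zero]
    change _ = (2 ^ k • y) i
    rw [← hy, eq_comm, ZMod.natCast_eq_zero_iff]
    exact dvd_mul_of_dvd_left (Nat.pow_dvd_pow 2 h) _
  · have heven : 2 ∣ (y i).val := by
      rcases Nat.eq_or_lt_of_le (not_le.1 h : k + 1 ≤ a i) with hh | hh
      · have h1 := he i hh.symm
        rw [← hy, ZMod.natCast_eq_zero_iff] at h1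
        have h3 : 2 ^ k * 2 ∣ 2 ^ k * (y i).val := by
          rw [← pow_succ]
          exact (Nat.pow_dvd_pow 2 hh.le).trans h1
        exact Nat.dvd_of_mul_dvd_mul_left (by positivity) h3
      · have h1 : (2 • (2 ^ k • y)) i = 0 := by rw [h2]; rfl
        rw [Pi.smul_apply, ← hy, ← Nat.cast_smul_eq_nsmul (ZMod (2 ^ a i)), smul_eq_mul,
          ← Nat.cast_mul, ZMod.natCast_eq_zero_iff] at h1
        have h3 : 2 ^ (k + 1) * 2 ∣ 2 ^ (k + 1) * (y i).val := by
          rw [← pow_succ, show 2 ^ (k + 1) * (y i).val = 2 * (2 ^ k * (y i).val) by ring]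
          exact (Nat.pow_dvd_pow 2 hh).trans h1
        exact Nat.dvd_of_mul_dvd_mul_left (by positivity) h3
    change _ = (2 ^ k • y) i
    rw [← hy, nsmul_eq_mul, ← Nat.cast_mul, pow_succ, mul_assoc,
      Nat.mul_div_cancel' heven]

/-- An endomorphism of odd order of such a group is the identity. -/
theorem eq_id_of_iterate_eq_id (ha : Function.Injective a)
    (f : ((i : Fin n) → ZMod (2 ^ a i)) →+ ((i : Fin n) → ZMod (2 ^ a i))) {o : ℕ} (ho : Odd o)
    (hf : (⇑f)^[o] = id) (x : (i : Fin n) → ZMod (2 ^ a i)) : f x = x := by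
  classical
  have hfix : ∀ x e, f x = x + e → f e = e → 2 • e = 0 → e = 0 := by
    intro x e hx he h2
    have h1 : ∀ m : ℕ, (⇑f)^[m] x = x + m • e := by
      intro m
      induction m with
      | zero => simp
      | succ m ih =>
        rw [Function.iterate_succ_apply', ih, map_add, map_nsmul, hx, he, add_assoc, succ_nsmul']
    have h3 := h1 o
    rw [hf, id_eq, left_eq_add] at h3
    obtain ⟨r, rfl⟩ := ho
    rwa [add_nsmul, mul_nsmul, h2, nsmul_zero, zero_add, one_nsmul] at h3
  -- the socle is fixed pointwise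
  have hsoc : ∀ j k : ℕ, (∀ i, a i ≤ j + k) → ∀ e, 2 • e = 0 → (∃ y, 2 ^ k • y = e) → f e = e := by
    intro j
    induction j with
    | zero =>
      intro k hk e _ ⟨y, hy⟩
      have : e = 0 := funext fun i => by
        rw [← hy, Pi.smul_apply, nsmul_eq_mul, show ((2 ^ k : ℕ) : ZMod (2 ^ a i)) = 0 from
          (ZMod.natCast_eq_zero_iff _ _).2 (Nat.pow_dvd_pow 2 (by have := hk i; omega)), zero_mul]
        rfl
      simp [this]
    | succ j ih =>
      intro k hk e h2 he
      have IH := ih (k + 1) (fun i => by have := hk i; omega)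
      have hfe2 : 2 • f e = 0 := by rw [← map_nsmul, h2, map_zero]
      have hfe : ∃ y, 2 ^ k • y = f e := by
        obtain ⟨y, rfl⟩ := he
        exact ⟨f y, (map_nsmul f _ _).symm⟩
      by_cases hsucc : ∃ y, 2 ^ (k + 1) • y = e
      · exact IH e h2 hsucc
      obtain ⟨i₀, hi₀, hei₀⟩ : ∃ i, a i = k + 1 ∧ e i ≠ 0 := by
        by_contra hcon
        exact hsucc (exists_succ_smul k h2 he fun i hi => by
          by_contra h
          exact hcon ⟨i, hi, h⟩)
      have hfsucc : ¬ ∃ y, 2 ^ (k + 1) • y = f e := by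
        rintro ⟨y, hy⟩
        obtain ⟨r, rfl⟩ := ho
        apply hsucc
        refine ⟨(⇑f)^[2 * r] y, ?_⟩
        have hit : ∀ (m c : ℕ) z, (⇑f)^[m] (c • z) = c • (⇑f)^[m] z := by
          intro m c z
          induction m with
          | zero => rfl
          | succ m ihm => rw [Function.iterate_succ_apply', ihm, map_nsmul,
              Function.iterate_succ_apply']
        rw [← hit, hy, ← Function.iterate_succ_apply]
        exact congrFun hf e
      have hval : ∀ z : (i : Fin n) → ZMod (2 ^ a i), (∃ y, 2 ^ k • y = z) → z i₀ = 0 ∨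
          z i₀ = ((2 ^ k : ℕ) : ZMod (2 ^ a i₀)) := by
        rintro z ⟨y, rfl⟩
        rw [Pi.smul_apply, nsmul_eq_mul, ← ZMod.natCast_zmod_val (y i₀), ← Nat.cast_mul]
        rcases Nat.even_or_odd' (y i₀).val with ⟨r, hr | hr⟩
        · left
          rw [hr, ZMod.natCast_eq_zero_iff]
          exact (Nat.pow_dvd_pow 2 hi₀.le).trans ⟨r, by ring⟩
        · right
          rw [hr, mul_add, mul_one, Nat.cast_add, add_eq_right, ZMod.natCast_eq_zero_iff]
          exact (Nat.pow_dvd_pow 2 hi₀.le).trans ⟨r, by ring⟩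
      have hfei : f e i₀ = e i₀ := by
        have h1 : f e i₀ ≠ 0 := fun h => hfsucc (exists_succ_smul k hfe2 hfe fun i hi => by
          rw [ha (hi.trans hi₀.symm)]
          exact h)
        rw [(hval _ hfe).resolve_left h1, (hval _ he).resolve_left hei₀]
      have hd2 : 2 • (f e - e) = 0 := by rw [nsmul_sub, hfe2, h2, sub_zero]
      have hd : ∃ y, 2 ^ (k + 1) • y = f e - e := by
        refine exists_succ_smul k hd2 ?_ fun i hi => ?_
        · obtain ⟨y, hy⟩ := he
          obtain ⟨z, hz⟩ := hfe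
          exact ⟨z - y, by rw [nsmul_sub, hz, hy]⟩
        · obtain rfl := ha (hi.trans hi₀.symm)
          rw [Pi.sub_apply, hfei, sub_self]
      have h3 := hfix e (f e - e) (by abel) (IH _ hd2 hd) hd2
      exact sub_eq_zero.1 h3
  have hE : ∀ e, 2 • e = 0 → f e = e := fun e he =>
    hsoc (∑ i, a i) 0 (fun i => by
      simpa using Finset.single_le_sum (fun j _ => Nat.zero_le (a j)) (Finset.mem_univ i)) e he
      ⟨e, by simp⟩
  have hall : ∀ m : ℕ, ∀ x, 2 ^ m • x = 0 → f x = x := by
    intro m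
    induction m with
    | zero => intro x hx; rw [pow_zero, one_nsmul] at hx; rw [hx, map_zero]
    | succ m ih =>
      intro x hx
      have h1 : f (2 • x) = 2 • x := ih _ (by rw [← mul_nsmul, ← pow_succ']; exact hx)
      have h2 : 2 • (f x - x) = 0 := by rw [nsmul_sub, ← map_nsmul, h1, sub_self]
      exact sub_eq_zero.1 (hfix x (f x - x) (by abel) (hE _ h2) h2)
  refine hall (∑ i, a i) x (funext fun i => ?_)
  rw [Pi.smul_apply, nsmul_eq_mul, show ((2 ^ (∑ j, a j) : ℕ) : ZMod (2 ^ a i)) = 0 from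
    (ZMod.natCast_eq_zero_iff _ _).2 (Nat.pow_dvd_pow 2
      (Finset.single_le_sum (fun j _ => Nat.zero_le (a j)) (Finset.mem_univ i))), zero_mul]
  rfl

/-- The automorphism group of such a group is a 2-group. -/
theorem mulAut_pow_of_distinct_invariants (ha : Function.Injective a) {A : Type*} [Group A]
    [Finite A] (e : A ≃* Multiplicative ((i : Fin n) → ZMod (2 ^ a i))) (α : MulAut A) :
    ∃ s : ℕ, α ^ 2 ^ s = 1 := by
  obtain ⟨s, o, ho, hso⟩ := Nat.exists_eq_two_pow_mul_odd (n := orderOf α)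
    (orderOf_pos_iff.2 (isOfFinOrder_of_finite α)).ne'
  refine ⟨s, MulEquiv.ext fun x => ?_⟩
  set β := α ^ 2 ^ s
  let g : MulAut (Multiplicative ((i : Fin n) → ZMod (2 ^ a i))) := MulAut.congr e β
  let f : ((i : Fin n) → ZMod (2 ^ a i)) →+ ((i : Fin n) → ZMod (2 ^ a i)) :=
    AddMonoidHom.toMultiplicative.symm g.toMonoidHom
  have hit : ∀ m : ℕ, ∀ y, Multiplicative.ofAdd ((⇑f)^[m] y) = (g ^ m) (Multiplicative.ofAdd y) := by
    intro m
    induction m with
    | zero => intro y; rfl
    | succ m ih =>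
      intro y
      rw [Function.iterate_succ_apply', pow_succ', MulAut.mul_apply, ← ih y]
      rfl
  have hg : g ^ o = 1 := by
    rw [← map_pow, ← pow_mul, ← hso, pow_orderOf_eq_one, map_one]
  have hid : (⇑f)^[o] = id := funext fun y => Multiplicative.ofAdd.injective (by
    rw [hit, hg]
    rfl)
  have h1 := eq_id_of_iterate_eq_id ha f ho hid (Multiplicative.toAdd (e x))
  have h2 : g (e x) = e x := congrArg Multiplicative.ofAdd h1
  change e (β (e.symm (e x))) = e x at h2
  rw [e.symm_apply_apply] at h2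
  exact e.injective h2

end CfsgLib.Fusion
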