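import Cfsg.Agent.Lib.Fusion.SmallEssential
import Cfsg.Agent.Lib.LocalEven.StronglyEmbedded
import Cfsg.Agent.Lib.PGroup.PrimeIndex

/-!
# Essential subgroups inside an extraspecial subgroup of index `p`

A proper subgroup of an extraspecial group `Q ≤ S` of order at least `p ^ 4` is not essential: its
automorphisms induced by `Q` would be transvections with one centre, two such families always
contain commuting elements, and strong embedding forces the centre to be invariant.
-/

set_option autoImplicit false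

open Cfsg Cfsg.FusionSystem

namespace CfsgLib.Fusion

/-- With a strongly embedded subgroup, a `p`-subgroup `Y` all of whose conjugates outside a
subgroup `K` share commuting elements with it forces `K` to be everything. -/
theorem eq_top_of_commuting_conj {G : Type*} [Group G] [Finite G] {p : ℕ} [Fact p.Prime]
    {M : Subgroup G} (hM : IsStronglyPEmbedded p M) {Y K : Subgroup G} (hY : IsPGroup p Y)
    (h : ∀ g : G, g ∉ K → ∃ y ∈ Y, ∃ y' ∈ Y, y ≠ 1 ∧ y' ≠ 1 ∧
      y * (g * y' * g⁻¹) = g * y' * g⁻¹ * y) : K = ⊤ := by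
  obtain ⟨P, -, hPM, -⟩ := LocalEven.IsStronglyPEmbedded.exists_sylow hM
  obtain ⟨T, hYT⟩ := hY.exists_le_sylow
  obtain ⟨c, hc⟩ := MulAction.exists_smul_eq G T P
  have hcY : ∀ y ∈ Y, c * y * c⁻¹ ∈ (P : Subgroup G) := by
    intro y hy
    have hmem : (MulAut.conj c) y ∈ (c • T : Sylow p G) := by
      rw [← SetLike.mem_coe, Sylow.smul_def]
      exact Set.smul_mem_smul_set (hYT hy)
    rw [hc] at hmem
    exact hmem
  let K' : Subgroup G := K.map (MulAut.conj c).toMonoidHom
  have hall : ∀ g : G, g ∈ M ∨ g ∈ K' := by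
    intro g
    by_cases hgK : c⁻¹ * g * c ∈ K
    · exact Or.inr ⟨_, hgK, by simp [mul_assoc]⟩
    obtain ⟨y, hy, y', hy', hy1, hy1', hcomm⟩ := h _ hgK
    refine Or.inl ?_
    have h1 : c * y * c⁻¹ ∈ M := hPM (hcY y hy)
    have hyne : c * y * c⁻¹ ≠ 1 := fun h => hy1 (conj_eq_one_iff.1 h)
    obtain ⟨k, hk⟩ := IsPGroup.iff_orderOf.1 P.2 ⟨_, hcY y hy⟩
    rw [Subgroup.orderOf_mk] at hk
    have h2 : g * (c * y' * c⁻¹) * g⁻¹ ∈ M := by
      refine LocalEven.IsStronglyPEmbedded.centralizer_le hM h1 hk hyne ?_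
      rw [Subgroup.mem_centralizer_iff]
      intro a ha
      rw [Set.mem_singleton_iff] at ha
      subst ha
      calc c * y * c⁻¹ * (g * (c * y' * c⁻¹) * g⁻¹)
          = c * (y * (c⁻¹ * g * c * y' * (c⁻¹ * g * c)⁻¹)) * c⁻¹ := by group
        _ = c * (c⁻¹ * g * c * y' * (c⁻¹ * g * c)⁻¹ * y) * c⁻¹ := by rw [hcomm]
        _ = g * (c * y' * c⁻¹) * g⁻¹ * (c * y * c⁻¹) := by group
    obtain ⟨k', hk'⟩ := IsPGroup.iff_orderOf.1 P.2 ⟨_, hcY y' hy'⟩
    rw [Subgroup.orderOf_mk] at hk'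
    exact LocalEven.IsStronglyPEmbedded.mem_of_conj_mem hM (hPM (hcY y' hy')) hk'
      (fun h => hy1' (conj_eq_one_iff.1 h)) h2
  have hK' : K' = ⊤ := by
    refine (Subgroup.eq_top_iff' _).2 fun g => ?_
    obtain ⟨m, hm⟩ : ∃ m, m ∉ M := by
      by_contra hcon
      push Not at hcon
      exact hM.2.1 ((Subgroup.eq_top_iff' M).2 hcon)
    rcases hall g with hg | hg
    · have h1 : g * m ∈ K' := (hall (g * m)).resolve_left fun h => hm (by
        have := M.mul_mem (M.inv_mem hg) h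
        rwa [inv_mul_cancel_left] at this)
      have h2 : m ∈ K' := (hall m).resolve_left hm
      have := K'.mul_mem h1 (K'.inv_mem h2)
      rwa [mul_inv_cancel_right] at this
    · exact hg
  refine (Subgroup.eq_top_iff' K).2 fun g => ?_
  obtain ⟨k, hk, hke⟩ := hK'.ge (Subgroup.mem_top (c * g * c⁻¹))
  simp only [MulEquiv.coe_toMonoidHom, MulAut.conj_apply, mul_left_inj, mul_right_inj] at hke
  exact hke ▸ hk

variable {Ω : Type*} [Group Ω] {S : Subgroup Ω} [Finite S] {F : FusionSystem S} {p : ℕ}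
  [Fact p.Prime]

/-- An essential subgroup contained in an extraspecial subgroup `Q` of order at least `p ^ 4` is
`Q`. -/
theorem eq_of_isEssential_le_extraspecial (hS : IsPGroup p S) {Q : Subgroup Ω} (hQS : Q ≤ S)
    (hQ : Cfsg.IsExtraspecial p Q) (hQc : p ^ 4 ≤ Nat.card Q) {E : Subgroup Ω} (hEQ : E ≤ Q)
    (hE : F.IsEssential p E) : E = Q := by
  obtain ⟨⟨-, -, hcomm⟩, hZc⟩ := hQ
  obtain ⟨hcen, hfn, hN, M, hM⟩ := hE
  have hES := hcen.1
  have := finite_of_le hES
  have := finite_of_le hQS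
  have hp := (Fact.out : p.Prime)
  have hC : centralizerIn S E ≤ E := hcen.2 E (isConj_refl hES)
  set Z : Subgroup Ω := (Subgroup.center Q).map Q.subtype with hZ
  have hZcard : Nat.card Z = p := by rw [hZ, Subgroup.card_subtype, hZc]
  have := finite_of_le (show Z ≤ S from (Subgroup.map_subtype_le _).trans hQS)
  have hZmem : ∀ z ∈ Z, z ∈ Q ∧ ∀ q ∈ Q, q * z = z * q := by
    rintro _ ⟨w, hw, rfl⟩
    exact ⟨w.2, fun q hq => congrArg Subtype.val (Subgroup.mem_center_iff.1 hw ⟨q, hq⟩)⟩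
  have hQcomm : ∀ a ∈ Q, ∀ b ∈ Q, a * b * a⁻¹ * b⁻¹ ∈ Z := by
    intro a ha b hb
    refine ⟨⟨a, ha⟩ * ⟨b, hb⟩ * ⟨a, ha⟩⁻¹ * ⟨b, hb⟩⁻¹, ?_, rfl⟩
    rw [SetLike.mem_coe, ← hcomm]
    exact Subgroup.commutator_mem_commutator (Subgroup.mem_top _) (Subgroup.mem_top _)
  have hZE : Z ≤ E := fun z hz => hC ⟨hQS (hZmem z hz).1, fun x hx => (hZmem z hz).2 x (hEQ hx)⟩
  have hQn : Q ≤ Subgroup.normalizer (E : Set Ω) := fun q hq =>
    mem_normalizer_of_forall fun x hx => by
      have := E.mul_mem (hZE (hQcomm q hq x (hEQ hx))) hx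
      rwa [inv_mul_cancel_right] at this
  have hdiff : ∀ q ∈ Q, ∀ x ∈ E, x⁻¹ * (q * x * q⁻¹) ∈ Z := by
    intro q hq x hx
    have h6 := hQcomm x⁻¹ (Q.inv_mem (hEQ hx)) q hq
    have e : x⁻¹ * (q * x * q⁻¹) = x⁻¹ * q * x⁻¹⁻¹ * q⁻¹ := by group
    rw [e]
    exact h6
  -- the elements of `Q` stabilizing an invariant series lie in `E`
  have hinner : (∀ α ∈ F.autGroup E, ∀ x : E, (x : Ω) ∈ Z → (α x : Ω) ∈ Z) → E = Q := by
    intro hinv
    refine le_antisymm hEQ fun q hq => ?_
    refine mem_of_normAut_mem_inn hES hC (hQS hq) (hg := hQn hq) ?_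
    refine mem_inn_of_stabilizes hS ⟨hcen, hfn, hN, M, hM⟩
      (fun i => if i = 0 then ⊥ else if i = 1 then Z.subgroupOf E else ⊤) 2 (by simp) (by simp)
      ?_ (autInducedBy_le_autGroup hES (mem_autInducedBy_iff.2 ⟨q, hQS hq, fun _ => rfl⟩)) ?_
    · intro α hα i hi x hx
      interval_cases i
      · simp only [if_true, Subgroup.mem_bot] at hx ⊢
        rw [hx, map_one]
      · simp only [one_ne_zero, if_false, if_true] at hx ⊢
        exact hinv α hα x hx
      · simp
    · intro i hi x hx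
      interval_cases i
      · simp only [Nat.zero_add, one_ne_zero, if_false, if_true, Subgroup.mem_bot] at hx ⊢
        rw [inv_mul_eq_one]
        refine Subtype.ext ?_
        change (x : Ω) = q * x * q⁻¹
        have h : q * (x : Ω) = x * q := (hZmem _ hx).2 q hq
        rw [h, mul_inv_cancel_right]
      · simp only [one_ne_zero, if_false, if_true]
        exact hdiff q hq x x.2
  by_cases hab : ∀ x y : E, x * y = y * x
  swap
  · -- nonabelian: the centre of `Q` is the derived group of `E`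
    refine hinner fun α hα x hx => ?_
    push Not at hab
    obtain ⟨a, b, hne⟩ := hab
    have hsub : ∀ a b : E, ((a * b * a⁻¹ * b⁻¹ : E) : Ω) ∈ Z := fun a b =>
      hQcomm a (hEQ a.2) b (hEQ b.2)
    set c : E := a * b * a⁻¹ * b⁻¹ with hcdef
    have hc1 : c ≠ 1 := fun h => hne (by
      rw [hcdef, mul_inv_eq_one, mul_inv_eq_iff_eq_mul] at h
      exact h)
    have hcZ : (c : Ω) ∈ Z := hsub a b
    have hgen : Subgroup.zpowers (c : Ω) = Z := by
      refine Subgroup.eq_of_le_of_card_ge (Subgroup.zpowers_le.2 hcZ) ?_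
      rw [hZcard]
      have hd : orderOf (c : Ω) ∣ p := hZcard ▸ (Subgroup.orderOf_mk (c : Ω) hcZ) ▸
        orderOf_dvd_natCard (G := Z) ⟨(c : Ω), hcZ⟩
      rcases (Nat.dvd_prime hp).1 hd with h | h
      · exact absurd (Subtype.ext (orderOf_eq_one_iff.1 h) : c = 1) hc1
      · rw [Nat.card_zpowers, h]
    have hαc : (α c : Ω) ∈ Z := by
      rw [hcdef, map_mul, map_mul, map_mul, map_inv, map_inv]
      exact hsub (α a) (α b)
    rw [← hgen, Subgroup.mem_zpowers_iff] at hx
    obtain ⟨k, hk⟩ := hx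
    have : x = c ^ k := Subtype.ext (by rw [← hk]; simp)
    rw [this, map_zpow]
    simpa using Z.zpow_mem hαc k
  -- abelian case
  by_contra hEne
  have hcentE : ∀ x ∈ E, ∀ y ∈ E, x * y = y * x := fun x hx y hy =>
    congrArg Subtype.val (hab ⟨x, hx⟩ ⟨y, hy⟩)
  have hinn : (Inn E).subgroupOf (F.autGroup E) = ⊥ := by
    refine (Subgroup.eq_bot_iff_forall _).2 fun α hα => Subtype.ext (MulEquiv.ext fun x => ?_)
    rw [Subgroup.mem_subgroupOf, inn_eq, mem_autInducedBy_iff] at hα
    obtain ⟨g, hg, hge⟩ := hα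
    refine Subtype.ext ?_
    rw [hge, hcentE g hg x x.2, mul_inv_cancel_right]
    rfl
  let ι : Q →* F.autGroup E :=
    { toFun := fun q => ⟨normAut (q : Ω) (hQn q.2), autInducedBy_le_autGroup hES
        (mem_autInducedBy_iff.2 ⟨q, hQS q.2, fun _ => rfl⟩)⟩
      map_one' := Subtype.ext (MulEquiv.ext fun x => Subtype.ext (by
        change (1 : Ω) * x * 1⁻¹ = x
        group))
      map_mul' := fun a b => Subtype.ext (MulEquiv.ext fun x => Subtype.ext (by
        change (a * b : Ω) * x * (a * b : Ω)⁻¹ = a * (b * x * (b : Ω)⁻¹) * (a : Ω)⁻¹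
        group)) }
  have hker : ι.ker = E.subgroupOf Q := by
    ext q
    rw [MonoidHom.mem_ker, Subgroup.mem_subgroupOf]
    constructor
    · intro h
      refine mem_of_normAut_mem_inn hES hC (hQS q.2) (hg := hQn q.2) ?_
      rw [show normAut (q : Ω) (hQn q.2) = 1 from congrArg Subtype.val h]
      exact one_mem _
    · intro h
      refine Subtype.ext (MulEquiv.ext fun x => Subtype.ext ?_)
      change (q : Ω) * x * (q : Ω)⁻¹ = x
      rw [hcentE q h x x.2, mul_inv_cancel_right]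
  -- the image of `Q` has order at least `p ^ 2`
  have hcardY : p < Nat.card ι.range := by
    by_contra hle
    have hEneTop : E.subgroupOf Q ≠ ⊤ := fun h => hEne
      (le_antisymm hEQ (Subgroup.subgroupOf_eq_top.1 h))
    have hidxle : (E.subgroupOf Q).index ≤ p := by
      rw [← hker, Subgroup.index_ker]
      exact not_lt.1 hle
    obtain ⟨q, hq⟩ : ∃ q : Q, q ∉ E.subgroupOf Q := by
      by_contra hcon
      push Not at hcon
      exact hEneTop ((Subgroup.eq_top_iff' _).2 hcon)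
    have hidx : (E.subgroupOf Q).index = p := by
      obtain ⟨j, hj⟩ := (hS.to_le hQS).index (E.subgroupOf Q)
      rcases j with _ | j
      · exact absurd (Subgroup.index_eq_one.1 (by simpa using hj)) hEneTop
      rw [hj] at hidxle ⊢
      have := (Nat.pow_le_pow_iff_right hp.one_lt).1 (hidxle.trans (pow_one p).ge)
      rw [show j + 1 = 1 by omega, pow_one]
    have hco : IsCoatom (E.subgroupOf Q) := CfsgLib.PGroup.isCoatom_of_index_prime (hidx ▸ hp)
    let f : E →* Q :=
      { toFun := fun x => ⟨(q : Ω) * x * (q : Ω)⁻¹ * (x : Ω)⁻¹,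
          (hZmem _ (hQcomm q q.2 x (hEQ x.2))).1⟩
        map_one' := Subtype.ext (by simp)
        map_mul' := fun a b => Subtype.ext (by
          obtain ⟨-, hz⟩ := hZmem _ (hQcomm q q.2 b (hEQ b.2))
          change (q : Ω) * (a * b) * (q : Ω)⁻¹ * ((a : Ω) * b)⁻¹ =
            (q : Ω) * a * (q : Ω)⁻¹ * (a : Ω)⁻¹ * ((q : Ω) * b * (q : Ω)⁻¹ * (b : Ω)⁻¹)
          calc (q : Ω) * (a * b) * (q : Ω)⁻¹ * ((a : Ω) * b)⁻¹
              = (q : Ω) * a * (q : Ω)⁻¹ * (((q : Ω) * b * (q : Ω)⁻¹ * (b : Ω)⁻¹) * (a : Ω)⁻¹) := by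
                group
            _ = (q : Ω) * a * (q : Ω)⁻¹ * ((a : Ω)⁻¹ * ((q : Ω) * b * (q : Ω)⁻¹ * (b : Ω)⁻¹)) := by
                rw [hz _ (Q.inv_mem (hEQ a.2))]
            _ = _ := by group) }
    have hfr : Nat.card f.range ≤ p := by
      refine le_trans ?_ hZcard.le
      rw [← Subgroup.card_subtype Q f.range]
      refine Subgroup.card_le_of_le ?_
      rintro _ ⟨_, ⟨x, rfl⟩, rfl⟩
      exact hQcomm q q.2 x (hEQ x.2)
    have hfk : Nat.card f.ker ≤ p := by
      refine le_trans ?_ hZcard.le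
      rw [← Subgroup.card_subtype E f.ker]
      refine Subgroup.card_le_of_le ?_
      rintro _ ⟨x, hx, rfl⟩
      refine ⟨⟨x, hEQ x.2⟩, Subgroup.mem_center_iff.2 fun r => ?_, rfl⟩
      have hxq : q ∈ Subgroup.centralizer ({(⟨x, hEQ x.2⟩ : Q)} : Set Q) := by
        rw [Subgroup.mem_centralizer_iff]
        rintro _ rfl
        refine Subtype.ext ?_
        have h0 : (q : Ω) * x * (q : Ω)⁻¹ * (x : Ω)⁻¹ = 1 := congrArg Subtype.val hx
        rw [mul_inv_eq_one, mul_inv_eq_iff_eq_mul] at h0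
        exact h0.symm
      have hEc : E.subgroupOf Q ≤ Subgroup.centralizer ({(⟨x, hEQ x.2⟩ : Q)} : Set Q) := by
        intro r hr
        rw [Subgroup.mem_centralizer_iff]
        rintro _ rfl
        exact Subtype.ext (hcentE x x.2 r hr)
      have htop := hco.2 _ (lt_of_le_of_ne hEc fun h => hq (h ▸ hxq))
      exact ((Subgroup.mem_centralizer_iff.1 (htop.ge (Subgroup.mem_top r))) _ rfl).symm
    have h1 := f.ker.card_mul_index
    rw [Subgroup.index_ker] at h1
    have h2 := (E.subgroupOf Q).card_mul_index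
    rw [hidx, Nat.card_congr (Subgroup.subgroupOfEquivOfLe hEQ).toEquiv, ← h1] at h2
    have h3 : Nat.card f.ker * Nat.card f.range * p ≤ p * p * p :=
      Nat.mul_le_mul_right p (Nat.mul_le_mul hfk hfr)
    rw [h2] at h3
    have h4 : p ^ 4 ≤ p ^ 3 := hQc.trans (h3.trans (le_of_eq (by ring)))
    have := (Nat.pow_le_pow_iff_right hp.one_lt).1 h4
    omega
  -- strong embedding forces the invariance of `Z`
  let K : Subgroup (F.autGroup E) :=
    { carrier := {α | ∀ x : E, (x : Ω) ∈ Z ↔ (((α : MulAut E) x : E) : Ω) ∈ Z}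
      one_mem' := fun x => Iff.rfl
      mul_mem' := fun {a b} ha hb x => (hb x).trans (ha ((b : MulAut E) x))
      inv_mem' := fun {a} ha x => by
        rw [ha (((a⁻¹ : F.autGroup E) : MulAut E) x), Subgroup.coe_inv, MulAut.apply_inv_self] }
  have hπ : Function.Injective (QuotientGroup.mk' ((Inn E).subgroupOf (F.autGroup E))) := by
    rw [← MonoidHom.ker_eq_bot_iff, QuotientGroup.ker_mk', hinn]
  set π := QuotientGroup.mk' ((Inn E).subgroupOf (F.autGroup E)) with hπdef
  have hfinA : Finite (F.autGroup E) := inferInstance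
  have hfix : ∀ u : E, ∃ y ∈ ι.range, y ≠ 1 ∧ ((y : MulAut E) u) = u := by
    intro u
    by_contra hcon
    push Not at hcon
    let g : ι.range → Z := fun y => ⟨(u : Ω)⁻¹ * (((y : F.autGroup E) : MulAut E) u : Ω), by
      obtain ⟨r, hr⟩ := y.2
      rw [← hr]
      exact hdiff r r.2 u u.2⟩
    have hinj : Function.Injective g := by
      intro y₁ y₂ h
      have h1 : ((y₁ : F.autGroup E) : MulAut E) u = ((y₂ : F.autGroup E) : MulAut E) u :=
        Subtype.ext (mul_left_cancel (congrArg Subtype.val h))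
      by_contra hne
      refine hcon _ (y₁⁻¹ * y₂).2 (fun h0 => hne ?_) ?_
      · exact Subtype.ext (inv_mul_eq_one.1 h0)
      · change ((((y₁ : F.autGroup E)⁻¹ : F.autGroup E) : MulAut E))
          (((y₂ : F.autGroup E) : MulAut E) u) = u
        rw [← h1, Subgroup.coe_inv, MulAut.inv_apply_self]
    have := Nat.card_le_card_of_injective g hinj
    omega
  have hKtop : K.map π = ⊤ := by
    refine eq_top_of_commuting_conj hM (Y := ι.range.map π) ?_ fun g hg => ?_
    · exact (((hS.to_le hQS).of_surjective _ ι.rangeRestrict_surjective)).map π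
    obtain ⟨α, rfl⟩ := QuotientGroup.mk'_surjective _ g
    have hα : α ∉ K := fun h => hg ⟨α, h, rfl⟩
    obtain ⟨z, hz, hzne⟩ : ∃ z ∈ Z, z ≠ 1 := Subgroup.bot_or_exists_ne_one Z |>.resolve_left
      fun h => hp.ne_one (by rw [← hZcard, h, Subgroup.card_bot])
    have hzgen : Subgroup.zpowers z = Z := by
      refine Subgroup.eq_of_le_of_card_ge (Subgroup.zpowers_le.2 hz) ?_
      rw [hZcard]
      have hd : orderOf z ∣ p := hZcard ▸ (Subgroup.orderOf_mk z hz) ▸
        orderOf_dvd_natCard (G := Z) ⟨z, hz⟩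
      rcases (Nat.dvd_prime hp).1 hd with h | h
      · exact absurd (orderOf_eq_one_iff.1 h) hzne
      · rw [Nat.card_zpowers, h]
    set zE : E := ⟨z, hZE hz⟩ with hzE
    have hZfix : ∀ y ∈ ι.range, ∀ x : E, (x : Ω) ∈ Z → (y : MulAut E) x = x := by
      rintro _ ⟨r, rfl⟩ x hx
      refine Subtype.ext ?_
      change (r : Ω) * x * (r : Ω)⁻¹ = x
      rw [(hZmem _ hx).2 r r.2, mul_inv_cancel_right]
    obtain ⟨y, hy, hy1, hyfix⟩ := hfix ((α : MulAut E) zE)
    obtain ⟨y', hy', hy1', hy'fix⟩ := hfix ((α : MulAut E)⁻¹ zE)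
    refine ⟨π y, ⟨y, hy, rfl⟩, π y', ⟨y', hy', rfl⟩,
      fun h => hy1 (hπ (h.trans (map_one π).symm)),
      fun h => hy1' (hπ (h.trans (map_one π).symm)), ?_⟩
    rw [← map_inv, ← map_mul, ← map_mul, ← map_mul, ← map_mul]
    refine congrArg π (Subtype.ext (MulEquiv.ext fun x => ?_))
    set w : MulAut E := (α : MulAut E) * (y' : MulAut E) * (α : MulAut E)⁻¹ with hw
    change (y : MulAut E) (w x) = w ((y : MulAut E) x)
    have hwfix : ∀ u : E, (u : Ω) ∈ Z → w u = u := by
      intro u hu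
      rw [← hzgen, Subgroup.mem_zpowers_iff] at hu
      obtain ⟨k, hk⟩ := hu
      have hu' : u = zE ^ k := Subtype.ext (by rw [← hk]; simp [zE])
      have : w zE = zE := by
        simp only [hw, MulAut.mul_apply, hy'fix, MulAut.apply_inv_self]
      rw [hu', map_zpow, this]
    -- the two displacements
    set d : E := x⁻¹ * (y : MulAut E) x with hd
    set d' : E := x⁻¹ * w x with hd'
    have hdZ : (d : Ω) ∈ Z := by
      obtain ⟨r, hr⟩ := hy
      rw [hd, ← hr]
      exact hdiff r r.2 x x.2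
    have hyd' : (y : MulAut E) d' = d' := by
      obtain ⟨r, hr⟩ := hy'
      have hv : ((((α : MulAut E)⁻¹ x)⁻¹ * (y' : MulAut E) ((α : MulAut E)⁻¹ x) : E) : Ω) ∈ Z := by
        rw [← hr]
        exact hdiff r r.2 _ ((α : MulAut E)⁻¹ x).2
      set v : E := ((α : MulAut E)⁻¹ x)⁻¹ * (y' : MulAut E) ((α : MulAut E)⁻¹ x) with hvdef
      rw [← hzgen, Subgroup.mem_zpowers_iff] at hv
      obtain ⟨k, hk⟩ := hv
      have hv' : v = zE ^ k := Subtype.ext (by rw [← hk]; simp [zE])
      have hd'v : d' = (α : MulAut E) v := by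
        rw [hd', hvdef, map_mul, map_inv, MulAut.apply_inv_self, hw]
        rfl
      rw [hd'v, hv', map_zpow, map_zpow, hyfix]
    have hwd : w d = d := hwfix d hdZ
    have e1 : (y : MulAut E) x = x * d := by rw [hd, mul_inv_cancel_left]
    have e2 : w x = x * d' := by rw [hd', mul_inv_cancel_left]
    have l : (y : MulAut E) (x * d') = x * d * d' :=
      (map_mul (y : MulAut E) x d').trans (congrArg₂ (· * ·) e1 hyd')
    have r : w (x * d) = x * d' * d := (map_mul w x d).trans (congrArg₂ (· * ·) e2 hwd)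
    calc (y : MulAut E) (w x) = x * d * d' := (congrArg _ e2).trans l
      _ = x * d' * d :=
        (mul_assoc x d d').trans ((congrArg (x * ·) (hab d d')).trans (mul_assoc x d' d).symm)
      _ = w ((y : MulAut E) x) := r.symm.trans (congrArg _ e1.symm)
  refine hEne (hinner fun α hα x hx => ?_)
  obtain ⟨β, hβ, hβe⟩ := hKtop.ge (Subgroup.mem_top (π ⟨α, hα⟩))
  rw [hπ hβe] at hβ
  exact (hβ x).1 hx

end CfsgLib.Fusion
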