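import Cfsg.Agent.Lib.Fusion.HomocyclicEssential
import Cfsg.Agent.Lib.PGroup.Extraspecial
import Cfsg.Agent.Lib.Spectrum.Semidirect

/-!
# Essential subgroups of order `p ^ 4`
-/

set_option autoImplicit false

open Cfsg Cfsg.FusionSystem
open scoped commutatorElement

namespace CfsgLib.Fusion

/-- Being a direct product with an extraspecial factor, up to universe. -/
theorem exists_extraspecial_model {p : ℕ} [Fact p.Prime] {E : Type*} [Group E] [Finite E]
    (hE : IsPGroup p E) (hZ : Nat.card (Subgroup.center E) = p) (hna : ¬ IsMulCommutative E)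
    (hexp : ∀ x : E, x ^ p = 1) (hc : ∀ a b : E, ⁅a, b⁆ ∈ Subgroup.center E) :
    ∃ (E₀ : Type) (_ : Group E₀) (_ : Finite E₀), Cfsg.IsExtraspecial p E₀ ∧
      (∀ x : E₀, x ^ p = 1) ∧ Nonempty (E ≃* E₀) := by
  obtain ⟨E₀, _, _, ⟨e⟩⟩ := CfsgLib.Spectrum.exists_small_equiv E
  have hexp₀ : ∀ x : E₀, x ^ p = 1 := fun x => e.injective (by rw [map_pow, map_one]; exact hexp _)
  refine ⟨E₀, inferInstance, inferInstance,
    CfsgLib.PGroup.isExtraspecial_mk (hE.of_equiv e.symm) ?_ ?_ ?_ ?_, hexp₀, ⟨e.symm⟩⟩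
  · rw [← hZ]; exact Nat.card_congr (Subgroup.centerCongr e).toEquiv
  · exact fun h => hna ⟨⟨fun a b => e.symm.injective (by
      rw [map_mul, map_mul, h.is_comm.comm])⟩⟩
  · intro a b
    rw [Subgroup.mem_center_iff]
    intro g
    apply e.injective
    rw [map_mul, map_mul, map_commutatorElement]
    exact Subgroup.mem_center_iff.1 (hc _ _) _
  · intro a
    rw [hexp₀]
    exact one_mem _

variable {p : ℕ} [Fact p.Prime]

/-- Splitting off a central factor from a group of order `p ^ 4` with centre of type `(p, p)`. -/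
theorem exists_prod_structure {G : Type*} [Group G] [Finite G] (hG : Nat.card G = p ^ 4)
    (hc : Nat.card (Subgroup.center G) = p ^ 2) (hz : ∀ z ∈ Subgroup.center G, z ^ p = 1)
    {x y : G} (hD : Nat.card (Subgroup.zpowers ⁅x, y⁆) = p)
    (hcomm : ∀ a b : G, ⁅a, b⁆ ∈ Subgroup.zpowers ⁅x, y⁆)
    (hDZ : Subgroup.zpowers ⁅x, y⁆ ≤ Subgroup.center G)
    (hpD : ∀ u : G, u ^ p ∈ Subgroup.zpowers ⁅x, y⁆)
    (hgen : Subgroup.center G ⊔ Subgroup.zpowers x ⊔ Subgroup.zpowers y = ⊤) :
    ∃ E : Subgroup G, x ∈ E ∧ y ∈ E ∧ Nat.card E = p ^ 3 ∧ Nat.card (Subgroup.center E) = p ∧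
      Nonempty (G ≃* E × Multiplicative (ZMod p)) := by
  have hp : p.Prime := Fact.out
  set Z := Subgroup.center G
  set D := Subgroup.zpowers ⁅x, y⁆
  have hnorm : ∀ K : Subgroup G, D ≤ K → K.Normal := fun K hK => ⟨fun k hk g => by
    have : g * k * g⁻¹ = ⁅g, k⁆ * k := by rw [commutatorElement_def]; group
    rw [this]
    exact mul_mem (hK (hcomm g k)) hk⟩
  set K := D ⊔ Subgroup.zpowers x
  set E := K ⊔ Subgroup.zpowers y
  have hDn : D.Normal := hnorm D le_rfl
  have hKn : K.Normal := hnorm K le_sup_left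
  have hxE : x ∈ E := Subgroup.mem_sup_left (Subgroup.mem_sup_right (Subgroup.mem_zpowers x))
  have hyE : y ∈ E := Subgroup.mem_sup_right (Subgroup.mem_zpowers y)
  have hDE : D ≤ E := le_sup_left.trans le_sup_left
  have hord : orderOf ⁅x, y⁆ = p := by rw [← Nat.card_zpowers]; exact hD
  have hEZ : ∀ e ∈ E, e ∈ Z → e ∈ D := by
    intro e he heZ
    rw [← SetLike.mem_coe, Subgroup.normal_mul] at he
    obtain ⟨k, hk, b, ⟨j, rfl⟩, rfl⟩ := he
    rw [SetLike.mem_coe, ← SetLike.mem_coe, Subgroup.normal_mul] at hk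
    obtain ⟨d, hd, a, ⟨i, rfl⟩, rfl⟩ := hk
    have hxy : x ^ i * y ^ j ∈ Z := by
      have := mul_mem (inv_mem (hDZ hd)) heZ
      simpa [mul_assoc] using this
    have hxyZ : ⁅x, y⁆ ∈ Z := hDZ (Subgroup.mem_zpowers _)
    -- both exponents are divisible by `p`
    have hpow : ∀ (u : G) (k : ℤ), (p : ℤ) ∣ k → u ^ k ∈ Z := by
      intro u k ⟨c, hc'⟩
      rw [hc', zpow_mul, zpow_natCast]
      refine zpow_mem ?_ c
      rw [Subgroup.mem_center_iff]
      intro g
      refine (commutatorElement_eq_one_iff_mul_comm.1 ?_)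
      have hgu : ⁅g, u⁆ ∈ Z := hDZ (hcomm g u)
      rw [CfsgLib.PGroup.comm_pow_right hgu]
      obtain ⟨l, hl⟩ := hcomm g u
      change ⁅x, y⁆ ^ l = _ at hl
      rw [← hl, ← zpow_natCast, ← zpow_mul, mul_comm, zpow_mul, zpow_natCast, ← hord,
        pow_orderOf_eq_one, one_zpow]
    have hzl : ∀ k : ℤ, ⁅x ^ k, y⁆ = ⁅x, y⁆ ^ k := by
      intro k
      obtain ⟨n, rfl | rfl⟩ := k.eq_nat_or_neg
      · rw [zpow_natCast, zpow_natCast, CfsgLib.PGroup.comm_pow_left hxyZ]
      · have h1 := CfsgLib.PGroup.comm_mul_left (a := x ^ (-(n : ℤ))) (b := x ^ n) (c := y)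
          (hDZ (hcomm _ _))
        rw [← zpow_natCast x n, ← zpow_add, neg_add_cancel, zpow_zero, commutatorElement_one_left,
          zpow_natCast, CfsgLib.PGroup.comm_pow_left hxyZ] at h1
        rw [zpow_neg, zpow_natCast] at h1
        rw [zpow_neg, zpow_neg, zpow_natCast, zpow_natCast]
        exact eq_inv_of_mul_eq_one_left h1.symm
    have hzr : ∀ k : ℤ, ⁅x, y ^ k⁆ = ⁅x, y⁆ ^ k := by
      intro k
      obtain ⟨n, rfl | rfl⟩ := k.eq_nat_or_neg
      · rw [zpow_natCast, zpow_natCast, CfsgLib.PGroup.comm_pow_right hxyZ]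
      · have h1 := CfsgLib.PGroup.comm_mul_right (a := x) (b := y ^ (-(n : ℤ))) (c := y ^ n)
          (hDZ (hcomm _ _))
        rw [← zpow_natCast y n, ← zpow_add, neg_add_cancel, zpow_zero, commutatorElement_one_right,
          zpow_natCast, CfsgLib.PGroup.comm_pow_right hxyZ] at h1
        rw [zpow_neg, zpow_natCast] at h1
        rw [zpow_neg, zpow_neg, zpow_natCast, zpow_natCast]
        exact eq_inv_of_mul_eq_one_left h1.symm
    have hi : (p : ℤ) ∣ i := by
      have h2 : ⁅x ^ i * y ^ j, y⁆ = 1 :=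
        commutatorElement_eq_one_iff_mul_comm.2 (Subgroup.mem_center_iff.1 hxy y).symm
      rw [CfsgLib.PGroup.comm_mul_left (hDZ (hcomm _ _)), commutatorElement_eq_one_iff_mul_comm.2
        ((Commute.refl y).zpow_left j).eq, mul_one, hzl, ← orderOf_dvd_iff_zpow_eq_one, hord] at h2
      exact h2
    have hj : (p : ℤ) ∣ j := by
      have h2 : ⁅x, x ^ i * y ^ j⁆ = 1 :=
        commutatorElement_eq_one_iff_mul_comm.2 (Subgroup.mem_center_iff.1 hxy x)
      rw [CfsgLib.PGroup.comm_mul_right (hDZ (hcomm _ _)), commutatorElement_eq_one_iff_mul_comm.2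
        ((Commute.refl x).zpow_right i).eq, one_mul, hzr, ← orderOf_dvd_iff_zpow_eq_one, hord] at h2
      exact h2
    obtain ⟨i', rfl⟩ := hi
    obtain ⟨j', rfl⟩ := hj
    simp only [zpow_mul, zpow_natCast]
    exact mul_mem (mul_mem hd (zpow_mem (hpD x) _)) (zpow_mem (hpD y) _)
  have htop : E ⊔ Z = ⊤ := top_le_iff.1 (hgen.ge.trans (sup_le (sup_le le_sup_right
    (Subgroup.zpowers_le.2 (Subgroup.mem_sup_left hxE)))
    (Subgroup.zpowers_le.2 (Subgroup.mem_sup_left hyE))))
  obtain ⟨w, hwZ, hwD⟩ : ∃ w ∈ Z, w ∉ D := SetLike.exists_of_lt (lt_of_le_of_ne hDZ fun h => by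
    rw [← h, hD] at hc
    have h1 : p ^ 1 = p ^ 2 := (pow_one p).trans hc
    exact absurd (Nat.pow_right_injective hp.two_le h1) (by norm_num))
  have hw1 : w ≠ 1 := fun h => hwD (h ▸ one_mem _)
  have hwc : Nat.card (Subgroup.zpowers w) = p := by
    rw [Nat.card_zpowers]
    exact orderOf_eq_prime (hz w hwZ) hw1
  have hwZ' : Subgroup.zpowers w ≤ Z := Subgroup.zpowers_le.2 hwZ
  have hZeq : D ⊔ Subgroup.zpowers w = Z := by
    refine Subgroup.eq_of_le_of_card_ge (sup_le hDZ hwZ') ?_
    have hlt : D < D ⊔ Subgroup.zpowers w := lt_of_le_of_ne le_sup_left fun h =>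
      hwD (h.ge (Subgroup.mem_sup_right (Subgroup.mem_zpowers w)))
    obtain ⟨k, hk⟩ := ((IsPGroup.of_card hG).to_subgroup (D ⊔ Subgroup.zpowers w)).exists_card_eq
    rw [hc, hk]
    refine Nat.pow_le_pow_right hp.pos ?_
    by_contra hk2
    refine hlt.ne (Subgroup.eq_of_le_of_card_ge le_sup_left ?_)
    rw [hk, hD]
    exact (Nat.pow_le_pow_right hp.pos (show k ≤ 1 by omega)).trans (pow_one p).le
  let f : E × Subgroup.zpowers w →* G :=
    MonoidHom.noncommCoprod E.subtype (Subgroup.zpowers w).subtype fun e u =>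
      Subgroup.mem_center_iff.1 (hwZ' u.2) e
  have hf : Function.Bijective f := by
    refine ⟨(injective_iff_map_eq_one f).2 ?_, fun g => ?_⟩
    · rintro ⟨e, u⟩ heu
      have h1 : (e : G) * u = 1 := heu
      have heD : (e : G) ∈ D := hEZ e e.2 (by
        rw [eq_inv_of_mul_eq_one_left h1]; exact inv_mem (hwZ' u.2))
      have huD : (u : G) ∈ D := by rw [eq_inv_of_mul_eq_one_right h1]; exact inv_mem heD
      have hu1 : (u : G) = 1 := by
        by_contra hu1
        refine hwD ?_
        have heq : Subgroup.zpowers (u : G) = Subgroup.zpowers w := by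
          refine Subgroup.eq_of_le_of_card_ge (Subgroup.zpowers_le.2 u.2) ?_
          obtain ⟨v, hv⟩ := u.2
          rw [hwc, Nat.card_zpowers, orderOf_eq_prime (hz _ (hwZ' u.2)) hu1]
        exact Subgroup.zpowers_le.2 huD (heq.ge (Subgroup.mem_zpowers w))
      rw [hu1, mul_one] at h1
      exact Prod.ext (Subtype.ext h1) (Subtype.ext hu1)
    · have hg : g ∈ E ⊔ Subgroup.zpowers w := by
        have : E ⊔ Subgroup.zpowers w = ⊤ := top_le_iff.1 (htop.ge.trans (sup_le le_sup_left
          (hZeq.ge.trans (sup_le (hDE.trans le_sup_left) le_sup_right))))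
        rw [this]
        exact Subgroup.mem_top g
      have := hnorm E hDE
      rw [← SetLike.mem_coe, Subgroup.normal_mul] at hg
      obtain ⟨e, he, u, hu, rfl⟩ := hg
      exact ⟨(⟨e, he⟩, ⟨u, hu⟩), rfl⟩
  have hEc : Nat.card E = p ^ 3 := by
    have h1 := Nat.card_congr (MulEquiv.ofBijective f hf).toEquiv
    rw [Nat.card_prod, hwc, hG, pow_succ p 3] at h1
    exact Nat.eq_of_mul_eq_mul_right hp.pos h1
  have hcen : (Subgroup.center E).map E.subtype = D := by
    refine le_antisymm ?_ fun d hd => ⟨⟨d, hDE hd⟩, ?_, rfl⟩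
    · rintro _ ⟨e, he, rfl⟩
      refine hEZ e e.2 ?_
      have h1 : (⊤ : Subgroup G) ≤ Subgroup.centralizer {(e : G)} := by
        rw [← htop]
        refine sup_le (fun g hg => Subgroup.mem_centralizer_singleton_iff.2 ?_) fun g hg =>
          Subgroup.mem_centralizer_singleton_iff.2 (Subgroup.mem_center_iff.1 hg _).symm
        exact congrArg Subtype.val (Subgroup.mem_center_iff.1 he ⟨g, hg⟩)
      exact Subgroup.mem_center_iff.2 fun g =>
        Subgroup.mem_centralizer_singleton_iff.1 (h1 (Subgroup.mem_top g))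
    · exact Subgroup.mem_center_iff.2 fun g => Subtype.ext (Subgroup.mem_center_iff.1 (hDZ hd) g)
  have hcz : Nat.card (Multiplicative (ZMod p)) = p :=
    (Nat.card_congr Multiplicative.toAdd).trans (Nat.card_zmod p)
  exact ⟨E, hxE, hyE, hEc, by rw [← hD, ← hcen, Subgroup.card_map_of_injective E.subtype_injective],
    ⟨(MulEquiv.ofBijective f hf).symm.trans
      (MulEquiv.prodCongr (MulEquiv.refl E) (mulEquivOfPrimeCardEq hwc hcz))⟩⟩

variable {Ω : Type*} [Group Ω] {S : Subgroup Ω} [Finite S] {F : FusionSystem S} {H : Subgroup Ω}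

/-- No invariant flag through subgroups of orders `p`, `p ^ 2` and `p ^ 3`. -/
theorem false_of_flag (hS : IsPGroup p S) (hF : F.IsSaturated p) (hH : F.IsEssential p H)
    (hcard : Nat.card H = p ^ 4) {A B C : Subgroup H} (hAB : A ≤ B) (hBC : B ≤ C)
    (hA : Nat.card A = p) (hB : Nat.card B = p ^ 2) (hC : Nat.card C = p ^ 3)
    (iA : ∀ (α : MulAut H), ∀ x ∈ A, α x ∈ A) (iB : ∀ (α : MulAut H), ∀ x ∈ B, α x ∈ B)
    (iC : ∀ (α : MulAut H), ∀ x ∈ C, α x ∈ C) : False := by
  have := finite_of_le hH.1.1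
  have hpos : 0 < p := (Fact.out : p.Prime).pos
  refine false_of_fine_series hS hF hH
    (fun i => if i = 0 then ⊥ else if i = 1 then A else if i = 2 then B else if i = 3 then C else ⊤)
    4 rfl rfl (fun α _ i _ y hy => ?_) fun i hi => ?_
  · split_ifs at hy ⊢
    · rw [Subgroup.mem_bot] at hy ⊢; rw [hy, map_one]
    · exact iA α y hy
    · exact iB α y hy
    · exact iC α y hy
    · exact Subgroup.mem_top _
  · interval_cases i <;> simp only [Nat.reduceEqDiff, if_true, if_false]
    · exact ⟨bot_le, (Subgroup.relIndex_bot_left A).trans_le hA.le⟩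
    · refine ⟨hAB, ?_⟩
      have := Subgroup.relIndex_mul_relIndex ⊥ A B bot_le hAB
      rw [Subgroup.relIndex_bot_left, Subgroup.relIndex_bot_left, hA, hB, pow_two] at this
      exact (Nat.eq_of_mul_eq_mul_left hpos this).le
    · refine ⟨hBC, ?_⟩
      have := Subgroup.relIndex_mul_relIndex ⊥ B C bot_le hBC
      rw [Subgroup.relIndex_bot_left, Subgroup.relIndex_bot_left, hB, hC, pow_succ p 2] at this
      exact (Nat.eq_of_mul_eq_mul_left (pow_pos hpos 2) this).le
    · refine ⟨le_top, ?_⟩
      have := C.card_mul_index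
      rw [hC, hcard, pow_succ p 3] at this
      rw [Subgroup.relIndex_top_right]
      exact (Nat.eq_of_mul_eq_mul_left (pow_pos hpos 3) this).le

omit [Fact p.Prime] in
theorem center_aut_apply_mem {G : Type*} [Group G] (α : MulAut G) :
    ∀ x ∈ Subgroup.center G, α x ∈ Subgroup.center G := fun x hx => by
  rw [Subgroup.mem_center_iff]
  intro g
  rw [← MulAut.apply_inv_self G α g, ← map_mul, ← map_mul]
  exact congrArg α (Subgroup.mem_center_iff.1 hx _)

/-- The abelian case. -/
theorem card_fourth_abelian (hS : IsPGroup p S) (hF : F.IsSaturated p) (hH : F.IsEssential p H)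
    (hcard : Nat.card H = p ^ 4) (hab : IsMulCommutative H) :
    Cfsg.IsElementaryAbelian p H ∨
      Nonempty (↥H ≃* Multiplicative (ZMod (p ^ 2) × ZMod p × ZMod p)) ∨
      ((p = 2 ∨ p = 3) ∧ Nonempty (↥H ≃* Multiplicative (ZMod (p ^ 2) × ZMod (p ^ 2)))) := by
  classical
  have hp : p.Prime := Fact.out
  have := finite_of_le hH.1.1
  have hP := hS.to_le hH.1.1
  let _ : CommGroup H := { (inferInstance : Group H) with mul_comm := hab.is_comm.comm }
  obtain ⟨ι, hι, q, hq, ⟨e⟩⟩ := CommGroup.equiv_prod_multiplicative_zmod_of_finite H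
  have hqp : ∀ i, ∃ k, q i = p ^ k := by
    intro i
    have h1 : q i ∣ p ^ 4 := by
      rw [← hcard, Nat.card_congr e.toEquiv, Nat.card_pi]
      refine Dvd.dvd.trans ?_ (Finset.dvd_prod_of_mem _ (Finset.mem_univ i))
      rw [Nat.card_congr Multiplicative.toAdd, Nat.card_zmod]
    obtain ⟨k, -, hk⟩ := (Nat.dvd_prime_pow Fact.out).1 h1
    exact ⟨k, hk⟩
  choose a ha using hqp
  obtain rfl : q = fun i => p ^ a i := funext ha
  have ha0 : ∀ i, 1 ≤ a i := fun i => Nat.pos_of_ne_zero fun h => by
    have := hq i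
    simp [h] at this
  have hsum : ∑ i, a i = 4 := by
    have h1 := Nat.card_congr e.toEquiv
    rw [hcard, Nat.card_pi, Finset.prod_congr rfl
      (fun i _ => (Nat.card_congr Multiplicative.toAdd).trans (Nat.card_zmod (p ^ a i))),
      Finset.prod_pow_eq_pow_sum] at h1
    exact (Nat.pow_right_injective hp.two_le h1).symm
  have hrk : Fintype.card ι ≤ 4 := by
    rw [← hsum, Fintype.card_eq_sum_ones]
    exact Finset.sum_le_sum fun i _ => ha0 i
  obtain ⟨i, i', hii, hne⟩ : ∃ i i', a i = a i' ∧ i ≠ i' := by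
    simpa [Function.Injective] using not_distinct_of_isEssential hS hF hH a e
  by_cases h1 : ∀ l, a l = 1
  · refine Or.inl ⟨hab, fun x hx => ?_⟩
    have h2 : (⟨x, hx⟩ : H) ^ p = 1 := e.injective (by
      rw [map_pow, map_one]
      funext l
      refine orderOf_dvd_iff_pow_eq_one.1 ((orderOf_dvd_natCard _).trans ?_)
      rw [Nat.card_congr Multiplicative.toAdd, Nat.card_zmod]
      change p ^ a l ∣ p
      rw [h1 l, pow_one])
    exact congrArg (fun w : H => (w : Ω)) h2
  push Not at h1
  obtain ⟨l, hl⟩ := h1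
  have hsub : ∑ x ∈ ({i, i'} : Finset ι), a x ≤ 4 := hsum ▸ Finset.sum_le_univ_sum_of_nonneg
    (fun _ => Nat.zero_le _)
  rw [Finset.sum_pair hne] at hsub
  rcases Nat.lt_or_ge (a i) 2 with hi | hi
  · -- type `(2, 1, 1)`
    refine Or.inr (Or.inl ?_)
    have hi1 : a i = 1 := le_antisymm (by omega) (ha0 i)
    have hli : l ≠ i := fun h => hl (h ▸ hi1)
    have hli' : l ≠ i' := fun h => hl (h ▸ hii ▸ hi1)
    have hl2 := ha0 l
    have h3 : ∑ x ∈ ({l, i, i'} : Finset ι), a x = a l + (a i + a i') := by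
      rw [Finset.sum_insert (by simp [hli, hli']), Finset.sum_pair hne]
    have huniv : ({l, i, i'} : Finset ι) = Finset.univ := by
      refine Finset.eq_univ_of_forall fun m => ?_
      by_contra hm
      have := Finset.sum_le_univ_sum_of_nonneg (f := a) (s := insert m ({l, i, i'} : Finset ι))
        (fun _ => Nat.zero_le _)
      rw [Finset.sum_insert hm, h3, hsum] at this
      have := ha0 m
      omega
    have hal : a l = 2 := by
      rw [← huniv, h3] at hsum
      omega
    let cl : Multiplicative (ZMod (p ^ a l)) ≃* Multiplicative (ZMod (p ^ 2)) :=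
      AddEquiv.toMultiplicative (ZMod.ringEquivCongr (by rw [hal])).toAddEquiv
    let c1 : ∀ m, a m = 1 → (Multiplicative (ZMod (p ^ a m)) ≃* Multiplicative (ZMod p)) := fun m hm =>
      AddEquiv.toMultiplicative (ZMod.ringEquivCongr (by rw [hm, pow_one])).toAddEquiv
    let g : H →* Multiplicative (ZMod (p ^ 2)) × Multiplicative (ZMod p) × Multiplicative (ZMod p) :=
      (cl.toMonoidHom.comp ((Pi.evalMonoidHom _ l).comp e.toMonoidHom)).prod
        (((c1 i hi1).toMonoidHom.comp ((Pi.evalMonoidHom _ i).comp e.toMonoidHom)).prod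
        ((c1 i' (hii ▸ hi1)).toMonoidHom.comp ((Pi.evalMonoidHom _ i').comp e.toMonoidHom)))
    have hg : Function.Bijective g := by
      refine (Nat.bijective_iff_injective_and_card g).2 ⟨fun x y h => e.injective (funext fun m => ?_), ?_⟩
      · have hm := huniv.ge (Finset.mem_univ m)
        simp only [Finset.mem_insert, Finset.mem_singleton] at hm
        rcases hm with rfl | rfl | rfl
        · exact cl.injective (congrArg Prod.fst h)
        · exact (c1 _ (by omega)).injective (congrArg (fun z => z.2.1) h)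
        · exact (c1 _ (by omega)).injective (congrArg (fun z => z.2.2) h)
      · simp only [hcard, Nat.card_prod, Nat.card_congr Multiplicative.toAdd, Nat.card_zmod]
        ring
    exact ⟨(MulEquiv.ofBijective g hg).trans (((MulEquiv.refl _).prodCongr
      (MulEquiv.prodMultiplicative _ _).symm).trans (MulEquiv.prodMultiplicative _ _).symm)⟩
  · -- type `(2, 2)`
    refine Or.inr (Or.inr ?_)
    have h22 : a i = 2 := by omega
    have huniv : ({i, i'} : Finset ι) = Finset.univ := by
      refine Finset.eq_univ_of_forall fun m => ?_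
      by_contra hm
      have := Finset.sum_le_univ_sum_of_nonneg (f := a) (s := insert m ({i, i'} : Finset ι))
        (fun _ => Nat.zero_le _)
      rw [Finset.sum_insert hm, Finset.sum_pair hne, hsum] at this
      have := ha0 m
      omega
    let c : ∀ m, a m = 2 → (Multiplicative (ZMod (p ^ a m)) ≃* Multiplicative (ZMod (p ^ 2))) :=
      fun m hm => AddEquiv.toMultiplicative (ZMod.ringEquivCongr (by rw [hm])).toAddEquiv
    let g : H →* Multiplicative (ZMod (p ^ 2)) × Multiplicative (ZMod (p ^ 2)) :=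
      ((c i h22).toMonoidHom.comp ((Pi.evalMonoidHom _ i).comp e.toMonoidHom)).prod
      ((c i' (hii ▸ h22)).toMonoidHom.comp ((Pi.evalMonoidHom _ i').comp e.toMonoidHom))
    have hg : Function.Bijective g := by
      refine (Nat.bijective_iff_injective_and_card g).2 ⟨fun x y h => e.injective (funext fun m => ?_), ?_⟩
      · have hm := huniv.ge (Finset.mem_univ m)
        simp only [Finset.mem_insert, Finset.mem_singleton] at hm
        rcases hm with rfl | rfl
        · exact (c _ (by omega)).injective (congrArg Prod.fst h)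
        · exact (c _ (by omega)).injective (congrArg Prod.snd h)
      · simp only [hcard, Nat.card_prod, Nat.card_congr Multiplicative.toAdd, Nat.card_zmod]
        ring
    let G := (MulEquiv.ofBijective g hg).trans (MulEquiv.prodMultiplicative _ _).symm
    refine ⟨?_, ⟨G⟩⟩
    have hp3 : p ≤ 3 := by
      have hfr : (frattini H).index ≤ p ^ 2 := by
        let P := (powMonoidHom p : H →* H).range
        have hle : P ≤ frattini H := by
          rintro _ ⟨u, rfl⟩
          exact CfsgLib.PGroup.pow_mem_frattini hP u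
        refine (Nat.le_of_dvd (Nat.pos_of_ne_zero Subgroup.index_ne_zero_of_finite)
          (Subgroup.index_dvd_of_le hle)).trans ?_
        have hk : (powMonoidHom p : H →* H).ker.map g ≤
            ((powMonoidHom p : Multiplicative (ZMod (p ^ 2)) →* _).ker).prod
              (powMonoidHom p : Multiplicative (ZMod (p ^ 2)) →* _).ker := by
          rintro _ ⟨u, hu, rfl⟩
          have hu' : u ^ p = 1 := hu
          exact ⟨show (g u).1 ^ p = 1 by rw [← Prod.pow_fst, ← map_pow, hu', map_one]; rfl,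
            show (g u).2 ^ p = 1 by rw [← Prod.pow_snd, ← map_pow, hu', map_one]; rfl⟩
        have hPi : P.index = Nat.card (powMonoidHom p : H →* H).ker := by
          have h2 := P.card_mul_index
          have h3 := (powMonoidHom p : H →* H).ker.card_mul_index
          rw [Subgroup.index_ker] at h3
          rw [← h3, mul_comm] at h2
          exact Nat.eq_of_mul_eq_mul_right Nat.card_pos h2
        rw [hPi, ← Subgroup.card_map_of_injective (f := g) hg.1]
        refine (Subgroup.card_le_of_le hk).trans ?_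
        have : IsCyclic (Multiplicative (ZMod (p ^ 2))) := isCyclic_multiplicative
        have : NeZero (p ^ 2) := ⟨(pow_pos hp.pos 2).ne'⟩
        rw [Nat.card_congr (Subgroup.prodEquiv _ _).toEquiv, Nat.card_prod,
          IsCyclic.card_powMonoidHom_ker, Nat.card_congr Multiplicative.toAdd, Nat.card_zmod,
          Nat.gcd_eq_right (dvd_pow_self p two_ne_zero), pow_two]
      rcases essential_rank_two hS hF hH hab hfr with ⟨-, h4⟩ | ⟨h3, -⟩
      · rw [hcard] at h4
        exact absurd (Nat.pow_right_injective hp.two_le h4) (by norm_num)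
      · exact h3
    have := hp.two_le
    omega

/-- The nonabelian case. -/
theorem card_fourth_nonabelian (hS : IsPGroup p S) (hF : F.IsSaturated p) (hH : F.IsEssential p H)
    (hcard : Nat.card H = p ^ 4) (hab : ¬ IsMulCommutative H) :
    (Odd p ∧ ∃ (E : Type) (_ : Group E) (_ : Finite E), Cfsg.IsExtraspecial p E ∧ Nat.card E = p ^ 3 ∧
        (∀ x : E, x ^ p = 1) ∧ Nonempty (↥H ≃* E × Multiplicative (ZMod p))) ∨
      (p = 2 ∧ Nonempty (↥H ≃* QuaternionGroup 2 × Multiplicative (ZMod 2))) ∨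
      ((∀ x ∈ H, x ^ (p ^ 2) = 1) ∧ IsCyclic ↥(Subgroup.center ↥H) ∧
        Nat.card (Subgroup.center ↥H) = p ^ 2) := by
  classical
  have hp : p.Prime := Fact.out
  have := finite_of_le hH.1.1
  have hP := hS.to_le hH.1.1
  have hab' : ¬ ∀ a b : H, a * b = b * a := fun h => hab ⟨⟨h⟩⟩
  set Z := Subgroup.center H
  have : Nontrivial H := Finite.one_lt_card_iff_nontrivial.1
    (hcard ▸ Nat.one_lt_pow (by norm_num) hp.one_lt)
  obtain ⟨j, hj, hje⟩ := (Nat.dvd_prime_pow hp).1 (hcard ▸ Z.card_subgroup_dvd_card)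
  have hj0 : j ≠ 0 := fun h => by
    have := hP.center_nontrivial
    exact (Finite.one_lt_card_iff_nontrivial.2 ‹_›).ne' (by rw [hje, h, pow_zero])
  have hidx : Z.index = p ^ (4 - j) := by
    have := Z.card_mul_index
    rw [hje, hcard, show p ^ 4 = p ^ j * p ^ (4 - j) by rw [← pow_add]; congr 1; omega] at this
    exact Nat.eq_of_mul_eq_mul_left (pow_pos hp.pos j) this
  have hnc : ¬ IsCyclic (H ⧸ Z) := fun h => hab' fun x y =>
    commutative_of_cyclic_center_quotient (QuotientGroup.mk' Z) (QuotientGroup.ker_mk' Z).le x y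
  have hj2 : j ≤ 2 := by
    by_contra h
    refine hnc ?_
    have hc : Nat.card (H ⧸ Z) = p ^ (4 - j) := hidx
    rcases Nat.eq_zero_or_pos (4 - j) with h0 | h0
    · rw [h0, pow_zero] at hc
      have := (Nat.card_eq_one_iff_unique.1 hc).1
      exact isCyclic_of_subsingleton
    · rw [show 4 - j = 1 by omega, pow_one] at hc
      exact isCyclic_of_prime_card hc
  rcases Nat.lt_or_ge j 2 with hj1 | hj1
  · -- centre of order `p`
    obtain rfl : j = 1 := by omega
    exfalso
    rw [pow_one] at hje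
    by_cases hcl : ∀ a b : H, ⁅a, b⁆ ∈ Z
    · obtain ⟨n, hn⟩ := CfsgLib.PGroup.exists_card_eq_of_center_inf hP (le_refl Z) hje hcl ⊤ le_top
        (by rw [top_inf_eq, Subgroup.coe_top, Subgroup.centralizer_univ])
      rw [Subgroup.card_top, hcard] at hn
      have := Nat.pow_right_injective hp.two_le hn
      omega
    -- the second centre
    let W := (Subgroup.center (H ⧸ Z)).comap (QuotientGroup.mk' Z)
    have hZW : Z ≤ W := fun z hz => by
      rw [Subgroup.mem_comap, show QuotientGroup.mk' Z z = 1 from (QuotientGroup.eq_one_iff z).2 hz]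
      exact one_mem _
    have hQ : Nat.card (H ⧸ Z) = p ^ 3 := hidx
    have hQab : ¬ ∀ a b : H ⧸ Z, a * b = b * a := fun h => hcl fun a b => by
      rw [← QuotientGroup.eq_one_iff, ← QuotientGroup.mk'_apply, map_commutatorElement,
        commutatorElement_eq_one_iff_mul_comm]
      exact h _ _
    have hQp : IsPGroup p (H ⧸ Z) := hP.to_quotient Z
    have hQz : Nat.card (Subgroup.center (H ⧸ Z)) = p := by
      have : Nontrivial (H ⧸ Z) := Finite.one_lt_card_iff_nontrivial.1
        (hQ ▸ Nat.one_lt_pow three_ne_zero hp.one_lt)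
      obtain ⟨k, hk, hke⟩ := (Nat.dvd_prime_pow hp).1
        (hQ ▸ (Subgroup.center (H ⧸ Z)).card_subgroup_dvd_card)
      have hk0 : k ≠ 0 := fun h => by
        have := hQp.center_nontrivial
        exact (Finite.one_lt_card_iff_nontrivial.2 ‹_›).ne' (by rw [hke, h, pow_zero])
      have hk1 : ¬ 2 ≤ k := fun h => by
        have hi := (Subgroup.center (H ⧸ Z)).card_mul_index
        rw [hke, hQ] at hi
        obtain ⟨l, -, hl⟩ := (Nat.dvd_prime_pow hp).1 (hQ ▸ (Subgroup.center (H ⧸ Z)).index_dvd_card)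
        rw [hl, ← pow_add] at hi
        have := Nat.pow_right_injective hp.two_le hi
        refine hQab fun a b => ?_
        have hcy : IsCyclic ((H ⧸ Z) ⧸ Subgroup.center (H ⧸ Z)) := by
          have hl' : Nat.card ((H ⧸ Z) ⧸ Subgroup.center (H ⧸ Z)) = p ^ l := hl
          rcases Nat.lt_or_ge l 1 with h1 | h1
          · obtain rfl : l = 0 := by omega
            have := (Nat.card_eq_one_iff_unique.1 (hl'.trans (pow_zero p))).1
            exact isCyclic_of_subsingleton
          · obtain rfl : l = 1 := by omega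
            exact isCyclic_of_prime_card (hl'.trans (pow_one p))
        exact commutative_of_cyclic_center_quotient (QuotientGroup.mk' _)
          (QuotientGroup.ker_mk' _).le a b
      rw [hke, show k = 1 by omega, pow_one]
    have hWc : Nat.card W = p ^ 2 := by
      have h1 := W.card_mul_index
      rw [Subgroup.index_comap_of_surjective _ (QuotientGroup.mk'_surjective Z)] at h1
      have h2 := (Subgroup.center (H ⧸ Z)).card_mul_index
      rw [hQz, hQ, pow_succ' p 2] at h2
      rw [Nat.eq_of_mul_eq_mul_left hp.pos h2, hcard] at h1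
      exact Nat.eq_of_mul_eq_mul_right (pow_pos hp.pos 2) (h1.trans (by ring))
    have hWi : ∀ α : MulAut H, ∀ u ∈ W, α u ∈ W := fun α u hu => by
      rw [Subgroup.mem_comap, Subgroup.mem_center_iff] at hu ⊢
      intro g
      obtain ⟨g, rfl⟩ := QuotientGroup.mk'_surjective Z g
      rw [← MulAut.apply_inv_self H α g, ← map_mul, ← map_mul, ← map_mul, ← map_mul]
      have h3 : (α⁻¹ g * u)⁻¹ * (u * α⁻¹ g) ∈ Z := by
        rw [← QuotientGroup.eq]
        have := hu (QuotientGroup.mk' Z (α⁻¹ g))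
        rwa [← map_mul, ← map_mul] at this
      have h4 := center_aut_apply_mem α _ h3
      rw [map_mul, map_inv] at h4
      exact QuotientGroup.eq.2 h4
    obtain ⟨u, huW, huZ⟩ : ∃ u ∈ W, u ∉ Z := SetLike.exists_of_lt (lt_of_le_of_ne hZW fun h => by
      rw [← h, hje] at hWc
      exact absurd (Nat.pow_right_injective hp.two_le (hWc.symm.trans (pow_one p).symm)) (by norm_num))
    have hu : ∀ k ∈ (⊤ : Subgroup H), ⁅k, u⁆ ∈ Z := fun k _ => by
      rw [← QuotientGroup.eq_one_iff, ← QuotientGroup.mk'_apply, map_commutatorElement,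
        commutatorElement_eq_one_iff_mul_comm]
      exact Subgroup.mem_center_iff.1 huW _
    have hne : ¬ (⊤ : Subgroup H) ≤ Subgroup.centralizer ({u} : Set H) := fun h =>
      huZ (Subgroup.mem_center_iff.2 fun g =>
        Subgroup.mem_centralizer_singleton_iff.1 (h (Subgroup.mem_top g)))
    have hCc := CfsgLib.PGroup.card_inf_centralizer_mul (le_refl Z) hje hu hne
    rw [top_inf_eq, Subgroup.card_top, hcard, pow_succ p 3] at hCc
    have hWeq : Z ⊔ Subgroup.zpowers u = W := by
      refine Subgroup.eq_of_le_of_card_ge (sup_le hZW (Subgroup.zpowers_le.2 huW)) ?_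
      obtain ⟨k, hk⟩ := (hP.to_subgroup (Z ⊔ Subgroup.zpowers u)).exists_card_eq
      rw [hWc, hk]
      refine Nat.pow_le_pow_right hp.pos ?_
      by_contra hk2
      refine huZ ?_
      have := Subgroup.eq_of_le_of_card_ge (le_sup_left : Z ≤ Z ⊔ Subgroup.zpowers u)
        (by rw [hk, hje]; exact (Nat.pow_le_pow_right hp.pos (show k ≤ 1 by omega)).trans (pow_one p).le)
      exact this.ge (Subgroup.mem_sup_right (Subgroup.mem_zpowers u))
    have hWu : Subgroup.centralizer ({u} : Set H) = Subgroup.centralizer (W : Set H) := by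
      refine le_antisymm (fun g hg => ?_) (Subgroup.centralizer_le fun a ha => by
        rw [Set.mem_singleton_iff] at ha
        exact ha ▸ huW)
      have h1 : W ≤ Subgroup.centralizer {g} := by
        rw [← hWeq]
        refine sup_le (fun z hz => Subgroup.mem_centralizer_singleton_iff.2
          (Subgroup.mem_center_iff.1 hz g).symm) (Subgroup.zpowers_le.2 ?_)
        exact Subgroup.mem_centralizer_singleton_iff.2 (Subgroup.mem_centralizer_singleton_iff.1 hg).symm
      exact Subgroup.mem_centralizer_iff.2 fun w hw => Subgroup.mem_centralizer_singleton_iff.1 (h1 hw)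
    rw [hWu] at hCc
    refine false_of_flag hS hF hH hcard hZW ?_ hje hWc (Nat.eq_of_mul_eq_mul_right hp.pos hCc)
      center_aut_apply_mem hWi ?_
    · have hWab : ∀ a ∈ W, ∀ b ∈ W, a * b = b * a := fun a ha b hb => congrArg Subtype.val
        ((IsPGroup.commGroupOfCardEqPrimeSq hWc).mul_comm ⟨a, ha⟩ ⟨b, hb⟩)
      exact fun a ha => Subgroup.mem_centralizer_iff.2 fun b hb => hWab b hb a ha
    · intro α g hg
      refine Subgroup.mem_centralizer_iff.2 fun w hw => ?_
      rw [← MulAut.apply_inv_self H α w, ← map_mul, ← map_mul]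
      exact congrArg α (Subgroup.mem_centralizer_iff.1 hg _ (hWi α⁻¹ w hw))
  -- centre of order `p ^ 2`
  obtain rfl : j = 2 := by omega
  have hQ : Nat.card (H ⧸ Z) = p ^ 2 := hidx
  let _ := IsPGroup.commGroupOfCardEqPrimeSq hQ
  have hcl : ∀ a b : H, ⁅a, b⁆ ∈ Z := fun a b => by
    rw [← QuotientGroup.eq_one_iff, ← QuotientGroup.mk'_apply, map_commutatorElement,
      commutatorElement_eq_one_iff_mul_comm]
    exact mul_comm _ _
  have hpZ : ∀ u : H, u ^ p ∈ Z := fun u => by
    rw [← QuotientGroup.eq_one_iff, QuotientGroup.mk_pow]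
    by_contra h1
    refine hnc (isCyclic_of_orderOf_eq_card (QuotientGroup.mk u : H ⧸ Z) ?_)
    obtain ⟨k, hk, hke⟩ := (Nat.dvd_prime_pow hp).1
      ((orderOf_dvd_natCard (QuotientGroup.mk u : H ⧸ Z)).trans (dvd_of_eq hQ))
    rw [hQ, hke]
    rcases Nat.lt_or_ge k 2 with h | h
    · exact absurd (orderOf_dvd_iff_pow_eq_one.1 (hke ▸ (Nat.pow_dvd_pow p
        (show k ≤ 1 by omega)).trans (pow_one p).dvd)) h1
    · rw [show k = 2 by omega]
  -- commutator subgroup of order `p`, for any noncommuting pair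
  have hkey : ∀ x y : H, ⁅x, y⁆ ≠ 1 →
      Nat.card (Subgroup.zpowers ⁅x, y⁆) = p ∧ (∀ a b : H, ⁅a, b⁆ ∈ Subgroup.zpowers ⁅x, y⁆) ∧
      Z ⊔ Subgroup.zpowers x ⊔ Subgroup.zpowers y = ⊤ := by
    intro x y hxy
    have hord : orderOf ⁅x, y⁆ = p := by
      refine orderOf_eq_prime ?_ hxy
      rw [← CfsgLib.PGroup.comm_pow_left (hcl x y), commutatorElement_eq_one_iff_mul_comm]
      exact (Subgroup.mem_center_iff.1 (hpZ x) y).symm
    have hxZ : x ∉ Z := fun h => hxy (commutatorElement_eq_one_iff_mul_comm.2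
      (Subgroup.mem_center_iff.1 h y).symm)
    set K := Z ⊔ Subgroup.zpowers x
    have hyK : y ∉ K := fun h => by
      have h1 : K ≤ Subgroup.centralizer {x} := sup_le (fun z hz =>
        Subgroup.mem_centralizer_singleton_iff.2 (Subgroup.mem_center_iff.1 hz x).symm)
        (Subgroup.zpowers_le.2 (Subgroup.mem_centralizer_singleton_iff.2 rfl))
      exact hxy (commutatorElement_eq_one_iff_mul_comm.2
        (Subgroup.mem_centralizer_singleton_iff.1 (h1 h)).symm)
    have hKlt : Z < K := lt_of_le_of_ne le_sup_left fun h =>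
      hxZ (h.ge (Subgroup.mem_sup_right (Subgroup.mem_zpowers x)))
    have hKtop : K ⊔ Subgroup.zpowers y = ⊤ := by
      refine Subgroup.eq_top_of_card_eq _ (le_antisymm (Subgroup.card_le_card_group _) ?_)
      obtain ⟨k, hk⟩ := (hP.to_subgroup K).exists_card_eq
      obtain ⟨l, hl⟩ := (hP.to_subgroup (K ⊔ Subgroup.zpowers y)).exists_card_eq
      have h1 : p ^ 2 < p ^ k := hje ▸ hk ▸ lt_of_not_ge fun h =>
        hKlt.ne (Subgroup.eq_of_le_of_card_ge hKlt.le h)
      have h2 : p ^ k < p ^ l := hk ▸ hl ▸ lt_of_not_ge fun h => hyK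
        ((Subgroup.eq_of_le_of_card_ge le_sup_left h).ge
          (Subgroup.mem_sup_right (Subgroup.mem_zpowers y)))
      rw [hcard, hl]
      have h1' := (Nat.pow_lt_pow_iff_right hp.one_lt).1 h1
      have h2' := (Nat.pow_lt_pow_iff_right hp.one_lt).1 h2
      exact Nat.pow_le_pow_right hp.pos (by omega)
    refine ⟨(Nat.card_zpowers _).trans hord, ?_, hKtop⟩
    set D := Subgroup.zpowers ⁅x, y⁆
    have hD : D ≤ Z := Subgroup.zpowers_le.2 (hcl x y)
    have : D.Normal := ⟨fun d hd g => by
      rwa [Subgroup.mem_center_iff.1 (hD hd) g, mul_inv_cancel_right]⟩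
    let π := QuotientGroup.mk' D
    have hgen : ∀ c : H, (π c * π x = π x * π c) → (π c * π y = π y * π c) →
        ∀ d, π c * π d = π d * π c := by
      intro c hx hy d
      have h1 : (⊤ : Subgroup H) ≤ (Subgroup.centralizer {π c}).comap π := by
        rw [← hKtop]
        refine sup_le (sup_le (fun z hz => ?_) (Subgroup.zpowers_le.2 ?_)) (Subgroup.zpowers_le.2 ?_)
        · rw [Subgroup.mem_comap, Subgroup.mem_centralizer_singleton_iff, ← map_mul, ← map_mul,
            Subgroup.mem_center_iff.1 hz c]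
        · exact Subgroup.mem_centralizer_singleton_iff.2 hx.symm
        · exact Subgroup.mem_centralizer_singleton_iff.2 hy.symm
      exact (Subgroup.mem_centralizer_singleton_iff.1 (h1 (Subgroup.mem_top d))).symm
    have hxy' : π x * π y = π y * π x := by
      rw [← commutatorElement_eq_one_iff_mul_comm, ← map_commutatorElement]
      exact (QuotientGroup.eq_one_iff _).2 (Subgroup.mem_zpowers _)
    have hxall := hgen x rfl hxy'
    have hyall := hgen y hxy'.symm rfl
    intro a b
    rw [← QuotientGroup.eq_one_iff, ← QuotientGroup.mk'_apply, map_commutatorElement,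
      commutatorElement_eq_one_iff_mul_comm]
    exact hgen a (hxall a).symm (hyall a).symm b
  obtain ⟨x, y, hxy⟩ : ∃ x y : H, ⁅x, y⁆ ≠ 1 := by
    by_contra h
    push Not at h
    exact hab' fun a b => commutatorElement_eq_one_iff_mul_comm.1 (h a b)
  obtain ⟨hDc, hcomm, -⟩ := hkey x y hxy
  set D := Subgroup.zpowers ⁅x, y⁆ with hDdef
  have hDZ : D ≤ Z := Subgroup.zpowers_le.2 (hcl x y)
  have hDp : ∀ d ∈ D, d ^ p = 1 := fun d hd => by
    rw [← hDc]
    exact congrArg Subtype.val (pow_card_eq_one' (x := (⟨d, hd⟩ : D)))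
  have hDi : ∀ α : MulAut H, ∀ d ∈ D, α d ∈ D := by
    rintro α _ ⟨i, rfl⟩
    rw [map_zpow, map_commutatorElement]
    exact zpow_mem (hcomm _ _) i
  have hDn : D.Normal := ⟨fun d hd g => by
    rwa [Subgroup.mem_center_iff.1 (hDZ hd) g, mul_inv_cancel_right]⟩
  -- `x ↦ x ^ p` modulo `D`
  let g : H →* H ⧸ D := MonoidHom.mk' (fun u => QuotientGroup.mk (u ^ p)) fun u v => by
    rw [CfsgLib.PGroup.mul_pow_of_comm_mem_center (hcl v u), QuotientGroup.mk_mul,
      QuotientGroup.mk_mul, (QuotientGroup.eq_one_iff _).2 (pow_mem (hcomm v u) _), mul_one]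
  have hcor : ∀ (f : H →* H ⧸ D) (C : Subgroup H), C = f.ker → Z ≤ C → f.range ≠ ⊥ →
      f.range ≤ Z.map (QuotientGroup.mk' D) → (∀ α : MulAut H, ∀ u ∈ C, α u ∈ C) → False := by
    intro f C hC hZC hne hle hinv
    have hcq : Nat.card (Z.map (QuotientGroup.mk' D)) = p := by
      rw [← Subgroup.relIndex_bot_left, ← QuotientGroup.map_mk'_self D, Subgroup.relIndex_map_map,
        QuotientGroup.ker_mk', sup_idem, sup_eq_left.2 hDZ]
      have h1 := Subgroup.relIndex_mul_relIndex ⊥ D Z bot_le hDZ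
      rw [Subgroup.relIndex_bot_left, Subgroup.relIndex_bot_left, hDc, hje, pow_two] at h1
      exact Nat.eq_of_mul_eq_mul_left hp.pos h1
    have hd := Subgroup.card_dvd_of_le hle
    rw [hcq, Nat.dvd_prime hp] at hd
    have hr : Nat.card f.range = p := hd.resolve_left fun h => hne (Subgroup.card_eq_one.1 h)
    have hm := f.ker.card_mul_index
    rw [Subgroup.index_ker, hr, hcard, pow_succ p 3] at hm
    subst hC
    exact false_of_flag hS hF hH hcard hDZ hZC hDc hje (Nat.eq_of_mul_eq_mul_right hp.pos hm) hDi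
      center_aut_apply_mem hinv
  have hgle : g.range ≤ Z.map (QuotientGroup.mk' D) := by
    rintro _ ⟨u, rfl⟩
    exact ⟨u ^ p, hpZ u, rfl⟩
  have hpD : ∀ u : H, u ^ p ∈ D := by
    by_contra hnot
    push Not at hnot
    obtain ⟨u, hu⟩ := hnot
    refine hcor g g.ker rfl (fun z hz => (QuotientGroup.eq_one_iff _).2 ?_)
      (fun h => hu ((QuotientGroup.eq_one_iff _).1 (Subgroup.mem_bot.1 (h.le ⟨u, rfl⟩)))) hgle
      fun α v hv => (QuotientGroup.eq_one_iff _).2 ?_
    · by_cases hcy : IsCyclic Z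
      · -- the elements of order `p` of a cyclic group
        obtain ⟨w, hw⟩ := hcy.exists_generator
        have hwo : orderOf w = p ^ 2 := (orderOf_eq_card_of_forall_mem_zpowers hw).trans hje
        have hwp : orderOf ((w : H) ^ p) = p := by
          rw [orderOf_pow, Subgroup.orderOf_coe, hwo, Nat.gcd_eq_right (dvd_pow_self p two_ne_zero),
            pow_two, Nat.mul_div_cancel _ hp.pos]
        have hDw : D = Subgroup.zpowers ((w : H) ^ p) := by
          refine Subgroup.eq_of_le_of_card_ge (fun d hd => ?_)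
            (by rw [Nat.card_zpowers, hwp, hDc])
          obtain ⟨k, hk⟩ := hw ⟨d, hDZ hd⟩
          have hk' : (w : H) ^ k = d := by simpa using congrArg Subtype.val hk
          have h1 : (w : H) ^ (k * (p : ℤ)) = 1 := by
            rw [zpow_mul, hk', zpow_natCast, hDp d hd]
          rw [← orderOf_dvd_iff_zpow_eq_one, Subgroup.orderOf_coe, hwo, Nat.cast_pow, pow_two] at h1
          obtain ⟨c, rfl⟩ := Int.dvd_of_mul_dvd_mul_right (by exact_mod_cast hp.ne_zero) h1
          exact Subgroup.mem_zpowers_iff.2 ⟨c, by rw [← hk', zpow_mul, zpow_natCast]⟩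
        obtain ⟨k, hk⟩ := hw ⟨z, hz⟩
        have hk' : (w : H) ^ k = z := by simpa using congrArg Subtype.val hk
        rw [hDw]
        exact Subgroup.mem_zpowers_iff.2 ⟨k, by
          rw [← hk', ← zpow_natCast, ← zpow_natCast, ← zpow_mul, ← zpow_mul, mul_comm]⟩
      · have hexp : ∀ w : Z, w ^ p = 1 := fun w => by
          by_contra h1
          refine hcy (isCyclic_of_orderOf_eq_card w ?_)
          rw [hje]
          refine orderOf_eq_prime_pow (by simpa using h1) ?_
          rw [show (1 + 1) = 2 from rfl, ← hje, pow_card_eq_one']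
        rw [show z ^ p = 1 from congrArg Subtype.val (hexp ⟨z, hz⟩)]
        exact one_mem _
    · rw [← map_pow]
      exact hDi α _ ((QuotientGroup.eq_one_iff _).1 hv)
  by_cases hcy : IsCyclic Z
  · refine Or.inr (Or.inr ⟨fun u hu => ?_, hcy, hje⟩)
    have := hDp _ (hpD ⟨u, hu⟩)
    rw [← pow_mul, ← pow_two] at this
    exact congrArg (fun w : H => (w : Ω)) this
  have hZexp : ∀ z ∈ Z, z ^ p = 1 := fun z hz => by
    by_contra h1
    refine hcy (isCyclic_of_orderOf_eq_card (⟨z, hz⟩ : Z) ?_)
    rw [hje]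
    refine orderOf_eq_prime_pow (fun h => h1 ?_) ?_
    · simpa using congrArg Subtype.val h
    · rw [show (1 + 1) = 2 from rfl, ← hje, pow_card_eq_one']
  rcases hp.eq_two_or_odd' with rfl | hodd
  · refine Or.inr (Or.inl ⟨rfl, ?_⟩)
    obtain ⟨u, hu⟩ : ∃ u : H, u ^ 2 ≠ 1 := by
      by_contra h
      push Not at h
      refine hab' fun a b => ?_
      have hinv : ∀ w : H, w⁻¹ = w := fun w =>
        inv_eq_of_mul_eq_one_right (by rw [← pow_two]; exact h w)
      rw [← hinv (a * b), mul_inv_rev, hinv, hinv]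
    have huZ : u ∉ Z := fun h => hu (hZexp u h)
    by_cases hv : ∃ v : H, v ^ 2 ≠ 1 ∧ v ∉ Z ⊔ Subgroup.zpowers u
    · obtain ⟨v, hv, hvC⟩ := hv
      have huv : ⁅u, v⁆ ≠ 1 := fun h1 => by
        have hvZ : v ∉ Z := fun h => hvC (Subgroup.mem_sup_left h)
        obtain ⟨w, hw⟩ : ∃ w : H, ⁅v, w⁆ ≠ 1 := by
          by_contra h
          push Not at h
          exact hvZ (Subgroup.mem_center_iff.2 fun w =>
            (commutatorElement_eq_one_iff_mul_comm.1 (h w)).symm)
        have hC : Z ⊔ Subgroup.zpowers v ≤ Subgroup.centralizer {v} :=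
          sup_le (fun z hz => Subgroup.mem_centralizer_singleton_iff.2
            (Subgroup.mem_center_iff.1 hz v).symm)
            (Subgroup.zpowers_le.2 (Subgroup.mem_centralizer_singleton_iff.2 rfl))
        -- the centralizer of `v` is proper, of order eight, and contains `u`
        have hne : ¬ (⊤ : Subgroup H) ≤ Subgroup.centralizer ({v} : Set H) := fun h =>
          hw (commutatorElement_eq_one_iff_mul_comm.2
            (Subgroup.mem_centralizer_singleton_iff.1 (h (Subgroup.mem_top w))).symm)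
        have hcc := CfsgLib.PGroup.card_inf_centralizer_mul hDZ hDc (x := v)
          (fun k _ => hcomm k v) hne
        rw [top_inf_eq, Subgroup.card_top, hcard] at hcc
        have huC : Z ⊔ Subgroup.zpowers u ≤ Subgroup.centralizer {v} :=
          sup_le (le_sup_left.trans hC) (Subgroup.zpowers_le.2
            (Subgroup.mem_centralizer_singleton_iff.2 (commutatorElement_eq_one_iff_mul_comm.1 h1)))
        refine hvC ((Subgroup.eq_of_le_of_card_ge huC ?_).ge (hC (Subgroup.mem_sup_right
          (Subgroup.mem_zpowers v))))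
        have hlt : Z < Z ⊔ Subgroup.zpowers u := lt_of_le_of_ne le_sup_left fun h =>
          huZ (h.ge (Subgroup.mem_sup_right (Subgroup.mem_zpowers u)))
        obtain ⟨k, hk⟩ := (hP.to_subgroup (Z ⊔ Subgroup.zpowers u)).exists_card_eq
        have h2 : 2 ^ 2 < 2 ^ k := hje ▸ hk ▸ lt_of_not_ge fun h =>
          hlt.ne (Subgroup.eq_of_le_of_card_ge hlt.le h)
        have := Nat.pow_le_pow_right (show 0 < 2 by norm_num)
          ((Nat.pow_lt_pow_iff_right (by norm_num)).1 h2 : 2 < k)
        rw [hk]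
        norm_num at hcc this ⊢
        omega
      obtain ⟨hD', hcomm', hgen'⟩ := hkey u v huv
      have hDD : Subgroup.zpowers ⁅u, v⁆ = D :=
        Subgroup.eq_of_le_of_card_ge (Subgroup.zpowers_le.2 (hcomm u v)) (by rw [hDc, hD'])
      obtain ⟨E, huE, hvE, hEc, hEz, ⟨e⟩⟩ := exists_prod_structure hcard hje hZexp hD' hcomm'
        (hDD ▸ hDZ) (hDD ▸ hpD) hgen'
      obtain ⟨q⟩ : Nonempty (E ≃* QuaternionGroup 2) := by
        refine quaternion_of_two_cyclic hEc (fun hc => huv (commutatorElement_eq_one_iff_mul_comm.2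
          (congrArg Subtype.val (hc ⟨u, huE⟩ ⟨v, hvE⟩)))) (x := ⟨u, huE⟩) (y := ⟨v, hvE⟩)
          (fun h => hu (congrArg Subtype.val h)) (fun h => hv (congrArg Subtype.val h)) ?_
        rintro ⟨i, hi⟩
        exact hvC (Subgroup.mem_sup_right ⟨i, by simpa using congrArg Subtype.val hi⟩)
      exact ⟨e.trans (q.prodCongr (MulEquiv.refl _))⟩
    push Not at hv
    exfalso
    have hlt : Z < Z ⊔ Subgroup.zpowers u := lt_of_le_of_ne le_sup_left fun h =>
      huZ (h.ge (Subgroup.mem_sup_right (Subgroup.mem_zpowers u)))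
    have hC8 : Nat.card ↥(Z ⊔ Subgroup.zpowers u) = 2 ^ 3 := by
      obtain ⟨k, hk⟩ := (hP.to_subgroup (Z ⊔ Subgroup.zpowers u)).exists_card_eq
      have h2 : 2 ^ 2 < 2 ^ k := hje ▸ hk ▸ lt_of_not_ge fun h =>
        hlt.ne (Subgroup.eq_of_le_of_card_ge hlt.le h)
      have hk4 : k ≤ 4 := (Nat.pow_le_pow_iff_right (by norm_num : 1 < 2)).1
        (hk ▸ hcard ▸ Subgroup.card_le_card_group _)
      have := (Nat.pow_lt_pow_iff_right (by norm_num : 1 < 2)).1 h2
      rcases Nat.lt_or_ge k 4 with h4 | h4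
      · rw [hk, show k = 3 by omega]
      · exfalso
        have htop := Subgroup.eq_top_of_card_eq (Z ⊔ Subgroup.zpowers u)
          (by rw [hk, hcard, show k = 4 by omega])
        have h1 : (⊤ : Subgroup H) ≤ Subgroup.centralizer {u} := by
          rw [← htop]
          exact sup_le (fun z hz => Subgroup.mem_centralizer_singleton_iff.2
            (Subgroup.mem_center_iff.1 hz u).symm)
            (Subgroup.zpowers_le.2 (Subgroup.mem_centralizer_singleton_iff.2 rfl))
        exact huZ (Subgroup.mem_center_iff.2 fun w =>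
          Subgroup.mem_centralizer_singleton_iff.1 (h1 (Subgroup.mem_top w)))
    refine false_of_flag hS hF hH hcard hDZ le_sup_left hDc hje hC8 hDi center_aut_apply_mem fun α w hw => ?_
    have : (Z ⊔ Subgroup.zpowers u).map α.toMonoidHom ≤ Z ⊔ Subgroup.zpowers u := by
      rw [Subgroup.map_sup, MonoidHom.map_zpowers]
      refine sup_le ?_ (Subgroup.zpowers_le.2 (hv _ fun h => hu ?_))
      · rintro _ ⟨z, hz, rfl⟩
        exact Subgroup.mem_sup_left (center_aut_apply_mem α z hz)
      · rw [← map_pow] at h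
        exact α.injective (h.trans (map_one α).symm)
    exact this ⟨w, hw, rfl⟩
  · refine Or.inl ⟨hodd, ?_⟩
    have hexp : ∀ u : H, u ^ p = 1 := by
      by_contra hnot
      push Not at hnot
      obtain ⟨u, hu⟩ := hnot
      let f : H →* H := MonoidHom.mk' (fun u => u ^ p) fun u v => by
        rw [CfsgLib.PGroup.mul_pow_of_comm_mem_center (hcl v u)]
        obtain ⟨c, hc⟩ : p ∣ p.choose 2 := hp.dvd_choose_self two_ne_zero (by
          rcases hodd with ⟨c, hc⟩; have := hp.two_le; omega)
        rw [hc, pow_mul, hZexp _ (hcl v u), one_pow, mul_one]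
      have hle : f.range ≤ D := by
        rintro _ ⟨v, rfl⟩
        exact hpD v
      have hne : f.range ≠ ⊥ := fun h => hu (Subgroup.mem_bot.1 (h.le ⟨u, rfl⟩))
      have hd := Subgroup.card_dvd_of_le hle
      rw [hDc, Nat.dvd_prime hp] at hd
      have hm := f.ker.card_mul_index
      rw [Subgroup.index_ker, hd.resolve_left fun h => hne (Subgroup.card_eq_one.1 h), hcard,
        pow_succ p 3] at hm
      refine false_of_flag hS hF hH hcard hDZ (fun z hz => hZexp z hz) hDc hje
        (Nat.eq_of_mul_eq_mul_right hp.pos hm) hDi center_aut_apply_mem fun α v hv => ?_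
      have hv' : v ^ p = 1 := hv
      change α v ^ p = 1
      rw [← map_pow, hv', map_one]
    obtain ⟨hD', hcomm', hgen'⟩ := hkey x y hxy
    obtain ⟨E, hxE, hyE, hEc, hEz, ⟨e⟩⟩ :=
      exists_prod_structure hcard hje hZexp hD' hcomm' hDZ hpD hgen'
    obtain ⟨E₀, iG, iF, hE₀, hexp₀, ⟨q⟩⟩ := exists_extraspecial_model (p := p)
      (hP.to_subgroup E) hEz
      (fun h => hxy (commutatorElement_eq_one_iff_mul_comm.2
        (congrArg Subtype.val (h.is_comm.comm ⟨x, hxE⟩ ⟨y, hyE⟩))))
      (fun w => Subtype.ext (hexp w))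
      (fun a b => Subgroup.mem_center_iff.2 fun c =>
        Subtype.ext (Subgroup.mem_center_iff.1 (hcl a b) c))
    exact ⟨E₀, iG, iF, hE₀, (Nat.card_congr q.symm.toEquiv).trans hEc, hexp₀,
      ⟨e.trans (q.prodCongr (MulEquiv.refl _))⟩⟩

end CfsgLib.Fusion
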