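import Cfsg.Agent.Lib.Fusion.CenterIndexPSq
import Cfsg.Agent.Lib.PGroup.Basic

/-!
# Groups with an extraspecial subgroup of index `p` carrying a core-free system
-/

set_option autoImplicit false

open Cfsg Cfsg.FusionSystem
open scoped commutatorElement

namespace CfsgLib.Fusion

variable {Ω : Type*} [Group Ω] {S : Subgroup Ω} [Finite S] {p : ℕ} [Fact p.Prime]
  {F : FusionSystem S}

/-- When all commutators of `S` lie in the central line `C` and `|S : Z(S)| > p ^ 2`, no essential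
subgroup moves `C`. -/
theorem autGroup_preserves_line (hS : IsPGroup p S) (hF : F.IsSaturated p) {C : Subgroup Ω}
    (hCZ : C ≤ centralizerIn S S) (hC : Nat.card C = p) (hcomm : ∀ a ∈ S, ∀ b ∈ S, ⁅a, b⁆ ∈ C)
    (hbig : ¬ (centralizerIn S S).relIndex S ∣ p ^ 2) {P : Subgroup Ω} (hP : F.IsEssential p P)
    {g : MulAut P} (hg : g ∈ F.autGroup P) {c : P} (hc : (c : Ω) ∈ C) :
    ((g c : P) : Ω) ∈ C := by
  classical
  have hp : p.Prime := Fact.out
  have hPS := hP.1.1
  have := finite_of_le hPS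
  have := finite_of_le (hCZ.trans (centralizerIn_le S))
  have hline : ∀ u ∈ C, u ≠ 1 → C = Subgroup.zpowers u := fun u hu hu1 =>
    (Subgroup.eq_of_le_of_card_ge (Subgroup.zpowers_le.2 hu) (by
      rw [hC, Nat.card_zpowers]
      have h2 : orderOf u ∣ p := hC ▸ Subgroup.orderOf_dvd_natCard C hu
      exact ((Nat.dvd_prime hp).1 h2).resolve_left (fun h => hu1 (orderOf_eq_one_iff.1 h)) |>.ge)).symm
  have hZP : centralizerIn S S ≤ P := fun z hz =>
    hP.1.2 P (isConj_refl hPS) ⟨hz.1, fun y hy => hz.2 y (hPS hy)⟩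
  by_contra hmove
  by_cases hab : ∀ a ∈ P, ∀ b ∈ P, a * b = b * a
  swap
  · -- a nonabelian `P` has derived subgroup `C`
    push Not at hab
    obtain ⟨a, ha, b, hb, hne⟩ := hab
    have hd : ⁅a, b⁆ ≠ 1 := fun h => hne (commutatorElement_eq_one_iff_mul_comm.1 h)
    obtain ⟨i, hi⟩ := Subgroup.mem_zpowers_iff.1 ((hline _ (hcomm a (hPS ha) b (hPS hb)) hd).le hc)
    have hci : c = ⁅(⟨a, ha⟩ : P), ⟨b, hb⟩⁆ ^ i := Subtype.ext hi.symm
    refine hmove ?_
    rw [hci, map_zpow, map_commutatorElement]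
    simp only [Subgroup.coe_zpow]
    exact C.zpow_mem (hcomm _ (hPS (g _).2) _ (hPS (g _).2)) i
  -- `P` is abelian; a conjugate of `Aut_S(P)` is then normalized by too much
  have hc1 : c ≠ 1 := fun h => hmove (by rw [h, map_one]; exact C.one_mem)
  have hc1' : (c : Ω) ≠ 1 := fun h => hc1 (Subtype.ext h)
  set c' := g c with hc'
  set C' := Subgroup.zpowers c' with hC'
  let φ : S →* Ω := MonoidHom.mk' (fun s => ⁅(s : Ω), (c' : Ω)⁆) fun s t => by
    show ⁅(s : Ω) * t, (c' : Ω)⁆ = ⁅(s : Ω), (c' : Ω)⁆ * ⁅(t : Ω), (c' : Ω)⁆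
    have h1 := (hCZ (hcomm s s.2 _ (hPS c'.2))).2
    have h2 := (hCZ (hcomm t t.2 _ (hPS c'.2))).2
    calc ⁅(s : Ω) * t, (c' : Ω)⁆ = (s : Ω) * ⁅(t : Ω), (c' : Ω)⁆ * (s : Ω)⁻¹ * ⁅(s : Ω), (c' : Ω)⁆ := by
          simp [commutatorElement_def, mul_assoc]
      _ = _ := by
        rw [h2 s s.2, mul_inv_cancel_right]
        exact h1 _ (hCZ (hcomm t t.2 _ (hPS c'.2))).1
  -- an element outside `P` centralizing `c'`
  obtain ⟨s, hs, hsP⟩ : ∃ s : S, φ s = 1 ∧ (s : Ω) ∉ P := by
    by_contra! hker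
    have hle : φ.ker ≤ P.subgroupOf S := fun s hs => hker s hs
    have h1 : P.relIndex S ∣ p := by
      refine (Subgroup.index_dvd_of_le hle).trans ?_
      rw [Subgroup.index_ker]
      exact (Subgroup.card_dvd_of_le (show φ.range ≤ C from by
        rintro _ ⟨u, rfl⟩; exact hcomm u u.2 _ (hPS c'.2))).trans hC.dvd
    -- then `Z(S)` has index at most `p ^ 2`
    obtain ⟨x, hxS, hxP⟩ := SetLike.exists_of_lt (essential_lt hS hF hP)
    refine hbig ?_
    rw [← Subgroup.relIndex_mul_relIndex _ _ _ hZP hPS, sq]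
    refine mul_dvd_mul ?_ h1
    let ψ : P →* Ω := MonoidHom.mk' (fun a => ⁅(a : Ω), x⁆) fun a b => by
      show ⁅(a : Ω) * b, x⁆ = ⁅(a : Ω), x⁆ * ⁅(b : Ω), x⁆
      have h2 := (hCZ (hcomm b (hPS b.2) x hxS)).2
      calc ⁅(a : Ω) * b, x⁆ = (a : Ω) * ⁅(b : Ω), x⁆ * (a : Ω)⁻¹ * ⁅(a : Ω), x⁆ := by
            simp [commutatorElement_def, mul_assoc]
        _ = _ := by
          rw [h2 a (hPS a.2), mul_inv_cancel_right]
          exact ((hCZ (hcomm a (hPS a.2) x hxS)).2 _ (hCZ (hcomm b (hPS b.2) x hxS)).1)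
    have hle' : ψ.ker ≤ (centralizerIn S S).subgroupOf P := by
      intro a ha
      refine ⟨hPS a.2, fun u hu => ?_⟩
      -- `P` and `x` generate `S`
      have hK : P ⊔ Subgroup.zpowers x = S := by
        have hle2 : P ⊔ Subgroup.zpowers x ≤ S := sup_le hPS (Subgroup.zpowers_le.2 hxS)
        refine le_antisymm hle2 (Subgroup.relIndex_eq_one.1 ?_)
        have h3 := Subgroup.relIndex_mul_relIndex _ _ _ (le_sup_left (b := Subgroup.zpowers x)) hle2
        rcases (Nat.dvd_prime hp).1 h1 with h4 | h4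
        · exact absurd (Subgroup.relIndex_eq_one.1 h4 hxS) hxP
        · rw [h4] at h3
          rcases (Nat.dvd_prime hp).1 ⟨_, h3.symm⟩ with h5 | h5
          · exact absurd (Subgroup.relIndex_eq_one.1 h5
              (Subgroup.mem_sup_right (Subgroup.mem_zpowers x))) hxP
          · rw [h5] at h3
            exact Nat.eq_of_mul_eq_mul_left hp.pos (h3.trans (mul_one p).symm)
      have h6 : P ⊔ Subgroup.zpowers x ≤ Subgroup.centralizer ({(a : Ω)} : Set Ω) :=
        sup_le (fun v hv => Subgroup.mem_centralizer_singleton_iff.2 (hab v hv a a.2))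
          (Subgroup.zpowers_le.2 (Subgroup.mem_centralizer_singleton_iff.2
            (commutatorElement_eq_one_iff_mul_comm.1 ha).symm))
      exact Subgroup.mem_centralizer_singleton_iff.1 (h6 (hK.ge hu))
    refine (Subgroup.index_dvd_of_le hle').trans ?_
    rw [Subgroup.index_ker]
    exact (Subgroup.card_dvd_of_le (show ψ.range ≤ C from by
      rintro _ ⟨u, rfl⟩; exact hcomm u (hPS u.2) _ hxS)).trans hC.dvd
  have hsn : (s : Ω) ∈ Subgroup.normalizer (P : Set Ω) := mem_normalizer_of_forall fun y hy => by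
    rw [show (s : Ω) * y * (s : Ω)⁻¹ = ⁅(s : Ω), y⁆ * y by simp [commutatorElement_def, mul_assoc]]
    exact P.mul_mem (hZP (hCZ (hcomm s s.2 y (hPS hy)))) hy
  set t := normAut (s : Ω) hsn with ht
  have htS : t ∈ autInducedBy S P := mem_autInducedBy_iff.2 ⟨s, s.2, fun _ => rfl⟩
  have htc' : t c' = c' := Subtype.ext (by
    rw [ht, normAut_apply]
    exact mul_inv_eq_of_eq_mul (commutatorElement_eq_one_iff_mul_comm.1 hs))
  -- the transvections with centre `c'`
  let X : Subgroup (MulAut P) :=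
    { carrier := {α | α ∈ F.autGroup P ∧ α c' = c' ∧ ∀ v : P, v⁻¹ * α v ∈ C'}
      one_mem' := ⟨one_mem _, rfl, fun v => by simp⟩
      mul_mem' := by
        rintro α β ⟨ha1, ha2, ha3⟩ ⟨hb1, hb2, hb3⟩
        refine ⟨mul_mem ha1 hb1, by rw [MulAut.mul_apply, hb2, ha2], fun v => ?_⟩
        have h := C'.mul_mem (hb3 v) (ha3 (β v))
        rw [mul_assoc, mul_inv_cancel_left] at h
        exact h
      inv_mem' := by
        rintro α ⟨ha1, ha2, ha3⟩
        refine ⟨inv_mem ha1, ?_, fun v => ?_⟩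
        · conv_lhs => rw [← ha2]
          exact MulAut.inv_apply_self P α c'
        · have h := C'.inv_mem (ha3 (α⁻¹ v))
          rw [mul_inv_rev, inv_inv, MulAut.apply_inv_self] at h
          exact h }
  have hXfix : ∀ α ∈ X, ∀ w ∈ C', α w = w := by
    intro α hα w hw
    obtain ⟨i, rfl⟩ := Subgroup.mem_zpowers_iff.1 hw
    rw [map_zpow, hα.2.1]
  have hXp : IsPGroup p X := by
    obtain ⟨n, hn⟩ := (hS.to_le hPS).exists_card_eq
    rintro ⟨α, hα⟩
    refine ⟨n, Subtype.ext (MulEquiv.ext fun v => ?_)⟩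
    have hpow : ∀ i : ℕ, (α ^ i) v = v * (v⁻¹ * α v) ^ i := by
      intro i
      induction i with
      | zero => simp
      | succ i ih =>
        rw [pow_succ', MulAut.mul_apply, ih, map_mul, map_pow, hXfix α hα _ (hα.2.2 v), pow_succ',
          ← mul_assoc v, mul_inv_cancel_left]
    rw [SubmonoidClass.coe_pow, hpow, ← hn, pow_card_eq_one', mul_one]
    rfl
  set T' := (autInducedBy S P).map (MulAut.conj g).toMonoidHom with hT'
  have hTX : T' ≤ X := by
    rintro _ ⟨τ, hτ, rfl⟩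
    obtain ⟨r, hr, hre⟩ := mem_autInducedBy_iff.1 hτ
    refine ⟨mul_mem (mul_mem hg (autInducedBy_le_autGroup hPS hτ)) (inv_mem hg), ?_, fun v => ?_⟩
    · show (g * τ * g⁻¹) c' = c'
      rw [hc', MulAut.mul_apply, MulAut.mul_apply, MulAut.inv_apply_self,
        show τ c = c from Subtype.ext ((hre c).trans (mul_inv_eq_of_eq_mul ((hCZ hc).2 r hr)))]
    · show v⁻¹ * (g * τ * g⁻¹) v ∈ C'
      obtain ⟨u, rfl⟩ : ∃ u, g u = v := ⟨g⁻¹ v, MulAut.apply_inv_self P g v⟩
      rw [MulAut.mul_apply, MulAut.mul_apply, MulAut.inv_apply_self, ← map_inv, ← map_mul, hC',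
        hc']
      have h1 : ((u⁻¹ * τ u : P) : Ω) ∈ C := by
        rw [Subgroup.coe_mul, Subgroup.coe_inv, hre]
        have h2 := hcomm _ (S.inv_mem (hPS u.2)) r hr
        rw [show ⁅(u : Ω)⁻¹, r⁆ = (u : Ω)⁻¹ * r * (u : Ω) * r⁻¹ by
          simp [commutatorElement_def]] at h2
        simpa [mul_assoc] using h2
      obtain ⟨i, hi⟩ := Subgroup.mem_zpowers_iff.1 ((hline _ hc hc1').le h1)
      rw [show u⁻¹ * τ u = c ^ i from Subtype.ext (by rw [Subgroup.coe_zpow, hi]), map_zpow]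
      exact Subgroup.zpow_mem _ (Subgroup.mem_zpowers _) i
  have hi : ¬ p ∣ T'.relIndex (F.autGroup P) := by
    have hG : (F.autGroup P).map (MulAut.conj g).toMonoidHom = F.autGroup P := by
      ext τ
      constructor
      · rintro ⟨u, hu, rfl⟩
        exact mul_mem (mul_mem hg hu) (inv_mem hg)
      · intro hτ
        exact ⟨g⁻¹ * τ * g, mul_mem (mul_mem (inv_mem hg) hτ) hg, by simp [mul_assoc]⟩
    rw [← hG, hT', Subgroup.relIndex_map_map_of_injective _ _ (MulAut.conj g).injective]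
    exact ((isFullyAutomized_iff hS).1
      (fullyAutomized_receptive_of_fullyNormalized hS hF hP.2.1).1).2
  have hTeq : T' = X := eq_of_le_of_not_dvd hXp hTX (fun α hα => hα.1) hi
  have htG : t ∈ F.autGroup P := autInducedBy_le_autGroup hPS htS
  have htX : t ∈ Subgroup.normalizer (X : Set (MulAut P)) := by
    refine mem_normalizer_of_forall fun α hα => ?_
    have htw : ∀ w ∈ C', t w = w := by
      intro w hw
      obtain ⟨i, rfl⟩ := Subgroup.mem_zpowers_iff.1 hw
      rw [map_zpow, htc']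
    have htc'' : t⁻¹ c' = c' := by
      conv_lhs => rw [← htc']
      exact MulAut.inv_apply_self P t c'
    refine ⟨mul_mem (mul_mem htG hα.1) (inv_mem htG), ?_, fun v => ?_⟩
    · rw [MulAut.mul_apply, MulAut.mul_apply, htc'', hα.2.1, htc']
    · have h := hα.2.2 (t⁻¹ v)
      rw [← htw _ h, map_mul, map_inv, MulAut.apply_inv_self] at h
      exact h
  have hsup : IsPGroup p ↥(Subgroup.zpowers t ⊔ X) := by
    refine IsPGroup.to_sup_of_normal_right'
      ((isPGroup_autInducedBy hS P).to_le (Subgroup.zpowers_le.2 htS)) hXp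
      (Subgroup.zpowers_le.2 htX)
  have htT : t ∈ T' := by
    have h1 := eq_of_le_of_not_dvd hsup (hTX.trans le_sup_right)
      (sup_le (Subgroup.zpowers_le.2 htG) fun α hα => hα.1) hi
    exact h1.ge (Subgroup.mem_sup_left (Subgroup.mem_zpowers t))
  have hfix : ∀ v : P, t v = v := by
    intro v
    obtain ⟨i, hi⟩ := Subgroup.mem_zpowers_iff.1 ((hTX htT).2.2 v)
    have h1 : ((v⁻¹ * t v : P) : Ω) ∈ C := by
      rw [Subgroup.coe_mul, Subgroup.coe_inv, ht, normAut_apply]
      have h2 := hcomm _ (S.inv_mem (hPS v.2)) _ s.2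
      simpa [commutatorElement_def, mul_assoc] using h2
    by_cases h2 : c' ^ i = 1
    · rw [h2] at hi
      exact (inv_mul_eq_one.1 hi.symm).symm
    · exfalso
      refine hmove ?_
      have hin : ((c' ^ i : P) : Ω) ∈ C := by rw [hi]; exact h1
      have h3 := hline _ hin fun h => h2 (Subtype.ext h)
      have hsub : C ≤ Subgroup.zpowers (c' : Ω) := by
        rw [h3, Subgroup.coe_zpow]
        exact Subgroup.zpowers_le.2 (Subgroup.zpow_mem _ (Subgroup.mem_zpowers _) i)
      have hord : orderOf (c' : Ω) ≤ p := by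
        rw [Subgroup.orderOf_coe, hc']
        have hoc : orderOf c ∣ p := by
          rw [← Subgroup.orderOf_coe, ← hC]
          exact Subgroup.orderOf_dvd_natCard C hc
        rw [MulEquiv.orderOf_eq]
        exact Nat.le_of_dvd hp.pos hoc
      have := finite_of_le (Subgroup.zpowers_le.2 (hPS c'.2) : Subgroup.zpowers (c' : Ω) ≤ S)
      exact (Subgroup.eq_of_le_of_card_ge hsub (by rw [hC, Nat.card_zpowers]; exact hord)).ge
        (Subgroup.mem_zpowers _)
  refine hsP (hP.1.2 P (isConj_refl hPS) ⟨s.2, fun y hy => ?_⟩)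
  have h1 := congrArg Subtype.val (hfix ⟨y, hy⟩)
  rw [ht, normAut_apply] at h1
  exact (mul_inv_eq_iff_eq_mul.1 h1).symm

/-- For an odd prime, a core-free system over a group with an extraspecial subgroup `Q` of index
`p` forces `Z(S) = Z(Q)`. -/
theorem zed_eq_of_extraspecial_index (hp2 : p ≠ 2) (hS : IsPGroup p S) (hF : F.IsSaturated p)
    {Q : Subgroup Ω} (hQS : Q ≤ S) (hQ : Cfsg.IsExtraspecial p ↥Q)
    (hQi : (Q.subgroupOf S).index = p) (hcore : F.core = ⊥) :
    centralizerIn S S = centralizerIn Q Q := by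
  classical
  have hp : p.Prime := Fact.out
  have := finite_of_le hQS
  set C := centralizerIn Q Q with hCdef
  have hmem : (Subgroup.center ↥Q).map Q.subtype = C := CenterIndexPSq.map_center
  have hC : Nat.card C = p := by
    rw [← hmem, Subgroup.card_map_of_injective Q.subtype_injective]
    exact hQ.2
  have hQn : (Q.subgroupOf S).Normal := by
    obtain ⟨k, hk⟩ := hS.exists_card_eq
    rcases Nat.eq_zero_or_pos k with rfl | hk0
    · have h1 := (Q.subgroupOf S).index_dvd_card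
      rw [hQi, hk, pow_zero, Nat.dvd_one] at h1
      exact absurd h1 hp.ne_one
    · refine Subgroup.normal_of_index_eq_minFac_card ?_
      rw [hQi, hk, Nat.Prime.pow_minFac hp hk0.ne']
  have hCS : C ≤ S := inf_le_left.trans hQS
  have hCZ : C ≤ centralizerIn S S := by
    have hn : (C.subgroupOf S).Normal := by
      refine ⟨fun c hc s => ?_⟩
      rw [Subgroup.mem_subgroupOf] at hc ⊢
      refine ⟨hQn.conj_mem _ hc.1 s, fun q hq => ?_⟩
      have h0 : (s : Ω)⁻¹ * q * s ∈ Q := by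
        have h := hQn.conj_mem ⟨q, hQS hq⟩ hq s⁻¹
        simpa [Subgroup.mem_subgroupOf] using h
      have h1 := hc.2 _ h0
      simp only [Subgroup.coe_mul, Subgroup.coe_inv]
      calc q * ((s : Ω) * c * (s : Ω)⁻¹) = (s : Ω) * (((s : Ω)⁻¹ * q * s) * c) * (s : Ω)⁻¹ := by group
        _ = (s : Ω) * (c * ((s : Ω)⁻¹ * q * s)) * (s : Ω)⁻¹ := by rw [h1]
        _ = (s : Ω) * c * (s : Ω)⁻¹ * q := by group
    have hle := CfsgLib.PGroup.le_center_of_card_eq hS (C.subgroupOf S)
      (by rw [Nat.card_congr (Subgroup.subgroupOfEquivOfLe hCS).toEquiv, hC])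
    intro c hc
    exact CenterIndexPSq.map_center.le ⟨⟨c, hCS hc⟩, hle hc, rfl⟩
  refine le_antisymm (fun z hz => ?_) hCZ
  by_cases hzQ : z ∈ Q
  · exact ⟨hzQ, fun q hq => hz.2 q (hQS hq)⟩
  exfalso
  -- `S = Q ⟨z⟩` has all commutators in `C`
  have hdec : ∀ s ∈ S, ∃ q ∈ Q, ∃ w ∈ centralizerIn S S, s = q * w := by
    intro s hs
    let K : Subgroup Ω :=
      { carrier := {s | ∃ q ∈ Q, ∃ w ∈ centralizerIn S S, s = q * w}
        one_mem' := ⟨1, Q.one_mem, 1, one_mem _, (one_mul 1).symm⟩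
        mul_mem' := by
          rintro _ _ ⟨q, hq, w, hw, rfl⟩ ⟨q', hq', w', hw', rfl⟩
          refine ⟨q * q', Q.mul_mem hq hq', w * w', mul_mem hw hw', ?_⟩
          rw [mul_assoc q w, ← mul_assoc w, ← hw.2 q' (hQS hq')]
          simp [mul_assoc]
        inv_mem' := by
          rintro _ ⟨q, hq, w, hw, rfl⟩
          refine ⟨q⁻¹, Q.inv_mem hq, w⁻¹, inv_mem hw, ?_⟩
          rw [mul_inv_rev]
          exact ((inv_mem hw).2 _ (hQS (Q.inv_mem hq))).symm }
    have hKQ : Q ⊔ Subgroup.zpowers z ≤ K := sup_le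
      (fun q hq => ⟨q, hq, 1, one_mem _, (mul_one q).symm⟩)
      (Subgroup.zpowers_le.2 ⟨1, Q.one_mem, z, hz, (one_mul z).symm⟩)
    have hle2 : Q ⊔ Subgroup.zpowers z ≤ S := sup_le hQS (Subgroup.zpowers_le.2 hz.1)
    have h3 := Subgroup.relIndex_mul_relIndex _ _ _ (le_sup_left (b := Subgroup.zpowers z)) hle2
    rw [show Q.relIndex S = p from hQi] at h3
    rcases (Nat.dvd_prime hp).1 ⟨_, h3.symm⟩ with h5 | h5
    · exact absurd (Subgroup.relIndex_eq_one.1 h5
        (Subgroup.mem_sup_right (Subgroup.mem_zpowers z))) hzQ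
    · rw [h5] at h3
      exact hKQ (Subgroup.relIndex_eq_one.1
        (Nat.eq_of_mul_eq_mul_left hp.pos (h3.trans (mul_one p).symm)) hs)
  have hcomm : ∀ a ∈ S, ∀ b ∈ S, ⁅a, b⁆ ∈ C := by
    intro a ha b hb
    obtain ⟨q, hq, w, hw, rfl⟩ := hdec a ha
    obtain ⟨q', hq', w', hw', rfl⟩ := hdec b hb
    have h1 : ⁅q * w, q' * w'⁆ = ⁅q, q'⁆ := by
      simp only [commutatorElement_def]
      have e1 := hw.2 (q' * w') (S.mul_mem (hQS hq') hw'.1)
      have e2 := hw'.2 q⁻¹ (S.inv_mem (hQS hq))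
      calc q * w * (q' * w') * (q * w)⁻¹ * (q' * w')⁻¹
          = q * (w * (q' * w')) * w⁻¹ * q⁻¹ * (w'⁻¹ * q'⁻¹) := by group
        _ = q * ((q' * w') * w) * w⁻¹ * q⁻¹ * (w'⁻¹ * q'⁻¹) := by rw [e1]
        _ = q * q' * (w' * q⁻¹) * w'⁻¹ * q'⁻¹ := by group
        _ = q * q' * (q⁻¹ * w') * w'⁻¹ * q'⁻¹ := by rw [e2]
        _ = _ := by group
    rw [h1, ← hmem, ← hQ.1.2.2]
    exact ⟨⁅(⟨q, hq⟩ : Q), ⟨q', hq'⟩⁆,
      Subgroup.commutator_mem_commutator (Subgroup.mem_top _) (Subgroup.mem_top _), rfl⟩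
  have hS1 : S ≠ ⊥ := by
    intro h
    have h' : z ∈ S := hz.1
    rw [h, Subgroup.mem_bot] at h'
    exact hzQ (h' ▸ Q.one_mem)
  by_cases hbig : (centralizerIn S S).relIndex S ∣ p ^ 2
  · -- the centre then has order `p`
    obtain ⟨hidx, c, hcZ, hc, hcc, hchar, -⟩ := CenterIndexPSq.basics hS hF hS1 hcore
      (show (Subgroup.center ↥S).index ≤ p ^ 2 by
        rw [← CenterIndexPSq.zed_relIndex]; exact Nat.le_of_dvd (pow_pos hp.pos 2) hbig)
    have hzed := CenterIndexPSq.zed_eq_of_odd hS hF hp2 hS1 hcore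
      (c := c) ⟨hidx, hcZ, hc, hcc, hchar⟩
    have := finite_of_le (centralizerIn_le S (S := S))
    have hCeq : C = centralizerIn S S := Subgroup.eq_of_le_of_card_ge hCZ (by
      rw [hC]
      exact (le_of_eq (congrArg (fun K : Subgroup Ω => Nat.card K) hzed)).trans
        (by rw [Nat.card_zpowers, hc]))
    exact hzQ (hCeq.ge hz).1
  · -- otherwise `C` is normal
    have hCn : F.IsNormal C := by
      refine isNormal_of_autGroup_invariant hS hF fun P hP => ?_
      rcases hP with rfl | hP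
      · refine ⟨hCS, fun α _ x hx => ?_⟩
        by_contra hno
        -- the commutators span `C`
        obtain ⟨a, b, hab⟩ : ∃ a b : Q, ⁅a, b⁆ ≠ 1 := by
          by_contra! hall
          have h0 : commutator ↥Q = ⊥ := eq_bot_iff.2 (Subgroup.commutator_le.2
            fun u _ v _ => Subgroup.mem_bot.2 (hall u v))
          have h1 := hQ.2
          rw [← hQ.1.2.2, h0, Subgroup.card_bot] at h1
          exact hp.ne_one h1.symm
        have hline : C = Subgroup.zpowers ((⁅a, b⁆ : Q) : Ω) := by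
          have := finite_of_le hCS
          have hd : ((⁅a, b⁆ : Q) : Ω) ∈ C := hcomm _ (hQS a.2) _ (hQS b.2)
          refine (Subgroup.eq_of_le_of_card_ge (Subgroup.zpowers_le.2 hd) ?_).symm
          rw [hC, Nat.card_zpowers]
          exact (((Nat.dvd_prime hp).1 (hC ▸ Subgroup.orderOf_dvd_natCard C hd)).resolve_left
            fun h => hab (Subtype.ext (orderOf_eq_one_iff.1 h))).ge
        obtain ⟨i, hi⟩ := Subgroup.mem_zpowers_iff.1 (hline.le hx)
        refine hno ?_
        rw [show x = ⁅(⟨a, hQS a.2⟩ : P), ⟨b, hQS b.2⟩⁆ ^ i from Subtype.ext hi.symm, map_zpow,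
          map_commutatorElement]
        exact C.zpow_mem (hcomm _ (α _).2 _ (α _).2) i
      · exact ⟨fun c hc => hP.1.2 P (isConj_refl hP.1.1)
          ⟨hCS hc, fun y hy => (hCZ hc).2 y (hP.1.1 hy)⟩,
          fun α hα x hx => autGroup_preserves_line hS hF hCZ hC hcomm hbig hP hα hx⟩
    have h1 := CenterIndexPSq.le_core hCn hcore
    rw [h1, Subgroup.card_bot] at hC
    exact hp.ne_one hC.symm

end CfsgLib.Fusion
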