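import Cfsg.Agent.Lib.Fusion.NormalCentralizer
import Cfsg.Agent.Lib.Fusion.HypFocal

/-!
# The focal subgroup of the centralizer system of the group of a normal subsystem
-/

set_option autoImplicit false

open Cfsg Cfsg.FusionSystem
open scoped commutatorElement

namespace CfsgLib.Fusion

variable {Ω : Type*} [Group Ω] {S T : Subgroup Ω} [Finite S] {F : FusionSystem S}
  {E : FusionSystem T} {p : ℕ} [Fact p.Prime]

omit [Finite S] [Fact p.Prime] in
theorem commutatorElement_mul_central_defect {c d z w : Ω} (hzc : Commute z c) (hzd : Commute z d)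
    (hwc : Commute w c) (hwd : Commute w d) (hzw : Commute z w) :
    ⁅c * z, d * w⁆ = ⁅c, d⁆ := by
  have h1 : (c * z) * (d * w) = c * d * (z * w) :=
    Commute.mul_mul_mul_comm hzd c w
  have h2 : (d * w) * (c * z) = d * c * (z * w) := by
    rw [Commute.mul_mul_mul_comm hwc d z, hzw.eq]
  calc ⁅c * z, d * w⁆ = ((c * z) * (d * w)) * ((d * w) * (c * z))⁻¹ := by
        rw [commutatorElement_def]; group
    _ = ⁅c, d⁆ := by rw [h1, h2, commutatorElement_def]; group

/-- A normal subsystem centralizes the commutators of the centralizer of its group. -/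
theorem hom_subset_centralizerHom_commutatorElement (hS : IsPGroup p S) (hE : E.IsNormalIn F p)
    {c d : Ω} (hc : c ∈ centralizerIn S T) (hd : d ∈ centralizerIn S T) :
    ∀ P : Subgroup Ω, E.Hom P ⊆ F.centralizerHom (Subgroup.zpowers ⁅c, d⁆) P := by
  set C := centralizerIn S T
  have hy : ⁅c, d⁆ ∈ C := by
    rw [commutatorElement_def]
    exact C.mul_mem (C.mul_mem (C.mul_mem hc hd) (C.inv_mem hc)) (C.inv_mem hd)
  refine hom_subset_centralizerHom_of_fixed hS hE hy fun R hR φ hφ hφe => ?_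
  obtain ⟨ψ, hψ, hψe, hψc⟩ := hφe
  have hinv := hE.1.2.2
  have hT := hinv.2.1
  have hR'T : φ.range ≤ T := range_le_S E hφ
  have hR'c : IsCentricRelTo F T φ.range :=
    (isCentricRelTo_of_isCentric hinv hR).of_isConj hT ⟨φ, hinv.1 R hφ, rfl⟩
  let ι : Π x ∈ C, ↥(R ⊔ C) := fun x hx => ⟨x, le_sup_right (a := R) hx⟩
  have hcomm : ∀ (x : Ω) (hx : x ∈ C), ∀ y ∈ T, Commute y x := fun x hx y hy => hx.2 y hy
  have hzR : ∀ (x : Ω) (hx : x ∈ C), x⁻¹ * ψ (ι x hx) ∈ φ.range ∧
      ∀ r ∈ φ.range, Commute r (x⁻¹ * ψ (ι x hx)) := by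
    intro x hx
    have hcen : ∀ r ∈ φ.range, Commute r (x⁻¹ * ψ (ι x hx)) := by
      rintro _ ⟨s, rfl⟩
      have h1 : Subgroup.inclusion le_sup_left s * ι x hx =
          ι x hx * Subgroup.inclusion le_sup_left s := Subtype.ext (hx.2 s (hR.1 s.2))
      have h2 := congrArg ψ h1
      rw [map_mul, map_mul, hψe] at h2
      exact (hcomm x hx _ (hR'T ⟨s, rfl⟩)).inv_right.mul_right h2
    exact ⟨centralizer_inf_mem hR'c (hR'T.trans hT.1) (hψc x hx) fun r hr => (hcen r hr).eq,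
      hcen⟩
  have hle : R ⊔ Subgroup.zpowers ⁅c, d⁆ ≤ R ⊔ C :=
    sup_le_sup_left (Subgroup.zpowers_le.2 hy) R
  refine ⟨ψ.comp (Subgroup.inclusion hle), res_mem F hψ hle, fun x => hψe x, ?_⟩
  have h1 : (Subgroup.inclusion hle ⟨⁅c, d⁆, Subgroup.mem_sup_right (Subgroup.mem_zpowers _)⟩) =
      ⁅ι c hc, ι d hd⁆ := by
    refine Subtype.ext ?_
    change ⁅c, d⁆ = _
    rw [commutatorElement_def, commutatorElement_def]
    rfl
  rw [MonoidHom.comp_apply, h1, map_commutatorElement]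
  rw [← mul_inv_cancel_left c (ψ (ι c hc)), ← mul_inv_cancel_left d (ψ (ι d hd))]
  exact commutatorElement_mul_central_defect (hcomm c hc _ (hψc c hc))
    (hcomm d hd _ (hψc c hc)) (hcomm c hc _ (hψc d hd)) (hcomm d hd _ (hψc d hd))
    ((hzR d hd).2 _ (hzR c hc).1)

/-- The focal subgroup of the centralizer system of `T` is centralized. -/
theorem focalSubgroup_centSys_le (hS : IsPGroup p S) (hE : E.IsNormalIn F p) (hTS : T ≤ S)
    {Y : Subgroup Ω}
    (hmax : ∀ Y' : Subgroup Ω, Y' ≤ centralizerIn S T →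
      (∀ P : Subgroup Ω, E.Hom P ⊆ F.centralizerHom Y' P) → Y' ≤ Y) :
    (centSys F T rfl hTS).focalSubgroup ≤ Y := by
  have hCS := centralizerIn_le (S := S) T
  have := finite_of_le hCS
  have hhyp := hyperfocal_centSys_le hS hE hTS hmax
  have hCT : (centSys F T rfl hTS).IsSaturated p :=
    isSaturated_centSys hS hE.1.2.1 rfl hTS
      (isFullyCentralized_of_stronglyClosed hE.1.2.2.2.1)
  refine (Subgroup.closure_le _).2 ?_
  rintro _ ⟨P, φ, x, hφ, rfl⟩
  obtain ⟨g, hg, h⟩ := exists_conj_mod_hyperfocal (hS.to_le hCS) hCT hφ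
  have hxC : (x : Ω) ∈ centralizerIn S T := hφ.2.1 x.2
  have h1 : ⁅(x : Ω)⁻¹, g⁆ ∈ Y :=
    hmax _ (Subgroup.zpowers_le.2 (by
      rw [commutatorElement_def]
      exact mul_mem (mul_mem (mul_mem (inv_mem hxC) hg) (inv_mem (inv_mem hxC))) (inv_mem hg)))
      (hom_subset_centralizerHom_commutatorElement hS hE (inv_mem hxC) hg)
      (Subgroup.mem_zpowers _)
  have h2 := Y.mul_mem h1 (hhyp (h x))
  refine (?_ : (x : Ω)⁻¹ * φ x ∈ Y)
  convert h2 using 1
  rw [commutatorElement_def]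
  group

end CfsgLib.Fusion
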