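import Mathlib

/-!
# Complements containing a stable partial complement

A variant of Gaschütz's theorem: if `K` is abelian and normal, `A₀` is a complement of `K` in a
subgroup of index prime to the order of `K`, and `A₀` is stable under fusion up to `K`, then some
complement of `K` contains `A₀`.
-/

set_option autoImplicit false

namespace CfsgLib.Fusion

open MulAction

/-- An equivariant section exists as soon as every stabilizer fixes a point of the fibre. -/
theorem exists_equivariant_section {G X Y : Type*} [Group G] [MulAction G X] [MulAction G Y]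
    (π : Y → X) (hπ : ∀ (g : G) y, π (g • y) = g • π y)
    (h : ∀ x : X, ∃ y : Y, π y = x ∧ stabilizer G x ≤ stabilizer G y) :
    ∃ f : X → Y, (∀ x, π (f x) = x) ∧ ∀ (g : G) x, f (g • x) = g • f x := by
  classical
  choose y hy hst using h
  let r : X → X := fun x => (Quotient.mk (orbitRel G X) x).out
  have hr : ∀ x, x ∈ orbit G (r x) := fun x => by
    have := Quotient.exact (Quotient.out_eq (Quotient.mk (orbitRel G X) x))
    exact mem_orbit_symm.1 this
  choose c hc using fun x => mem_orbit_iff.1 (hr x)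
  refine ⟨fun x => c x • y (r x), fun x => by rw [hπ, hy, hc], fun g x => ?_⟩
  have hrr : r (g • x) = r x :=
    congrArg Quotient.out (Quotient.sound ((mem_orbit_iff).2 ⟨g, rfl⟩ : g • x ∈ orbit G x))
  have h1 : ((g * c x)⁻¹ * c (g • x)) ∈ stabilizer G (r x) := by
    rw [mem_stabilizer_iff, mul_smul, inv_smul_eq_iff, mul_smul, hc, ← hrr, hc]
  have h2 := mem_stabilizer_iff.1 (hst _ h1)
  rw [mul_smul, inv_smul_eq_iff] at h2
  change c (g • x) • y (r (g • x)) = g • c x • y (r x)
  rw [hrr, h2, mul_smul]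

/-- A stable partial complement extends to a complement. -/
theorem exists_complement_of_stable {H : Type*} [Group H] [Finite H] (K A₀ U : Subgroup H)
    [hK : K.Normal] (hKc : ∀ x ∈ K, ∀ y ∈ K, x * y = y * x) (hKA : K ⊓ A₀ = ⊥)
    (hKU : K ≤ U) (hAU : A₀ ≤ U) (hU : ∀ u ∈ U, ∃ k ∈ K, ∃ a ∈ A₀, u = k * a)
    (hcop : (Nat.card K).Coprime U.index)
    (hstab : ∀ y : H, ∃ k ∈ K, ∀ a ∈ A₀,
      (k * y)⁻¹ * a * (k * y) ∈ U → (k * y)⁻¹ * a * (k * y) ∈ A₀) :
    ∃ D : Subgroup H, A₀ ≤ D ∧ K ⊓ D = ⊥ ∧ ∀ h : H, ∃ k ∈ K, ∃ d ∈ D, h = k * d := by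
  classical
  letI : CommGroup K := { (inferInstance : Group K) with
    mul_comm := fun x y => Subtype.ext (hKc _ x.2 _ y.2) }
  let π : H ⧸ A₀ → H ⧸ U := Quotient.map' id fun a b h => by
    rw [QuotientGroup.leftRel_apply] at h ⊢
    exact hAU h
  have hπmk : ∀ y : H, π (y : H ⧸ A₀) = (y : H ⧸ U) := fun y => rfl
  have hπ : ∀ (g : H) (w : H ⧸ A₀), π (g • w) = g • π w := by
    intro g w
    induction w using QuotientGroup.induction_on with
    | H y => rfl
  have hKq : ∀ k ∈ K, ∀ q : H ⧸ U, k • q = q := by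
    intro k hk q
    induction q using QuotientGroup.induction_on with
    | H y =>
      refine QuotientGroup.eq.2 ?_
      have := hKU (hK.conj_mem _ (K.inv_mem hk) y⁻¹)
      simpa [mul_assoc] using this
  -- the fibres are torsors
  have hfree : ∀ k ∈ K, ∀ w : H ⧸ A₀, k • w = w → k = 1 := by
    intro k hk w
    induction w using QuotientGroup.induction_on with
    | H y =>
      intro h
      have h1 : y⁻¹ * k⁻¹ * y ∈ K ⊓ A₀ := by
        refine ⟨by simpa using hK.conj_mem _ (K.inv_mem hk) y⁻¹, ?_⟩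
        have h2 := QuotientGroup.eq.1 h
        simpa [mul_assoc] using h2
      rw [hKA, Subgroup.mem_bot] at h1
      calc k = y * (y⁻¹ * k⁻¹ * y)⁻¹ * y⁻¹ := by group
        _ = 1 := by rw [h1]; group
  have htrans : ∀ w w' : H ⧸ A₀, π w = π w' → ∃ k ∈ K, w = k • w' := by
    intro w w'
    induction w using QuotientGroup.induction_on with
    | H y => induction w' using QuotientGroup.induction_on with
      | H y' =>
        intro h
        obtain ⟨k, hk, a, ha, hka⟩ := hU _ (QuotientGroup.eq.1 (h.symm : (y' : H ⧸ U) = (y : H ⧸ U)))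
        refine ⟨y' * k * y'⁻¹, hK.conj_mem k hk y', ?_⟩
        change (y : H ⧸ A₀) = ((y' * k * y'⁻¹ * y' : H) : H ⧸ A₀)
        refine QuotientGroup.eq.2 ?_
        simp only [id_eq] at hka
        rw [show y⁻¹ * (y' * k * y'⁻¹ * y') = (y'⁻¹ * y)⁻¹ * k by group, hka]
        simpa [mul_assoc] using A₀.inv_mem ha
  obtain ⟨f, hf, hfeq⟩ := exists_equivariant_section (G := A₀) π (fun a w => hπ (a : H) w) (by
    intro q
    induction q using QuotientGroup.induction_on with
    | H y =>
      obtain ⟨k, hk, hky⟩ := hstab y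
      refine ⟨((k * y : H) : H ⧸ A₀), hKq k hk (y : H ⧸ U), fun a ha => ?_⟩
      have h1 : (a : H) • (y : H ⧸ U) = y := ha
      rw [← hKq k hk (y : H ⧸ U)] at h1
      have h2 := QuotientGroup.eq.1 (h1.symm : ((k * y : H) : H ⧸ U) = (((a : H) * (k * y) : H) : H ⧸ U))
      change (k * y)⁻¹ * ((a : H) * (k * y)) ∈ U at h2
      rw [← mul_assoc] at h2
      exact (QuotientGroup.eq.2 (by simpa [mul_assoc] using hky a a.2 h2) :
        ((k * y : H) : H ⧸ A₀) = (((a : H) * (k * y) : H) : H ⧸ A₀)).symm)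
  have hd : ∀ (g : H) (q : H ⧸ U), ∃ k : K, g • f q = (k : H) • f (g • q) := by
    intro g q
    obtain ⟨k, hk, h⟩ := htrans (g • f q) (f (g • q)) (by rw [hπ, hf, hf])
    exact ⟨⟨k, hk⟩, h⟩
  choose d hdd using hd
  have huniq : ∀ {k l : K} {w : H ⧸ A₀}, (k : H) • w = (l : H) • w → k = l := by
    intro k l w h
    have h1 : ((l⁻¹ * k : K) : H) = 1 := hfree _ (l⁻¹ * k).2 w (by
      rw [Subgroup.coe_mul, Subgroup.coe_inv, mul_smul, h, inv_smul_smul])
    exact (inv_mul_eq_one.1 (Subtype.ext h1 : l⁻¹ * k = 1)).symm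
  let conjK : H → K →* K := fun g =>
    { toFun := fun x => ⟨g * x * g⁻¹, hK.conj_mem _ x.2 g⟩
      map_one' := Subtype.ext (by simp)
      map_mul' := fun x y => Subtype.ext (by simp [mul_assoc]) }
  have := Fintype.ofFinite (H ⧸ U)
  let C : H → K := fun g => ∏ q, d g q
  have hC : ∀ g h, C (g * h) = conjK g (C h) * C g := by
    intro g h
    have h1 : ∀ q, d (g * h) q = conjK g (d h q) * d g (h • q) := by
      intro q
      refine huniq (w := f ((g * h) • q)) ?_
      calc ((d (g * h) q : K) : H) • f ((g * h) • q) = (g * h) • f q := (hdd _ _).symm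
        _ = g • (d h q : H) • f (h • q) := by rw [mul_smul, hdd]
        _ = (g * (d h q : H) * g⁻¹) • g • f (h • q) := by
          rw [smul_smul, smul_smul, inv_mul_cancel_right]
        _ = (g * (d h q : H) * g⁻¹) • (d g (h • q) : H) • f (g • h • q) := by rw [← hdd]
        _ = _ := by rw [smul_smul (M := H) _ _ (f _), mul_smul g h q]; rfl
    change ∏ q, d (g * h) q = _
    rw [Finset.prod_congr rfl fun q _ => h1 q, Finset.prod_mul_distrib, ← map_prod]
    congr 1
    exact Fintype.prod_equiv (MulAction.toPerm h) _ _ fun _ => rfl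
  have hCK : ∀ x : K, C x = x ^ U.index := by
    intro x
    have h1 : ∀ q, d x q = x := fun q => by
      have h2 := hdd x q
      rw [hKq x x.2 q] at h2
      exact huniq h2.symm
    change ∏ q, d x q = _
    simp only [h1, Finset.prod_const, Finset.card_univ, Subgroup.index, Nat.card_eq_fintype_card]
  have hCA : ∀ a ∈ A₀, C a = 1 := by
    intro a ha
    refine Finset.prod_eq_one fun q _ => huniq (w := f (a • q)) ?_
    rw [← hdd, Subgroup.coe_one, one_smul]
    exact (hfeq ⟨a, ha⟩ q).symm
  let D : Subgroup H :=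
    { carrier := {g | C g = 1}
      one_mem' := hCA 1 A₀.one_mem
      mul_mem' := fun {g h} hg hh => by
        show C (g * h) = 1
        rw [hC, show C g = 1 from hg, show C h = 1 from hh, map_one, one_mul]
      inv_mem' := fun {g} hg => by
        show C g⁻¹ = 1
        have := hC g⁻¹ g
        rwa [inv_mul_cancel, hCA 1 A₀.one_mem, show C g = 1 from hg, map_one, one_mul, eq_comm]
          at this }
  refine ⟨D, hCA, ?_, fun g => ?_⟩
  · rw [Subgroup.eq_bot_iff_forall]
    rintro x ⟨hxK, hxD⟩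
    have h1 := (hCK ⟨x, hxK⟩).symm.trans hxD
    have h2 : (powCoprime hcop) (⟨x, hxK⟩ : K) = (powCoprime hcop) 1 := h1.trans (one_pow _).symm
    exact congrArg Subtype.val ((powCoprime hcop).injective h2)
  · obtain ⟨x, hx⟩ := (powCoprime hcop).surjective (C g)⁻¹
    have hx' : x ^ U.index = (C g)⁻¹ := hx
    refine ⟨(x⁻¹ : K), (x⁻¹).2, (x : H) * g, ?_, by simp⟩
    show C ((x : H) * g) = 1
    rw [hC, hCK, hx', show conjK (x : H) (C g) = C g from Subtype.ext (by
      show (x : H) * (C g : H) * (x : H)⁻¹ = _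
      rw [hKc _ x.2 _ (C g).2, mul_inv_cancel_right]), mul_inv_cancel]

end CfsgLib.Fusion
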