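import Cfsg.Agent.Lib.Fusion.ModelBasic
import Cfsg.Agent.Lib.Fusion.ModelConstrained
import Cfsg.Agent.Lib.Fusion.StableComplement

/-!
# Uniqueness of models
-/

set_option autoImplicit false

open Cfsg Cfsg.FusionSystem

namespace CfsgLib.Fusion

variable {Ω : Type*} [Group Ω] {S : Subgroup Ω} [Finite S] {F : FusionSystem S}
  {p : ℕ} [Fact p.Prime] {G : Type*} [Group G] {ι : S →* G}

/-- In a model the centralizer of a normal centric subgroup is the image of its centre. -/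
theorem centralizer_img_le_of_isModel (hS : IsPGroup p S) (hM : F.IsModel p G ι) {Q : Subgroup Ω}
    (hQ : F.IsNormal Q) (hQc : F.IsCentric Q) :
    Subgroup.centralizer (((Q.subgroupOf S).map ι : Subgroup G) : Set G) ≤
      ((centralizerIn S Q).subgroupOf S).map ι := by
  have hQn := map_normal_of_isModel hM hQ
  obtain ⟨hG, ⟨hι, -⟩, ⟨P₀, hP₀⟩, hC⟩ := hM
  set U : Subgroup G := pCore p G
  set Q' : Subgroup G := (Q.subgroupOf S).map ι
  set C : Subgroup G := Subgroup.centralizer (Q' : Set G)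
  have hUr : U ≤ ι.range := hP₀ ▸ Cores.pCore_le_sylow P₀
  have hUn : U.Normal := inferInstance
  have hQ'U : Q' ≤ U := Cores.le_pCore (hn := hQn) ((hS.to_subgroup (Q.subgroupOf S)).map ι)
  have hmem : ∀ s : S, ι s ∈ C → (s : Ω) ∈ centralizerIn S Q := fun s hs => ⟨s.2, fun y hy => by
    have h1 := Subgroup.mem_centralizer_iff.1 hs (ι ⟨y, hQ.1 hy⟩) ⟨_, hy, rfl⟩
    rw [← map_mul, ← map_mul] at h1
    exact congrArg Subtype.val (hι h1)⟩
  have hCn : C.Normal := by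
    have : Q'.Normal := hQn
    infer_instance
  have hCp : IsPGroup p C := by
    rintro ⟨x, hx⟩
    obtain ⟨k, hk⟩ := hS.exists_card_eq
    obtain ⟨e, o, hpo, ho⟩ := Nat.exists_eq_pow_mul_and_not_dvd
      (orderOf_pos_iff.2 (isOfFinOrder_of_finite x)).ne' p (Fact.out : p.Prime).ne_one
    -- the part of order prime to `p` centralizes `U`
    have hy : x ^ p ^ e ∈ C := C.pow_mem hx _
    have hyo : (x ^ p ^ e) ^ o = 1 := by rw [← pow_mul, ← ho, pow_orderOf_eq_one]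
    set y := x ^ p ^ e
    have hyU : y ∈ Subgroup.centralizer (U : Set G) := by
      refine Subgroup.mem_centralizer_iff.2 fun u hu => ?_
      have hzU : y * u * y⁻¹ * u⁻¹ ∈ U :=
        U.mul_mem (hUn.conj_mem u hu y) (U.inv_mem hu)
      have hzC : y * u * y⁻¹ * u⁻¹ ∈ C := by
        rw [show y * u * y⁻¹ * u⁻¹ = y * (u * y⁻¹ * u⁻¹) by group]
        exact C.mul_mem hy (hCn.conj_mem _ (C.inv_mem hy) u)
      obtain ⟨s, hs⟩ := hUr hzU
      have hsQ : (s : Ω) ∈ Q := hQc.2 Q (isConj_refl hQ.1) (hmem s (hs ▸ hzC))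
      set z := y * u * y⁻¹ * u⁻¹
      have hzQ : z ∈ Q' := ⟨s, hsQ, hs⟩
      have hyz : ∀ m : ℕ, y ^ m * u * (y ^ m)⁻¹ = z ^ m * u := by
        intro m
        induction m with
        | zero => simp
        | succ m ih =>
          have h1 := Subgroup.mem_centralizer_iff.1 hy (z ^ m) (Q'.pow_mem hzQ m)
          calc y ^ (m + 1) * u * (y ^ (m + 1))⁻¹ = y * (y ^ m * u * (y ^ m)⁻¹) * y⁻¹ := by
                rw [pow_succ']; group
            _ = z ^ m * (y * u * y⁻¹) := by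
                rw [ih]
                calc y * (z ^ m * u) * y⁻¹ = y * z ^ m * (u * y⁻¹) := by group
                  _ = z ^ m * y * (u * y⁻¹) := by rw [← h1]
                  _ = _ := by group
            _ = z ^ (m + 1) * u := by rw [pow_succ]; simp only [z]; group
      have hzo : z ^ o = 1 := by
        have h1 := hyz o
        rw [hyo, one_mul, inv_one, mul_one] at h1
        exact mul_eq_right.1 h1.symm
      have hzp : z ^ p ^ k = 1 := by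
        rw [← hs, ← map_pow, ← hk, pow_card_eq_one', map_one]
      have hz1 : z = 1 := by
        have h1 := Nat.dvd_gcd (orderOf_dvd_of_pow_eq_one hzo) (orderOf_dvd_of_pow_eq_one hzp)
        rw [Nat.Coprime.gcd_eq_one (Nat.Coprime.pow_right k
          ((Nat.Prime.coprime_iff_not_dvd Fact.out).2 hpo).symm), Nat.dvd_one, orderOf_eq_one_iff] at h1
        exact h1
      exact (eq_mul_inv_iff_mul_eq.1 ((mul_inv_eq_one.1 hz1).symm))
    obtain ⟨s, hs⟩ := hUr (hC hyU)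
    obtain ⟨j, hj⟩ := hS s
    refine ⟨e + j, Subtype.ext ?_⟩
    change x ^ p ^ (e + j) = 1
    rw [pow_add, pow_mul, show x ^ p ^ e = y from rfl, ← hs, ← map_pow, hj, map_one]
  intro c hc
  obtain ⟨s, rfl⟩ := hUr (Cores.le_pCore (hn := hCn) hCp hc)
  exact ⟨s, hmem s hc, rfl⟩

/-- A model realizes every automorphism that another model realizes on a normal subgroup. -/
theorem exists_lift_of_isModel {G' : Type*} [Group G'] {ι' : S →* G'} (hM : F.IsModel p G ι)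
    (hM' : F.IsModel p G' ι') {Q : Subgroup Ω} (hQ : F.IsNormal Q) (g : G) :
    ∃ g' : G', ∀ q : Q, ∃ q' : Q,
      g * ι (Subgroup.inclusion hQ.1 q) * g⁻¹ = ι (Subgroup.inclusion hQ.1 q') ∧
      g' * ι' (Subgroup.inclusion hQ.1 q) * g'⁻¹ = ι' (Subgroup.inclusion hQ.1 q') := by
  have hn := map_normal_of_isModel hM hQ
  have hmem : ∀ q : Q, g * ι (Subgroup.inclusion hQ.1 q) * g⁻¹ ∈ (Q.subgroupOf S).map ι := fun q =>
    hn.conj_mem _ ⟨_, q.2, rfl⟩ g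
  obtain ⟨φ, hφ, hφS, hφe⟩ := exists_map_of_conj hM.2.1 hQ.1 (g := g)
    fun q => Subgroup.map_le_range _ _ (hmem q)
  obtain ⟨g', hg'⟩ := (hM'.2.1.2 Q hQ.1 φ hφS).1 hφ
  refine ⟨g', fun q => ?_⟩
  obtain ⟨s, hs, hse⟩ := hmem q
  have h1 : φ q = (s : Ω) := congrArg Subtype.val (hM.2.1.1 ((hφe q).trans hse.symm))
  refine ⟨⟨φ q, h1 ▸ hs⟩, (hφe q).symm, (hg' q).symm⟩

/-- **Uniqueness of models.** -/
theorem exists_equiv_of_isModel (hS : IsPGroup p S) {Q : Subgroup Ω} (hQ : F.IsNormal Q)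
    (hQc : F.IsCentric Q) {G₁ G₂ : Type*} [Group G₁] [Group G₂] {ι₁ : S →* G₁} {ι₂ : S →* G₂}
    (h₁ : F.IsModel p G₁ ι₁) (h₂ : F.IsModel p G₂ ι₂) :
    ∃ φ : G₁ ≃* G₂, ∀ x : S, φ (ι₁ x) = ι₂ x := by
  classical
  have hQS := hQ.1
  have := finite_of_le hQS
  have hfin₁ := h₁.1
  have hfin₂ := h₂.1
  let i : Q →* S := Subgroup.inclusion hQS
  have hQn : S ≤ Subgroup.normalizer (Q : Set Ω) :=
    le_normalizer_of_stronglyClosed (stronglyClosed_of_isNormal hQ)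
  let H : Subgroup (G₁ × G₂) :=
    { carrier := {g | ∀ q : Q, ∃ q' : Q, g.1 * ι₁ (i q) * g.1⁻¹ = ι₁ (i q') ∧
        g.2 * ι₂ (i q) * g.2⁻¹ = ι₂ (i q')}
      one_mem' := fun q => ⟨q, by simp, by simp⟩
      mul_mem' := fun {a b} ha hb q => by
        obtain ⟨q', e1, e2⟩ := hb q
        obtain ⟨q'', f1, f2⟩ := ha q'
        refine ⟨q'', ?_, ?_⟩
        · rw [← f1, ← e1, Prod.fst_mul]; group
        · rw [← f2, ← e2, Prod.snd_mul]; group
      inv_mem' := fun {a} ha q => by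
        choose f hf1 hf2 using ha
        have hinj : Function.Injective f := fun x y h => by
          have h' := (hf1 x).trans (h ▸ (hf1 y).symm)
          exact Subgroup.inclusion_injective hQS (h₁.2.1.1 (mul_left_cancel (mul_right_cancel h')))
        obtain ⟨q', rfl⟩ := Finite.injective_iff_surjective.1 hinj q
        refine ⟨q', ?_, ?_⟩
        · rw [← hf1, Prod.fst_inv]; group
        · rw [← hf2, Prod.snd_inv]; group }
  have hmemH : ∀ {g : G₁ × G₂}, g ∈ H ↔ ∀ q : Q, ∃ q' : Q,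
      g.1 * ι₁ (i q) * g.1⁻¹ = ι₁ (i q') ∧ g.2 * ι₂ (i q) * g.2⁻¹ = ι₂ (i q') := Iff.rfl
  let p₁ : H →* G₁ := (MonoidHom.fst G₁ G₂).comp H.subtype
  let p₂ : H →* G₂ := (MonoidHom.snd G₁ G₂).comp H.subtype
  have hp₁s : Function.Surjective p₁ := fun g => by
    obtain ⟨g', hg'⟩ := exists_lift_of_isModel h₁ h₂ hQ g
    exact ⟨⟨(g, g'), hg'⟩, rfl⟩
  have hp₂s : Function.Surjective p₂ := fun g => by
    obtain ⟨g', hg'⟩ := exists_lift_of_isModel h₂ h₁ hQ g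
    exact ⟨⟨(g', g), fun q => by
      obtain ⟨q', a, b⟩ := hg' q
      exact ⟨q', b, a⟩⟩, rfl⟩
  let Δ : S →* H := (ι₁.prod ι₂).codRestrict H fun s => hmemH.2 fun q =>
    ⟨⟨s * q * (s : Ω)⁻¹, conj_mem_of_mem_normalizer (hQn s.2) q.2⟩,
      by
        change ι₁ s * ι₁ _ * (ι₁ s)⁻¹ = _
        rw [← map_inv, ← map_mul, ← map_mul]
        exact congrArg ι₁ (Subtype.ext rfl),
      by
        change ι₂ s * ι₂ _ * (ι₂ s)⁻¹ = _
        rw [← map_inv, ← map_mul, ← map_mul]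
        exact congrArg ι₂ (Subtype.ext rfl)⟩
  -- elements of the kernels
  have hker₂ : ∀ h : H, p₂ h = 1 → ∃ z : S, (z : Ω) ∈ centralizerIn S Q ∧ p₁ h = ι₁ z := by
    intro h hh
    have hc : p₁ h ∈ Subgroup.centralizer (((Q.subgroupOf S).map ι₁ : Subgroup G₁) : Set G₁) := by
      refine Subgroup.mem_centralizer_iff.2 ?_
      rintro _ ⟨s, hs, rfl⟩
      obtain ⟨q', e1, e2⟩ := hmemH.1 h.2 ⟨s, hs⟩
      rw [show (h : G₁ × G₂).2 = 1 from hh, one_mul, inv_one, mul_one] at e2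
      rw [← h₂.2.1.1 e2] at e1
      exact (mul_inv_eq_iff_eq_mul.1 e1).symm
    obtain ⟨z, hz, hze⟩ := centralizer_img_le_of_isModel hS h₁ hQ hQc hc
    exact ⟨z, hz, hze.symm⟩
  set K : Subgroup H := p₂.ker
  set A₀ : Subgroup H := Δ.range
  set U : Subgroup H := ι₂.range.comap p₂
  have hKc : ∀ x ∈ K, ∀ y ∈ K, x * y = y * x := by
    intro x hx y hy
    obtain ⟨a, ha, hax⟩ := hker₂ x hx
    obtain ⟨b, hb, hby⟩ := hker₂ y hy
    have hab : a * b = b * a :=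
      Subtype.ext (hb.2 _ (hQc.2 Q (isConj_refl hQS) ha))
    refine Subtype.ext (Prod.ext ?_ ?_)
    · change p₁ x * p₁ y = p₁ y * p₁ x
      rw [hax, hby, ← map_mul, ← map_mul, hab]
    · change p₂ x * p₂ y = p₂ y * p₂ x
      rw [MonoidHom.mem_ker.1 hx, MonoidHom.mem_ker.1 hy]
  have hKA : K ⊓ A₀ = ⊥ := by
    rw [Subgroup.eq_bot_iff_forall]
    rintro _ ⟨hk, s, rfl⟩
    have : s = 1 := h₂.2.1.1 ((MonoidHom.mem_ker.1 hk).trans (map_one ι₂).symm)
    rw [this, map_one]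
  have hU : ∀ u ∈ U, ∃ k ∈ K, ∃ a ∈ A₀, u = k * a := by
    intro u hu
    obtain ⟨s, hs⟩ := hu
    refine ⟨u * (Δ s)⁻¹, ?_, Δ s, ⟨s, rfl⟩, by simp⟩
    rw [MonoidHom.mem_ker, map_mul, map_inv, mul_inv_eq_one]
    exact hs.symm
  have hcop : (Nat.card K).Coprime U.index := by
    rw [Subgroup.index_comap_of_surjective _ hp₂s]
    obtain ⟨T, hT⟩ := h₂.2.2.1
    have hKp : IsPGroup p K := by
      intro x
      obtain ⟨z, -, hz⟩ := hker₂ x x.2
      obtain ⟨j, hj⟩ := hS z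
      refine ⟨j, Subtype.ext (Subtype.ext (Prod.ext ?_ ?_))⟩
      · change p₁ (x : H) ^ p ^ j = 1
        rw [hz, ← map_pow, hj, map_one]
      · change p₂ (x : H) ^ p ^ j = 1
        rw [MonoidHom.mem_ker.1 x.2, one_pow]
    obtain ⟨n, hn⟩ := IsPGroup.iff_card.1 hKp
    rw [hn, ← hT]
    exact Nat.Coprime.pow_left _ ((Nat.Prime.coprime_iff_not_dvd Fact.out).2 T.not_dvd_index)
  have hstab : ∀ y : H, ∃ k ∈ K, ∀ a ∈ A₀,
      (k * y)⁻¹ * a * (k * y) ∈ U → (k * y)⁻¹ * a * (k * y) ∈ A₀ := by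
    intro y
    let M : Subgroup Ω := ((U.comap (MulAut.conj y⁻¹).toMonoidHom).comap Δ).map S.subtype
    have hMS : M ≤ S := Subgroup.map_subtype_le _
    have hMmem : ∀ a : S, (a : Ω) ∈ M ↔ (p₂ y)⁻¹ * ι₂ a * p₂ y ∈ ι₂.range := by
      intro a
      have hconv : p₂ ((MulAut.conj y⁻¹).toMonoidHom (Δ a)) = (p₂ y)⁻¹ * ι₂ a * p₂ y := by
        change p₂ (y⁻¹ * Δ a * y⁻¹⁻¹) = _
        rw [inv_inv, map_mul, map_mul, map_inv]
        rfl
      constructor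
      · rintro ⟨b, hb, hba⟩
        rw [← (Subtype.ext hba : b = a)]
        have : p₂ ((MulAut.conj y⁻¹).toMonoidHom (Δ b)) ∈ ι₂.range := hb
        change p₂ (y⁻¹ * Δ b * y⁻¹⁻¹) ∈ ι₂.range at this
        rwa [inv_inv, map_mul, map_mul, map_inv] at this
      · intro h
        exact ⟨a, show p₂ ((MulAut.conj y⁻¹).toMonoidHom (Δ a)) ∈ ι₂.range from hconv ▸ h, rfl⟩
    have hQM : ∀ q : Q, ∃ q' : Q, (q : Ω) ∈ M ∧
        (p₁ y)⁻¹ * ι₁ (i q) * p₁ y = ι₁ (i q') ∧ (p₂ y)⁻¹ * ι₂ (i q) * p₂ y = ι₂ (i q') := by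
      intro q
      obtain ⟨q', e1, e2⟩ := hmemH.1 (y⁻¹).2 q
      simp only [Subgroup.coe_inv, Prod.fst_inv, Prod.snd_inv, inv_inv] at e1 e2
      exact ⟨q', (hMmem (i q)).2 ⟨_, e2.symm⟩, e1, e2⟩
    obtain ⟨φ, hφ, hφS, hφe⟩ := exists_map_of_conj h₂.2.1 hMS (g := (p₂ y)⁻¹) fun x => by
      rw [inv_inv]
      exact (hMmem ⟨x, hMS x.2⟩).1 x.2
    obtain ⟨g, hg⟩ := (h₁.2.1.2 M hMS φ hφS).1 hφ
    have hk₀ : ((p₁ y * g)⁻¹, (1 : G₂)) ∈ H := by
      refine hmemH.2 fun q => ⟨q, ?_, by simp⟩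
      obtain ⟨q', hqM, e1, e2⟩ := hQM q
      have h3 := hφe ⟨q, hqM⟩
      rw [inv_inv] at h3
      have h4 : (⟨φ ⟨q, hqM⟩, hφS _⟩ : S) = i q' := h₂.2.1.1 (h3.trans e2)
      have h5 := hg ⟨q, hqM⟩
      rw [h4, ← e1] at h5
      change (p₁ y * g)⁻¹ * ι₁ (i q) * (p₁ y * g)⁻¹⁻¹ = ι₁ (i q)
      calc (p₁ y * g)⁻¹ * ι₁ (i q) * (p₁ y * g)⁻¹⁻¹
          = g⁻¹ * ((p₁ y)⁻¹ * ι₁ (i q) * p₁ y) * g := by group
        _ = g⁻¹ * (g * ι₁ (i q) * g⁻¹) * g := by rw [h5]; rfl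
        _ = ι₁ (i q) := by group
    refine ⟨⟨_, hk₀⟩, rfl, ?_⟩
    rintro _ ⟨a, rfl⟩ ha
    have hp2k : p₂ (⟨_, hk₀⟩ * y) = p₂ y := by
      rw [map_mul, show p₂ (⟨_, hk₀⟩ : H) = 1 from rfl, one_mul]
    have ha' : (p₂ y)⁻¹ * ι₂ a * p₂ y ∈ ι₂.range := by
      have h6 : p₂ ((⟨_, hk₀⟩ * y)⁻¹ * Δ a * (⟨_, hk₀⟩ * y)) ∈ ι₂.range := ha
      rw [map_mul, map_mul, map_inv, hp2k] at h6
      exact h6
    have haM : (a : Ω) ∈ M := (hMmem a).2 ha'
    refine ⟨⟨φ ⟨a, haM⟩, hφS _⟩, Subtype.ext (Prod.ext ?_ ?_)⟩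
    · change ι₁ _ = ((p₁ y * g)⁻¹ * p₁ y)⁻¹ * ι₁ a * ((p₁ y * g)⁻¹ * p₁ y)
      rw [hg]
      group
    · change ι₂ _ = (1 * p₂ y)⁻¹ * ι₂ a * (1 * p₂ y)
      rw [hφe, inv_inv, one_mul]
  obtain ⟨D, hAD, hKD, hprod⟩ := exists_complement_of_stable K A₀ U hKc hKA
    (fun k hk => by
      change p₂ k ∈ ι₂.range
      rw [MonoidHom.mem_ker.1 hk]
      exact one_mem _)
    (by rintro _ ⟨s, rfl⟩; exact ⟨s, rfl⟩) hU hcop hstab
  let θ₁ : D →* G₁ := p₁.comp D.subtype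
  let θ₂ : D →* G₂ := p₂.comp D.subtype
  have hθ₂ : Function.Bijective θ₂ := by
    refine ⟨(injective_iff_map_eq_one _).2 fun d hd => Subtype.ext ?_, fun g => ?_⟩
    · exact (Subgroup.eq_bot_iff_forall _).1 hKD d ⟨hd, d.2⟩
    · obtain ⟨h, rfl⟩ := hp₂s g
      obtain ⟨k, hk, d, hd, rfl⟩ := hprod h
      refine ⟨⟨d, hd⟩, ?_⟩
      rw [map_mul, MonoidHom.mem_ker.1 hk, one_mul]
      rfl
  have hθ₁ : Function.Bijective θ₁ := by
    refine ⟨(injective_iff_map_eq_one _).2 fun d hd => ?_, fun g => ?_⟩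
    · -- `d = (1, g₂)` centralizes the image of `Q`
      have hc : p₂ d ∈ Subgroup.centralizer (((Q.subgroupOf S).map ι₂ : Subgroup G₂) : Set G₂) := by
        refine Subgroup.mem_centralizer_iff.2 ?_
        rintro _ ⟨s, hs, rfl⟩
        obtain ⟨q', e1, e2⟩ := hmemH.1 (d : H).2 ⟨s, hs⟩
        rw [show ((d : H) : G₁ × G₂).1 = 1 from hd, one_mul, inv_one, mul_one] at e1
        rw [← h₁.2.1.1 e1] at e2
        exact (mul_inv_eq_iff_eq_mul.1 e2).symm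
      obtain ⟨z, -, hze⟩ := centralizer_img_le_of_isModel hS h₂ hQ hQc hc
      have h7 : (⟨Δ z, hAD ⟨z, rfl⟩⟩ : D) = d := hθ₂.1 hze
      have h8 : ι₁ z = 1 := by rw [← hd, ← h7]; rfl
      have h9 : z = 1 := h₁.2.1.1 (h8.trans (map_one ι₁).symm)
      rw [← h7]
      subst h9
      exact Subtype.ext (map_one Δ)
    · obtain ⟨h, rfl⟩ := hp₁s g
      obtain ⟨k, hk, d, hd, rfl⟩ := hprod h
      obtain ⟨z, -, hz⟩ := hker₂ k hk
      refine ⟨⟨Δ z, hAD ⟨z, rfl⟩⟩ * ⟨d, hd⟩, ?_⟩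
      rw [map_mul, map_mul, hz]
      rfl
  refine ⟨(MulEquiv.ofBijective θ₁ hθ₁).symm.trans (MulEquiv.ofBijective θ₂ hθ₂), fun x => ?_⟩
  have h10 : (MulEquiv.ofBijective θ₁ hθ₁).symm (ι₁ x) = ⟨Δ x, hAD ⟨x, rfl⟩⟩ := by
    rw [MulEquiv.symm_apply_eq]
    rfl
  rw [MulEquiv.trans_apply, h10]
  rfl

/-- An automorphism of a model fixing `S` is conjugation by a central element of `S`. -/
theorem exists_center_of_fixing (hS : IsPGroup p S) {Q : Subgroup Ω} (hQ : F.IsNormal Q)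
    (hQc : F.IsCentric Q) (hM : F.IsModel p G ι) (ψ : G ≃* G) (hψ : ∀ x : S, ψ (ι x) = ι x) :
    ∃ z : S, z ∈ Subgroup.center S ∧ ∀ g : G, ψ g = ι z * g * (ι z)⁻¹ := by
  classical
  have hfin := hM.1
  have hQn := map_normal_of_isModel hM hQ
  set W : Subgroup G := ((centralizerIn S Q).subgroupOf S).map ι
  have hWC : Subgroup.centralizer (((Q.subgroupOf S).map ι : Subgroup G) : Set G) = W := by
    refine le_antisymm (centralizer_img_le_of_isModel hS hM hQ hQc) ?_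
    rintro _ ⟨z, hz, rfl⟩
    refine Subgroup.mem_centralizer_iff.2 ?_
    rintro _ ⟨s, hs, rfl⟩
    rw [← map_mul, ← map_mul]
    exact congrArg ι (Subtype.ext (hz.2 _ hs))
  have hWn : W.Normal := by
    have := hQn
    rw [← hWC]
    infer_instance
  have hWc : ∀ x ∈ W, ∀ y ∈ W, x * y = y * x := by
    rintro _ ⟨a, ha, rfl⟩ _ ⟨b, hb, rfl⟩
    rw [← map_mul, ← map_mul]
    exact congrArg ι (Subtype.ext (hb.2 _ (hQc.2 Q (isConj_refl hQ.1) ha)))
  letI : CommGroup W := { (inferInstance : Group W) with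
    mul_comm := fun x y => Subtype.ext (hWc _ x.2 _ y.2) }
  have hk : ∀ g, ψ g * g⁻¹ ∈ W := by
    intro g
    rw [← hWC]
    refine Subgroup.mem_centralizer_iff.2 ?_
    rintro _ ⟨s, hs, rfl⟩
    obtain ⟨t, ht, hte⟩ := hQn.conj_mem _ ⟨s, hs, rfl⟩ g⁻¹
    have h2 : ψ g * ι t * (ψ g)⁻¹ = ι s := by
      rw [← hψ t, ← map_inv, ← map_mul, ← map_mul, hte, inv_inv,
        show g * (g⁻¹ * ι s * g) * g⁻¹ = ι s by group, hψ]
    rw [hte, inv_inv] at h2
    have h3 : ψ g * g⁻¹ * ι s = ι s * (ψ g * g⁻¹) := by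
      calc ψ g * g⁻¹ * ι s = ψ g * (g⁻¹ * ι s * g) * (ψ g)⁻¹ * (ψ g * g⁻¹) := by group
        _ = _ := by rw [h2]
    exact h3.symm
  let k : G → W := fun g => ⟨ψ g * g⁻¹, hk g⟩
  let c : G → W →* W := fun g =>
    { toFun := fun x => ⟨g * x * g⁻¹, hWn.conj_mem _ x.2 g⟩
      map_one' := Subtype.ext (by simp)
      map_mul' := fun x y => Subtype.ext (by simp [mul_assoc]) }
  have hkmul : ∀ g h, k (g * h) = k g * c g (k h) := fun g h => Subtype.ext (by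
    change ψ (g * h) * (g * h)⁻¹ = ψ g * g⁻¹ * (g * (ψ h * h⁻¹) * g⁻¹)
    rw [map_mul]
    group)
  have hkS : ∀ x : S, k (ι x) = 1 := fun x => Subtype.ext (by
    change ψ (ι x) * (ι x)⁻¹ = 1
    rw [hψ, mul_inv_cancel])
  set R := ι.range
  have := Fintype.ofFinite (G ⧸ R)
  have hkR : ∀ g (x : G), x ∈ R → k (g * x) = k g := by
    rintro g _ ⟨x, rfl⟩
    rw [hkmul, hkS, map_one, mul_one]
  let kq : G ⧸ R → W := fun q => Quotient.liftOn' q k fun a b hab => by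
    have h4 := hkR a _ (QuotientGroup.leftRel_apply.1 hab)
    rw [mul_inv_cancel_left] at h4
    exact h4.symm
  let P : W := ∏ q, kq q
  have hP : ∀ g, P = k g ^ R.index * c g P := by
    intro g
    change (∏ q, kq q) = _ * c g (∏ q, kq q)
    rw [map_prod, show k g ^ R.index = ∏ _q : G ⧸ R, k g from by
      rw [Finset.prod_const, Finset.card_univ, Subgroup.index, Nat.card_eq_fintype_card],
      ← Finset.prod_mul_distrib, ← Equiv.prod_comp (MulAction.toPerm g) kq]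
    refine Finset.prod_congr rfl fun q _ => ?_
    induction q using QuotientGroup.induction_on with
    | H x => exact hkmul g x
  obtain ⟨T, hT⟩ := hM.2.2.1
  have hcop : (Nat.card W).Coprime R.index := by
    have hWp : IsPGroup p W := ((hS.to_subgroup _).map ι)
    obtain ⟨n, hn⟩ := IsPGroup.iff_card.1 hWp
    rw [hn, show R = (T : Subgroup G) from hT.symm]
    exact Nat.Coprime.pow_left _ ((Nat.Prime.coprime_iff_not_dvd Fact.out).2 T.not_dvd_index)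
  obtain ⟨w, hw⟩ := (powCoprime hcop).surjective P
  have hw' : w ^ R.index = P := hw
  have hkw : ∀ g, k g = w * (c g w)⁻¹ := by
    intro g
    apply (powCoprime hcop).injective
    change k g ^ R.index = (w * (c g w)⁻¹) ^ R.index
    rw [mul_pow, inv_pow, ← map_pow, hw', eq_mul_inv_iff_mul_eq]
    exact (hP g).symm
  obtain ⟨z, hz, hzw⟩ := w.2
  have hform : ∀ g, ψ g = ι z * g * (ι z)⁻¹ := by
    intro g
    have h5 : ψ g * g⁻¹ = (w : G) * (g * (w : G) * g⁻¹)⁻¹ := congrArg Subtype.val (hkw g)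
    rw [mul_inv_eq_iff_eq_mul] at h5
    rw [h5, hzw]
    group
  refine ⟨z, Subgroup.mem_center_iff.2 fun x => hM.2.1.1 ?_, hform⟩
  have h6 := hform (ι x)
  rw [hψ, eq_mul_inv_iff_mul_eq] at h6
  rw [map_mul, map_mul, h6]

end CfsgLib.Fusion
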