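import Cfsg.Agent.Lib.Fusion.FunctorCore
import Cfsg.Agent.Lib.Fusion.ModelUnique
import Cfsg.Agent.Lib.LocalEven.S4Section

/-!
# Models avoiding a section, inherited by local systems and quotients
-/

set_option autoImplicit false

open Cfsg Cfsg.FusionSystem

namespace CfsgLib.Fusion

universe u

variable {H₀ : Type} [Group H₀]

/-- `Q` has a model of its normalizer system in which `H₀` is not involved. -/
def FreeAt (H₀ : Type) [Group H₀] (p : ℕ) {Ω : Type u} [Group Ω] {S : Subgroup Ω}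
    (F : FusionSystem S) (Q : Subgroup Ω) : Prop :=
  ∃ N : FusionSystem (normalizerIn S Q), F.IsNormalizerSystem Q N ∧
    ∃ (L : Type u) (_ : Group L) (ι : ↥(normalizerIn S Q) →* L),
      N.IsModel p L ι ∧ ¬ Involves H₀ L

/-- `FreeAt` at the fully normalized centric subgroups containing the core. -/
def CoreFree (H₀ : Type) [Group H₀] (p : ℕ) {Ω : Type u} [Group Ω] {S : Subgroup Ω}
    (F : FusionSystem S) : Prop :=
  ∀ Q, F.IsCentric Q → F.IsFullyNormalized Q → F.core ≤ Q → FreeAt H₀ p F Q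

variable {p : ℕ} [Fact p.Prime] {Ω : Type u} [Group Ω] {S : Subgroup Ω} [Finite S]
  {F : FusionSystem S}

omit [Fact p.Prime] [Finite S] in
theorem isCentric_normalizerSystem {Q : Subgroup Ω} (hQ : F.IsCentric Q)
    {N : FusionSystem (normalizerIn S Q)} (hN : F.IsNormalizerSystem Q N) : N.IsCentric Q := by
  refine ⟨le_normalizerIn hQ.1, fun R hR c hc => ?_⟩
  obtain ⟨φ, hφ, rfl⟩ := hR
  rw [hN] at hφ
  exact hQ.2 _ ⟨φ, hφ.1, rfl⟩ ⟨hc.1.1, hc.2⟩

/-- Inheritance by a subsystem defined by a condition on the restrictions to `Q`. -/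
theorem freeAt_of_subsystem (hS : IsPGroup p S) (hF : F.IsSaturated p) {T : Subgroup Ω}
    [Finite T] {E : FusionSystem T} (hTS : T ≤ S) (hE : E.IsSaturated p) (hEF : E.IsSubsystemOf F)
    (hfree : CoreFree H₀ p F) {Q : Subgroup Ω} (hQc : E.IsCentric Q)
    (hQn : E.IsFullyNormalized Q) (hQF : F.IsCentric Q) (hcore : F.core ≤ Q)
    (hstar : ∀ P, P ≤ normalizerIn T Q → ∀ ψ ∈ F.Hom (P ⊔ Q), (∀ x, ψ x ∈ normalizerIn T Q) →
      img ψ Q = Q → (∀ α : MulAut Q,
        (∀ x : Q, (α x : Ω) = ψ (Subgroup.inclusion le_sup_right x)) → α ∈ E.autGroup Q) →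
      ψ ∈ E.Hom (P ⊔ Q)) :
    FreeAt H₀ p E Q := by
  have hQT := hQn.1
  have := finite_of_le hQT
  set NT := normalizerIn T Q with hNT
  have hNTT : NT ≤ T := normalizerIn_le Q
  have hNTS : NT ≤ normalizerIn S Q := inf_le_inf_right _ hTS
  have hNTfin : Finite NT := finite_of_le hNTT
  have hQNT : Q ≤ NT := le_normalizerIn hQT
  obtain ⟨Qs, hconj, hQsn⟩ := exists_fullyNormalized F hQF.1
  have hQsc := isCentric_of_isConj hQF hconj
  obtain ⟨f, hQle, hf, ψ₀, hψ₀, hψ₀f, hψ₀N⟩ :=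
    exists_hom_normalizerIn_of_fullyNormalized hS hF hQsn hconj
  have hψ₀i := F.injective_of_mem hψ₀
  have himgQ : img ψ₀ Q = Qs := by
    rw [img_congr (φ := Qs.subtype.comp f.toMonoidHom) hQle hψ₀f]
    exact range_subtype_comp f
  have hcoreQs : F.core ≤ Qs := by
    intro y hy
    rw [← himgQ]
    have h1 := (img_stronglyClosed_eq (stronglyClosed_of_isNormal isNormal_core) hψ₀
      (hcore.trans hQle)).ge hy
    exact img_mono ψ₀ hcore h1
  obtain ⟨N, hN, L, _, ι, hM, hL⟩ := hfree Qs hQsc hQsn hcoreQs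
  have hM' := hM
  obtain ⟨hLfin, ⟨hι, hreal⟩, -, -⟩ := hM'
  let j : NT →* ↥(normalizerIn S Qs) :=
    (ψ₀.codRestrict _ hψ₀N).comp (Subgroup.inclusion hNTS)
  have hji : Function.Injective j := fun a b hab =>
    Subgroup.inclusion_injective hNTS (hψ₀i (congrArg Subtype.val hab))
  let κ : NT →* L := ι.comp j
  have hκi : Function.Injective κ := hι.comp hji
  let Q₁ : Subgroup L := (Q.subgroupOf NT).map κ
  have hQsN : Qs ≤ normalizerIn S Qs := le_normalizerIn hQsn.1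
  have hQ₁ : Q₁ = (Qs.subgroupOf (normalizerIn S Qs)).map ι := by
    ext y
    constructor
    · rintro ⟨x, hx, rfl⟩
      refine ⟨j x, ?_, rfl⟩
      exact Subgroup.mem_subgroupOf.2
        (himgQ.le (apply_mem_img ψ₀ (x := Subgroup.inclusion hNTS x) hx))
    · rintro ⟨x, hx, rfl⟩
      obtain ⟨z, hz, hzx⟩ := mem_img.1 (himgQ.ge (Subgroup.mem_subgroupOf.1 hx))
      exact ⟨⟨z, hQNT hz⟩, hz, congrArg ι (Subtype.ext hzx)⟩
  have hNs := isNormal_normalizerSystem hQsn.1 hN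
  have hNc := isCentric_normalizerSystem hQsc hN
  have hSN : IsPGroup p ↥(normalizerIn S Qs) := hS.to_le (normalizerIn_le Qs)
  have := finite_of_le (normalizerIn_le (S := S) Qs)
  have hQ₁n : Q₁.Normal := hQ₁ ▸ map_normal_of_isModel hM hNs
  have hQ₁C : Subgroup.centralizer (Q₁ : Set L) ≤ Q₁ := by
    rw [hQ₁]
    refine (centralizer_img_le_of_isModel hSN hM hNs hNc).trans (Subgroup.map_mono ?_)
    exact Subgroup.comap_mono (hNc.2 Qs (isConj_refl hNc.1))
  -- the subgroup of `L` inducing automorphisms in `E`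
  let G : Subgroup L :=
    { carrier := {g | ∃ α ∈ E.autGroup Q, ∀ x : Q,
        g * κ (Subgroup.inclusion hQNT x) * g⁻¹ = κ (Subgroup.inclusion hQNT (α x))}
      one_mem' := ⟨1, one_mem _, fun x => by simp⟩
      mul_mem' := by
        rintro a b ⟨α, hα, ha⟩ ⟨β, hβ, hb⟩
        refine ⟨α * β, mul_mem hα hβ, fun x => ?_⟩
        rw [MulAut.mul_apply, ← ha (β x), ← hb x]
        group
      inv_mem' := by
        rintro a ⟨α, hα, ha⟩
        refine ⟨α⁻¹, inv_mem hα, fun x => ?_⟩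
        have h1 := ha (α⁻¹ x)
        rw [MulAut.apply_inv_self] at h1
        rw [← h1]
        group }
  have hκG : ∀ t, κ t ∈ G := by
    intro t
    refine ⟨normAut (t : Ω) t.2.2, autInducedBy_le_autGroup hQT
      (mem_autInducedBy_iff.2 ⟨t, t.2.1, fun _ => rfl⟩), fun x => ?_⟩
    rw [← map_inv, ← map_mul, ← map_mul]
    exact congrArg κ (Subtype.ext rfl)
  let κ' : NT →* G := κ.codRestrict G hκG
  have hκ'i : Function.Injective κ' := fun a b h => hκi (congrArg Subtype.val h)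
  have hGfin : Finite G := inferInstance
  -- its action on `Q`
  have hact : ∀ g : G, ∃ α : MulAut Q, α ∈ E.autGroup Q ∧ ∀ x : Q,
      (g : L) * κ (Subgroup.inclusion hQNT x) * (g : L)⁻¹ = κ (Subgroup.inclusion hQNT (α x)) :=
    fun g => g.2
  choose act hact₁ hact₂ using hact
  have hactext : ∀ (g : G) (β : MulAut Q), (∀ x : Q, (g : L) * κ (Subgroup.inclusion hQNT x) *
      (g : L)⁻¹ = κ (Subgroup.inclusion hQNT (β x))) → act g = β := fun g β h =>
    MulEquiv.ext fun x => Subgroup.inclusion_injective hQNT (hκi ((hact₂ g x).symm.trans (h x)))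
  let Φ : G →* E.autGroup Q := MonoidHom.mk' (fun g => ⟨act g, hact₁ g⟩) fun a b => by
    refine Subtype.ext (hactext _ _ fun x => ?_)
    change _ = κ (Subgroup.inclusion hQNT (act a (act b x)))
    rw [← hact₂ a, ← hact₂ b]
    simp [mul_assoc]
  have hTp : IsPGroup p T := hS.to_le hTS
  have hNTp : IsPGroup p NT := hTp.to_le hNTT
  have hNTr : IsPGroup p κ'.range := hNTp.of_surjective κ'.rangeRestrict
    κ'.rangeRestrict_surjective
  obtain ⟨R, hR⟩ := hNTr.exists_le_sylow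
  have hRle : (R : Subgroup G) ≤ κ'.range := by
    have hpi := ((isFullyAutomized_iff hTp).1
      (fullyAutomized_receptive_of_fullyNormalized hTp hE hQn).1).2
    set A := (autInducedBy T Q).subgroupOf (E.autGroup Q) with hA
    have hAR : A ≤ (R : Subgroup G).map Φ := by
      intro α hα
      obtain ⟨t, ht, hte⟩ := mem_autInducedBy_iff.1 (Subgroup.mem_subgroupOf.1 hα)
      have htn : t ∈ NT := ⟨ht, mem_normalizer_of_aut hte⟩
      refine ⟨κ' ⟨t, htn⟩, hR ⟨_, rfl⟩, Subtype.ext (hactext _ _ fun x => ?_)⟩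
      change κ _ * κ _ * (κ _)⁻¹ = _
      rw [← map_inv, ← map_mul, ← map_mul]
      exact congrArg κ (Subtype.ext (hte x).symm)
    have hAeq : A = (R : Subgroup G).map Φ := eq_of_le_of_not_dvd (R.2.map Φ) hAR le_top
      (by rw [Subgroup.relIndex_top_right]; exact hpi)
    intro g hg
    have h1 : Φ g ∈ A := hAeq.ge ⟨g, hg, rfl⟩
    obtain ⟨t, ht, hte⟩ := mem_autInducedBy_iff.1 (Subgroup.mem_subgroupOf.1 h1)
    have htn : t ∈ NT := ⟨ht, mem_normalizer_of_aut hte⟩
    have h2 : (κ ⟨t, htn⟩)⁻¹ * (g : L) ∈ Q₁ := by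
      refine hQ₁C ?_
      rintro _ ⟨x, hx, rfl⟩
      have h3 : (g : L) * κ x * (g : L)⁻¹ = κ ⟨t, htn⟩ * κ x * (κ ⟨t, htn⟩)⁻¹ := by
        refine (hact₂ g ⟨x, hx⟩).trans ?_
        rw [← map_inv, ← map_mul, ← map_mul]
        exact congrArg κ (Subtype.ext (hte ⟨x, hx⟩))
      calc κ x * ((κ ⟨t, htn⟩)⁻¹ * (g : L))
          = (κ ⟨t, htn⟩)⁻¹ * (κ ⟨t, htn⟩ * κ x * (κ ⟨t, htn⟩)⁻¹) * (g : L) := by group
        _ = (κ ⟨t, htn⟩)⁻¹ * ((g : L) * κ x * (g : L)⁻¹) * (g : L) := by rw [h3]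
        _ = _ := by group
    obtain ⟨q, hq, hqe⟩ := h2
    refine ⟨⟨t, htn⟩ * q, Subtype.ext ?_⟩
    change κ _ = (g : L)
    rw [map_mul, hqe, mul_inv_cancel_left]
  refine ⟨normSys E Q rfl hQT, fun _ => rfl, G, inferInstance, κ', ⟨hGfin, ⟨hκ'i, ?_⟩,
    ⟨R, le_antisymm hRle hR⟩, ?_⟩, fun h => hL (CfsgLib.LocalEven.Offender.involves_of_injective G.subtype
      Subtype.val_injective h)⟩
  · -- realization
    intro P hP φ hφP
    have hAS : ∀ {A : Subgroup Ω}, A ≤ NT → A ≤ normalizerIn S Q := fun h => h.trans hNTS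
    constructor
    · intro hφ
      obtain ⟨e, he, hee, heQ⟩ := exists_iso_of_normalizerHom (F := E) hφ
      have hA : P ⊔ Q ≤ NT := sup_le hP hQNT
      have hB : φ.range ⊔ Q ≤ NT := sup_le (by rintro _ ⟨x, rfl⟩; exact hφP x) hQNT
      have heF : IsIso F e := hEF _ he
      obtain ⟨gA, hgA, hgAe⟩ := exists_iso_of_mem (res_mem F hψ₀ (hAS hA))
      obtain ⟨gB, hgB, hgBe⟩ := exists_iso_of_mem (res_mem F hψ₀ (hAS hB))
      set c := (gA.symm.trans e).trans gB with hc
      have hQA : img ((ψ₀.comp (Subgroup.inclusion (hAS hA))).range.subtype.comp gA.toMonoidHom)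
          Q = Qs := by
        rw [show (ψ₀.comp (Subgroup.inclusion (hAS hA))).range.subtype.comp gA.toMonoidHom =
          ψ₀.comp (Subgroup.inclusion (hAS hA)) from MonoidHom.ext hgAe,
          img_res ψ₀ (hAS hA) le_sup_right, himgQ]
      have hQB : img ((ψ₀.comp (Subgroup.inclusion (hAS hB))).range.subtype.comp gB.toMonoidHom)
          Q = Qs := by
        rw [show (ψ₀.comp (Subgroup.inclusion (hAS hB))).range.subtype.comp gB.toMonoidHom =
          ψ₀.comp (Subgroup.inclusion (hAS hB)) from MonoidHom.ext hgBe,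
          img_res ψ₀ (hAS hB) le_sup_right, himgQ]
      have hcQ : img ((ψ₀.comp (Subgroup.inclusion (hAS hB))).range.subtype.comp c.toMonoidHom)
          Qs = Qs := by
        rw [hc, img_trans, img_trans, img_symm gA le_sup_right hQA, heQ, hQB]
      have hdom : (ψ₀.comp (Subgroup.inclusion (hAS hA))).range ≤ normalizerIn S Qs := by
        rintro _ ⟨x, rfl⟩; exact hψ₀N _
      have hval : ∀ x, (c x : Ω) ∈ normalizerIn S Qs := by
        intro x
        obtain ⟨y, hy⟩ := (c x).2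
        rw [← hy]
        exact hψ₀N _
      have hcN : (ψ₀.comp (Subgroup.inclusion (hAS hB))).range.subtype.comp c.toMonoidHom ∈
          N.Hom _ := (hN _).ge (mem_normalizerHom_of_img ((hgA.symm.trans heF).trans hgB) le_rfl
            (hQA ▸ range_subtype_comp_le gA Q) hcQ (fun _ => rfl) hdom hval)
      obtain ⟨g, hg⟩ := (hreal _ hdom _ hval).1 hcN
      have hgA' : ∀ x : ↥(P ⊔ Q), g * κ ⟨x, hA x.2⟩ * g⁻¹ = κ ⟨e x, hB (e x).2⟩ := by
        intro x
        have h1 := hg (gA x)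
        have h2 : (⟨(gA x : Ω), hdom (gA x).2⟩ : ↥(normalizerIn S Qs)) = j ⟨x, hA x.2⟩ :=
          Subtype.ext (hgAe x)
        have h3 : (⟨(c (gA x) : Ω), hval (gA x)⟩ : ↥(normalizerIn S Qs)) =
            j ⟨e x, hB (e x).2⟩ := by
          refine Subtype.ext ?_
          change (gB (e (gA.symm (gA x))) : Ω) = _
          rw [gA.symm_apply_apply]
          exact hgBe _
        change g * ι (j ⟨x, hA x.2⟩) * g⁻¹ = ι (j ⟨e x, hB (e x).2⟩)
        rw [← h2, ← h3]
        exact h1.symm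
      obtain ⟨α, hα, hαe⟩ := exists_iso_of_range (res_mem E he (le_sup_right : Q ≤ P ⊔ Q))
        ((range_comp_inclusion _ le_sup_right).trans heQ)
      have hgG : g ∈ G := ⟨α, (mem_autGroup_iff E hQT).2 hα, fun x => by
        refine (hgA' (Subgroup.inclusion le_sup_right x)).trans (congrArg κ (Subtype.ext ?_))
        exact (hαe x).symm⟩
      refine ⟨⟨g, hgG⟩, fun x => Subtype.ext ?_⟩
      refine Eq.trans ?_ (hgA' (Subgroup.inclusion le_sup_left x)).symm
      exact congrArg κ (Subtype.ext (hee x).symm)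
    · rintro ⟨⟨g, hgG⟩, hg⟩
      obtain ⟨α, hα, hαe⟩ := hgG
      have hA : P ⊔ Q ≤ NT := sup_le hP hQNT
      have hg' : ∀ x : P, κ ⟨φ x, hφP x⟩ = g * κ ⟨x, hP x.2⟩ * g⁻¹ := fun x =>
        congrArg Subtype.val (hg x)
      obtain ⟨gA, hgA, hgAe⟩ := exists_iso_of_mem (res_mem F hψ₀ (hAS hA))
      have hdom : (ψ₀.comp (Subgroup.inclusion (hAS hA))).range ≤ normalizerIn S Qs := by
        rintro _ ⟨x, rfl⟩; exact hψ₀N _
      have hval : ∀ x : ↥(P ⊔ Q), g * κ ⟨x, hA x.2⟩ * g⁻¹ ∈ κ.range := by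
        intro x
        have hle : P ⊔ Q ≤ (((κ.range.comap (MulAut.conj g).toMonoidHom).comap κ)).map
            NT.subtype := by
          refine sup_le (fun y hy => ⟨⟨y, hP hy⟩, ⟨⟨φ ⟨y, hy⟩, hφP _⟩, ?_⟩, rfl⟩)
            fun y hy => ⟨⟨y, hQNT hy⟩, ⟨_, (hαe ⟨y, hy⟩).symm⟩, rfl⟩
          simpa using hg' ⟨y, hy⟩
        obtain ⟨z, hz, hze⟩ := hle x.2
        rw [show (⟨(x : Ω), hA x.2⟩ : NT) = z from Subtype.ext hze.symm]
        simpa using hz
      obtain ⟨φs, hφs, hφsS, hφse⟩ := exists_map_of_conj (ι := ι) ⟨hι, hreal⟩ hdom (g := g)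
        fun y => by
          obtain ⟨x, hx⟩ := y.2
          obtain ⟨t, ht⟩ := hval x
          refine ⟨j t, ?_⟩
          rw [show (⟨(y : Ω), hdom y.2⟩ : ↥(normalizerIn S Qs)) = j ⟨x, hA x.2⟩ from
            Subtype.ext hx.symm]
          exact ht
      rw [hN] at hφs
      have hback : ∀ y, φs y ∈ (ψ₀.comp (Subgroup.inclusion hNTS)).range := by
        intro y
        obtain ⟨x, hx⟩ := y.2
        obtain ⟨t, ht⟩ := hval x
        refine ⟨t, ?_⟩
        have h1 : (⟨φs y, hφsS y⟩ : ↥(normalizerIn S Qs)) = j t := by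
          refine hι ((hφse y).trans ?_)
          rw [show (⟨(y : Ω), hdom y.2⟩ : ↥(normalizerIn S Qs)) = j ⟨x, hA x.2⟩ from
            Subtype.ext hx.symm]
          exact ht.symm
        exact (congrArg Subtype.val h1).symm
      obtain ⟨χ, hχ, hχe⟩ := F.inv_mem (res_mem F hψ₀ hNTS)
      let ψ := χ.comp (((φs.codRestrict _ hback)).comp gA.toMonoidHom)
      have hψF : ψ ∈ F.Hom (P ⊔ Q) := by
        have h1 := F.comp_mem hgA hφs.1 fun x => (gA x).2
        exact mem_of_eq rfl (F.comp_mem h1 hχ fun x => hback _) fun _ => rfl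
      -- values of `ψ`
      have hψκ : ∀ x : ↥(P ⊔ Q), ∃ t : NT, ψ x = t ∧ κ t = g * κ ⟨x, hA x.2⟩ * g⁻¹ := by
        intro x
        obtain ⟨t, ht⟩ := hback (gA x)
        refine ⟨t, ?_, ?_⟩
        · change χ ⟨φs (gA x), hback (gA x)⟩ = _
          rw [← hχe t]
          exact congrArg χ (Subtype.ext ht.symm)
        · have h1 : (⟨φs (gA x), hφsS _⟩ : ↥(normalizerIn S Qs)) = j t := Subtype.ext ht.symm
          change ι (j t) = g * ι (j ⟨x, hA x.2⟩) * g⁻¹
          rw [← h1, hφse]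
          rw [show (⟨(gA x : Ω), hdom (gA x).2⟩ : ↥(normalizerIn S Qs)) = j ⟨x, hA x.2⟩ from
            Subtype.ext (hgAe x)]
      have hψNT : ∀ x, ψ x ∈ NT := fun x => by
        obtain ⟨t, ht, -⟩ := hψκ x
        exact ht ▸ t.2
      have hψQ : ∀ x : Q, ψ (Subgroup.inclusion le_sup_right x) = α x := by
        intro x
        obtain ⟨t, ht, hte⟩ := hψκ (Subgroup.inclusion le_sup_right x)
        have h1 : t = Subgroup.inclusion hQNT (α x) := hκi (hte.trans (hαe x))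
        rw [ht, h1]
        rfl
      have hψimg : img ψ Q = Q := by
        rw [img_congr (φ := Q.subtype.comp α.toMonoidHom) le_sup_right hψQ]
        exact range_subtype_comp α
      have hψE := hstar P hP ψ hψF hψNT hψimg fun β hβ => by
        rw [show β = α from MulEquiv.ext fun x => Subtype.ext ((hβ x).trans (hψQ x))]
        exact hα
      refine mem_normalizerHom_of_img hψE le_sup_left le_sup_right hψimg (fun x => ?_) hP hφP
      obtain ⟨t, ht, hte⟩ := hψκ (Subgroup.inclusion le_sup_left x)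
      have h1 : t = ⟨φ x, hφP x⟩ := hκi (hte.trans (hg' x).symm)
      rw [ht, h1]
  · -- the centralizer of the core
    have hQG : Q₁ ≤ G := by
      rintro _ ⟨x, -, rfl⟩; exact hκG x
    intro x hx
    have hle : Q₁.subgroupOf G ≤ pCore p G := Cores.le_pCore (hn := hQ₁n.subgroupOf G)
      (IsPGroup.comap_subtype ((hNTp.to_subgroup (Q.subgroupOf NT)).map κ))
    refine hle (Subgroup.mem_subgroupOf.2 (hQ₁C fun y hy => ?_))
    exact congrArg Subtype.val (hx ⟨y, hQG hy⟩ (hle (Subgroup.mem_subgroupOf.2 hy)))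

/-- Fully normalized `U`: inheritance to `N_F(U)`. -/
theorem coreFree_normSys (hS : IsPGroup p S) (hF : F.IsSaturated p) (hfree : CoreFree H₀ p F)
    {U : Subgroup Ω} (hU : F.IsFullyNormalized U) (hcore : F.core ≤ U) :
    CoreFree H₀ p (normSys F U rfl hU.1) := by
  intro Q hQc hQn hQcore
  set E := normSys F U rfl hU.1 with hEdef
  have := finite_of_le (normalizerIn_le (S := S) U)
  have hUN : E.IsNormal U := isNormal_normalizerSystem hU.1 (fun _ => rfl)
  have hUQ : U ≤ Q := (le_sSup (a := U) hUN : U ≤ E.core).trans hQcore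
  have hQS : Q ≤ S := hQn.1.trans (normalizerIn_le U)
  have hQF : F.IsCentric Q := by
    refine ⟨hQS, ?_⟩
    intro R hR c hc
    obtain ⟨ψ, hψ, rfl⟩ := hR
    obtain ⟨e, he, hee⟩ := exists_iso_of_mem hψ
    have hUR : img ψ U ≤ ψ.range := img_le_range ψ U
    have hconjU : F.IsConj (img ψ U) U :=
      isConj_symm ⟨_, res_mem F hψ hUQ, range_comp_inclusion ψ hUQ⟩
    obtain ⟨g, hgle, hg, χ, hχ, hχg, hχN⟩ :=
      exists_hom_normalizerIn_of_fullyNormalized hS hF hU hconjU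
    have := finite_of_le (hUR.trans (range_le_S F hψ))
    have hQn' : ψ.range ≤ normalizerIn S (img ψ U) := by
      rintro _ ⟨x, rfl⟩
      refine ⟨apply_mem_S F hψ x, mem_normalizer_of_forall fun y hy => ?_⟩
      obtain ⟨z, hz, rfl⟩ := mem_img.1 hy
      rw [← map_inv, ← map_mul, ← map_mul]
      exact apply_mem_img ψ (conj_mem_of_mem_normalizer (hQn.1 x.2).2 hz)
    have hval : ∀ x, ψ x ∈ normalizerIn S (img ψ U) := fun x => hQn' ⟨x, rfl⟩
    set θ := χ.comp (ψ.codRestrict _ hval) with hθdef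
    have hθF : θ ∈ F.Hom Q := F.comp_mem hψ hχ hval
    have hθE : θ ∈ E.Hom Q := by
      refine mem_normalizerHom_of_img hθF le_rfl hUQ ?_ (fun _ => rfl) hQn.1 fun x => hχN _
      rw [hθdef, img_comp, img_congr (φ := U.subtype.comp g.toMonoidHom) hgle hχg]
      exact range_subtype_comp g
    have hcN : c ∈ normalizerIn S (img ψ U) :=
      ⟨hc.1, mem_normalizer_of_forall_commute fun y hy => hc.2 y (hUR hy)⟩
    have h1 : χ ⟨c, hcN⟩ ∈ θ.range := by
      refine hQc.2 _ ⟨θ, hθE, rfl⟩ ⟨hχN _, ?_⟩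
      rintro _ ⟨x, rfl⟩
      change χ ⟨ψ x, hval x⟩ * _ = _ * χ ⟨ψ x, hval x⟩
      rw [← map_mul, ← map_mul]
      exact congrArg χ (Subtype.ext (hc.2 _ ⟨x, rfl⟩))
    obtain ⟨x, hx⟩ := h1
    exact ⟨x, congrArg Subtype.val (F.injective_of_mem hχ hx)⟩
  refine freeAt_of_subsystem hS hF (normalizerIn_le U) (isSaturated_normSys hS hF hU)
    (normSys_isSubsystemOf hU.1) hfree hQc hQn hQF (hcore.trans hUQ) fun P hP ψ hψ hval hψQ hα => ?_
  obtain ⟨β, -, hβe⟩ := exists_iso_of_range (res_mem F hψ (le_sup_right : Q ≤ P ⊔ Q))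
    ((range_comp_inclusion ψ le_sup_right).trans hψQ)
  have hβE := (mem_autGroup_iff E hQn.1).1 (hα β fun x => hβe x)
  obtain ⟨-, -, -, ω, hω, hωe, hωU⟩ := hβE
  refine mem_normalizerHom_of_img hψ le_rfl (hUQ.trans le_sup_right) ?_ (fun _ => rfl)
    (sup_le (hP.trans (normalizerIn_le Q)) hQn.1) fun x => normalizerIn_le Q (hval x)
  conv_rhs => rw [← hωU]
  ext y
  rw [mem_img]
  constructor
  · rintro ⟨x, hx, rfl⟩
    refine ⟨Subgroup.inclusion le_sup_left ⟨x, hUQ hx⟩, hx, ?_⟩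
    rw [hωe]
    exact hβe ⟨x, hUQ hx⟩
  · rintro ⟨x, hx, rfl⟩
    refine ⟨⟨x, le_sup_right (a := P) (hUQ hx)⟩, hx, ?_⟩
    exact (hβe ⟨x, hUQ hx⟩).symm.trans (hωe ⟨x, hUQ hx⟩).symm

/-- Inheritance to the maps acting on the core as elements of `S`. -/
theorem coreFree_innerOnSys (hS : IsPGroup p S) (hF : F.IsSaturated p) (hfree : CoreFree H₀ p F)
    {X : Subgroup Ω} (hX : F.IsNormal X) (hcore : F.core ≤ X) :
    CoreFree H₀ p (innerOnSys F X hX.1
      (le_normalizer_of_stronglyClosed (stronglyClosed_of_isNormal hX))) := by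
  intro Q hQc hQn hQcore
  set E := innerOnSys F X hX.1 (le_normalizer_of_stronglyClosed (stronglyClosed_of_isNormal hX))
  have hsat : E.IsSaturated p := isSaturated_innerOnSys hS hF hX
  have hEF : E.IsSubsystemOf F := fun _ _ h => h.1
  have hXN : E.IsNormal X := by
    refine ⟨hX.1, fun P φ hφ => ?_⟩
    obtain ⟨-, ψ, hψ, hψe, s, hs, hse⟩ := hφ
    refine ⟨ψ, ⟨hψ, ?_⟩, hψe, ?_⟩
    · obtain ⟨ω, hω, hωe⟩ := mem_of_eq_sup (sup_eq_left.2 (le_sup_right : X ≤ P ⊔ X)).symm hψ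
      exact ⟨ω, hω, fun x => hωe _, s, hs, fun x => (hωe _).trans (hse x)⟩
    · exact img_stronglyClosed_eq (stronglyClosed_of_isNormal hX) hψ le_sup_right
  have hXQ : X ≤ Q := (le_sSup (a := X) hXN : X ≤ E.core).trans hQcore
  have hQS := hQn.1
  have hQF : F.IsCentric Q := by
    refine ⟨hQS, ?_⟩
    intro R hR c hc
    obtain ⟨ψ, hψ, rfl⟩ := hR
    obtain ⟨e, he, hee⟩ := exists_iso_of_mem hψ
    have hXR : X ≤ ψ.range := fun y hy =>
      img_le_range ψ X ((img_stronglyClosed_eq (stronglyClosed_of_isNormal hX) hψ hXQ).ge hy)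
    have heX : img (Q.subtype.comp e.symm.toMonoidHom) X = X := by
      refine img_symm e hXQ ?_
      rw [show ψ.range.subtype.comp e.toMonoidHom = ψ from MonoidHom.ext hee]
      exact img_stronglyClosed_eq (stronglyClosed_of_isNormal hX) hψ hXQ
    obtain ⟨A', b, d, hb, hd, -, hXA', ⟨χ, hχ, hχe, -⟩, hdfix⟩ :=
      exists_split hS hF hX he.symm hXR heX
    have hdE : IsIso E d := mem_innerOnSys_of_fixed hXA' hd hdfix
    have hconj : E.IsConj Q A' := isConj_symm (isConj_iff.2 ⟨d, hdE⟩)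
    have hcY : c ∈ ψ.range ⊔ (X ⊔ centralizerIn S X) :=
      le_sup_right (a := ψ.range) (le_sup_right (a := X) ⟨hc.1, fun y hy => hc.2 y (hXR hy)⟩)
    have h1 : χ ⟨c, hcY⟩ ∈ A' := by
      refine hQc.2 A' hconj ⟨apply_mem_S F hχ _, fun y hy => ?_⟩
      obtain ⟨z, hz⟩ := b.surjective ⟨y, hy⟩
      have hz' : χ (Subgroup.inclusion le_sup_left z) = y := by rw [hχe, hz]
      rw [← hz', ← map_mul, ← map_mul]
      exact congrArg χ (Subtype.ext (hc.2 _ z.2))
    obtain ⟨z, hz⟩ := b.surjective ⟨_, h1⟩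
    have h2 : χ (Subgroup.inclusion le_sup_left z) = χ ⟨c, hcY⟩ := by rw [hχe, hz]
    have h3 : (z : Ω) = c := congrArg Subtype.val (F.injective_of_mem hχ h2)
    rw [← h3]
    exact z.2
  refine freeAt_of_subsystem hS hF le_rfl hsat hEF hfree hQc hQn hQF (hcore.trans hXQ)
    fun P hP ψ hψ hval hψQ hα => ?_
  obtain ⟨β, -, hβe⟩ := exists_iso_of_range (res_mem F hψ (le_sup_right : Q ≤ P ⊔ Q))
    ((range_comp_inclusion ψ le_sup_right).trans hψQ)
  obtain ⟨-, ω, hω, hωe, s, hs, hse⟩ := (mem_autGroup_iff E hQS).1 (hα β fun x => hβe x)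
  obtain ⟨ψ', hψ', hψ'e⟩ := mem_of_eq_sup
    (sup_eq_left.2 (hXQ.trans (le_sup_right : Q ≤ P ⊔ Q))).symm hψ
  refine ⟨hψ, ψ', hψ', fun x => hψ'e _, s, hs, fun x => ?_⟩
  rw [hψ'e]
  refine Eq.trans ?_ (hse x)
  rw [show (Subgroup.inclusion (le_sup_right : X ≤ Q ⊔ X) x) =
    Subgroup.inclusion le_sup_left ⟨(x : Ω), hXQ x.2⟩ from rfl, hωe]
  exact (hβe ⟨x, hXQ x.2⟩).symm

end CfsgLib.Fusion
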