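import Cfsg.Agent.Lib.Fusion.Alperin
import Cfsg.Agent.Lib.Fusion.Normal
import Cfsg.Agent.Lib.Fusion.NormSys

set_option autoImplicit false

open Cfsg Cfsg.FusionSystem

namespace CfsgLib.Fusion

variable {Ω : Type*} [Group Ω] {S : Subgroup Ω} {F : FusionSystem S} {p : ℕ}

/-- A subgroup is normal in its own normalizer system. -/
theorem isNormal_normalizerSystem {Q : Subgroup Ω} (hQ : Q ≤ S)
    {E : FusionSystem (normalizerIn S Q)} (hE : F.IsNormalizerSystem Q E) : E.IsNormal Q := by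
  refine ⟨le_normalizerIn hQ, fun P φ hφ => ?_⟩
  rw [hE P] at hφ
  obtain ⟨-, hP, hφT, ψ, hψ, hψe, hψQ⟩ := hφ
  refine ⟨ψ, ?_, hψe, hψQ⟩
  rw [hE]
  have hψT : ∀ x : (P ⊔ Q : Subgroup Ω), ψ x ∈ normalizerIn S Q := by
    intro x
    have h : P ⊔ Q ≤ ((normalizerIn S Q).comap ψ).map (P ⊔ Q).subtype := by
      refine sup_le (fun y hy => ?_) fun y hy => ?_
      · exact ⟨Subgroup.inclusion le_sup_left ⟨y, hy⟩, by
          simpa [hψe] using hφT ⟨y, hy⟩, rfl⟩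
      · refine ⟨Subgroup.inclusion le_sup_right ⟨y, hy⟩, ?_, rfl⟩
        exact le_normalizerIn hQ ((show img ψ Q = Q from hψQ).le (apply_mem_img ψ hy))
    obtain ⟨z, hz, hze⟩ := h x.2
    rwa [← Subtype.ext hze]
  refine ⟨hψ, sup_le hP (le_normalizerIn hQ), hψT, ?_⟩
  have hsup : P ⊔ Q = P ⊔ Q ⊔ Q := by rw [sup_assoc, sup_idem]
  obtain ⟨χ, hχ, hχe⟩ := mem_of_eq_sup hsup hψ
  refine ⟨χ, hχ, fun x => hχe _, ?_⟩
  change img χ Q = Q
  conv_rhs => rw [← hψQ]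
  ext y
  rw [mem_img]
  constructor
  · rintro ⟨x, hx, rfl⟩
    exact ⟨⟨x, hsup.ge x.2⟩, hx, (hχe x).symm⟩
  · rintro ⟨x, hx, rfl⟩
    exact ⟨⟨x, hsup.le x.2⟩, hx, hχe _⟩

/-- The image in a model of a normal subgroup of the system is normal. -/
theorem map_normal_of_isModel [Finite S] [Fact p.Prime] {G : Type*} [Group G] {ι : S →* G}
    (hM : F.IsModel p G ι) {Q : Subgroup Ω} (hQ : F.IsNormal Q) :
    ((Q.subgroupOf S).map ι).Normal := by
  obtain ⟨hG, ⟨hι, hreal⟩, ⟨P₀, hP₀⟩, hC⟩ := hM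
  have hUr : (pCore p G : Subgroup G) ≤ ι.range := hP₀ ▸ Cores.pCore_le_sylow P₀
  rw [← Subgroup.normalizer_eq_top_iff, eq_top_iff]
  intro g _
  let U' : Subgroup Ω := ((pCore p G : Subgroup G).comap ι).map S.subtype
  have hU'S : U' ≤ S := Subgroup.map_subtype_le _
  have hU'mem : ∀ {s : Ω} (h : s ∈ U'), ι ⟨s, hU'S h⟩ ∈ (pCore p G : Subgroup G) := by
    rintro s ⟨t, ht, rfl⟩
    exact ht
  have hUn : (pCore p G : Subgroup G).Normal := inferInstance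
  let f : U' →* G := (MulAut.conj g).toMonoidHom.comp (ι.comp (Subgroup.inclusion hU'S))
  have hf : ∀ x, f x ∈ ι.range := fun x => hUr (hUn.conj_mem _ (hU'mem x.2) g)
  let φ : U' →* Ω := (S.subtype.comp (MonoidHom.ofInjective hι).symm.toMonoidHom).comp
    (f.codRestrict ι.range hf)
  have hφS : ∀ x, φ x ∈ S := fun x => ((MonoidHom.ofInjective hι).symm _).2
  have hφe : ∀ x, ι ⟨φ x, hφS x⟩ = g * ι ⟨x, hU'S x.2⟩ * g⁻¹ := fun x =>
    congrArg Subtype.val ((MonoidHom.ofInjective hι).apply_symm_apply _)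
  obtain ⟨ψ, hψ, hψe, hψQ⟩ := hQ.2 U' φ ((hreal U' hU'S φ hφS).2 ⟨g, hφe⟩)
  have hψS := apply_mem_S F hψ
  obtain ⟨h, hh⟩ := (hreal _ (le_S F hψ) ψ hψS).1 hψ
  have hz : g⁻¹ * h ∈ (pCore p G : Subgroup G) := by
    refine hC fun u hu => ?_
    obtain ⟨s, rfl⟩ := hUr hu
    have hs : (s : Ω) ∈ U' := ⟨s, hu, rfl⟩
    have h1 := hh (Subgroup.inclusion le_sup_left ⟨s, hs⟩)
    have h2 : (⟨ψ (Subgroup.inclusion le_sup_left ⟨s, hs⟩), hψS _⟩ : S) = ⟨φ ⟨s, hs⟩, hφS _⟩ :=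
      Subtype.ext (hψe _)
    rw [h2, hφe] at h1
    have h3 : g * ι s * g⁻¹ = h * ι s * h⁻¹ := h1
    calc ι s * (g⁻¹ * h) = g⁻¹ * (g * ι s * g⁻¹) * h := by group
      _ = g⁻¹ * (h * ι s * h⁻¹) * h := by rw [h3]
      _ = g⁻¹ * h * ι s := by group
  have hhN : h ∈ Subgroup.normalizer (((Q.subgroupOf S).map ι : Subgroup G) : Set G) := by
    refine mem_normalizer_of_forall ?_
    rintro _ ⟨q, hq, rfl⟩
    refine ⟨⟨ψ (Subgroup.inclusion le_sup_right ⟨q, hq⟩), hψS _⟩, ?_, hh _⟩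
    exact (show img ψ Q = Q from hψQ).le (apply_mem_img ψ hq)
  obtain ⟨z, hze⟩ := hUr hz
  have hzN : ι z ∈ Subgroup.normalizer (((Q.subgroupOf S).map ι : Subgroup G) : Set G) := by
    refine mem_normalizer_of_forall ?_
    rintro _ ⟨q, hq, rfl⟩
    refine ⟨z * q * z⁻¹, ?_, by simp⟩
    exact (Subgroup.mem_normalizer_iff.1
      (le_normalizer_of_stronglyClosed (stronglyClosed_of_isNormal hQ) z.2) q).1 hq
  have hg : g = h * (ι z)⁻¹ := by rw [hze]; group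
  rw [hg]
  exact Subgroup.mul_mem _ hhN (Subgroup.inv_mem _ hzN)

/-- In a model the largest normal `p`-subgroup is the image of a normal centric radical
subgroup. -/
theorem pCore_eq_of_isModel [Finite S] [Fact p.Prime] (hS : IsPGroup p S) {G : Type*} [Group G]
    {ι : S →* G} (hM : F.IsModel p G ι) {R : Subgroup Ω} (hR : F.IsNormal R)
    (hc : centralizerIn S R ≤ R) (hr : F.IsRadical p R) :
    (pCore p G : Subgroup G) = (R.subgroupOf S).map ι := by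
  have hn := map_normal_of_isModel hM hR
  obtain ⟨hG, ⟨hι, hreal⟩, ⟨P₀, hP₀⟩, -⟩ := hM
  refine le_antisymm ?_ (Cores.le_pCore (hn := hn) ((hS.to_subgroup (R.subgroupOf S)).map ι))
  have hUr : (pCore p G : Subgroup G) ≤ ι.range := hP₀ ▸ Cores.pCore_le_sylow P₀
  have hUn : (pCore p G : Subgroup G).Normal := inferInstance
  let U' : Subgroup Ω := ((pCore p G : Subgroup G).comap ι).map S.subtype
  have hU'S : U' ≤ S := Subgroup.map_subtype_le _
  have hA : autInducedBy U' R ≤ F.autGroup R :=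
    (autInducedBy_mono hU'S).trans (autInducedBy_le_autGroup hR.1)
  have hAn : ((autInducedBy U' R).subgroupOf (F.autGroup R)).Normal := by
    constructor
    rintro ⟨a, haF⟩ ha ⟨α, hα⟩
    change a ∈ autInducedBy U' R at ha
    change α * a * α⁻¹ ∈ autInducedBy U' R
    obtain ⟨_, ⟨s, hs, rfl⟩, hse⟩ := mem_autInducedBy_iff.1 ha
    obtain ⟨g, hg⟩ := (hreal R hR.1 (R.subtype.comp α.toMonoidHom) fun x => hR.1 (α x).2).1
      ((mem_autGroup_iff F hR.1).1 hα)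
    obtain ⟨s', hs'⟩ := hUr (hUn.conj_mem _ hs g)
    refine mem_autInducedBy_iff.2 ⟨s', ⟨s', ?_, rfl⟩, fun x => ?_⟩
    · change ι s' ∈ (pCore p G : Subgroup G)
      exact hs' ▸ hUn.conj_mem _ hs g
    have h1 := hg (a (α⁻¹ x))
    have h2 := hg (α⁻¹ x)
    simp only [MonoidHom.comp_apply, Subgroup.coe_subtype, MulEquiv.coe_toMonoidHom] at h1 h2
    have h3 : (⟨((a (α⁻¹ x) : R) : Ω), hR.1 (a (α⁻¹ x)).2⟩ : S) =
        s * ⟨((α⁻¹ x : R) : Ω), hR.1 (α⁻¹ x).2⟩ * s⁻¹ := Subtype.ext (hse _)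
    rw [h3, map_mul, map_mul, map_inv] at h1
    have h4 : α (α⁻¹ x) = x := α.apply_symm_apply x
    simp only [h4] at h2
    have h5 : ι ⟨((α (a (α⁻¹ x)) : R) : Ω), hR.1 (α (a (α⁻¹ x))).2⟩ =
        ι (s' * ⟨(x : Ω), hR.1 x.2⟩ * s'⁻¹) := by
      rw [h1, map_mul, map_mul, map_inv, hs', h2]
      group
    exact congrArg Subtype.val (hι h5)
  have hle : autInducedBy U' R ≤ Cfsg.Inn R :=
    le_inn_of_normal_pgroup hr hA hAn (isPGroup_autInducedBy (hS.to_le hU'S) R)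
  intro u hu
  obtain ⟨s, rfl⟩ := hUr hu
  refine ⟨s, ?_, rfl⟩
  have hsN : (s : Ω) ∈ Subgroup.normalizer (R : Set Ω) :=
    le_normalizer_of_stronglyClosed (stronglyClosed_of_isNormal hR) s.2
  exact mem_of_normAut_mem_inn hR.1 hc s.2 (hg := hsN)
    (hle (mem_autInducedBy_iff.2 ⟨s, ⟨s, hu, rfl⟩, fun x => rfl⟩))

end CfsgLib.Fusion
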