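import Mathlib.RingTheory.Nilpotent.Basic
import Mathlib.Algebra.Ring.Subring.Basic
import Cfsg.Prelude.Def_FusionReduction
import Cfsg.Prelude.Def_PLocal
import Cfsg.Agent.Lib.Fusion.FunctorCore
import Cfsg.Agent.Lib.Fusion.ModelBasic
import Cfsg.Agent.Lib.Fusion.ModelConstrained
import Cfsg.Agent.Lib.Fusion.ModelExists
import Cfsg.Agent.Lib.Fusion.HypFocal
import Cfsg.Agent.Lib.Fusion.FunctorFree

/-!
# Powers of central elements in small class
-/

set_option autoImplicit false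

open Cfsg Cfsg.FusionSystem
open scoped commutatorElement

namespace CfsgLib.Fusion

universe u

/-- If `(1 + δ) ^ p = 1` and `δ` is nilpotent of order `n (p - 1) + 1` then `p ^ n δ = 0`. -/
theorem natCast_pow_mul_eq_zero {R : Type*} [CommRing R] {p : ℕ} (hp : p.Prime) (n : ℕ) {δ : R}
    (h1 : (1 + δ) ^ p = 1) (h2 : δ ^ (n * (p - 1) + 1) = 0) : (p : R) ^ n * δ = 0 := by
  obtain ⟨q, rfl⟩ : ∃ q, p = q + 2 := ⟨p - 2, by have := hp.two_le; omega⟩
  rw [show q + 2 - 1 = q + 1 from rfl] at h2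
  have hdvd : ∀ i : ℕ, i < q → (q + 2) ∣ (q + 2).choose (i + 2) := fun i hi =>
    hp.dvd_choose_self (by omega) (by omega)
  choose! a ha using hdvd
  set w : R := ∑ i ∈ Finset.range q, δ ^ i * (a i : R) with hw
  have hexp : (1 + δ) ^ (q + 2) =
      1 + ((q + 2 : ℕ) : R) * δ + ((q + 2 : ℕ) : R) * δ * (δ * w) + δ ^ (q + 2) := by
    rw [add_comm (1 : R) δ, add_pow, Finset.sum_range_succ', Finset.sum_range_succ',
      Finset.sum_range_succ, hw, Finset.mul_sum, Finset.mul_sum]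
    have hsum : ∑ i ∈ Finset.range q, δ ^ (i + 1 + 1) * (1 : R) ^ (q + 2 - (i + 1 + 1)) *
        ((q + 2).choose (i + 1 + 1) : R) =
        ∑ i ∈ Finset.range q, ((q + 2 : ℕ) : R) * δ * (δ * (δ ^ i * (a i : R))) := by
      refine Finset.sum_congr rfl fun i hi => ?_
      rw [show (q + 2).choose (i + 1 + 1) = (q + 2) * a i from ha i (Finset.mem_range.1 hi)]
      push_cast
      ring
    rw [hsum]
    simp
    ring
  have hnil : IsNilpotent (δ * w) :=
    (Commute.all δ w).isNilpotent_mul_right ⟨_, h2⟩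
  obtain ⟨r, hr⟩ := hnil.isUnit_one_add
  have hstep : ((q + 2 : ℕ) : R) * δ = δ ^ (q + 2) * (-(↑r⁻¹ : R)) := by
    have h3 : ((q + 2 : ℕ) : R) * δ * (r : R) = -δ ^ (q + 2) := by
      rw [h1] at hexp
      rw [hr]
      linear_combination -hexp
    calc ((q + 2 : ℕ) : R) * δ = ((q + 2 : ℕ) : R) * δ * (r : R) * (↑r⁻¹ : R) := by
          rw [mul_assoc _ (r : R), Units.mul_inv, mul_one]
      _ = _ := by rw [h3]; ring
  have hind : ∀ k : ℕ, ∃ u : R, ((q + 2 : ℕ) : R) ^ k * δ = δ ^ (k * (q + 1) + 1) * u := by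
    intro k
    induction k with
    | zero => exact ⟨1, by simp⟩
    | succ k ih =>
      obtain ⟨u, hu⟩ := ih
      refine ⟨-(↑r⁻¹ : R) * u, ?_⟩
      calc ((q + 2 : ℕ) : R) ^ (k + 1) * δ
          = ((q + 2 : ℕ) : R) * (((q + 2 : ℕ) : R) ^ k * δ) := by ring
        _ = ((q + 2 : ℕ) : R) * δ * (δ ^ (k * (q + 1)) * u) := by rw [hu]; ring
        _ = _ := by rw [hstep]; ring
  obtain ⟨u, hu⟩ := hind n
  rw [hu, h2, zero_mul]

/-- An automorphism of an abelian group of order dividing `p` with a small Engel length fixes the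
`p ^ n`-th powers. -/
theorem addEquiv_apply_nsmul {A : Type*} [AddCommGroup A] {p : ℕ} (hp : p.Prime) (n : ℕ)
    (σ : AddMonoid.End A) (h1 : σ ^ p = 1) (h2 : (σ - 1) ^ (n * (p - 1) + 1) = 0) (v : A) :
    σ (p ^ n • v) = p ^ n • v := by
  letI := Subring.closureCommRingOfComm (s := ({σ - 1} : Set (AddMonoid.End A)))
    (fun x hx y hy => by rw [Set.mem_singleton_iff.1 hx, Set.mem_singleton_iff.1 hy])
  set δ : Subring.closure ({σ - 1} : Set (AddMonoid.End A)) :=
    ⟨σ - 1, Subring.subset_closure rfl⟩ with hδ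
  have h := natCast_pow_mul_eq_zero hp n (δ := δ) (Subtype.ext (by simp [hδ, h1]))
    (Subtype.ext (by simp [hδ, h2]))
  have h3 : ((p : AddMonoid.End A) ^ n * (σ - 1)) v = 0 := by
    have h4 := congrArg (fun x : Subring.closure ({σ - 1} : Set (AddMonoid.End A)) =>
      (x : AddMonoid.End A)) h
    simp only [hδ, Subring.coe_mul, SubmonoidClass.coe_pow, SubringClass.coe_natCast,
      ZeroMemClass.coe_zero] at h4
    rw [h4]
    rfl
  rw [← Nat.cast_pow] at h3
  have h5 : p ^ n • (σ v - v) = 0 := h3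
  rw [nsmul_sub, sub_eq_zero] at h5
  rw [map_nsmul, h5]

section Group

variable {G : Type*} [Group G] {p : ℕ}

/-- An element `g` of a `p`-subgroup `P` of small class fixes the `p ^ n`-th powers of the centre
of a normal `O ≤ P` containing `g ^ p`. -/
theorem commute_pow_center_of_small_class (hp : p.Prime) {O P : Subgroup G} [O.Normal]
    (hOP : O ≤ P) (n : ℕ) (hcl : P.lowerCentralSeries (n * (p - 1) + 1) = ⊥) {g : G}
    (hg : g ∈ P) (hgp : g ^ p ∈ O) (v : G) (hv : v ∈ O) (hvc : ∀ o ∈ O, o * v = v * o) :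
    g * v ^ p ^ n = v ^ p ^ n * g := by
  classical
  let c : MulAut O := MulAut.conjNormal g
  have hc : ∀ x : O, (c x : G) = g * x * g⁻¹ := fun x => MulAut.conjNormal_apply g x
  have hcz : ∀ x ∈ Subgroup.center O, c x ∈ Subgroup.center O := fun x hx =>
    Subgroup.mem_center_iff.2 fun y => by
      have := congrArg c (Subgroup.mem_center_iff.1 hx (c.symm y))
      simpa using this
  let : CommGroup (Subgroup.center O) :=
    { (inferInstance : Group (Subgroup.center O)) with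
      mul_comm := fun a b => Subtype.ext (Subgroup.mem_center_iff.1 b.2 a) }
  let σ₀ : Subgroup.center O →* Subgroup.center O :=
    (c.toMonoidHom.comp (Subgroup.center O).subtype).codRestrict _ fun x => hcz x x.2
  let σ : AddMonoid.End (Additive (Subgroup.center O)) := MonoidHom.toAdditive σ₀
  let val : Additive (Subgroup.center O) → G := fun a => ((a.toMul : Subgroup.center O) : O)
  have hval : Function.Injective val := fun a b h => Subtype.ext (Subtype.ext h)
  have hσ : ∀ a, val (σ a) = g * val a * g⁻¹ := fun a => hc _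
  have hσn : ∀ (k : ℕ) a, val ((σ ^ k) a) = g ^ k * val a * (g ^ k)⁻¹ := by
    intro k
    induction k with
    | zero => intro a; simp
    | succ k ih =>
      intro a
      rw [pow_succ']
      change val (σ ((σ ^ k) a)) = _
      rw [hσ, ih]
      group
  have h1 : σ ^ p = 1 := by
    refine AddMonoidHom.ext fun a => hval ?_
    refine (hσn p a).trans ?_
    have h := congrArg Subtype.val (Subgroup.mem_center_iff.1 (a.toMul).2 ⟨g ^ p, hgp⟩)
    change g ^ p * val a = val a * g ^ p at h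
    rw [h, mul_inv_cancel_right]
    rfl
  have h2 : (σ - 1) ^ (n * (p - 1) + 1) = 0 := by
    have hk : ∀ (k : ℕ) a, val (((σ - 1) ^ k) a) ∈ P.lowerCentralSeries k := by
      intro k
      induction k with
      | zero =>
        intro a
        rw [pow_zero, Subgroup.lowerCentralSeries_zero]
        exact hOP ((a.toMul : Subgroup.center O) : O).2
      | succ k ih =>
        intro a
        rw [pow_succ', Subgroup.lowerCentralSeries_succ]
        change val (σ (((σ - 1) ^ k) a) - ((σ - 1) ^ k) a) ∈ _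
        set b := ((σ - 1) ^ k) a with hb
        have h3 : val (σ b - b) = ⁅g, val b⁆ := by
          rw [commutatorElement_def, ← hσ, sub_eq_add_neg]
          rfl
        rw [h3, Subgroup.commutator_comm]
        exact Subgroup.commutator_mem_commutator hg (ih a)
    refine AddMonoidHom.ext fun a => hval ?_
    have h4 := hk (n * (p - 1) + 1) a
    rw [hcl] at h4
    replace h4 := Subgroup.mem_bot.1 h4
    exact h4.trans rfl
  have h5 := addEquiv_apply_nsmul hp n σ h1 h2
    (Additive.ofMul (⟨⟨v, hv⟩, Subgroup.mem_center_iff.2 fun o => Subtype.ext (hvc o o.2)⟩ :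
      Subgroup.center O))
  have h6 := congrArg val h5
  rw [hσ] at h6
  have h7 : val (p ^ n • Additive.ofMul (⟨⟨v, hv⟩, Subgroup.mem_center_iff.2
      fun o => Subtype.ext (hvc o o.2)⟩ : Subgroup.center O)) = v ^ p ^ n := rfl
  rw [h7] at h6
  exact mul_inv_eq_iff_eq_mul.1 h6

end Group

section Fusion

variable {Ω : Type u} [Group Ω] {S : Subgroup Ω} [Finite S] {F : FusionSystem S} {p : ℕ}
  [Fact p.Prime]

/-- In class at most `n (p - 1) + 1` the `p ^ n`-th powers of the centre generate a normal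
subgroup. -/
theorem isNormal_powerClosure_center (hS : IsPGroup p S) (hF : F.IsSaturated p) (n : ℕ)
    (hcl : S.lowerCentralSeries (n * (p - 1) + 1) = ⊥) :
    F.IsNormal (powerClosure p n (S ⊓ Subgroup.centralizer (S : Set Ω))) := by
  have hp : p.Prime := Fact.out
  set Z : Subgroup Ω := S ⊓ Subgroup.centralizer (S : Set Ω) with hZ
  set V := powerClosure p n Z with hVdef
  have hVZ : V ≤ Z := (Subgroup.closure_le _).2 fun y ⟨x, hx, hy⟩ => hy ▸ Z.pow_mem hx _
  have hVS : V ≤ S := hVZ.trans inf_le_left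
  have hSV : S ≤ normalizerIn S V := le_inf le_rfl fun s hs =>
    mem_normalizer_of_forall_commute fun y hy => ((hVZ hy).2 s hs).symm
  have hTS : normalizerIn S V = S := le_antisymm (normalizerIn_le _) hSV
  suffices h : F ≤ normSys F V hTS.symm hVS from ⟨hVS, fun P φ hφ => (h P hφ).2.2.2⟩
  -- it suffices to permute the generators
  have hgen : ∀ (M : Subgroup Ω) (ψ : M →* Ω) (hM : V ≤ M), ψ ∈ F.Hom M →
      (∀ z (hz : z ∈ Z) (h : z ^ p ^ n ∈ M), ψ ⟨_, h⟩ ∈ V) →
      ∀ (P : Subgroup Ω) (φ : P →* Ω) (hPM : P ≤ M), φ ∈ F.Hom P →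
      (∀ x, ψ (Subgroup.inclusion hPM x) = φ x) → φ ∈ (normSys F V hTS.symm hVS).Hom P := by
    intro M ψ hM hψ hz P φ hPM hφ hφe
    have hfin := finite_of_le hVS
    refine mem_normalizerHom_of_img hψ hPM hM ?_ hφe ((le_S F hφ).trans hSV)
      fun x => hSV (apply_mem_S F hφ x)
    refine Subgroup.eq_of_le_of_card_ge ?_ (card_img (F.injective_of_mem hψ) hM).ge
    intro y hy
    obtain ⟨x, hx, rfl⟩ := mem_img.1 hy
    have h1 : V ≤ (V.comap ψ).map M.subtype := by
      refine (Subgroup.closure_le _).2 ?_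
      rintro _ ⟨z, hzZ, rfl⟩
      have hzM : z ^ p ^ n ∈ M := hM (Subgroup.subset_closure ⟨z, hzZ, rfl⟩)
      exact ⟨⟨_, hzM⟩, hz z hzZ hzM, rfl⟩
    obtain ⟨w, hw, hwe⟩ := h1 hx
    rw [← (Subtype.ext hwe : w = x)]
    exact hw
  refine alperin_induction hS hF _ ?_ ?_
  · intro α hα
    have hαF := (mem_autGroup_iff F le_rfl).1 hα
    refine (mem_autGroup_iff _ le_rfl).2 (hgen S _ hVS hαF (fun z hz h => ?_) S _ le_rfl hαF
      fun _ => rfl)
    refine Subgroup.subset_closure ⟨α ⟨z, hz.1⟩, ⟨(α _).2, fun s hs => ?_⟩, ?_⟩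
    · have h1 : Commute (α.symm ⟨s, hs⟩) (⟨z, hz.1⟩ : S) :=
        Subtype.ext (hz.2 _ (α.symm ⟨s, hs⟩).2)
      have h2 := congrArg Subtype.val (h1.map α).eq
      rw [α.apply_symm_apply] at h2
      exact h2
    · rw [← Subgroup.coe_pow, ← map_pow]
      rfl
  intro R hR hRn hbig α hα
  have hRS := hR.le
  have := finite_of_le hRS
  have hrec := (fullyAutomized_receptive_of_fullyNormalized hS hF hRn).2
  have hαF := (mem_autGroup_iff F hRS).1 hα
  refine (mem_autGroup_iff _ hRS).2 ?_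
  by_cases hc : centralizerIn S R ≤ R
  swap
  · -- the map extends
    have hlt : R < R ⊔ centralizerIn S R := lt_of_le_of_ne le_sup_left fun h => hc (le_sup_right.trans h.ge)
    have hMS : R ⊔ centralizerIn S R ≤ S := sup_le hRS (centralizerIn_le R)
    have := finite_of_le hMS
    obtain ⟨ψ, hψ, hψe⟩ := exists_extension (e := α) hrec hαF (le_sup_left (b := centralizerIn S R))
      (sup_le (le_extender hαF) (centralizerIn_le_extender _ _))
    have hψE := hbig _ (lt_of_not_ge fun h => hlt.ne (Subgroup.eq_of_le_of_card_ge hlt.le h)) hψ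
    exact mem_of_eq rfl (res_mem (normSys F V hTS.symm hVS) hψE le_sup_left) fun x => (hψe x).symm
  have hRc : F.IsCentric R := isCentric_of_receptive hrec hc
  have hZR : Z ≤ R := fun z hz => hc ⟨hz.1, fun y hy => hz.2 y (hRS hy)⟩
  refine hgen R _ (hVZ.trans hZR) hαF (fun z hz h => ?_) R _ le_rfl hαF fun _ => rfl
  -- a model of the normalizer system
  set T := normalizerIn S R with hT
  have hTS' : T ≤ S := normalizerIn_le R
  have := finite_of_le hTS'
  set N := normSys F R rfl hRS with hNdef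
  have hN : F.IsNormalizerSystem R N := fun _ => rfl
  have hRN : N.IsNormal R := isNormal_normalizerSystem hRS hN
  obtain ⟨L, _, ι, hM⟩ := exists_model_of_normal_centric (F := N) (hS.to_le hTS')
    (isSaturated_normSys hS hF hRn) hRN (isCentric_normalizerSystem hRc hN)
  have hRnormal := map_normal_of_isModel hM hRN
  obtain ⟨hL, ⟨hι, hreal⟩, ⟨P₀, hP₀⟩, hC⟩ := hM
  set I : Subgroup L := (R.subgroupOf T).map ι with hI
  set O : Subgroup L := pCore p L with hO
  have hOP : O ≤ (P₀ : Subgroup L) := Cores.pCore_le_sylow P₀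
  have hRT : R < T := lt_normalizerIn hS hR
  have hIP : I ≤ (P₀ : Subgroup L) := hP₀ ▸ Subgroup.map_le_range ι _
  have hIO : I ≤ O := Cores.le_pCore (hn := hRnormal) (P₀.2.to_le hIP)
  have hclT : T.lowerCentralSeries (n * (p - 1) + 1) = ⊥ :=
    le_bot_iff.1 (hcl ▸ Subgroup.lowerCentralSeries_mono _ hTS')
  have hclP : (P₀ : Subgroup L).lowerCentralSeries (n * (p - 1) + 1) = ⊥ := by
    rw [hP₀, MonoidHom.range_eq_map, ← Subgroup.map_lowerCentralSeries,
      show (⊤ : Subgroup T).lowerCentralSeries (n * (p - 1) + 1) = ⊥ from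
        Subgroup.map_injective T.subtype_injective (by
          rw [Subgroup.top_subtype_lowerCentralSeries, hclT, Subgroup.map_bot]), Subgroup.map_bot]
  obtain ⟨g, hg⟩ := (hreal R hRT.le (R.subtype.comp α.toMonoidHom)
    fun x => hRT.le (α x).2).1
    (show R.subtype.comp α.toMonoidHom ∈ N.Hom R from mem_normalizerHom_self hRS hα)
  set zT : T := ⟨z, hRT.le (hZR hz)⟩ with hzT
  set vT : T := ⟨z ^ p ^ n, hRT.le h⟩ with hvT
  have hzc : ∀ y ∈ (P₀ : Subgroup L), y * ι zT = ι zT * y := by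
    rw [hP₀]
    rintro _ ⟨s, rfl⟩
    rw [← map_mul, ← map_mul]
    exact congrArg ι (Subtype.ext (hz.2 s (hTS' s.2)))
  have hzO : ι zT ∈ O := hC fun y hy => hzc y (hOP hy)
  have hvpow : ι vT = ι zT ^ p ^ n := by rw [← map_pow]; rfl
  -- an element normalizing a subgroup larger than `R` permutes the powers
  have hkey : ∀ D : Subgroup L, D ≤ (P₀ : Subgroup L) → I < D → ι vT ∈ D →
      ∀ a ∈ Subgroup.normalizer (D : Set L),
        ∃ w : T, (w : Ω) ∈ V ∧ ι w = a * ι vT * a⁻¹ := by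
    intro D hD hID hvD a ha
    set D' : Subgroup Ω := (D.comap ι).map T.subtype with hD'
    have hD'T : D' ≤ T := Subgroup.map_subtype_le _
    have := finite_of_le (hD'T.trans hTS')
    have hRD : R < D' := by
      refine lt_of_le_of_ne (fun y hy => ⟨⟨y, hRT.le hy⟩, hID.le ⟨_, hy, rfl⟩, rfl⟩) fun heq => ?_
      refine hID.not_ge fun d hd => ?_
      obtain ⟨t, rfl⟩ := hP₀.le (hD hd)
      exact ⟨t, (heq.ge (show (t : Ω) ∈ D' from ⟨t, hd, rfl⟩) : (t : Ω) ∈ R), rfl⟩
    obtain ⟨φ, hφ, hφT, hφe⟩ := exists_map_of_conj (F := N) (ι := ι) ⟨hι, hreal⟩ hD'T (g := a)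
      fun x => hP₀.le (hD (conj_mem_of_mem_normalizer ha (by
        obtain ⟨t, ht, hte⟩ := x.2
        rw [show (⟨(x : Ω), hD'T x.2⟩ : T) = t from Subtype.ext hte.symm]
        exact ht)))
    have hφE := hbig D' (lt_of_not_ge fun h' => hRD.ne (Subgroup.eq_of_le_of_card_ge hRD.le h'))
      hφ.1
    obtain ⟨-, -, -, χ, -, hχe, hχV⟩ := hφE
    have hvD' : z ^ p ^ n ∈ D' := ⟨vT, hvD, rfl⟩
    refine ⟨⟨φ ⟨_, hvD'⟩, hφT _⟩, ?_, hφe _⟩
    change φ ⟨_, hvD'⟩ ∈ V
    rw [← hχe]
    exact hχV.le ⟨_, (show z ^ p ^ n ∈ V from Subgroup.subset_closure ⟨z, hz, rfl⟩), rfl⟩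
  suffices hgv : ∃ w : T, (w : Ω) ∈ V ∧ ι w = g * ι vT * g⁻¹ by
    obtain ⟨w, hw, hwe⟩ := hgv
    have h1 := hι ((hg ⟨_, h⟩).trans hwe.symm)
    rw [← h1] at hw
    exact hw
  by_cases hPO : (P₀ : Subgroup L) ≤ O
  · have heq : (P₀ : Subgroup L) = O := le_antisymm hPO hOP
    refine hkey _ le_rfl ?_ (hP₀ ▸ ⟨_, rfl⟩) g (by
      rw [heq, Subgroup.normalizer_eq_top]; trivial)
    refine lt_of_le_of_ne hIP fun h' => hRT.not_ge fun t ht => ?_
    obtain ⟨r, hr, hre⟩ := h'.ge (hP₀.ge ⟨⟨t, ht⟩, rfl⟩)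
    rw [hι hre] at hr
    exact hr
  obtain ⟨g₀, hg₀P, hg₀O⟩ := SetLike.not_le_iff_exists.1 hPO
  have hex : ∃ j : ℕ, g₀ ^ p ^ j ∈ O := by
    obtain ⟨j, hj⟩ := P₀.2 ⟨g₀, hg₀P⟩
    exact ⟨j, by rw [show g₀ ^ p ^ j = 1 from congrArg Subtype.val hj]; exact one_mem _⟩
  obtain ⟨g₁, hg₁P, hg₁O, hg₁p⟩ : ∃ g₁ ∈ (P₀ : Subgroup L), g₁ ∉ O ∧ g₁ ^ p ∈ O := by
    classical
    have h1 : Nat.find hex ≠ 0 := fun h' => hg₀O (by
      have := Nat.find_spec hex
      rwa [h', pow_zero, pow_one] at this)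
    obtain ⟨j, hj⟩ := Nat.exists_eq_succ_of_ne_zero h1
    refine ⟨g₀ ^ p ^ j, (P₀ : Subgroup L).pow_mem hg₀P _, Nat.find_min hex (by omega), ?_⟩
    rw [← pow_mul, ← pow_succ]
    convert Nat.find_spec hex using 3
    exact hj.symm
  let Sv : Set L := {y | ∃ v ∈ O, (∀ o ∈ O, o * v = v * o) ∧ y = v ^ p ^ n}
  set K : Subgroup L := Subgroup.centralizer Sv with hK
  have hKn : K.Normal := by
    refine ⟨fun k hk a => ?_⟩
    rintro _ ⟨v, hv, hvc, rfl⟩
    have hOn : O.Normal := inferInstance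
    have hv' : a⁻¹ * v * a ∈ O := by simpa using hOn.conj_mem _ hv a⁻¹
    have h1 := hk _ ⟨_, hv', fun o ho => by
      have h2 := hvc _ (hOn.conj_mem _ ho a)
      calc o * (a⁻¹ * v * a) = a⁻¹ * ((a * o * a⁻¹) * v) * a := by group
        _ = a⁻¹ * (v * (a * o * a⁻¹)) * a := by rw [h2]
        _ = _ := by group, rfl⟩
    rw [show (a⁻¹ * v * a) ^ p ^ n = a⁻¹ * v ^ p ^ n * a by
      simpa using conj_pow (a := a⁻¹) (b := v) (i := p ^ n)] at h1
    calc v ^ p ^ n * (a * k * a⁻¹) = a * ((a⁻¹ * v ^ p ^ n * a) * k) * a⁻¹ := by group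
      _ = a * (k * (a⁻¹ * v ^ p ^ n * a)) * a⁻¹ := by rw [h1]
      _ = _ := by group
  have hg₁K : g₁ ∈ K := by
    rintro _ ⟨v, hv, hvc, rfl⟩
    exact (commute_pow_center_of_small_class hp hOP n hclP hg₁P hg₁p v hv hvc).symm
  have hOK : O ≤ K := by
    rintro o ho _ ⟨v, hv, hvc, rfl⟩
    exact ((Commute.pow_right (hvc o ho : Commute o v) _).eq).symm
  have hKv : ∀ k ∈ K, k * ι vT = ι vT * k := fun k hk => by
    rw [hvpow]
    exact (hk _ ⟨_, hzO, fun o ho => hzc o (hOP ho), rfl⟩).symm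
  set D : Subgroup L := (P₀ : Subgroup L) ⊓ K with hD
  have hID : I < D := lt_of_lt_of_le' (lt_of_le_of_ne (le_inf hOP hOK) fun h' =>
    hg₁O (h' ▸ (⟨hg₁P, hg₁K⟩ : g₁ ∈ D))) hIO
  have hi : ¬ p ∣ D.relIndex K := not_dvd_relIndex_inf P₀.2 le_top
    (by rw [Subgroup.relIndex_top_right]; exact P₀.not_dvd_index) le_top
    (fun x _ => by rw [Subgroup.normalizer_eq_top]; trivial)
  obtain ⟨Rs, hRs⟩ := (exists_sylow_iff (N := K) (P₀.2.to_le inf_le_left :
    IsPGroup p ↥((P₀ : Subgroup L) ⊓ K))).2 hi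
  have hsup := Sylow.normalizer_sup_eq_top Rs
  rw [hRs, Subgroup.subgroupOf, Subgroup.map_comap_eq, Subgroup.range_subtype,
    inf_eq_right.2 (inf_le_right : (P₀ : Subgroup L) ⊓ K ≤ K)] at hsup
  have hgs : g ∈ Subgroup.normalizer (D : Set L) ⊔ K := hsup.ge (Subgroup.mem_top g)
  rw [← SetLike.mem_coe, Subgroup.coe_mul_of_left_le_normalizer_right _ K
    (fun x _ => by rw [Subgroup.normalizer_eq_top]; trivial)] at hgs
  obtain ⟨a, ha, b, hb, rfl⟩ := hgs
  obtain ⟨w, hw, hwe⟩ := hkey D inf_le_left hID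
    ⟨hP₀ ▸ ⟨_, rfl⟩, hvpow ▸ hOK (O.pow_mem hzO _)⟩ a ha
  refine ⟨w, hw, hwe.trans ?_⟩
  rw [show a * b * ι vT * (a * b)⁻¹ = a * (b * ι vT * b⁻¹) * a⁻¹ by group, hKv b hb,
    mul_inv_cancel_right]

end Fusion

end CfsgLib.Fusion

namespace CfsgLib.Fusion

/-- The exponent of the centre bounds the exponents of the upper central factors. -/
theorem pow_mem_upperCentralSeries {G : Type*} [Group G] {m : ℕ}
    (hm : ∀ z ∈ Subgroup.center G, z ^ m = 1) :
    ∀ i, ∀ x ∈ Subgroup.upperCentralSeries G (i + 1), x ^ m ∈ Subgroup.upperCentralSeries G i := by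
  intro i
  induction i with
  | zero =>
    intro x hx
    rw [Subgroup.upperCentralSeries_one] at hx
    rw [Subgroup.upperCentralSeries_zero, Subgroup.mem_bot]
    exact hm x hx
  | succ i ih =>
    intro x hx
    rw [Subgroup.mem_upperCentralSeries_succ_iff] at hx ⊢
    intro y
    set π := QuotientGroup.mk' (Subgroup.upperCentralSeries G i) with hπ
    have hk : ∀ z, π z = 1 ↔ z ∈ Subgroup.upperCentralSeries G i := fun z => by
      rw [hπ, ← MonoidHom.mem_ker, QuotientGroup.ker_mk']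
    rw [← hk, map_commutatorElement, map_pow]
    have hc : Commute (π x) (π ⁅x, y⁆) := by
      have h1 := Subgroup.mem_upperCentralSeries_succ_iff.1 (hx y) x
      rw [← hk, map_commutatorElement] at h1
      exact (commutatorElement_eq_one_iff_commute.1 h1).symm
    have hstep : ∀ k : ℕ, ⁅π x ^ k, π y⁆ = π ⁅x, y⁆ ^ k := by
      intro k
      induction k with
      | zero => simp
      | succ k ihk =>
        calc ⁅π x ^ (k + 1), π y⁆ = π x * ⁅π x ^ k, π y⁆ * (π x)⁻¹ * ⁅π x, π y⁆ := by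
              simp only [pow_succ', commutatorElement_def]; group
          _ = π ⁅x, y⁆ ^ k * π ⁅x, y⁆ := by
              rw [ihk, (hc.pow_right k).eq, mul_inv_cancel_right, map_commutatorElement]
          _ = _ := (pow_succ _ k).symm
    rw [hstep, ← map_pow, hk]
    exact ih _ (hx y)

/-- A group of class at most `c` with centre of exponent dividing `m` has exponent dividing
`m ^ c`. -/
theorem exponent_dvd_pow_of_center {G : Type*} [Group G] {m c : ℕ}
    (hm : ∀ z ∈ Subgroup.center G, z ^ m = 1)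
    (hc : Subgroup.upperCentralSeries G c = ⊤) : Monoid.exponent G ∣ m ^ c := by
  have h : ∀ k, k ≤ c → ∀ x : G, x ^ m ^ k ∈ Subgroup.upperCentralSeries G (c - k) := by
    intro k
    induction k with
    | zero => intro _ x; rw [Nat.sub_zero, hc]; trivial
    | succ k ih =>
      intro hk x
      have h1 := ih (by omega) x
      rw [show c - k = c - (k + 1) + 1 by omega] at h1
      have h2 := pow_mem_upperCentralSeries hm _ _ h1
      rwa [← pow_mul, ← pow_succ] at h2
  refine Monoid.exponent_dvd_of_forall_pow_eq_one fun x => ?_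
  have h1 := h c le_rfl x
  rwa [Nat.sub_self, Subgroup.upperCentralSeries_zero, Subgroup.mem_bot] at h1

end CfsgLib.Fusion
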