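import Cfsg.Agent.Lib.Fusion.FunctorFree
import Cfsg.Agent.Lib.Fusion.ModelConstrained

/-!
# Models avoiding a section: quotient by a normal subgroup on which the system is inner
-/

set_option autoImplicit false

open Cfsg Cfsg.FusionSystem

namespace CfsgLib.Fusion

universe u

variable {H₀ : Type} [Group H₀] {p : ℕ} [Fact p.Prime] {Ω : Type u} [Group Ω] {S : Subgroup Ω}
  [Finite S] {F : FusionSystem S} {Ω' : Type u} [Group Ω'] {S' : Subgroup Ω'} {θ : S →* Ω'}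
  {E : FusionSystem S'}

omit [Fact p.Prime] in
/-- The preimage of a centric subgroup of a factor system is centric. -/
theorem isCentric_preimageAlong {X : Subgroup Ω} (hX : F.StronglyClosed X)
    (hE : F.IsFactorSystem X θ E) (hθ : F.IsSurjectiveMorphism E θ) {Q' : Subgroup Ω'}
    (hQ' : E.IsCentric Q') : F.IsCentric (preimageAlong θ Q') := by
  refine ⟨preimageAlong_le θ Q', ?_⟩
  intro R hR c hc
  obtain ⟨φ, hφ, rfl⟩ := hR
  obtain ⟨φ', hφ', hP, hφS, hθP, hφe⟩ := hθ.1.2 _ φ hφ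
  obtain ⟨χ, hχ, hχe⟩ := mem_of_eq_sup
    (CfsgLib.Transfer.imageAlong_preimageAlong (θ := θ) (hQ'.1.trans hθ.2.1.ge)) hφ'
  have h1 : θ ⟨c, hc.1⟩ ∈ χ.range := by
    refine hQ'.2 _ ⟨χ, hχ, rfl⟩ ⟨hθ.2.1.le ⟨_, rfl⟩, ?_⟩
    rintro _ ⟨⟨y, hy⟩, rfl⟩
    obtain ⟨s, rfl⟩ := hθ.2.1.ge (hQ'.1 hy)
    have hs : (s : Ω) ∈ preimageAlong θ Q' := mem_preimageAlong.2 hy
    have h2 : χ ⟨θ s, hy⟩ = θ ⟨φ ⟨s, hs⟩, hφS _⟩ := (hχe _).trans (hφe ⟨s, hs⟩)
    rw [h2, ← map_mul, ← map_mul]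
    exact congrArg θ (Subtype.ext (hc.2 _ ⟨⟨s, hs⟩, rfl⟩))
  obtain ⟨⟨y, hy⟩, hye⟩ := h1
  obtain ⟨s, rfl⟩ := hθ.2.1.ge (hQ'.1 hy)
  have hs : (s : Ω) ∈ preimageAlong θ Q' := mem_preimageAlong.2 hy
  have h2 : θ ⟨φ ⟨s, hs⟩, hφS _⟩ = θ ⟨c, hc.1⟩ := ((hχe _).trans (hφe ⟨s, hs⟩)).symm.trans hye
  have h3 : (((⟨φ ⟨s, hs⟩, hφS _⟩ : S)⁻¹ * ⟨c, hc.1⟩ : S) : Ω) ∈ X :=
    (hE.2.1 _).1 (by rw [map_mul, map_inv, h2, inv_mul_cancel])
  have h4 := img_le_range φ X ((img_stronglyClosed_eq hX hφ (le_preimageAlong hE Q')).ge h3)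
  simpa using φ.range.mul_mem (show φ ⟨s, hs⟩ ∈ φ.range from ⟨_, rfl⟩) h4

omit [Fact p.Prime] in
theorem normalizerIn_preimageAlong {X : Subgroup Ω} (hE : F.IsFactorSystem X θ E)
    (Q' : Subgroup Ω') (hQ' : Q' ≤ S') :
    normalizerIn S (preimageAlong θ Q') = preimageAlong θ (normalizerIn S' Q') := by
  refine le_antisymm ?_ ?_
  · rintro g ⟨hgS, hg⟩
    refine (mem_preimageAlong (θ := θ) (s := ⟨g, hgS⟩)).2 ⟨hE.2.2.1.le ⟨_, rfl⟩, ?_⟩
    have hfin : Finite S' := by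
      have := hE.2.2.1
      subst this
      exact Finite.of_surjective θ.rangeRestrict θ.rangeRestrict_surjective
    have := finite_of_le hQ'
    refine mem_normalizer_of_forall fun y hy => ?_
    obtain ⟨s, rfl⟩ := hE.2.2.1.ge (hQ' hy)
    rw [← map_inv, ← map_mul, ← map_mul]
    exact mem_preimageAlong.1 (conj_mem_of_mem_normalizer hg (mem_preimageAlong.2 hy))
  · rintro g ⟨s, hs, rfl⟩
    exact ⟨s.2, le_normalizer_preimageAlong hE hs.2⟩

/-- The preimage of a fully normalized subgroup is fully normalized. -/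
theorem isFullyNormalized_preimageAlong (hS : IsPGroup p S) {X : Subgroup Ω}
    (hX : F.StronglyClosed X)
    (hE : F.IsFactorSystem X θ E) (hθ : F.IsSurjectiveMorphism E θ) {Q' : Subgroup Ω'}
    (hQ' : E.IsFullyNormalized Q') : F.IsFullyNormalized (preimageAlong θ Q') := by
  have hcard : ∀ A' : Subgroup Ω', A' ≤ S' → Nat.card (preimageAlong θ A') =
      Nat.card X * Nat.card A' := by
    intro A' hA'
    let π : preimageAlong θ A' →* A' :=
      (θ.comp (Subgroup.inclusion (preimageAlong_le θ A'))).codRestrict A' fun x =>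
        (mem_preimageAlong (θ := θ) (s := ⟨x, preimageAlong_le θ A' x.2⟩)).1 x.2
    have hπ : Function.Surjective π := by
      rintro ⟨y, hy⟩
      obtain ⟨s, rfl⟩ := hθ.2.1.ge (hA' hy)
      exact ⟨⟨s, mem_preimageAlong.2 hy⟩, rfl⟩
    have hker : π.ker = X.subgroupOf (preimageAlong θ A') := by
      ext x
      rw [MonoidHom.mem_ker, Subgroup.mem_subgroupOf]
      exact Subtype.ext_iff.trans (hE.2.1 ⟨x, preimageAlong_le θ A' x.2⟩)
    rw [← Subgroup.card_mul_index π.ker, Subgroup.index_ker, π.range_eq_top.2 hπ,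
      Subgroup.card_top, hker,
      Nat.card_congr (Subgroup.subgroupOfEquivOfLe (le_preimageAlong hE A')).toEquiv]
  refine ⟨preimageAlong_le θ Q', ?_⟩
  intro R hR
  obtain ⟨φ, hφ, rfl⟩ := hR
  obtain ⟨φ', hφ', hP, hφS, hθP, hφe⟩ := hθ.1.2 _ φ hφ
  obtain ⟨χ, hχ, hχe⟩ := mem_of_eq_sup
    (CfsgLib.Transfer.imageAlong_preimageAlong (θ := θ) (hQ'.1.trans hθ.2.1.ge)) hφ'
  have hr : φ.range = preimageAlong θ χ.range := by
    refine le_antisymm ?_ ?_
    · rintro _ ⟨x, rfl⟩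
      refine (mem_preimageAlong (θ := θ) (s := ⟨φ x, hφS x⟩)).2
        ⟨⟨_, (mem_preimageAlong (θ := θ) (s := ⟨x, hP x.2⟩)).1 x.2⟩, ?_⟩
      exact (hχe _).trans (hφe x)
    · rintro _ ⟨s, ⟨⟨y, hy⟩, hye⟩, rfl⟩
      obtain ⟨t, rfl⟩ := hθ.2.1.ge (hQ'.1 hy)
      have ht : (t : Ω) ∈ preimageAlong θ Q' := mem_preimageAlong.2 hy
      have h2 : θ ⟨φ ⟨t, ht⟩, hφS _⟩ = θ s := ((hχe _).trans (hφe ⟨t, ht⟩)).symm.trans hye
      have h3 : (((⟨φ ⟨t, ht⟩, hφS _⟩ : S)⁻¹ * s : S) : Ω) ∈ X :=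
        (hE.2.1 _).1 (by rw [map_mul, map_inv, h2, inv_mul_cancel])
      have h4 := img_le_range φ X ((img_stronglyClosed_eq hX hφ (le_preimageAlong hE Q')).ge h3)
      simpa using φ.range.mul_mem (show φ ⟨t, ht⟩ ∈ φ.range from ⟨_, rfl⟩) h4
  rw [hr, normalizerIn_preimageAlong hE _ (range_le_S E hχ), normalizerIn_preimageAlong hE _ hQ'.1,
    hcard _ (normalizerIn_le _), hcard _ (normalizerIn_le _)]
  exact Nat.mul_le_mul_left _ (hQ'.2 _ ⟨χ, hχ, rfl⟩)

/-- Inheritance to the quotient by a normal subgroup `X` on which the system is inner. -/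
theorem coreFree_factor (hS : IsPGroup p S) (hF : F.IsSaturated p) (hfree : CoreFree H₀ p F)
    {X : Subgroup Ω} (hX : F.IsNormal X) (hcore : F.core ≤ X) (hI : InnerOn F X)
    (hE : F.IsFactorSystem X θ E) (hθ : F.IsSurjectiveMorphism E θ) : CoreFree H₀ p E := by
  intro Q' hQ'c hQ'n _
  classical
  have hsc := stronglyClosed_of_isNormal hX
  have hQ'S := hQ'n.1
  set Q := preimageAlong θ Q' with hQdef
  have hXQ : X ≤ Q := le_preimageAlong hE Q'
  have hQc : F.IsCentric Q := isCentric_preimageAlong hsc hE hθ hQ'c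
  have hQn : F.IsFullyNormalized Q := isFullyNormalized_preimageAlong hS hsc hE hθ hQ'n
  obtain ⟨N, hN, L, _, ι, hM, hL⟩ := hfree Q hQc hQn (hcore.trans hXQ)
  have hM' := hM
  obtain ⟨hLfin, ⟨hι, hreal⟩, ⟨P₀, hP₀⟩, -⟩ := hM'
  have hQS := hQn.1
  have hXNS : X ≤ normalizerIn S Q := hXQ.trans (le_normalizerIn hQS)
  have := finite_of_le (normalizerIn_le (S := S) Q)
  have hSN : IsPGroup p ↥(normalizerIn S Q) := hS.to_le (normalizerIn_le Q)
  have hNQ := isNormal_normalizerSystem hQS hN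
  have hNc := isCentric_normalizerSystem hQc hN
  have hXN : N.IsNormal X := by
    refine ⟨hXNS, fun P φ hφ => ?_⟩
    obtain ⟨ψ, hψ, hψe, -⟩ := hNQ.2 P φ hφ
    refine ⟨_, res_mem N hψ (sup_le_sup_left hXQ P), hψe, ?_⟩
    rw [hN] at hψ
    exact (img_res ψ (sup_le_sup_left hXQ P) le_sup_right).trans
      (img_stronglyClosed_eq hsc hψ.1 (hXQ.trans le_sup_right))
  let Z : Subgroup L := (X.subgroupOf (normalizerIn S Q)).map ι
  have hZn : Z.Normal := map_normal_of_isModel hM hXN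
  let q : L →* L ⧸ Z := QuotientGroup.mk' Z
  -- the embedding of `N_{S'}(Q')`
  let π : normalizerIn S Q →* normalizerIn S' Q' :=
    (θ.comp (Subgroup.inclusion (normalizerIn_le Q))).codRestrict _ fun x =>
      (mem_preimageAlong (θ := θ) (s := ⟨x, normalizerIn_le Q x.2⟩)).1
        ((normalizerIn_preimageAlong hE Q' hQ'S).le x.2)
  have hπ : Function.Surjective π := by
    rintro ⟨y, hy⟩
    obtain ⟨s, rfl⟩ := hθ.2.1.ge hy.1
    exact ⟨⟨s, (normalizerIn_preimageAlong hE Q' hQ'S).ge (mem_preimageAlong.2 hy)⟩, rfl⟩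
  have hkerπ : ∀ x, π x = 1 ↔ (x : Ω) ∈ X := fun x =>
    Subtype.ext_iff.trans (hE.2.1 ⟨x, normalizerIn_le Q x.2⟩)
  have hkerq : ∀ x, q (ι x) = 1 ↔ (x : Ω) ∈ X := by
    intro x
    refine (QuotientGroup.eq_one_iff _).trans ⟨?_, fun h => ⟨x, h, rfl⟩⟩
    rintro ⟨y, hy, hye⟩
    rw [← hι hye]
    exact hy
  have hle : π.ker ≤ (q.comp ι).ker := fun x hx =>
    MonoidHom.mem_ker.2 ((hkerq x).2 ((hkerπ x).1 hx))
  let κ : normalizerIn S' Q' →* L ⧸ Z := π.liftOfSurjective hπ ⟨q.comp ι, hle⟩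
  have hκ : ∀ x, κ (π x) = q (ι x) :=
    π.liftOfRightInverse_comp_apply _ (Function.rightInverse_surjInv hπ) ⟨q.comp ι, hle⟩
  have hκi : Function.Injective κ := by
    rw [injective_iff_map_eq_one]
    intro y hy
    obtain ⟨x, rfl⟩ := hπ y
    exact (hkerπ x).2 ((hkerq x).1 ((hκ x).symm.trans hy))
  have hq : Function.Surjective q := QuotientGroup.mk'_surjective Z
  have hκr : κ.range = ι.range.map q := by
    ext y
    constructor
    · rintro ⟨z, rfl⟩
      obtain ⟨x, rfl⟩ := hπ z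
      exact ⟨ι x, ⟨x, rfl⟩, (hκ x).symm⟩
    · rintro ⟨_, ⟨x, rfl⟩, rfl⟩
      exact ⟨π x, hκ x⟩
  refine ⟨normSys E Q' rfl hQ'S, fun _ => rfl, L ⧸ Z, inferInstance, κ,
    ⟨inferInstance, ⟨hκi, ?_⟩, ⟨P₀.mapSurjective hq, ?_⟩, ?_⟩,
    fun h => hL (CfsgLib.LocalEven.Offender.involves_of_surjective q hq h)⟩
  · -- realization
    intro P' hP' φ' hφP'
    have hP'S : P' ≤ S' := hP'.trans (normalizerIn_le Q')
    have hπθ : ∀ (x : normalizerIn S Q), (π x : Ω') = θ ⟨x, normalizerIn_le Q x.2⟩ := fun _ => rfl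
    constructor
    · intro hφ'
      obtain ⟨φ, hφ, hP, hφS, hθP, hφe⟩ := exists_lift_normalizerHom hE hQ'S hφ'
      obtain ⟨g, hg⟩ := (hreal _ hφ.2.1 φ hφ.2.2.1).1 ((hN _).ge hφ)
      refine ⟨q g, fun y => ?_⟩
      obtain ⟨s, hs⟩ := hθ.2.1.ge (hP'S y.2)
      have hsP : (s : Ω) ∈ preimageAlong θ P' := mem_preimageAlong.2 (hs ▸ y.2)
      have h1 : (⟨φ' y, hφP' y⟩ : normalizerIn S' Q') = π ⟨φ ⟨s, hsP⟩, hφ.2.2.1 _⟩ := by
        refine Subtype.ext ?_
        rw [hπθ]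
        exact (congrArg φ' (Subtype.ext hs.symm)).trans (hφe ⟨s, hsP⟩)
      have h2 : (⟨y, hP' y.2⟩ : normalizerIn S' Q') = π ⟨s, hφ.2.1 hsP⟩ := by
        refine Subtype.ext ?_
        rw [hπθ]
        exact hs.symm
      rw [h1, h2, hκ, hκ, hg ⟨s, hsP⟩, map_mul, map_mul, map_inv]
    · rintro ⟨m, hm⟩
      obtain ⟨g, rfl⟩ := hq m
      set P := preimageAlong θ P'
      have hP : P ≤ normalizerIn S Q := fun x hx =>
        (normalizerIn_preimageAlong hE Q' hQ'S).ge (Subgroup.map_mono (Subgroup.comap_mono hP') hx)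
      obtain ⟨φ, hφ, hφS, hφe⟩ := exists_map_of_conj (ι := ι) ⟨hι, hreal⟩ hP (g := g) fun x => by
        have hxP' : θ ⟨x, preimageAlong_le θ P' x.2⟩ ∈ P' :=
          (mem_preimageAlong (θ := θ) (s := ⟨x, preimageAlong_le θ P' x.2⟩)).1 x.2
        obtain ⟨w, hw⟩ := hπ ⟨φ' ⟨_, hxP'⟩, hφP' _⟩
        have h1 : q (g * ι ⟨x, hP x.2⟩ * g⁻¹) = q (ι w) := by
          rw [← hκ w, hw, hm, map_mul, map_mul, map_inv, ← hκ]
          rfl
        obtain ⟨z, hz, hze⟩ := (QuotientGroup.eq.1 h1.symm : (ι w)⁻¹ * _ ∈ Z)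
        exact ⟨w * z, by rw [map_mul, hze, mul_inv_cancel_left]⟩
      rw [hN] at hφ
      have hind : ∀ (x : P) (hx : θ ⟨x, normalizerIn_le Q (hP x.2)⟩ ∈ P'),
          φ' ⟨_, hx⟩ = θ ⟨φ x, normalizerIn_le Q (hφS x)⟩ := by
        intro x hx
        have h1 : κ ⟨φ' ⟨_, hx⟩, hφP' _⟩ = κ (π ⟨φ x, hφS x⟩) := by
          rw [hm, hκ, hφe, map_mul, map_mul, map_inv, ← hκ]
          rfl
        exact congrArg Subtype.val (hκi h1)
      -- extend to `P' ⊔ Q'`
      obtain ⟨-, -, -, ψ, hψ, hψe, hψQ⟩ := hφ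
      obtain ⟨ψ', hψ', hM₀, hψS, hθM, hψ'e⟩ := hθ.1.2 _ ψ hψ
      have hP'M : P' ≤ imageAlong θ (P ⊔ Q) := by
        intro y hy
        obtain ⟨s, rfl⟩ := hθ.2.1.ge (hP'S hy)
        exact ⟨s, le_sup_left (b := Q) (show (s : Ω) ∈ P from mem_preimageAlong.2 hy), rfl⟩
      have hQ'M : Q' ≤ imageAlong θ (P ⊔ Q) := by
        intro y hy
        obtain ⟨s, rfl⟩ := hθ.2.1.ge (hQ'S hy)
        exact ⟨s, le_sup_right (a := P) (show (s : Ω) ∈ Q from mem_preimageAlong.2 hy), rfl⟩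
      have hfin : Finite S' := by
        have := hθ.2.1
        subst this
        exact Finite.of_surjective θ.rangeRestrict θ.rangeRestrict_surjective
      refine mem_normalizerHom_of_img hψ' hP'M hQ'M ?_ (fun y => ?_) hP' hφP'
      · have := finite_of_le hQ'S
        refine Subgroup.eq_of_le_of_card_ge ?_ (card_img (E.injective_of_mem hψ') hQ'M).ge
        intro y hy
        obtain ⟨x, hx, rfl⟩ := mem_img.1 hy
        obtain ⟨s, hs, hse⟩ := x.2
        have hsM : (s : Ω) ∈ P ⊔ Q := hs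
        have h2 : (x : imageAlong θ (P ⊔ Q)) = ⟨_, hθM ⟨s, hsM⟩⟩ := Subtype.ext hse.symm
        rw [h2, hψ'e ⟨s, hsM⟩]
        refine mem_preimageAlong.1 ?_
        refine (show img ψ Q = Q from hψQ).le (apply_mem_img ψ (x := ⟨s, hsM⟩) ?_)
        exact mem_preimageAlong.2 (hse ▸ hx)
      · obtain ⟨s, hs⟩ := hθ.2.1.ge (hP'S y.2)
        have hsP : (s : Ω) ∈ P := mem_preimageAlong.2 (hs ▸ y.2)
        have hθsP' : θ ⟨s, normalizerIn_le Q (hP hsP)⟩ ∈ P' := mem_preimageAlong.1 hsP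
        rw [show y = ⟨_, hθsP'⟩ from Subtype.ext hs.symm, hind ⟨s, hsP⟩]
        refine Eq.trans (congrArg ψ' (Subtype.ext rfl))
          ((hψ'e ⟨s, le_sup_left (b := Q) hsP⟩).trans ?_)
        exact congrArg θ (Subtype.ext (hψe ⟨s, hsP⟩))
  · rw [hκr, ← hP₀]; rfl
  · -- the centralizer of the core of the quotient
    let Q₁ : Subgroup L := (Q.subgroupOf (normalizerIn S Q)).map ι
    have hQ₁n : Q₁.Normal := map_normal_of_isModel hM hNQ
    have hQ₁C : Subgroup.centralizer (Q₁ : Set L) ≤ Q₁ :=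
      (centralizer_img_le_of_isModel hSN hM hNQ hNc).trans
        (Subgroup.map_mono (Subgroup.comap_mono (hNc.2 Q (isConj_refl hNc.1))))
    have hQ₁qn : (Q₁.map q).Normal := hQ₁n.map q hq
    let C : Subgroup L := (Subgroup.centralizer ((Q₁.map q : Subgroup (L ⧸ Z)) : Set (L ⧸ Z))).comap q
    have hCn : C.Normal := inferInstance
    have hCp : IsPGroup p C := by
      rintro ⟨x, hx⟩
      have hxo : 0 < orderOf x := orderOf_pos x
      obtain ⟨a, m, hm, hxm⟩ := Nat.exists_eq_pow_mul_and_not_dvd hxo.ne' p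
        (Fact.out : p.Prime).ne_one
      refine ⟨a, Subtype.ext ?_⟩
      set y := x ^ p ^ a with hy
      change y = 1
      have hyC : y ∈ C := C.pow_mem hx _
      have hym : y ^ m = 1 := by rw [hy, ← pow_mul, ← hxm, pow_orderOf_eq_one]
      have hQN : Q ≤ normalizerIn S Q := le_normalizerIn hQS
      have hmemy : ∀ w : Q, y * ι ⟨w, hQN w.2⟩ * y⁻¹ ∈ ι.range := fun w =>
        Subgroup.map_le_range ι _ (hQ₁n.conj_mem _ ⟨⟨w, hQN w.2⟩, w.2, rfl⟩ y)
      obtain ⟨φ, hφ, hφS, hφe⟩ := exists_map_of_conj (ι := ι) ⟨hι, hreal⟩ hQN hmemy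
      rw [hN] at hφ
      obtain ⟨s, hs, hse⟩ := hI Q φ hφ.1
      have hsn : s ∈ Subgroup.normalizer (X : Set Ω) := le_normalizer_of_stronglyClosed hsc hs
      have hXfin := finite_of_le hX.1
      set c := normAut s hsn with hc
      have hiter : ∀ (n : ℕ) (w : X), y ^ n * ι ⟨w, hXNS w.2⟩ * (y ^ n)⁻¹ =
          ι ⟨((c ^ n) w : X), hXNS ((c ^ n) w).2⟩ := by
        intro n
        induction n with
        | zero => intro w; simp
        | succ n ih =>
          intro w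
          rw [show y ^ (n + 1) * ι ⟨w, hXNS w.2⟩ * (y ^ (n + 1))⁻¹ =
            y * (y ^ n * ι ⟨w, hXNS w.2⟩ * (y ^ n)⁻¹) * y⁻¹ by rw [pow_succ' y n]; group, ih,
            ← hφe ⟨_, hXQ ((c ^ n) w).2⟩]
          refine congrArg ι (Subtype.ext ((hse ⟨_, hXQ ((c ^ n) w).2⟩ ((c ^ n) w).2).trans ?_))
          rw [pow_succ', MulAut.mul_apply]
          rfl
      have hc1 : c = 1 := by
        have h1 : c ^ m = 1 := by
          refine MulEquiv.ext fun w => Subtype.ext ?_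
          have h2 := hiter m w
          rw [hym, one_mul, inv_one, mul_one] at h2
          exact (congrArg (fun t : normalizerIn S Q => (t : Ω)) (hι h2)).symm
        obtain ⟨j, hj⟩ := hS ⟨s, hs⟩
        have h3 : c ^ p ^ j = 1 := by
          have h4 : (⟨s, hsn⟩ : Subgroup.normalizer (X : Set Ω)) ^ p ^ j = 1 :=
            Subtype.ext (by simpa using congrArg Subtype.val hj)
          rw [hc, normAut, ← map_pow, h4, map_one]
        exact (pow_eq_one_iff_of_coprime (m := m) (n := p ^ j)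
          (((Fact.out : p.Prime).coprime_iff_not_dvd.2 hm).symm.pow_right j)).1 ⟨h1, h3⟩
      have hfixX : ∀ t ∈ Z, y * t * y⁻¹ = t := by
        rintro _ ⟨w, hw, rfl⟩
        have h5 := hiter 1 ⟨w, hw⟩
        rw [hc1, one_pow, pow_one] at h5
        exact h5
      have hfixQ : y ∈ Subgroup.centralizer (Q₁ : Set L) := by
        intro t ht
        set d := t⁻¹ * (y * t * y⁻¹) with hd
        have hdZ : d ∈ Z := by
          refine (QuotientGroup.eq_one_iff d).1 ?_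
          have h6 : q t * q y = q y * q t := hyC (q t) ⟨t, ht, rfl⟩
          change q d = 1
          rw [hd, map_mul, map_mul, map_mul, map_inv, map_inv, ← h6, mul_inv_cancel_right,
            inv_mul_cancel]
        have hstep : ∀ n : ℕ, y ^ n * t * (y ^ n)⁻¹ = t * d ^ n := by
          intro n
          induction n with
          | zero => simp
          | succ n ih =>
            calc y ^ (n + 1) * t * (y ^ (n + 1))⁻¹ = y * (y ^ n * t * (y ^ n)⁻¹) * y⁻¹ := by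
                  rw [pow_succ' y n]; group
              _ = y * t * y⁻¹ * (y * d * y⁻¹) ^ n := by rw [ih, conj_pow]; group
              _ = t * d * d ^ n := by rw [hfixX d hdZ, show y * t * y⁻¹ = t * d by
                    rw [hd, mul_inv_cancel_left]]
              _ = t * d ^ (n + 1) := by rw [pow_succ', mul_assoc]
        have h7 := hstep m
        rw [hym, one_mul, inv_one, mul_one, left_eq_mul] at h7
        obtain ⟨w, hw, hwe⟩ := hdZ
        obtain ⟨j, hj⟩ := hSN w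
        have h8 : d = 1 := (pow_eq_one_iff_of_coprime (m := m) (n := p ^ j)
          (((Fact.out : p.Prime).coprime_iff_not_dvd.2 hm).symm.pow_right j)).1
          ⟨h7, by rw [← hwe, ← map_pow, hj, map_one]⟩
        rw [hd, inv_mul_eq_one] at h8
        exact (mul_inv_eq_iff_eq_mul.1 h8.symm).symm
      obtain ⟨w, -, hwe⟩ := hQ₁C hfixQ
      obtain ⟨j, hj⟩ := hSN w
      exact (pow_eq_one_iff_of_coprime (m := m) (n := p ^ j)
        (((Fact.out : p.Prime).coprime_iff_not_dvd.2 hm).symm.pow_right j)).1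
        ⟨hym, by rw [← hwe, ← map_pow, hj, map_one]⟩
    intro z hz
    obtain ⟨x, rfl⟩ := hq z
    have hQ₁le : Q₁.map q ≤ pCore p (L ⧸ Z) := Cores.le_pCore (hn := hQ₁qn)
      (((hSN.to_subgroup (Q.subgroupOf (normalizerIn S Q))).map ι).map q)
    exact Cores.le_pCore (hn := hCn.map q hq) (hCp.map q) ⟨x, fun t ht => hz t (hQ₁le ht), rfl⟩

end CfsgLib.Fusion
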