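import Cfsg.Agent.Lib.Fusion.ModelBasic
import Cfsg.Agent.Lib.Fusion.NormalizerSat
import Cfsg.Agent.Lib.Fusion.HypFocal

/-!
# Reductions for control by a functor

* `system_induction`: induction on the order of `S` and the number of maps.
* `le_of_ascend`: when the maps of all normalizer systems lie in a subsystem `E`, so does the system.
* `le_of_split`: for `X` normal, the system is generated by the normalizer of `X C_S(X)` and the
  maps fixing `X` pointwise.
-/

set_option autoImplicit false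

open Cfsg Cfsg.FusionSystem

namespace CfsgLib.Fusion

universe u

section Basics

variable {Ω : Type*} [Group Ω] {S : Subgroup Ω} {F : FusionSystem S}

/-- The graph of a homomorphism on a subgroup. -/
def graphOf {P : Subgroup Ω} (φ : P →* Ω) : Set (Ω × Ω) :=
  Set.range fun x : P => ((x : Ω), φ x)

variable (F) in
/-- The graphs of the maps of a system. -/
def homGraphs : Set (Set (Ω × Ω)) := {g | ∃ P, ∃ φ ∈ F.Hom P, g = graphOf φ}

theorem finite_homGraphs [Finite S] : (homGraphs F).Finite := by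
  have h : ((S : Set Ω) ×ˢ (S : Set Ω)).Finite := Set.Finite.prod (Set.toFinite _) (Set.toFinite _)
  refine h.finite_subsets.subset ?_
  rintro g ⟨P, φ, hφ, rfl⟩ _ ⟨x, rfl⟩
  exact ⟨le_S F hφ x.2, apply_mem_S F hφ x⟩

theorem mem_of_graphOf_eq {P P' : Subgroup Ω} {φ : P →* Ω} {φ' : P' →* Ω}
    (h : graphOf φ = graphOf φ') (hφ' : φ' ∈ F.Hom P') : φ ∈ F.Hom P := by
  have hP : P' = P := by
    ext x
    constructor
    · intro hx
      obtain ⟨y, hy⟩ := h.ge ⟨⟨x, hx⟩, rfl⟩
      have h0 : (y : Ω) = x := congrArg Prod.fst hy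
      rw [← h0]
      exact y.2
    · intro hx
      obtain ⟨y, hy⟩ := h.le ⟨⟨x, hx⟩, rfl⟩
      have h0 : (y : Ω) = x := congrArg Prod.fst hy
      rw [← h0]
      exact y.2
  subst hP
  refine mem_of_eq rfl hφ' fun x => ?_
  obtain ⟨y, hy⟩ := h.ge ⟨x, rfl⟩
  have h1 : y = x := Subtype.ext (congrArg Prod.fst hy)
  subst h1
  exact congrArg Prod.snd hy

theorem ncard_homGraphs_lt [Finite S] {T : Subgroup Ω} {E : FusionSystem T}
    (hEF : E.IsSubsystemOf F) (hne : ¬ ∀ P, F.Hom P ⊆ E.Hom P) :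
    (homGraphs E).ncard < (homGraphs F).ncard := by
  refine Set.ncard_lt_ncard ⟨?_, ?_⟩ finite_homGraphs
  · rintro g ⟨P, φ, hφ, rfl⟩
    exact ⟨P, φ, hEF P hφ, rfl⟩
  · intro h
    refine hne fun P φ hφ => ?_
    obtain ⟨P', φ', hφ', he⟩ := h ⟨P, φ, hφ, rfl⟩
    exact mem_of_graphOf_eq he hφ'

/-- An isomorphism of a system inside a subsystem, as a map. -/
theorem normalizerHom_mono {T : Subgroup Ω} {E : FusionSystem T} (hTS : T ≤ S)
    (hEF : E.IsSubsystemOf F) (U P : Subgroup Ω) :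
    E.normalizerHom U P ⊆ F.normalizerHom U P := by
  rintro φ ⟨hφ, hP, hφN, ψ, hψ, hψe, hψU⟩
  have h : normalizerIn T U ≤ normalizerIn S U := inf_le_inf_right _ hTS
  exact ⟨hEF P hφ, hP.trans h, fun x => h (hφN x), ψ, hEF _ hψ, hψe, hψU⟩

theorem img_res {M A B : Subgroup Ω} (ψ : M →* Ω) (hA : A ≤ M) (hB : B ≤ A) :
    img (ψ.comp (Subgroup.inclusion hA)) B = img ψ B := by
  ext y
  rw [mem_img, mem_img]
  constructor
  · rintro ⟨x, hx, rfl⟩
    exact ⟨Subgroup.inclusion hA x, hx, rfl⟩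
  · rintro ⟨x, hx, rfl⟩
    exact ⟨⟨x, hB hx⟩, hx, rfl⟩

/-- A map on a subgroup containing `P` and `U` that permutes `U` restricts to a map of the
normalizer system of `U`. -/
theorem mem_normalizerHom_of_img {U P M : Subgroup Ω} {φ : P →* Ω} {ψ : M →* Ω}
    (hψ : ψ ∈ F.Hom M) (hPM : P ≤ M) (hUM : U ≤ M) (hψU : img ψ U = U)
    (hφ : ∀ x : P, ψ (Subgroup.inclusion hPM x) = φ x) (hP : P ≤ normalizerIn S U)
    (hφN : ∀ x : P, φ x ∈ normalizerIn S U) : φ ∈ F.normalizerHom U P := by
  refine ⟨mem_of_eq rfl (res_mem F hψ hPM) fun x => (hφ x).symm, hP, hφN, _,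
    res_mem F hψ (sup_le hPM hUM), fun x => hφ x, ?_⟩
  change img (ψ.comp (Subgroup.inclusion (sup_le hPM hUM))) U = U
  rw [img_res ψ (sup_le hPM hUM) le_sup_right, hψU]

/-- A map of the normalizer system, as an isomorphism permuting `U`. -/
theorem exists_iso_of_normalizerHom {U P : Subgroup Ω} {φ : P →* Ω}
    (hφ : φ ∈ F.normalizerHom U P) :
    ∃ e : ↥(P ⊔ U) ≃* ↥(φ.range ⊔ U), IsIso F e ∧
      (∀ x : P, (e (Subgroup.inclusion le_sup_left x) : Ω) = φ x) ∧
      img ((φ.range ⊔ U).subtype.comp e.toMonoidHom) U = U := by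
  obtain ⟨-, -, -, ψ, hψ, hψe, hψU⟩ := hφ
  obtain ⟨e, he, hee⟩ := exists_iso_of_range hψ (Q := φ.range ⊔ U)
    ((range_ext_eq hψe).trans (by rw [show img ψ U = U from hψU]))
  refine ⟨e, he, fun x => (hee _).trans (hψe x), ?_⟩
  rw [show (φ.range ⊔ U).subtype.comp e.toMonoidHom = ψ from MonoidHom.ext hee]
  exact hψU

theorem img_symm {A B : Subgroup Ω} (e : A ≃* B) {U V : Subgroup Ω} (hV : V ≤ A)
    (h : img (B.subtype.comp e.toMonoidHom) V = U) :
    img (A.subtype.comp e.symm.toMonoidHom) U = V := by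
  subst h
  ext y
  rw [mem_img]
  constructor
  · rintro ⟨x, hx, rfl⟩
    obtain ⟨z, hz, hzx⟩ := mem_img.1 hx
    have h1 : e z = x := Subtype.ext hzx
    rw [← h1]
    simpa using hz
  · intro hy
    exact ⟨e ⟨y, hV hy⟩, apply_mem_img _ (x := (⟨y, hV hy⟩ : A)) hy, by simp⟩

theorem img_trans {A B C : Subgroup Ω} (e : A ≃* B) (f : B ≃* C) (U : Subgroup Ω) :
    img (C.subtype.comp (e.trans f).toMonoidHom) U =
      img (C.subtype.comp f.toMonoidHom) (img (B.subtype.comp e.toMonoidHom) U) := by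
  ext y
  rw [mem_img, mem_img]
  constructor
  · rintro ⟨x, hx, rfl⟩
    exact ⟨e x, apply_mem_img (B.subtype.comp e.toMonoidHom) hx, rfl⟩
  · rintro ⟨z, hz, rfl⟩
    obtain ⟨x, hx, hxz⟩ := mem_img.1 hz
    exact ⟨x, hx, by rw [← (Subtype.ext hxz : e x = z)]; rfl⟩

theorem range_subtype_comp_le {A B : Subgroup Ω} (e : A ≃* B) (U : Subgroup Ω) :
    img (B.subtype.comp e.toMonoidHom) U ≤ B :=
  (img_le_range _ _).trans (range_subtype_comp e).le

theorem isCentric_of_isConj {P Q : Subgroup Ω} (hP : F.IsCentric P) (h : F.IsConj P Q) :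
    F.IsCentric Q :=
  ⟨le_right_of_isConj h, fun R hR => hP.2 R (isConj_trans h hR)⟩

/-- A map fixing nothing but defined with source in a normalizer is in the normalizer system of the
whole group when it is an automorphism. -/
theorem mem_normalizerHom_self {R : Subgroup Ω} (hR : R ≤ S) {α : MulAut R}
    (hα : α ∈ F.autGroup R) : R.subtype.comp α.toMonoidHom ∈ F.normalizerHom R R :=
  mem_normalizerHom_of_img ((mem_autGroup_iff F hR).1 hα) le_rfl le_rfl
    ((img_self _).trans (range_subtype_comp α)) (fun _ => rfl) (le_normalizerIn hR)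
    fun x => le_normalizerIn hR (α x).2

end Basics

/-- Induction on the order of `S` and on the number of maps. -/
theorem system_induction
    {C : ∀ (Ω : Type u) [Group Ω] (S : Subgroup Ω), FusionSystem S → Prop}
    (step : ∀ (Ω : Type u) [Group Ω] (S : Subgroup Ω) [Finite S] (F : FusionSystem S),
      (∀ (Ω' : Type u) [Group Ω'] (S' : Subgroup Ω') [Finite S'] (E : FusionSystem S'),
        Nat.card S' < Nat.card S → C Ω' S' E) →
      (∀ (T : Subgroup Ω) [Finite T] (E : FusionSystem T), T ≤ S → E.IsSubsystemOf F →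
        (¬ ∀ P, F.Hom P ⊆ E.Hom P) → C Ω T E) → C Ω S F)
    {Ω : Type u} [Group Ω] {S : Subgroup Ω} [Finite S] (F : FusionSystem S) : C Ω S F := by
  suffices h : ∀ (n : ℕ) (Ω : Type u) [Group Ω] (S : Subgroup Ω) [Finite S] (F : FusionSystem S),
      Nat.card S = n → C Ω S F from h _ Ω S F rfl
  intro n
  induction n using Nat.strong_induction_on with
  | _ n ihn =>
  suffices h : ∀ (m : ℕ) (Ω : Type u) [Group Ω] (S : Subgroup Ω) [Finite S] (F : FusionSystem S),
      Nat.card S = n → (homGraphs F).ncard = m → C Ω S F from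
    fun Ω _ S _ F hn => h _ Ω S F hn rfl
  intro m
  induction m using Nat.strong_induction_on with
  | _ m ihm =>
  intro Ω _ S _ F hn hm
  refine step Ω S F (fun Ω' _ S' _ E hlt => ihn _ (hn ▸ hlt) Ω' S' E rfl)
    fun T _ E hTS hEF hne => ?_
  rcases (Subgroup.card_le_of_le hTS).lt_or_eq with hlt | heq
  · exact ihn _ (hn ▸ hlt) Ω T E rfl
  · exact ihm _ (hm ▸ ncard_homGraphs_lt hEF hne) Ω T E (heq.trans hn) rfl

variable {Ω : Type*} [Group Ω] {S : Subgroup Ω} {F : FusionSystem S} {p : ℕ}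

variable (F) in
/-- The maps of `F`, on subgroups of order more than `n` only those lying in `E`. -/
def thresholdSys (E : FusionSystem S) (n : ℕ) [Finite S] : FusionSystem S where
  Hom P := {φ | φ ∈ F.Hom P ∧ (n < Nat.card P → φ ∈ E.Hom P)}
  le_of_mem h := F.le_of_mem h.1
  injective_of_mem h := F.injective_of_mem h.1
  conj_mem hP hg := ⟨F.conj_mem hP hg, fun _ => E.conj_mem hP hg⟩
  comp_mem := by
    rintro P Q φ ψ ⟨hφ, hφE⟩ ⟨hψ, hψE⟩ h
    refine ⟨F.comp_mem hφ hψ h, fun hn => E.comp_mem (hφE hn) (hψE (hn.trans_le ?_)) h⟩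
    have := finite_of_le (le_S F hψ)
    exact Nat.card_le_card_of_injective (fun x : P => (⟨φ x, h x⟩ : Q))
      fun a b hab => F.injective_of_mem hφ (congrArg Subtype.val hab)
  inv_mem := by
    rintro P φ ⟨hφ, hφE⟩
    obtain ⟨ψ, hψ, hψe⟩ := F.inv_mem hφ
    refine ⟨ψ, ⟨hψ, fun hn => ?_⟩, hψe⟩
    have hn' : n < Nat.card P := by
      rwa [← Nat.card_congr (MonoidHom.ofInjective (F.injective_of_mem hφ)).toEquiv] at hn
    obtain ⟨ψ', hψ', hψ'e⟩ := E.inv_mem (hφE hn')
    refine mem_of_eq rfl hψ' ?_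
    rintro ⟨_, x, rfl⟩
    exact (hψe x).trans (hψ'e x).symm

variable [Fact p.Prime] [Finite S]

/-- If every map of every normalizer system `N_F(U)` lies in `E` whenever those of
`N_F(U) ∩ N_F(W(N_S U))` do, and those of `N_F(W S)` lie in `E`, then `F ≤ E`. -/
theorem le_of_ascend (hS : IsPGroup p S) (hF : F.IsSaturated p) (W : Subgroup Ω → Subgroup Ω)
    (hWle : ∀ T ≤ S, W T ≤ T) (hWne : ∀ T ≤ S, T ≠ ⊥ → W T ≠ ⊥)
    (hWn : ∀ T ≤ S, normalizerIn S T ≤ normalizerIn S (W T)) (E : FusionSystem S)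
    (hN : ∀ P, F.normalizerHom (W S) P ⊆ E.Hom P)
    (hIH : ∀ U, U ≠ ⊥ → F.IsFullyNormalized U →
      (∀ P, ∀ φ ∈ F.normalizerHom U P, φ ∈ F.normalizerHom (W (normalizerIn S U)) P →
        φ ∈ E.Hom P) →
      ∀ P, F.normalizerHom U P ⊆ E.Hom P) : F ≤ E := by
  have hclaim : ∀ (n : ℕ) (U : Subgroup Ω), U ≠ ⊥ → F.IsFullyNormalized U →
      Nat.card S - Nat.card (normalizerIn S U) ≤ n → ∀ P, F.normalizerHom U P ⊆ E.Hom P := by
    intro n
    induction n using Nat.strong_induction_on with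
    | _ n ih =>
    intro U hU hUn hn
    set T := normalizerIn S U with hT
    have hTS : T ≤ S := normalizerIn_le U
    have := finite_of_le hTS
    have hTne : T ≠ ⊥ := fun h => hU (le_bot_iff.1 (h ▸ le_normalizerIn hUn.1))
    refine hIH U hU hUn fun P φ hφ hφW => ?_
    rcases eq_or_lt_of_le hTS with hTeq | hlt
    · rw [← hT, hTeq] at hφW
      exact hN P hφW
    have hsmall : ∀ V : Subgroup Ω, V ≠ ⊥ → F.IsFullyNormalized V →
        Nat.card T < Nat.card (normalizerIn S V) → ∀ P, F.normalizerHom V P ⊆ E.Hom P := by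
      intro V hV hVn hlt'
      have := Subgroup.card_le_of_le (normalizerIn_le (S := S) V)
      exact ih (Nat.card S - Nat.card (normalizerIn S V)) (by omega) V hV hVn le_rfl
    have hbig : F ≤ thresholdSys F E (Nat.card T) := by
      refine alperin_induction hS hF _ ?_ ?_
      · intro α hα
        refine mem_autGroup_of_mem (φ := S.subtype.comp α.toMonoidHom) _
          ⟨(mem_autGroup_iff F le_rfl).1 hα, fun hn' => ?_⟩ fun _ => rfl
        have hSne : S ≠ ⊥ := fun h => hTne (le_bot_iff.1 (h ▸ hTS))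
        exact hsmall S hSne isFullyNormalized_self
          (by have := finite_of_le (normalizerIn_le (S := S) S)
              exact hn'.trans_le (Subgroup.card_le_of_le (le_normalizerIn le_rfl))) S
          (mem_normalizerHom_self le_rfl hα)
      · intro R hR hRn _ α hα
        refine mem_autGroup_of_mem (φ := R.subtype.comp α.toMonoidHom) _
          ⟨(mem_autGroup_iff F hR.le).1 hα, fun hn' => ?_⟩ fun _ => rfl
        have hRne : R ≠ ⊥ := fun h => by
          rw [h, Subgroup.card_bot] at hn'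
          exact absurd hn' (not_lt.2 Nat.card_pos)
        have := finite_of_le (normalizerIn_le (S := S) R)
        exact hsmall R hRne hRn
          (hn'.trans_le (Subgroup.card_le_of_le (le_normalizerIn hR.le))) R
          (mem_normalizerHom_self hR.le hα)
    -- move `W T` to a fully normalized conjugate
    set V := W T with hV
    have hVne : V ≠ ⊥ := hWne T hTS hTne
    have hVS : V ≤ S := (hWle T hTS).trans hTS
    obtain ⟨V', hconj, hV'n⟩ := exists_fullyNormalized F hVS
    set M := normalizerIn S V with hM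
    obtain ⟨f, hVN, hf, ψ, hψ, hψf, hψN⟩ :=
      exists_hom_normalizerIn_of_fullyNormalized hS hF hV'n hconj
    have hMS : M ≤ S := normalizerIn_le V
    have := finite_of_le hMS
    have hTM : T < M := lt_of_lt_of_le (lt_normalizerIn hS hlt) (hWn T hTS)
    have hcardM : Nat.card T < Nat.card M :=
      lt_of_not_ge fun h => hTM.ne (Subgroup.eq_of_le_of_card_ge hTM.le h)
    have hψE : ψ ∈ E.Hom M := (hbig M hψ).2 (by convert hcardM)
    have hV'ne : V' ≠ ⊥ := by
      intro h
      have h1 := card_eq_of_isConj hconj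
      rw [h, Subgroup.card_bot] at h1
      exact hVne (Subgroup.eq_bot_of_card_eq V h1)
    have hV'N : Nat.card T < Nat.card (normalizerIn S V') := by
      have := finite_of_le (normalizerIn_le (S := S) V')
      refine hcardM.trans_le (Nat.card_le_card_of_injective
        (fun x => (⟨ψ x, hψN x⟩ : normalizerIn S V')) fun a b hab => ?_)
      exact F.injective_of_mem hψ (congrArg Subtype.val hab)
    obtain ⟨e, he, hee, heV⟩ := exists_iso_of_normalizerHom hφW
    have hAM : P ⊔ V ≤ M := sup_le (hφW.2.1) hVN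
    have hBM : φ.range ⊔ V ≤ M :=
      sup_le (by rintro _ ⟨x, rfl⟩; exact hφW.2.2.1 x) hVN
    obtain ⟨gA, hgA, hgAe⟩ := exists_iso_of_mem (res_mem F hψ hAM)
    obtain ⟨gB, hgB, hgBe⟩ := exists_iso_of_mem (res_mem F hψ hBM)
    have hgAE : IsIso E gA := isIso_of_mem (res_mem E hψE hAM) hgAe
    have hgBE : IsIso E gB := isIso_of_mem (res_mem E hψE hBM) hgBe
    have hfV : img ψ V = V' := by
      rw [img_congr (φ := V'.subtype.comp f.toMonoidHom) hVN hψf]
      exact range_subtype_comp f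
    have himgA : img ((ψ.comp (Subgroup.inclusion hAM)).range.subtype.comp gA.toMonoidHom) V = V' := by
      rw [show (ψ.comp (Subgroup.inclusion hAM)).range.subtype.comp gA.toMonoidHom =
        ψ.comp (Subgroup.inclusion hAM) from MonoidHom.ext hgAe, img_res ψ hAM le_sup_right, hfV]
    have himgB : img ((ψ.comp (Subgroup.inclusion hBM)).range.subtype.comp gB.toMonoidHom) V = V' := by
      rw [show (ψ.comp (Subgroup.inclusion hBM)).range.subtype.comp gB.toMonoidHom =
        ψ.comp (Subgroup.inclusion hBM) from MonoidHom.ext hgBe, img_res ψ hBM le_sup_right, hfV]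
    set c := (gA.symm.trans e).trans gB with hc
    have hcF : IsIso F c := (hgA.symm.trans he).trans hgB
    have hcV : img ((ψ.comp (Subgroup.inclusion hBM)).range.subtype.comp c.toMonoidHom) V' = V' := by
      rw [hc, img_trans, img_trans, img_symm gA le_sup_right himgA, heV, himgB]
    have hcE : IsIso E c := by
      refine hsmall V' hV'ne hV'n hV'N _ (mem_normalizerHom_of_img hcF le_rfl
        (himgA ▸ range_subtype_comp_le gA V) hcV (fun _ => rfl) ?_ fun x => ?_)
      · rintro _ ⟨x, rfl⟩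
        exact hψN _
      · obtain ⟨y, hy⟩ := (c x).2
        change (c x : Ω) ∈ _
        rw [← hy]
        exact hψN _
    have heE : IsIso E e := ((hgAE.trans hcE).trans hgBE.symm).congr fun x => by simp [hc]
    exact mem_of_eq rfl (res_mem E heE le_sup_left) fun x => (hee x).symm
  refine alperin_induction hS hF E ?_ ?_
  · intro α hα
    rcases eq_or_ne S ⊥ with hbot | hne
    · have : α = 1 := MulEquiv.ext fun x => Subtype.ext <| by
        have h1 : (x : Ω) = 1 := Subgroup.mem_bot.1 (hbot ▸ x.2 : (x : Ω) ∈ (⊥ : Subgroup Ω))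
        have h2 : ((α x : S) : Ω) = 1 :=
          Subgroup.mem_bot.1 (hbot ▸ (α x).2 : ((α x : S) : Ω) ∈ (⊥ : Subgroup Ω))
        exact h2.trans h1.symm
      exact this ▸ one_mem _
    · exact (mem_autGroup_iff E le_rfl).2
        (hclaim _ S hne isFullyNormalized_self le_rfl S (mem_normalizerHom_self le_rfl hα))
  · intro R hR hRn _ α hα
    rcases eq_or_ne R ⊥ with hbot | hne
    · have : α = 1 := MulEquiv.ext fun x => Subtype.ext <| by
        have h1 : (x : Ω) = 1 := Subgroup.mem_bot.1 (hbot ▸ x.2 : (x : Ω) ∈ (⊥ : Subgroup Ω))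
        have h2 : ((α x : R) : Ω) = 1 :=
          Subgroup.mem_bot.1 (hbot ▸ (α x).2 : ((α x : R) : Ω) ∈ (⊥ : Subgroup Ω))
        exact h2.trans h1.symm
      exact this ▸ one_mem _
    · exact (mem_autGroup_iff E hR.le).2
        (hclaim _ R hne hRn le_rfl R (mem_normalizerHom_self hR.le hα))

omit [Fact p.Prime] in
/-- `X C_S(X)` permuted by a map that permutes `X`. -/
theorem img_sup_centralizerIn_eq {X M : Subgroup Ω} {ψ : M →* Ω} (hψ : ψ ∈ F.Hom M)
    (hY : X ⊔ centralizerIn S X ≤ M) (hX : img ψ X = X) :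
    img ψ (X ⊔ centralizerIn S X) = X ⊔ centralizerIn S X := by
  have := finite_of_le (hY.trans (le_S F hψ))
  refine Subgroup.eq_of_le_of_card_ge ?_ (card_img (F.injective_of_mem hψ) hY).ge
  rw [img_sup ψ (le_sup_left.trans hY) (le_sup_right.trans hY), hX]
  refine sup_le le_sup_left ?_
  intro y hy
  obtain ⟨c, hc, rfl⟩ := mem_img.1 hy
  refine le_sup_right (a := X) ⟨apply_mem_S F hψ c, fun z hz => ?_⟩
  obtain ⟨x, hx, rfl⟩ := mem_img.1 (hX.ge hz)
  rw [← map_mul, ← map_mul]
  exact congrArg ψ (Subtype.ext (hc.2 _ hx))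

/-- Every map is a map of `N_F(X C_S X)` followed by one fixing `X` pointwise, for `X` normal. -/
theorem exists_split (hS : IsPGroup p S) (hF : F.IsSaturated p) {X : Subgroup Ω}
    (hX : F.IsNormal X) {A B : Subgroup Ω} {e : A ≃* B} (he : IsIso F e) (hXA : X ≤ A)
    (heX : img (B.subtype.comp e.toMonoidHom) X = X) :
    ∃ (A' : Subgroup Ω) (b : A ≃* A') (c : A' ≃* B), IsIso F b ∧ IsIso F c ∧ e = b.trans c ∧
      X ≤ A' ∧
      (∃ ψ ∈ F.Hom (A ⊔ (X ⊔ centralizerIn S X)),
        (∀ x : A, ψ (Subgroup.inclusion le_sup_left x) = b x) ∧ img ψ X = X) ∧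
      ∀ x : A', (x : Ω) ∈ X → (c x : Ω) = x := by
  have hXS := hX.1
  have := finite_of_le hXS
  obtain ⟨a, ha, hae⟩ := exists_iso_of_range (res_mem F he hXA)
    ((range_comp_inclusion _ hXA).trans heX)
  have hXn : F.IsFullyNormalized X := ⟨hXS, fun R hR => by
    obtain ⟨φ, hφ, rfl⟩ := hR
    rw [weaklyClosed_of_stronglyClosed (stronglyClosed_of_isNormal hX) |>.2 φ hφ]⟩
  obtain ⟨-, hXr⟩ := fullyAutomized_receptive_of_fullyNormalized hS hF hXn
  have hA : A ≤ S := he.le_left
  set M := A ⊔ (X ⊔ centralizerIn S X) with hM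
  have hext : M ≤ extender S X (X.subtype.comp a.toMonoidHom) := by
    refine sup_le (fun g hg => ?_) (sup_le (le_extender ha) (centralizerIn_le_extender _ _))
    refine mem_extender_iso_iff.2 ⟨hA hg,
      le_normalizer_of_stronglyClosed (stronglyClosed_of_isNormal hX) (hA hg), ?_⟩
    refine mem_autInducedBy_iff.2 ⟨e ⟨g, hg⟩, he.le_right (e ⟨g, hg⟩).2, fun y => ?_⟩
    have hgn : g ∈ Subgroup.normalizer (X : Set Ω) :=
      le_normalizer_of_stronglyClosed (stronglyClosed_of_isNormal hX) (hA hg)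
    change (a (normAut g hgn (a.symm y)) : Ω) = _
    rw [hae]
    have h1 : Subgroup.inclusion hXA (normAut g hgn (a.symm y)) =
        ⟨g, hg⟩ * Subgroup.inclusion hXA (a.symm y) * (⟨g, hg⟩ : A)⁻¹ := Subtype.ext rfl
    have h2 : (y : Ω) = e (Subgroup.inclusion hXA (a.symm y)) := by
      conv_lhs => rw [← a.apply_symm_apply y]
      exact hae _
    change (e (Subgroup.inclusion hXA (normAut g hgn (a.symm y))) : Ω) = _
    rw [h1, map_mul, map_mul, map_inv, h2]
    rfl
  obtain ⟨ψ, hψ, hψe⟩ := exists_extension hXr ha (le_sup_left.trans le_sup_right) hext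
  obtain ⟨b, hb, hbe⟩ := exists_iso_of_mem (res_mem F hψ (le_sup_left : A ≤ M))
  have hXM : X ≤ M := le_sup_left.trans le_sup_right
  have hψX : img ψ X = X := by
    rw [img_congr (φ := X.subtype.comp a.toMonoidHom) hXM hψe]
    exact range_subtype_comp a
  refine ⟨_, b, b.symm.trans e, hb, hb.symm.trans he, MulEquiv.ext fun x => by simp, ?_,
    ⟨ψ, hψ, fun x => (hbe x).symm, hψX⟩, fun x hx => ?_⟩
  · intro y hy
    obtain ⟨z, hz, rfl⟩ := mem_img.1 (hψX.ge hy)
    exact ⟨⟨z, hXA hz⟩, rfl⟩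
  · obtain ⟨z, hz, hzx⟩ := mem_img.1 (hψX.ge hx)
    have h1 : b ⟨z, hXA hz⟩ = x := Subtype.ext ((hbe _).trans hzx)
    rw [← h1]
    change (e (b.symm (b ⟨z, hXA hz⟩)) : Ω) = _
    rw [b.symm_apply_apply, hbe]
    have h3 : ψ (Subgroup.inclusion hXM ⟨z, hz⟩) = a ⟨z, hz⟩ := hψe _
    exact (hae ⟨z, hz⟩).symm.trans h3.symm

/-- For `X` normal, the system is generated by the maps of `N_F(X C_S X)` and those fixing `X`
pointwise. -/
theorem le_of_split (hS : IsPGroup p S) (hF : F.IsSaturated p) {X : Subgroup Ω}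
    (hX : F.IsNormal X) (E : FusionSystem S)
    (hY : ∀ P, F.normalizerHom (X ⊔ centralizerIn S X) P ⊆ E.Hom P)
    (h1 : ∀ P, X ≤ P → ∀ φ ∈ F.Hom P, (∀ x : P, (x : Ω) ∈ X → φ x = x) → φ ∈ E.Hom P) :
    F ≤ E := by
  intro P φ hφ
  obtain ⟨ψ, hψ, hψe, hψX⟩ := hX.2 P φ hφ
  obtain ⟨e, he, hee⟩ := exists_iso_of_mem hψ
  have heX : img (ψ.range.subtype.comp e.toMonoidHom) X = X := by
    rw [show ψ.range.subtype.comp e.toMonoidHom = ψ from MonoidHom.ext hee]
    exact hψX
  obtain ⟨A', b, c, -, hc, rfl, hXA', ⟨χ, hχ, hχe, hχX⟩, hcfix⟩ :=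
    exists_split hS hF hX he le_sup_right heX
  have hcE : IsIso E c := h1 A' hXA' _ hc hcfix
  have hYn : S ≤ normalizerIn S (X ⊔ centralizerIn S X) := by
    refine le_inf le_rfl fun s hs => ?_
    rw [← conjSub_eq_iff_mem_normalizer, ← range_conjHom, ← img_self]
    refine img_sup_centralizerIn_eq (F.conj_mem (sup_le hX.1 (centralizerIn_le X)) hs) le_rfl ?_
    exact conj_img_eq (le_normalizer_of_stronglyClosed (stronglyClosed_of_isNormal hX) hs)
      le_sup_left
  have hbE : IsIso E b := hY _ (mem_normalizerHom_of_img hχ le_sup_left le_sup_right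
    (img_sup_centralizerIn_eq hχ le_sup_right hχX) hχe ((le_S F hψ).trans hYn)
    fun x => hYn (hc.le_left (b x).2))
  exact mem_of_eq rfl (res_mem E (hbE.trans hcE) (le_sup_left : P ≤ P ⊔ X))
    fun x => ((hee _).trans (hψe x)).symm

end CfsgLib.Fusion
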