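import Cfsg.Prelude.Def_FusionReduction
import Cfsg.Agent.Lib.Fusion.FunctorFreeQuot
import Cfsg.Agent.Lib.Fusion.FunctorModel

/-!
# Systems controlled by a functor: the functor value is normal
-/

set_option autoImplicit false

open Cfsg Cfsg.FusionSystem
open scoped commutatorElement

namespace CfsgLib.Fusion

universe u

section Series

variable {Ω : Type*} [Group Ω] {S : Subgroup Ω} {F : FusionSystem S} {p : ℕ} [Fact p.Prime]
  [Finite S] {Ω' : Type*} [Group Ω'] {S' : Subgroup Ω'} {θ : S →* Ω'} {E : FusionSystem S'}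

omit [Fact p.Prime] in
theorem stronglyClosed_preimageAlong {X : Subgroup Ω} (hE : F.IsFactorSystem X θ E)
    (hθ : F.IsSurjectiveMorphism E θ) {A' : Subgroup Ω'} (hA : E.StronglyClosed A') :
    F.StronglyClosed (preimageAlong θ A') := by
  refine ⟨preimageAlong_le θ A', fun R hR φ hφ x => ?_⟩
  obtain ⟨φ', hφ', hP, hφS, hθP, hφe⟩ := hθ.1.2 R φ hφ
  refine (mem_preimageAlong (θ := θ) (s := ⟨φ x, hφS x⟩)).2 ?_
  rw [← hφe x]
  refine hA.2 _ ?_ φ' hφ' _
  rintro _ ⟨s, hs, rfl⟩
  exact mem_preimageAlong.1 (hR hs)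

/-- The preimage of a normal subgroup of the quotient is normal when the system is inner on the
kernel. -/
theorem isNormal_preimageAlong (hS : IsPGroup p S) (hF : F.IsSaturated p) {X : Subgroup Ω}
    (hX : F.IsNormal X) (hI : InnerOn F X) (hE : F.IsFactorSystem X θ E)
    (hθ : F.IsSurjectiveMorphism E θ) (hS' : IsPGroup p S') [Finite S'] {U' : Subgroup Ω'}
    (hU' : E.IsNormal U') : F.IsNormal (preimageAlong θ U') := by
  set U := preimageAlong θ U' with hUdef
  have hUS : U ≤ S := preimageAlong_le θ U'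
  obtain ⟨a, ha⟩ : ∃ a, S.lowerCentralSeries a = ⊥ :=
    (Subgroup.isNilpotent_iff_lowerCentralSeries S).1 hS.isNilpotent
  obtain ⟨b, hb, hbn⟩ := exists_series_of_isNormal hS' hU'
  have hsc := stronglyClosed_of_isNormal hX
  have hXU : X ≤ U := le_preimageAlong hE U'
  have hlow : ∀ j, F.StronglyClosed (X ⊓ S.lowerCentralSeries j) := by
    intro j
    refine ⟨inf_le_left.trans hX.1, fun R hR φ hφ x => ?_⟩
    obtain ⟨s, hs, hse⟩ := hI R φ hφ
    rw [hse x (hR x.2).1]
    exact ⟨conj_mem_of_mem_normalizer (le_normalizer_of_stronglyClosed hsc hs) (hR x.2).1,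
      conj_mem_of_mem_normalizer (S.self_le_normalizer_lowerCentralSeries j hs) (hR x.2).2⟩
  let C : ℕ → Subgroup Ω := fun i =>
    if i ≤ a then X ⊓ S.lowerCentralSeries (a - i)
    else preimageAlong θ (U'.lowerCentralSeries (b - (i - a)))
  have hbot : preimageAlong θ (U'.lowerCentralSeries b) = X := by
    rw [hb]
    refine le_antisymm ?_ (le_preimageAlong hE ⊥)
    rintro _ ⟨s, hs, rfl⟩
    exact (hE.2.1 s).1 hs
  have hCle : ∀ i, C i ≤ U := by
    intro i
    simp only [C]
    split_ifs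
    · exact inf_le_left.trans hXU
    · exact Subgroup.map_mono (Subgroup.comap_mono (U'.lowerCentralSeries_le_self _))
  refine isNormal_of_series hS hF (stronglyClosed_preimageAlong hE hθ (stronglyClosed_of_isNormal hU'))
    C (a + b) ?_ ?_ (fun i _ => hCle i) (fun i _ => ?_) (fun i hi => ?_)
  · simp [C, ha]
  · simp only [C]
    rcases Nat.eq_zero_or_pos b with hb0 | hb0
    · rw [if_pos (by omega), show a - (a + b) = 0 by omega, Subgroup.lowerCentralSeries_zero,
        inf_eq_left.2 hX.1]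
      rw [hb0, Subgroup.lowerCentralSeries_zero] at hbot
      exact hbot.symm
    · rw [if_neg (by omega), show b - (a + b - a) = 0 by omega, Subgroup.lowerCentralSeries_zero]
  · simp only [C]
    split_ifs
    · exact hlow _
    · exact stronglyClosed_preimageAlong hE hθ (stronglyClosed_of_isNormal (hbn _))
  · simp only [C]
    by_cases h : i + 1 ≤ a
    · rw [if_pos h, if_pos (by omega)]
      refine le_inf ?_ ?_
      · refine le_trans (Subgroup.commutator_mono (hUS) inf_le_left) ?_
        rw [Subgroup.commutator_comm, ← Subgroup.le_normalizer_iff_commutator_le_left]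
        exact le_normalizer_of_stronglyClosed hsc
      · refine le_trans (Subgroup.commutator_mono hUS inf_le_right) ?_
        rw [Subgroup.commutator_comm, show a - i = a - (i + 1) + 1 by omega,
          Subgroup.lowerCentralSeries_succ]
    · rw [if_neg h]
      refine Subgroup.commutator_le.2 fun x hx y hy => ?_
      obtain ⟨x, hx', rfl⟩ := hx
      obtain ⟨y, hy', rfl⟩ := hy
      have h1 : θ ⁅x, y⁆ ∈ U'.lowerCentralSeries (b - (i + 1 - a) + 1) := by
        rw [Subgroup.lowerCentralSeries_succ, Subgroup.commutator_comm, map_commutatorElement]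
        exact Subgroup.commutator_mem_commutator hx' hy'
      have h2 : (⁅x, y⁆ : S).1 ∈ preimageAlong θ (U'.lowerCentralSeries (b - (i + 1 - a) + 1)) :=
        mem_preimageAlong.2 h1
      by_cases hia : i ≤ a
      · rw [if_pos hia]
        have : a - i = 0 := by omega
        rw [this, Subgroup.lowerCentralSeries_zero, inf_eq_left.2 hX.1, ← hbot]
        rw [show b - (i + 1 - a) + 1 = b by omega] at h2
        exact h2
      · rw [if_neg hia]
        rw [show b - (i + 1 - a) + 1 = b - (i - a) by omega] at h2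
        exact h2

end Series

variable (W : ∀ (Q : Type u) [Group Q], Subgroup Q) {p : ℕ} [Fact p.Prime] {H₀ : Type} [Group H₀]
  (hW1 : ∀ (Q : Type u) [Group Q] [Finite Q], IsPGroup p Q → Nontrivial Q → W Q ≠ ⊥)
  (hW2 : ∀ (Q R : Type u) [Group Q] [Group R] [Finite Q], IsPGroup p Q →
    ∀ φ : Q ≃* R, (W Q).map φ.toMonoidHom = W R)
  (hW3 : ∀ (L : Type u) [Group L] [Finite L] (P : Sylow p L),
    Subgroup.centralizer ((pCore p L : Subgroup L) : Set L) ≤ pCore p L → ¬ Involves H₀ L →
    (((W ↥(P : Subgroup L)).map (P : Subgroup L).subtype : Subgroup L)).Normal)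

include hW1 hW2 hW3 in
/-- A functor normal in constrained models avoiding a section is normal in systems avoiding it. -/
theorem hom_le_normalizerHom_wImg {Ω : Type u} [Group Ω] {S : Subgroup Ω} [Finite S]
    (F : FusionSystem S) : IsPGroup p S → F.IsSaturated p → CoreFree H₀ p F →
      ∀ P, F.Hom P ⊆ F.normalizerHom (wImg W S) P := by
  apply system_induction (C := fun Ω _ S F => IsPGroup p S → F.IsSaturated p →
    CoreFree H₀ p F → ∀ P, F.Hom P ⊆ F.normalizerHom (wImg W S) P)
  clear! Ω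
  intro Ω _ S _ F ihq ihs hS hF hfree
  have hWS : wImg W S ≤ S := wImg_le W S
  have hWn := le_normalizerIn_wImg W hW2 hS
  have hTS : normalizerIn S (wImg W S) = S := le_antisymm (normalizerIn_le _) hWn
  set Etgt := normSys F (wImg W S) hTS.symm hWS with hEtgt
  suffices h : F ≤ Etgt from fun P φ hφ => h P hφ
  by_cases hX : F.core = ⊥
  · refine le_of_ascend hS hF (wImg W) (fun T _ => wImg_le W T)
      (fun T hT => wImg_ne_bot W hW1 hS hT) (fun T hT => normalizerIn_le_wImg W hW2 hS hT) Etgt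
      (fun P φ hφ => hφ) fun U hU hUn hUIH P φ hφ => ?_
    have hnot : ¬ F.IsNormal U := fun h => hU (le_bot_iff.1 (hX ▸ le_sSup h))
    have := finite_of_le (normalizerIn_le (S := S) U)
    have h1 := ihs _ (normSys F U rfl hUn.1) (normalizerIn_le U) (normSys_isSubsystemOf hUn.1)
      (normSys_proper hUn.1 hnot) (hS.to_le (normalizerIn_le U)) (isSaturated_normSys hS hF hUn)
      (coreFree_normSys hS hF hfree hUn (hX ▸ bot_le)) P hφ
    obtain ⟨h2, h3⟩ := normalizerHom_normSys hUn.1 _ P h1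
    exact hUIH P φ h2 h3
  have hXn : F.IsNormal F.core := isNormal_core
  have hXS := hXn.1
  have hsc := stronglyClosed_of_isNormal hXn
  have hXnS := le_normalizer_of_stronglyClosed hsc
  by_cases hc : centralizerIn S F.core ≤ F.core
  · -- constrained
    have hXc : F.IsCentric F.core := ⟨hXS, fun Q hQ => by
      obtain ⟨φ, hφ, rfl⟩ := hQ
      rw [(weaklyClosed_of_stronglyClosed hsc).2 φ hφ]
      exact hc⟩
    set T := normalizerIn S F.core with hT
    obtain ⟨N, hN, L, _, ι, ⟨hLfin, ⟨hι, hreal⟩, ⟨P₀, hP₀⟩, hC⟩, hL⟩ :=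
      hfree _ hXc (isFullyNormalized_of_normal hXS hXnS) le_rfl
    have hTX : T = S := le_antisymm (normalizerIn_le _) (le_inf le_rfl hXnS)
    have := finite_of_le (normalizerIn_le (S := S) F.core)
    have hnorm := hW3 L P₀ hC hL
    rw [map_wImg_sylow W hW2 (hS.to_le hTX.le) hι hP₀] at hnorm
    intro P φ hφ
    have hP : P ≤ T := hTX ▸ le_S F hφ
    have hφT : ∀ x, φ x ∈ T := fun x => hTX.ge (apply_mem_S F hφ x)
    obtain ⟨ψ₀, hψ₀, hψ₀e, hψ₀X⟩ := hXn.2 P φ hφ
    have hφN : φ ∈ N.Hom P := (hN P).ge ⟨hφ, hP, hφT, ψ₀, hψ₀, hψ₀e, hψ₀X⟩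
    obtain ⟨g, hg⟩ := (hreal P hP φ hφT).1 hφN
    set WT := wImg W T with hWTdef
    have hWT : WT ≤ T := wImg_le W T
    have hM : P ⊔ WT ≤ T := sup_le hP hWT
    let C : Subgroup T := (ι.range.comap (MulAut.conj g).toMonoidHom).comap ι
    have hCle : P ⊔ WT ≤ C.map T.subtype := by
      refine sup_le (fun y hy => ⟨⟨y, hP hy⟩, ⟨_, hg ⟨y, hy⟩⟩, rfl⟩) fun y hy =>
        ⟨⟨y, hWT hy⟩, ?_, rfl⟩
      obtain ⟨z, -, hze⟩ := hnorm.conj_mem _
        (Subgroup.mem_map_of_mem ι (show (⟨y, hWT hy⟩ : T) ∈ WT.subgroupOf T from hy)) g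
      exact ⟨z, hze⟩
    obtain ⟨ψ, hψ, hψT, hψe⟩ := exists_map_of_conj (ι := ι) ⟨hι, hreal⟩ hM (g := g) fun x => by
      obtain ⟨c, hc, hce⟩ := hCle x.2
      rw [show (⟨(x : Ω), hM x.2⟩ : T) = c from Subtype.ext hce.symm]
      exact hc
    rw [hN] at hψ
    have hWeq : WT = wImg W S := by rw [hWTdef, hTX]
    have hfinW := finite_of_le (hWT.trans (normalizerIn_le _))
    refine mem_normalizerHom_of_img hψ.1 le_sup_left (hWeq ▸ (le_sup_right : WT ≤ P ⊔ WT)) ?_
      (fun x => congrArg Subtype.val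
        (hι ((hψe (Subgroup.inclusion le_sup_left x)).trans (hg x).symm) :
          (⟨ψ (Subgroup.inclusion le_sup_left x), hψT _⟩ : T) = ⟨φ x, hφT x⟩))
      (hTS.symm ▸ le_S F hφ) fun x => hTS.ge (apply_mem_S F hφ x)
    rw [← hWeq]
    refine Subgroup.eq_of_le_of_card_ge ?_
      (card_img (F.injective_of_mem hψ.1) le_sup_right).ge
    intro y hy
    obtain ⟨x, hx, rfl⟩ := mem_img.1 hy
    obtain ⟨z, hz, hze⟩ := hnorm.conj_mem _
      (Subgroup.mem_map_of_mem ι (show (⟨x, hWT hx⟩ : T) ∈ WT.subgroupOf T from hx)) g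
    have h1 : (⟨ψ x, hψT x⟩ : T) = z := hι ((hψe x).trans hze.symm)
    have h2 : ψ x = z := congrArg Subtype.val h1
    rw [h2]
    exact hz
  by_cases hinner : ∀ P, F.Hom P ⊆ (innerOnSys F F.core hXS hXnS).Hom P
  · exfalso
    have hI := innerOn_of_innerOnSys hinner
    obtain ⟨Ω', _, S', _, θ, E, hS', hlt, hEsat, hE, hθ⟩ := exists_quotient hS hF hXn hX
    have hS'ne : S' ≠ ⊥ := by
      intro h
      refine hc ((centralizerIn_le _).trans fun s hs => ?_)
      exact (hE.2.1 ⟨s, hs⟩).1 (Subgroup.mem_bot.1 (h ▸ hE.2.2.1.le ⟨_, rfl⟩))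
    have hEfree := coreFree_factor hS hF hfree hXn le_rfl hI hE hθ
    have hle := ihq Ω' S' E hlt hS' hEsat hEfree
    have hU' : E.IsNormal (wImg W S') :=
      ⟨wImg_le W S', fun P φ hφ => (hle P hφ).2.2.2⟩
    exact (lt_preimageAlong hE (wImg_le W S') (wImg_ne_bot W hW1 hS' le_rfl hS'ne)).not_ge
      (le_sSup (isNormal_preimageAlong hS hF hXn hI hE hθ hS' hU'))
  have hYS : F.core ⊔ centralizerIn S F.core ≤ S := sup_le hXS (centralizerIn_le _)
  have hYn := le_normalizer_sup_centralizerIn (S := S) hXS hXnS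
  have hYfn : F.IsFullyNormalized _ := isFullyNormalized_of_normal hYS hYn
  have hTY : normalizerIn S (F.core ⊔ centralizerIn S F.core) = S :=
    le_antisymm (normalizerIn_le _) (le_inf le_rfl hYn)
  have := finite_of_le (normalizerIn_le (S := S) (F.core ⊔ centralizerIn S F.core))
  refine le_of_split hS hF hXn _ (fun P φ hφ => ?_) (fun P hXP φ hφ hfix => ?_)
  · have h1 := ihs _ (normSys F _ rfl hYS) (normalizerIn_le _) (normSys_isSubsystemOf hYS)
      (normSys_proper hYS (not_isNormal_sup_centralizerIn hc)) (hS.to_le (normalizerIn_le _))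
      (isSaturated_normSys hS hF hYfn) (coreFree_normSys hS hF hfree hYfn le_sup_left) P hφ
    obtain ⟨-, h3⟩ := normalizerHom_normSys hYS _ P h1
    rw [hTY] at h3
    exact h3
  · exact normalizerHom_mono le_rfl
      (show (innerOnSys F F.core hXS hXnS).IsSubsystemOf F from fun _ _ h => h.1) _ P
      (ihs S (innerOnSys F F.core hXS hXnS) le_rfl
        (show (innerOnSys F F.core hXS hXnS).IsSubsystemOf F from fun _ _ h => h.1) hinner hS (isSaturated_innerOnSys hS hF hXn)
        (coreFree_innerOnSys hS hF hfree hXn le_rfl) P (mem_innerOnSys_of_fixed hXP hφ hfix))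

/-- A section-free system is `CoreFree`. -/
theorem coreFree_of_isSectionFree {Ω : Type u} [Group Ω] {S : Subgroup Ω} [Finite S]
    (hS : IsPGroup p S) {F : FusionSystem S} (hF : F.IsSaturated p)
    (h : F.IsSectionFree p H₀) : CoreFree H₀ p F := by
  intro Q hQc hQn _
  have hQS := hQn.1
  have := finite_of_le (normalizerIn_le (S := S) Q)
  set N := normSys F Q rfl hQS with hNdef
  have hN : F.IsNormalizerSystem Q N := fun _ => rfl
  obtain ⟨L, hL, ι, hM⟩ := exists_model_of_normal_centric (F := N)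
    (hS.to_le (normalizerIn_le Q)) (isSaturated_normSys hS hF hQn)
    (isNormal_normalizerSystem hQS hN) (isCentric_normalizerSystem hQc hN)
  exact ⟨N, hN, L, hL, ι, hM, h Q hQn hQc N hN L ι hM⟩

end CfsgLib.Fusion
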