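import Cfsg.Agent.Lib.Fusion.FunctorModel

/-!
# Consequences: transfer, centres, quadratic elements
-/

set_option autoImplicit false

open Cfsg Cfsg.FusionSystem

namespace CfsgLib.Fusion

universe u

section Center

variable {Ω : Type*} [Group Ω] {S : Subgroup Ω} {F : FusionSystem S} [Finite S]

/-- Elements of the centre are central in `S` and fixed. -/
theorem fixes_of_mem_center {w : Ω} (hw : w ∈ F.center) :
    w ∈ centralizerIn S S ∧ Fixes F w := by
  obtain ⟨hCS, hC⟩ := isCentral_center (F := F)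
  have hfix : Fixes F w := by
    intro P φ hφ x hx
    obtain ⟨ψ, -, hψe, hψC⟩ := hC P φ hφ
    rw [← hψe]
    exact (congrArg ψ (Subtype.ext hx)).trans (hψC ⟨w, hw⟩)
  refine ⟨⟨hCS hw, fun s hs => ?_⟩, hfix⟩
  have h1 : s * w * s⁻¹ = w := hfix S _ (F.conj_mem le_rfl hs) ⟨w, hCS hw⟩ rfl
  exact (mul_inv_eq_iff_eq_mul.1 h1)

/-- Fixed central elements of `S` are in the centre. -/
theorem mem_center_of_fixes {p : ℕ} [Fact p.Prime] (hS : IsPGroup p S) (hF : F.IsSaturated p)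
    {w : Ω} (hw : w ∈ centralizerIn S S) (hfix : Fixes F w) : w ∈ F.center := by
  have hwS : Subgroup.zpowers w ≤ S := Subgroup.zpowers_le.2 hw.1
  have hT : S = centralizerIn S (Subgroup.zpowers w) :=
    le_antisymm (le_inf le_rfl fun s hs y hy => by
      obtain ⟨n, rfl⟩ := Subgroup.mem_zpowers_iff.1 hy
      exact (Commute.zpow_left (hw.2 s hs).symm n).eq) inf_le_left
  have h := le_centSys_of_fixes hS hF hw hT hwS hfix
  refine (le_sSup (a := Subgroup.zpowers w) ⟨hwS, fun P φ hφ => ?_⟩ :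
    Subgroup.zpowers w ≤ F.center) (Subgroup.mem_zpowers w)
  obtain ⟨-, -, -, ψ, hψ, hψe, hψw⟩ := h P hφ
  exact ⟨ψ, hψ, hψe, hψw⟩

/-- The centre of `F` is central in the normalizer system of a normal subgroup of `S`. -/
theorem center_le_center_normalizer {U : Subgroup Ω} (hU : U ≤ S) (hn : S ≤ normalizerIn S U)
    (N : FusionSystem (normalizerIn S U)) (hN : F.IsNormalizerSystem U N) :
    F.center ≤ N.center := by
  obtain ⟨hCS, hC⟩ := isCentral_center (F := F)
  refine le_sSup (show N.IsCentral F.center from ⟨hCS.trans hn, fun P φ hφ => ?_⟩)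
  rw [hN P] at hφ
  obtain ⟨hφF, hP, hφN, ψ₀, hψ₀, hψ₀e, hψ₀U⟩ := hφ
  obtain ⟨ψ₁, hψ₁, hψ₁e, hψ₁C⟩ := hC _ ψ₀ hψ₀
  have hM : P ⊔ F.center ≤ (P ⊔ U) ⊔ F.center := sup_le_sup_right le_sup_left _
  refine ⟨ψ₁.comp (Subgroup.inclusion hM), ?_, fun x => ?_, fun x => hψ₁C x⟩
  · rw [hN]
    refine mem_normalizerHom_of_img hψ₁ hM (le_sup_right.trans le_sup_left) ?_ (fun _ => rfl)
      (sup_le hP (hCS.trans hn)) fun x => hn (apply_mem_S F hψ₁ _)
    conv_rhs => rw [← hψ₀U]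
    ext y
    rw [mem_img]
    constructor
    · rintro ⟨x, hx, rfl⟩
      exact ⟨⟨x, le_sup_right (a := P) hx⟩, hx, (hψ₁e _).symm⟩
    · rintro ⟨x, hx, rfl⟩
      exact ⟨Subgroup.inclusion le_sup_left x, hx, hψ₁e x⟩
  · refine Eq.trans ?_ (hψ₀e x)
    exact hψ₁e (Subgroup.inclusion le_sup_left x)

end Center

variable (W : ∀ (Q : Type u) [Group Q], Subgroup Q) {p : ℕ} [Fact p.Prime]
  (hW2 : ∀ (Q R : Type u) [Group Q] [Group R] [Finite Q], IsPGroup p Q →
    ∀ φ : Q ≃* R, (W Q).map φ.toMonoidHom = W R)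

include hW2 in
/-- The constrained case for elements, from a condition on constrained groups. -/
theorem fixes_of_core_centric (k : ℕ)
    (hgrp : ∀ (G : Type u) [Group G] [Finite G] (P : Sylow p G),
      Subgroup.centralizer ((pCore p G : Subgroup G) : Set G) ≤ pCore p G →
      ∀ z ∈ (P : Subgroup G), (∀ y ∈ (P : Subgroup G), y * z = z * y) →
      (∀ g ∈ Subgroup.normalizer (((W ↥(P : Subgroup G)).map (P : Subgroup G).subtype :
        Subgroup G) : Set G), g * z ^ k = z ^ k * g) → ∀ g : G, g * z ^ k = z ^ k * g)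
    {Ω : Type u} [Group Ω] {S : Subgroup Ω} [Finite S] {F : FusionSystem S} (hS : IsPGroup p S)
    (hF : F.IsSaturated p) (hc : centralizerIn S F.core ≤ F.core) {z : Ω}
    (hz : z ∈ centralizerIn S S)
    (hN : ∀ P, ∀ φ ∈ F.normalizerHom (wImg W S) P, ∀ x : P, (x : Ω) = z ^ k → φ x = z ^ k) :
    Fixes F (z ^ k) := by
  obtain ⟨G, _, ι, hG, hr, ⟨T, hT⟩, hC⟩ := exists_model_of_core hS hF hc
  set a : S := ⟨z, hz.1⟩
  have hza : ∀ y ∈ (T : Subgroup G), y * ι a = ι a * y := by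
    rw [hT]
    rintro _ ⟨s, rfl⟩
    rw [← map_mul, ← map_mul]
    exact congrArg ι (Subtype.ext (hz.2 s s.2))
  have haO : ι a ∈ pCore p G :=
    hC fun y hy => hza y (Cores.pCore_le_sylow T hy)
  have hcomm := hgrp G T hC (ι a) (hT ▸ ⟨a, rfl⟩) hza ?_
  · intro P φ hφ x hx
    obtain ⟨g, hg⟩ := (hr.2 P (le_S F hφ) φ (apply_mem_S F hφ)).1 hφ
    have h1 : (⟨x, le_S F hφ x.2⟩ : S) = a ^ k := Subtype.ext (by rw [hx]; rfl)
    have h2 := hg x
    rw [h1, map_pow, hcomm g, mul_inv_cancel_right, ← map_pow] at h2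
    exact congrArg Subtype.val (hr.1 h2)
  · intro g hg
    rw [map_wImg_sylow W hW2 hS hr.1 hT] at hg
    have hmem : g * ι (a ^ k) * g⁻¹ ∈ ι.range := by
      rw [map_pow]
      exact hT ▸ Cores.pCore_le_sylow T
        ((inferInstance : (pCore p G : Subgroup G).Normal).conj_mem _
          ((pCore p G).pow_mem haO k) g)
    obtain ⟨φ, hφ, hφS, hφe⟩ := exists_normalizerHom_of_conj W hW2 hS hr hg hmem
    have h1 : (⟨φ ⟨((a ^ k : S) : Ω), Subgroup.mem_zpowers _⟩, hφS⟩ : S) = a ^ k :=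
      Subtype.ext (hN _ φ hφ _ rfl)
    rw [h1, map_pow] at hφe
    exact mul_inv_eq_iff_eq_mul.1 hφe.symm

/-- A quadratic element gives central `p`-th powers. -/
theorem commute_pow_of_quadratic
    (hq : ∀ (G : Type u) [Group G] [Finite G] (P : Sylow p G),
      ¬ (((W ↥(P : Subgroup G)).map (P : Subgroup G).subtype : Subgroup G)).Normal →
      ∃ g : G, g ∈ (P : Subgroup G) ∧ g ∉ Cfsg.pCore p G ∧
        ⁅⁅Subgroup.center ↥(Cfsg.pCore p G) |>.map (Cfsg.pCore p G).subtype,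
          Subgroup.zpowers g⁆, Subgroup.zpowers g⁆ = ⊥)
    (hW2 : ∀ (Q R : Type u) [Group Q] [Group R] [Finite Q], IsPGroup p Q →
      ∀ φ : Q ≃* R, (W Q).map φ.toMonoidHom = W R) :
    ∀ (G : Type u) [Group G] [Finite G] (P : Sylow p G),
      Subgroup.centralizer ((pCore p G : Subgroup G) : Set G) ≤ pCore p G →
      ∀ z ∈ (P : Subgroup G), (∀ y ∈ (P : Subgroup G), y * z = z * y) →
      (∀ g ∈ Subgroup.normalizer (((W ↥(P : Subgroup G)).map (P : Subgroup G).subtype :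
        Subgroup G) : Set G), g * z ^ p = z ^ p * g) → ∀ g : G, g * z ^ p = z ^ p * g := by
  suffices h : ∀ (n : ℕ) (G : Type u) [Group G] [Finite G] (P : Sylow p G), Nat.card G = n →
      Subgroup.centralizer ((pCore p G : Subgroup G) : Set G) ≤ pCore p G →
      ∀ z ∈ (P : Subgroup G), (∀ y ∈ (P : Subgroup G), y * z = z * y) →
      (∀ g ∈ Subgroup.normalizer (((W ↥(P : Subgroup G)).map (P : Subgroup G).subtype :
        Subgroup G) : Set G), g * z ^ p = z ^ p * g) → ∀ g : G, g * z ^ p = z ^ p * g from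
    fun G _ _ P => h _ G P rfl
  intro n
  induction n using Nat.strong_induction_on with
  | _ n ih =>
  intro G _ _ P hn hC z hzP hzc hzN
  by_cases hnorm : (((W ↥(P : Subgroup G)).map (P : Subgroup G).subtype : Subgroup G)).Normal
  · exact fun g => hzN g (by rw [Subgroup.normalizer_eq_top]; trivial)
  obtain ⟨g₀, hg₀P, hg₀O, hg₀q⟩ := hq G P hnorm
  set O : Subgroup G := pCore p G with hO
  have hOn : O.Normal := inferInstance
  set V : Subgroup G := (Subgroup.center O).map O.subtype with hV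
  have hOP : O ≤ (P : Subgroup G) := Cores.pCore_le_sylow P
  have hVc : ∀ v ∈ V, ∀ o ∈ O, o * v = v * o := by
    rintro _ ⟨v, hv, rfl⟩ o ho
    exact congrArg Subtype.val (Subgroup.mem_center_iff.1 hv ⟨o, ho⟩)
  have hVn : ∀ v ∈ V, ∀ g : G, g * v * g⁻¹ ∈ V := by
    rintro _ ⟨v, hv, rfl⟩ g
    refine ⟨⟨g * v * g⁻¹, hOn.conj_mem _ v.2 g⟩, Subgroup.mem_center_iff.2 fun o => ?_, rfl⟩
    refine Subtype.ext ?_
    have h1 : g⁻¹ * o * g ∈ O := by simpa using hOn.conj_mem _ o.2 g⁻¹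
    have h2 := hVc _ ⟨v, hv, rfl⟩ _ h1
    change (o : G) * (g * v * g⁻¹) = g * v * g⁻¹ * o
    calc (o : G) * (g * v * g⁻¹) = g * ((g⁻¹ * o * g) * v) * g⁻¹ := by group
      _ = g * ((v : G) * (g⁻¹ * o * g)) * g⁻¹ := by rw [show (g⁻¹ * o * g) * (v : G) = _ from h2]; rfl
      _ = _ := by group
  -- a quadratic element with its `p`-th power in the core
  have hex : ∃ j : ℕ, g₀ ^ p ^ j ∈ O := by
    obtain ⟨j, hj⟩ := P.2 ⟨g₀, hg₀P⟩
    exact ⟨j, by rw [show g₀ ^ p ^ j = 1 from congrArg Subtype.val hj]; exact one_mem _⟩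
  obtain ⟨g₁, hg₁P, hg₁O, hg₁p, hg₁z⟩ : ∃ g₁ ∈ (P : Subgroup G),
      g₁ ∉ O ∧ g₁ ^ p ∈ O ∧ g₁ ∈ Subgroup.zpowers g₀ := by
    classical
    have h1 : Nat.find hex ≠ 0 := fun h => hg₀O (by
      have := Nat.find_spec hex
      rwa [h, pow_zero, pow_one] at this)
    obtain ⟨j, hj⟩ := Nat.exists_eq_succ_of_ne_zero h1
    refine ⟨g₀ ^ p ^ j, (P : Subgroup G).pow_mem hg₀P _, Nat.find_min hex (by omega), ?_,
      Subgroup.pow_mem _ (Subgroup.mem_zpowers g₀) _⟩
    rw [← pow_mul, ← pow_succ]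
    convert Nat.find_spec hex using 3
    exact hj.symm
  have hfixp : ∀ v ∈ V, g₁ * v ^ p = v ^ p * g₁ := by
    intro v hv
    set d := v⁻¹ * (g₁ * v * g₁⁻¹) with hd
    have hdV : d ∈ V := V.mul_mem (V.inv_mem hv) (hVn v hv g₁)
    have hdc : g₁ * d * g₁⁻¹ = d := by
      have h1 : d ∈ ⁅V, Subgroup.zpowers g₀⁆ := by
        have := Subgroup.commutator_mem_commutator (V.inv_mem hv) hg₁z
        simpa [hd, commutatorElement_def, mul_assoc] using this
      have h2 : d * g₁ * d⁻¹ * g₁⁻¹ = 1 := by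
        have := Subgroup.commutator_mem_commutator h1 hg₁z
        rw [hg₀q, Subgroup.mem_bot] at this
        simpa [commutatorElement_def] using this
      rw [mul_inv_eq_one, mul_inv_eq_iff_eq_mul] at h2
      rw [← h2, mul_inv_cancel_right]
    have hiter : ∀ i : ℕ, g₁ ^ i * v * (g₁ ^ i)⁻¹ = v * d ^ i := by
      intro i
      induction i with
      | zero => simp
      | succ i ih =>
        calc g₁ ^ (i + 1) * v * (g₁ ^ (i + 1))⁻¹ = g₁ * (g₁ ^ i * v * (g₁ ^ i)⁻¹) * g₁⁻¹ := by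
              rw [pow_succ' g₁ i]; group
          _ = g₁ * v * g₁⁻¹ * (g₁ * d * g₁⁻¹) ^ i := by rw [ih, conj_pow]; group
          _ = v * d * d ^ i := by rw [hdc, show g₁ * v * g₁⁻¹ = v * d by rw [hd, mul_inv_cancel_left]]
          _ = v * d ^ (i + 1) := by rw [pow_succ', mul_assoc]
    have hdp : d ^ p = 1 := by
      have h1 := hiter p
      rw [hVc v hv _ hg₁p, mul_inv_cancel_right, left_eq_mul] at h1
      exact h1
    have hvd : Commute v d := (hVc d hdV v (Subgroup.map_subtype_le _ hv))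
    have h3 : g₁ * v ^ p * g₁⁻¹ = v ^ p := by
      rw [← conj_pow, show g₁ * v * g₁⁻¹ = v * d by rw [hd, mul_inv_cancel_left], hvd.mul_pow, hdp,
        mul_one]
    exact mul_inv_eq_iff_eq_mul.1 h3
  let K : Subgroup G := Subgroup.centralizer ((fun v => v ^ p) '' (V : Set G))
  have hKn : K.Normal := by
    refine ⟨fun k hk g => ?_⟩
    rintro _ ⟨v, hv, rfl⟩
    have h1 := hk _ ⟨g⁻¹ * v * g⁻¹⁻¹, hVn v hv g⁻¹, rfl⟩
    simp only [inv_inv] at h1
    rw [show (g⁻¹ * v * g) ^ p = g⁻¹ * v ^ p * g by simpa using conj_pow (a := g⁻¹) (b := v) (i := p)] at h1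
    calc v ^ p * (g * k * g⁻¹) = g * ((g⁻¹ * v ^ p * g) * k) * g⁻¹ := by group
      _ = g * (k * (g⁻¹ * v ^ p * g)) * g⁻¹ := by rw [h1]
      _ = _ := by group
  have hg₁K : g₁ ∈ K := by
    rintro _ ⟨v, hv, rfl⟩
    exact (hfixp v hv).symm
  have hzV : z ∈ V := by
    have hzO : z ∈ O := hC fun y hy => hzc y (hOP hy)
    exact ⟨⟨z, hzO⟩, Subgroup.mem_center_iff.2 fun o => Subtype.ext (hzc o (hOP o.2)), rfl⟩
  have hzK : ∀ k ∈ K, k * z ^ p = z ^ p * k := fun k hk => (hk _ ⟨z, hzV, rfl⟩).symm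
  -- Frattini argument
  have hi : ¬ p ∣ ((P : Subgroup G) ⊓ K).relIndex K := not_dvd_relIndex_inf P.2 le_top
    (by rw [Subgroup.relIndex_top_right]; exact P.not_dvd_index) le_top
    (fun x _ => by rw [Subgroup.normalizer_eq_top]; trivial)
  obtain ⟨R, hR⟩ := (exists_sylow_iff (N := K) (P.2.to_le inf_le_left :
    IsPGroup p ↥((P : Subgroup G) ⊓ K))).2 hi
  have hsup := Sylow.normalizer_sup_eq_top R
  rw [hR, Subgroup.subgroupOf, Subgroup.map_comap_eq, Subgroup.range_subtype,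
    inf_eq_right.2 (inf_le_right : (P : Subgroup G) ⊓ K ≤ K)] at hsup
  set H : Subgroup G := Subgroup.normalizer (((P : Subgroup G) ⊓ K : Subgroup G) : Set G) with hH
  have hHne : H ≠ ⊤ := by
    intro h
    have hn' : ((P : Subgroup G) ⊓ K).Normal := Subgroup.normalizer_eq_top_iff.1 h
    exact hg₁O ((Cores.le_pCore (hn := hn') (P.2.to_le inf_le_left)) ⟨hg₁P, hg₁K⟩)
  have hPH : (P : Subgroup G) ≤ H := fun x hx => mem_normalizer_of_forall fun y hy =>
    ⟨(P : Subgroup G).mul_mem ((P : Subgroup G).mul_mem hx hy.1) ((P : Subgroup G).inv_mem hx),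
      hKn.conj_mem _ hy.2 x⟩
  have hcard : Nat.card H < n := by
    subst hn
    exact lt_of_le_of_ne (Subgroup.card_le_card_group H) fun h => hHne (Subgroup.eq_top_of_card_eq H h)
  have hOH : O ≤ H := hOP.trans hPH
  have hCH : Subgroup.centralizer ((pCore p H : Subgroup H) : Set H) ≤ pCore p H := by
    intro x hx
    have hOH' : O.subgroupOf H ≤ pCore p H :=
      Cores.le_pCore (hn := hOn.subgroupOf H)
        (IsPGroup.comap_subtype ((P.2).to_le hOP))
    refine hOH' (Subgroup.mem_subgroupOf.2 (hC fun o ho => ?_))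
    exact congrArg Subtype.val (hx ⟨o, hOH ho⟩ (hOH' (Subgroup.mem_subgroupOf.2 ho)))
  have hres := ih _ hcard H (P.subtype hPH) rfl hCH ⟨z, hPH hzP⟩ hzP
    (fun y hy => Subtype.ext (hzc y hy)) ?_
  · intro g
    have hg : g ∈ H ⊔ K := hsup.ge (Subgroup.mem_top g)
    rw [← SetLike.mem_coe, Subgroup.coe_mul_of_left_le_normalizer_right H K
      (fun x _ => by rw [Subgroup.normalizer_eq_top]; trivial)] at hg
    obtain ⟨a, ha, b, hb, rfl⟩ := hg
    have h1 : a * z ^ p = z ^ p * a := congrArg Subtype.val (hres ⟨a, ha⟩)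
    rw [mul_assoc, hzK b hb, ← mul_assoc, h1, mul_assoc]
  · intro g hg
    refine Subtype.ext (hzN g ?_)
    let e : ↥((P.subtype hPH : Subgroup H)) ≃* ↥(P : Subgroup G) :=
      Subgroup.subgroupOfEquivOfLe hPH
    have hmap := hW2 _ _ (P.subtype hPH).2 e
    have heq : ((W ↥(P : Subgroup G)).map (P : Subgroup G).subtype) =
        ((W ↥(P.subtype hPH : Subgroup H)).map (P.subtype hPH : Subgroup H).subtype).map
          H.subtype := by
      rw [← hmap, Subgroup.map_map, Subgroup.map_map]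
      rfl
    rw [heq]
    refine mem_normalizer_of_forall (P := _) fun y hy => ?_
    obtain ⟨y', hy', rfl⟩ := hy
    exact ⟨g * y' * g⁻¹, conj_mem_of_mem_normalizer hg hy', rfl⟩

end CfsgLib.Fusion
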