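import Cfsg.Prelude.Def_FusionReduction
import Cfsg.Agent.Lib.Fusion.Inner
import Cfsg.Agent.Lib.Fusion.FunctorCore
import Cfsg.Agent.S5197

/-!
# Focal subgroups when the automorphisms of `S` form a `p`-group
-/

set_option autoImplicit false

open Cfsg Cfsg.FusionSystem
open scoped commutatorElement

namespace CfsgLib.Fusion

universe u

/-- The automorphisms of `S` in a factor system lift. -/
theorem isPGroup_autGroup_factor {Ω : Type*} [Group Ω] {S : Subgroup Ω} {F : FusionSystem S}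
    {p : ℕ} [Fact p.Prime] [Finite S] {X : Subgroup Ω} {Ω' : Type*} [Group Ω'] {S' : Subgroup Ω'}
    {θ : S →* Ω'} {E : FusionSystem S'} (hE : F.IsFactorSystem X θ E)
    (h : IsPGroup p (F.autGroup S)) : IsPGroup p (E.autGroup S') := by
  rintro ⟨α', hα'⟩
  obtain ⟨-, φ, hφ, hP, hφS, hθP, hφe⟩ :=
    (hE.2.2.2 S' _).1 ((mem_autGroup_iff E le_rfl).1 hα')
  have hpre : preimageAlong θ S' = S :=
    le_antisymm (preimageAlong_le θ S') fun s hs => ⟨⟨s, hs⟩, hE.2.2.1.le ⟨⟨s, hs⟩, rfl⟩, rfl⟩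
  -- the lift as an endomorphism of `S`
  let β₀ : S →* S := (φ.comp (Subgroup.inclusion hpre.ge)).codRestrict S fun x => hφS _
  have hβ₀ : Function.Bijective β₀ := by
    refine Finite.injective_iff_bijective.1 fun a b hab => ?_
    exact Subgroup.inclusion_injective hpre.ge (F.injective_of_mem hφ (congrArg Subtype.val hab))
  let β : MulAut S := MulEquiv.ofBijective β₀ hβ₀
  have hβF : β ∈ F.autGroup S := mem_autGroup_of_mem F (φ := φ.comp (Subgroup.inclusion hpre.ge))
    (res_mem F hφ hpre.ge) fun _ => rfl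
  have hβe : ∀ s : S, θ (β s) = α' ⟨θ s, hE.2.2.1.le ⟨s, rfl⟩⟩ := fun s => by
    refine Eq.trans ?_ (hφe (Subgroup.inclusion hpre.ge s)).symm
    exact congrArg θ (Subtype.ext rfl)
  have hpow : ∀ (j : ℕ) (s : S), θ ((β ^ j) s) = (α' ^ j) ⟨θ s, hE.2.2.1.le ⟨s, rfl⟩⟩ := by
    intro j
    induction j with
    | zero => intro s; simp
    | succ j ih =>
      intro s
      rw [pow_succ', pow_succ', MulAut.mul_apply, MulAut.mul_apply, hβe]
      exact congrArg Subtype.val (congrArg α' (Subtype.ext (ih s)))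
  obtain ⟨k, hk⟩ := h ⟨β, hβF⟩
  refine ⟨k, Subtype.ext (MulEquiv.ext fun y => Subtype.ext ?_)⟩
  obtain ⟨s, hs⟩ := hE.2.2.1.ge y.2
  have h1 := hpow (p ^ k) s
  rw [show β ^ p ^ k = 1 from congrArg Subtype.val hk, MulAut.one_apply] at h1
  change (((α' ^ p ^ k) y : S') : Ω') = y
  rw [show y = ⟨θ s, hE.2.2.1.le ⟨s, rfl⟩⟩ from Subtype.ext hs.symm]
  exact h1.symm

variable (W : ∀ (Q : Type u) [Group Q], Subgroup Q) {p : ℕ} [Fact p.Prime]
  (hW1 : ∀ (Q : Type u) [Group Q] [Finite Q], IsPGroup p Q → Nontrivial Q → W Q ≠ ⊥)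
  (hW2 : ∀ (Q R : Type u) [Group Q] [Group R] [Finite Q], IsPGroup p Q →
    ∀ φ : Q ≃* R, (W Q).map φ.toMonoidHom = W R)
  (hT : ∀ (G : Type u) [Group G] [Finite G] (P : Sylow p G),
    Subgroup.centralizer ((Cfsg.pCore p G : Subgroup G) : Set G) ≤ Cfsg.pCore p G →
    Cfsg.pCore p G ⊓ commutator G = Cfsg.pCore p G ⊓ (commutator ↥(Subgroup.normalizer
      (((W ↥(P : Subgroup G)).map (P : Subgroup G).subtype : Subgroup G) : Set G))).map
      (Subgroup.normalizer
        (((W ↥(P : Subgroup G)).map (P : Subgroup G).subtype : Subgroup G) : Set G)).subtype)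

include hW1 hW2 hT in
/-- A functor controlling transfer gives a proper focal subgroup when `Aut_F(S)` is a `p`-group. -/
theorem focalSubgroup_lt_of_functor {Ω : Type u} [Group Ω] {S : Subgroup Ω} [Finite S]
    (F : FusionSystem S) : IsPGroup p S → F.IsSaturated p → S ≠ ⊥ →
      IsPGroup p (F.autGroup S) → F.focalSubgroup < S := by
  apply system_induction (C := fun Ω _ S F => IsPGroup p S → F.IsSaturated p → S ≠ ⊥ →
    IsPGroup p (F.autGroup S) → F.focalSubgroup < S)
  clear! Ω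
  intro Ω _ S _ F ihq ihs hS hF hS1 haut
  by_cases hX : F.core = ⊥
  · have hWS : wImg W S ≤ S := wImg_le W S
    have hWn := le_normalizerIn_wImg W hW2 hS
    have hTS : normalizerIn S (wImg W S) = S := le_antisymm (normalizerIn_le _) hWn
    have hWfn : F.IsFullyNormalized (wImg W S) :=
      isFullyNormalized_of_normal hWS fun s hs => (hWn hs).2
    have := finite_of_le (normalizerIn_le (S := S) (wImg W S))
    set N := normSys F (wImg W S) rfl hWS with hN
    have hfoc : N.focalSubgroup = F.focalSubgroup :=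
      Cfsg.Agent.S5197.result W hW1 hW2 hT hS F hF N fun _ => rfl
    have hnot : ¬ F.IsNormal (wImg W S) := fun h =>
      wImg_ne_bot W hW1 hS le_rfl hS1 (le_bot_iff.1 (hX ▸ le_sSup h))
    have haut' : IsPGroup p (N.autGroup (normalizerIn S (wImg W S))) := by
      have h1 : IsPGroup p (F.autGroup (normalizerIn S (wImg W S))) := hTS.symm ▸ haut
      refine h1.to_le ((Subgroup.closure_le _).2 fun α hα => ?_)
      exact Subgroup.subset_closure (show (normalizerIn S (wImg W S)).subtype.comp α.toMonoidHom ∈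
        F.Hom (normalizerIn S (wImg W S)) from normSys_isSubsystemOf (F := F) hWS _ hα)
    have h := ihs _ N (normalizerIn_le _) (normSys_isSubsystemOf hWS) (normSys_proper hWS hnot)
      (hS.to_le (normalizerIn_le _)) (isSaturated_normSys hS hF hWfn) (by rw [hTS]; exact hS1) haut'
    rw [hfoc] at h
    exact h.trans_le hTS.le
  have hXn : F.IsNormal F.core := isNormal_core
  by_cases hXS : F.core = S
  · -- `S` is normal
    have hinn := autGroup_self_eq_inn hS hF haut
    have hle : F.focalSubgroup ≤ (commutator S).map S.subtype := by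
      refine (Subgroup.closure_le _).2 ?_
      rintro _ ⟨P, φ, x, hφ, rfl⟩
      obtain ⟨ψ, hψ, hψe, hψS⟩ := (hXS ▸ hXn).2 P φ hφ
      have hsup : P ⊔ S = S := sup_eq_right.2 (le_S F hφ)
      let ψ₁ : S →* Ω := ψ.comp (Subgroup.inclusion hsup.ge)
      have hψ₁ : ψ₁ ∈ F.Hom S := res_mem F hψ hsup.ge
      obtain ⟨e, he, hee⟩ := exists_iso_of_range hψ₁ (eq_S_of_isConj_S ⟨ψ₁, hψ₁, rfl⟩)
      have he' : e ∈ Cfsg.Inn S := hinn.le ((mem_autGroup_iff F le_rfl).2 he)
      obtain ⟨g, hg⟩ := he'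
      set xS : S := ⟨x, le_S F hφ x.2⟩
      refine ⟨⁅xS⁻¹, g⁆, Subgroup.commutator_mem_commutator (Subgroup.mem_top _) (Subgroup.mem_top _),
        ?_⟩
      have h1 : φ x = (e xS : Ω) := by rw [hee, ← hψe]; rfl
      rw [h1, ← hg]
      simp [commutatorElement_def, mul_assoc, xS]
    have : Nontrivial S := (Subgroup.nontrivial_iff_ne_bot S).2 hS1
    have hnil : Group.IsNilpotent S := hS.isNilpotent
    have hlt : commutator S < ⊤ := IsSolvable.commutator_lt_top_of_nontrivial S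
    refine hle.trans_lt (lt_of_le_of_ne (Subgroup.map_subtype_le _) fun h => hlt.ne ?_)
    exact Subgroup.map_injective S.subtype_injective
      (h.trans ((Subgroup.range_subtype S).symm.trans (MonoidHom.range_eq_map _)))
  -- factor by the core
  obtain ⟨Ω', _, S', _, θ, E, hS', hlt, hEsat, hE, hθ⟩ := exists_quotient hS hF hXn hX
  have hS'ne : S' ≠ ⊥ := by
    intro h
    refine hXS (le_antisymm hXn.1 fun s hs => ?_)
    exact (hE.2.1 ⟨s, hs⟩).1 (Subgroup.mem_bot.1 (h ▸ hE.2.2.1.le ⟨_, rfl⟩))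
  have h := ihq Ω' S' E hlt hS' hEsat hS'ne (isPGroup_autGroup_factor hE haut)
  refine lt_of_le_of_ne focalSubgroup_le fun heq => h.not_ge ?_
  intro y hy
  obtain ⟨s, rfl⟩ := hE.2.2.1.ge hy
  have hle : F.focalSubgroup ≤ preimageAlong θ E.focalSubgroup := by
    refine (Subgroup.closure_le _).2 ?_
    rintro _ ⟨P, φ, x, hφ, rfl⟩
    obtain ⟨φ', hφ', hP, hφS, hθP, hφe⟩ := hθ.1.2 P φ hφ
    refine ⟨⟨x, hP x.2⟩⁻¹ * ⟨φ x, hφS x⟩, Subgroup.subset_closure ⟨_, φ', ⟨_, hθP x⟩, hφ', ?_⟩, rfl⟩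
    rw [map_mul, map_inv, hφe]
  obtain ⟨t, ht, hte⟩ := hle (heq.ge s.2)
  rw [← (Subtype.ext hte : t = s)]
  exact ht

end CfsgLib.Fusion
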