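import Cfsg.Agent.Lib.Fusion.FunctorNormal
import Cfsg.Agent.Lib.Transfer.SectionFreeQuot
import Cfsg.Agent.Lib.Transfer.FusionThompson
import Cfsg.Agent.Lib.PStab.ZJ
import Cfsg.Agent.Lib.PStab.QdSection
import Cfsg.Agent.Lib.PStab.Complement

/-!
# Systems without the section `Qd(p)` are solvable
-/

set_option autoImplicit false

open Cfsg Cfsg.FusionSystem

namespace CfsgLib.Fusion

universe u

variable {p : ℕ} [Fact p.Prime]

/-- `Z(J(Q))` as a functor. -/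
def zjFunctor (Q : Type u) [Group Q] : Subgroup Q := CfsgLib.PStab.zjGen 0 ⊤

/-- A `Qd(p)`-free system on a nontrivial group has a nontrivial core, for odd `p`. -/
theorem core_ne_bot_of_coreFree (hp : p ≠ 2) {Ω : Type u} [Group Ω] {S : Subgroup Ω} [Finite S]
    {F : FusionSystem S} (hS : IsPGroup p S) (hF : F.IsSaturated p)
    (hfree : CoreFree ↥(Cfsg.qd p) p F) (hne : S ≠ ⊥) : F.core ≠ ⊥ := by
  have hW1 : ∀ (Q : Type u) [Group Q] [Finite Q], IsPGroup p Q → Nontrivial Q → zjFunctor Q ≠ ⊥ :=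
    fun Q _ _ hQ hnt => CfsgLib.Transfer.zjGen_ne_bot_of_finite (p := p) (Or.inl rfl)
      (hQ.to_subgroup ⊤) top_ne_bot
  have hW2 : ∀ (Q R : Type u) [Group Q] [Group R] [Finite Q], IsPGroup p Q →
      ∀ φ : Q ≃* R, (zjFunctor Q).map φ.toMonoidHom = zjFunctor R := fun Q R _ _ _ _ φ => by
    rw [zjFunctor, ← CfsgLib.PStab.zjGen_map (f := φ.toMonoidHom) φ.injective,
      Subgroup.map_top_of_surjective _ φ.surjective]
    rfl
  have hW3 : ∀ (L : Type u) [Group L] [Finite L] (P : Sylow p L),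
      Subgroup.centralizer ((pCore p L : Subgroup L) : Set L) ≤ pCore p L →
      ¬ Involves ↥(Cfsg.qd p) L →
      (((zjFunctor ↥(P : Subgroup L)).map (P : Subgroup L).subtype : Subgroup L)).Normal := by
    intro L _ _ P hc hfree'
    rw [zjFunctor, ← CfsgLib.PStab.zjGen_map (f := (P : Subgroup L).subtype)
      (P : Subgroup L).subtype_injective, ← MonoidHom.range_eq_map, Subgroup.range_subtype]
    exact CfsgLib.PStab.zjGen_normal hp
      (fun Q _ hQ => (CfsgLib.PStab.stableAll_of_qdFree hp hfree').isPStableOn Q hQ) (Or.inl rfl)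
      P ⟨le_rfl, fun _ _ _ h => h⟩ hc
  intro hc
  have hN : F.IsNormal (wImg zjFunctor S) := ⟨wImg_le _ S, fun P φ hφ =>
    (hom_le_normalizerHom_wImg zjFunctor hW1 hW2 hW3 F hS hF
      hfree P hφ).2.2.2⟩
  exact wImg_ne_bot zjFunctor hW1 hS le_rfl hne (le_bot_iff.1 (hc ▸
    (le_sSup (show wImg zjFunctor S ∈ {Q : Subgroup Ω | F.IsNormal Q} from hN))))

/-- A `Qd(p)`-free system on a nontrivial group has a nontrivial core, for odd `p`. -/
theorem core_ne_bot_of_qdFree (hp : p ≠ 2) {Ω : Type u} [Group Ω] {S : Subgroup Ω} [Finite S]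
    {F : FusionSystem S} (hS : IsPGroup p S) (hF : F.IsSaturated p)
    (hfree : F.IsSectionFree p ↥(Cfsg.qd p)) (hne : S ≠ ⊥) : F.core ≠ ⊥ :=
  core_ne_bot_of_coreFree hp hS hF (coreFree_of_isSectionFree hS hF hfree) hne

/-- A subgroup above `R` which is normal modulo `R`. -/
def NormalMod {Ω : Type*} [Group Ω] {S : Subgroup Ω} (F : FusionSystem S) (R U : Subgroup Ω) :
    Prop :=
  R < U ∧ U ≤ S ∧ ∀ (P : Subgroup Ω) (φ : P →* Ω), R ≤ P → φ ∈ F.Hom P →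
    ∃ (M : Subgroup Ω) (hM : P ⊔ U ≤ M) (ψ : M →* Ω), ψ ∈ F.Hom M ∧
      (∀ x : P, (φ x)⁻¹ * ψ (Subgroup.inclusion (le_sup_left.trans hM) x) ∈ R) ∧
      ∀ x : M, (x : Ω) ∈ U → ψ x ∈ U

/-- Below the whole group, every strongly closed subgroup of a `Qd(p)`-free system has a subgroup
above it which is normal modulo it. -/
theorem exists_normalMod (hp : p ≠ 2) (n : ℕ) : ∀ {Ω : Type u} [Group Ω] {S : Subgroup Ω}
    [Finite S] (F : FusionSystem S), Nat.card S = n → IsPGroup p S → F.IsSaturated p →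
      F.IsSectionFree p ↥(Cfsg.qd p) → ∀ R : Subgroup Ω, F.StronglyClosed R → R ≠ S →
        ∃ U, NormalMod F R U := by
  induction n using Nat.strong_induction_on with
  | _ n ih =>
  intro Ω _ S _ F hn hS hF hfree R hR hRS
  have hne : S ≠ ⊥ := fun h => hRS (le_antisymm hR.1 (h ▸ bot_le))
  have hXne := core_ne_bot_of_qdFree hp hS hF hfree hne
  have hX : F.IsNormal F.core := isNormal_core
  by_cases hXR : F.core ≤ R
  · obtain ⟨Ω', _, S', _, θ, E, hS', hlt, hEsat, hE, hθ⟩ := exists_quotient hS hF hX hXne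
    set R' := imageAlong θ R with hR'def
    have hR' : E.StronglyClosed R' := by
      refine ⟨?_, fun P' hP' φ' hφ' x => ?_⟩
      · rintro _ ⟨s, -, rfl⟩
        exact hE.2.2.1.le ⟨s, rfl⟩
      obtain ⟨hP'S, φ, hφ, hP, hφS, hθP, hφe⟩ := (hE.2.2.2 P' φ').1 hφ'
      have hle : preimageAlong θ P' ≤ R := by
        intro y hy
        obtain ⟨t, ht, hte⟩ := hP' ((mem_preimageAlong (θ := θ) (s := ⟨y, hP hy⟩)).1 hy)
        have h1 : ((t⁻¹ * ⟨y, hP hy⟩ : S) : Ω) ∈ R :=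
          hXR ((hE.2.1 _).1 (by rw [map_mul, map_inv, hte, inv_mul_cancel]))
        simpa using R.mul_mem ht h1
      obtain ⟨t, ht⟩ := hE.2.2.1.ge (hP'S x.2)
      have htP : (t : Ω) ∈ preimageAlong θ P' := mem_preimageAlong.2 (ht ▸ x.2)
      refine ⟨⟨φ ⟨t, htP⟩, hφS _⟩, hR.2 _ hle φ hφ _, ?_⟩
      rw [← hφe ⟨t, htP⟩]
      exact congrArg φ' (Subtype.ext ht)
    have hback : ∀ s : S, θ s ∈ R' → (s : Ω) ∈ R := by
      rintro s ⟨t, ht, hte⟩
      have h1 : ((t⁻¹ * s : S) : Ω) ∈ R :=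
        hXR ((hE.2.1 _).1 (by rw [map_mul, map_inv, hte, inv_mul_cancel]))
      simpa using R.mul_mem ht h1
    have hR'S : R' ≠ S' := fun h => hRS (le_antisymm hR.1 fun s hs =>
      hback ⟨s, hs⟩ (h ▸ hE.2.2.1.le ⟨_, rfl⟩))
    obtain ⟨U', ⟨hRU', hU'S, hU'⟩⟩ := ih _ (hn ▸ hlt) E rfl hS' hEsat
      (CfsgLib.Transfer.isSectionFree_factor hS hF hfree hX hE) R' hR' hR'S
    refine ⟨preimageAlong θ U', lt_of_le_not_ge (fun r hr => ?_) fun h => ?_, preimageAlong_le θ U',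
      fun P φ hRP hφ => ?_⟩
    · exact (mem_preimageAlong (θ := θ) (s := ⟨r, hR.1 hr⟩)).2 (hRU'.le ⟨_, hr, rfl⟩)
    · refine hRU'.not_ge fun u hu => ?_
      obtain ⟨s, rfl⟩ := hE.2.2.1.ge (hU'S hu)
      exact ⟨s, h (mem_preimageAlong.2 hu), rfl⟩
    have hPS := le_S F hφ
    obtain ⟨φ', hφ', hP₀, hφS, hθP, hφe⟩ := hθ.1.2 P φ hφ
    obtain ⟨M', hM', ψ', hψ', hψ'e, hψ'U⟩ := hU' _ φ' (by
      rintro _ ⟨s, hs, rfl⟩
      exact ⟨s, hRP hs, rfl⟩) hφ'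
    obtain ⟨hM'S, ψ, hψ, hMS, hψS, hθM, hψe⟩ := (hE.2.2.2 M' ψ').1 hψ'
    have hM : P ⊔ preimageAlong θ U' ≤ preimageAlong θ M' :=
      sup_le (fun x hx => (mem_preimageAlong (θ := θ) (s := ⟨x, hPS hx⟩)).2
        (hM' (Subgroup.mem_sup_left (hθP ⟨x, hx⟩))))
        (Subgroup.map_mono (Subgroup.comap_mono (le_sup_right.trans hM')))
    refine ⟨_, hM, ψ, hψ, fun x => ?_, fun x hx => ?_⟩
    · refine hback (⟨φ x, hφS x⟩⁻¹ * ⟨ψ _, hψS _⟩) ?_
      rw [map_mul, map_inv, ← hφe x, ← hψe]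
      exact hψ'e ⟨_, hθP x⟩
    · refine (mem_preimageAlong (θ := θ) (s := ⟨ψ x, hψS x⟩)).2 ?_
      rw [← hψe x]
      exact hψ'U _ ((mem_preimageAlong (θ := θ) (s := ⟨x, hMS x.2⟩)).1 hx)
  · refine ⟨R ⊔ F.core, left_lt_sup.2 hXR, sup_le hR.1 hX.1, fun P φ hRP hφ => ?_⟩
    obtain ⟨ψ, hψ, hψe, hψX⟩ := hX.2 P φ hφ
    refine ⟨P ⊔ F.core, sup_le le_sup_left (sup_le_sup_right hRP _), ψ, hψ, fun x => ?_,
      fun x hx => ?_⟩
    · rw [hψe x, inv_mul_cancel]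
      exact one_mem R
    · obtain ⟨a, ha, b, hb, hab⟩ := CfsgLib.Fusion.exists_mul_of_mem_sup
        (hR.1.trans (le_normalizer_of_stronglyClosed (stronglyClosed_of_isNormal hX))) hx
      have hRM : R ≤ P ⊔ F.core := hRP.trans le_sup_left
      have h1 : x = (⟨a, hRM ha⟩ : ↥(P ⊔ F.core)) * ⟨b, Subgroup.mem_sup_right hb⟩ :=
        Subtype.ext hab
      rw [h1, map_mul]
      refine mul_mem (Subgroup.mem_sup_left ?_) (Subgroup.mem_sup_right ?_)
      · exact hR.2 R le_rfl _ (res_mem F hψ hRM) ⟨a, ha⟩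
      · exact hψX.le (apply_mem_img ψ (x := ⟨b, _⟩) hb)

/-- Factor systems of `Qd(p)`-free systems by proper strongly closed subgroups have nontrivial
core. -/
theorem isSolvableSystem_of_qdFree (hp : p ≠ 2) {Ω : Type u} [Group Ω] {S : Subgroup Ω} [Finite S]
    {F : FusionSystem S} (hS : IsPGroup p S) (hF : F.IsSaturated p)
    (hfree : F.IsSectionFree p ↥(Cfsg.qd p)) : F.IsSolvableSystem := by
  intro R hR hRS _ E hE hcore
  obtain ⟨U, hRU, hUS, hU⟩ := exists_normalMod hp _ F rfl hS hF hfree R hR hRS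
  set θ := QuotientGroup.mk' (R.subgroupOf S) with hθdef
  have hθ := isSurjectiveMorphism_of_isFactorSystem hS hF hR hE
  set U' := imageAlong θ U with hU'def
  have hU'n : E.IsNormal U' := by
    refine ⟨le_top, fun P' φ' hφ' => ?_⟩
    obtain ⟨hP'S, φ, hφ, hP, hφS, hθP, hφe⟩ := (hE.2.2.2 P' φ').1 hφ'
    have hRP : R ≤ preimageAlong θ P' := le_preimageAlong hE P'
    obtain ⟨M, hM, ψ, hψ, hψR, hψU⟩ := hU _ φ hRP hφ
    obtain ⟨ψ', hψ', hMS, hψS, hθM, hψe⟩ := hθ.1.2 M ψ hψ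
    have hPM : P' ⊔ U' ≤ imageAlong θ M := by
      refine sup_le (fun y hy => ?_) (Subgroup.map_mono fun s hs => hM (Subgroup.mem_sup_right hs))
      obtain ⟨s, rfl⟩ := QuotientGroup.mk'_surjective (R.subgroupOf S) y
      exact ⟨s, hM (Subgroup.mem_sup_left (mem_preimageAlong.2 hy)), rfl⟩
    have hval : ∀ (s : S) (hs : (s : Ω) ∈ M) (h : θ s ∈ imageAlong θ M),
        ψ' ⟨θ s, h⟩ = θ ⟨ψ ⟨s, hs⟩, hψS _⟩ := fun s hs h =>
      (congrArg ψ' (Subtype.ext rfl)).trans (hψe ⟨s, hs⟩)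
    refine ⟨ψ'.comp (Subgroup.inclusion hPM), res_mem E hψ' hPM, fun x => ?_, ?_⟩
    · obtain ⟨s, hs⟩ := QuotientGroup.mk'_surjective (R.subgroupOf S) (x : S ⧸ R.subgroupOf S)
      have hsP : (s : Ω) ∈ preimageAlong θ P' := mem_preimageAlong.2 (hs ▸ x.2)
      rw [show φ' x = φ' ⟨θ s, mem_preimageAlong.1 hsP⟩ from congrArg φ' (Subtype.ext hs.symm)]
      refine (congrArg ψ' (Subtype.ext (hs.symm : (x : S ⧸ R.subgroupOf S) = θ s))).trans
        ((hval s (hM (Subgroup.mem_sup_left hsP)) ⟨s, hM (Subgroup.mem_sup_left hsP), rfl⟩).trans ?_)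
      refine Eq.trans ?_ (hφe ⟨s, hsP⟩).symm
      exact (inv_mul_eq_one.1 (by
        rw [← map_inv, ← map_mul]
        exact (hE.2.1 (⟨φ ⟨s, hsP⟩, hφS _⟩⁻¹ * ⟨ψ _, hψS _⟩)).2 (hψR ⟨s, hsP⟩))).symm
    · change img _ U' = U'
      refine Subgroup.eq_of_le_of_card_ge ?_
        (card_img (E.injective_of_mem (res_mem E hψ' hPM)) le_sup_right).ge
      intro y hy
      obtain ⟨z, hz, rfl⟩ := mem_img.1 hy
      obtain ⟨s, hs, hsz⟩ := hz
      have hsM : (s : Ω) ∈ M := hM (Subgroup.mem_sup_right hs)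
      refine ⟨⟨ψ ⟨s, hsM⟩, hψS _⟩, hψU ⟨s, hsM⟩ hs, ?_⟩
      exact ((congrArg ψ' (Subtype.ext hsz.symm)).trans (hval s hsM ⟨s, hsM, rfl⟩)).symm
  have h1 : U' = ⊥ := le_bot_iff.1 (hcore ▸
    (le_sSup (show U' ∈ {Q : Subgroup (S ⧸ R.subgroupOf S) | E.IsNormal Q} from hU'n)))
  refine hRU.not_ge fun u hu => ?_
  have h2 : θ ⟨u, hUS hu⟩ ∈ (⊥ : Subgroup (S ⧸ R.subgroupOf S)) := h1.le ⟨_, hu, rfl⟩
  exact (hE.2.1 _).1 (Subgroup.mem_bot.1 h2)

end CfsgLib.Fusion
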