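import Mathlib
import Cfsg.Agent.Lib.Fusion.Biset
import Cfsg.Agent.Lib.Fusion.BisetTransfer
import Cfsg.Agent.Lib.Fusion.HypFocal
import Cfsg.Agent.Lib.Solvable.BurnsideBasis
import Cfsg.Agent.Lib.PGroup.Basic

/-!
# Transfer for saturated fusion systems, and Tate's theorem
-/

set_option autoImplicit false

open Cfsg Cfsg.FusionSystem

namespace CfsgLib.Fusion

universe u

variable {Ω : Type u} [Group Ω] {S : Subgroup Ω} {F : FusionSystem S}
variable {p : ℕ} [Fact p.Prime] [Finite S]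

/-- Transfer in a saturated system, relative to a normal subgroup `N` of `S` modulo which every
map is a conjugation by an element of `S`. -/
theorem exists_fusion_transfer (hS : IsPGroup p S) (hF : F.IsSaturated p) (N : Subgroup S)
    [N.Normal]
    (hN : ∀ (P : Subgroup Ω) (φ : P →* Ω), φ ∈ F.Hom P → ∃ g : S, ∀ (a b : S) (h : (a : Ω) ∈ P),
      φ ⟨a, h⟩ = b → (g * a * g⁻¹)⁻¹ * b ∈ N)
    {A : Type*} [CommGroup A] {f : S → A}
    (hfl : ∀ m ∈ N, ∀ a, f (m * a) = f m * f a) (hfr : ∀ m ∈ N, ∀ a, f (a * m) = f a * f m) :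
    ∃ (m : ℕ) (T : S → A), ¬ p ∣ m ∧
      (∀ u v, T u * T v / T (u * v) = (f u * f v / f (u * v)) ^ m) ∧
      (∀ (P : Subgroup Ω) (φ : P →* Ω), φ ∈ F.Hom P → ∀ (u u' : S) (h : (u : Ω) ∈ P),
        φ ⟨u, h⟩ = u' → u ∈ N → u' ∈ N → T u' = T u) ∧
      (∀ u ∈ N, (∀ (P : Subgroup Ω) (φ : P →* Ω), φ ∈ F.Hom P → ∀ (a b : S),
        a ∈ Subgroup.zpowers u → ∀ h : (a : Ω) ∈ P, φ ⟨a, h⟩ = b → f b = f a) → T u = f u ^ m) ∧
      (∀ (H : Subgroup A), (∀ a, f a ∈ H) → ∀ u, T u ∈ H) := by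
  obtain ⟨X, _, _, hstab, ⟨m, hm, hpm⟩, hα, -⟩ := exists_biset (F := F) hS hF
  have hst : ∀ (x : X) (a b : S), (a, b) • x = x → ∃ (P : Subgroup Ω) (φ : P →* Ω), φ ∈ F.Hom P ∧
      MulAction.stabilizer (S × S) x = graphSub φ ∧ ∃ h : (a : Ω) ∈ P, φ ⟨a, h⟩ = b := by
    intro x a b hab
    obtain ⟨P, φ, hφ, hx⟩ := hstab x
    have h1 : (a, b) ∈ MulAction.stabilizer (S × S) x := hab
    rw [hx] at h1
    exact ⟨P, φ, hφ, hx, h1⟩
  have hfree : ∀ (b : S) (x : X), ((1 : S), b) • x = x → b = 1 := by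
    intro b x hb
    obtain ⟨P, φ, -, -, h, hb⟩ := hst x 1 b hb
    exact Subtype.ext (hb.symm.trans (map_one φ))
  have hcompat : ∀ x : X, ∃ q : S, ∀ a b : S, (a, b) • x = x → q⁻¹ * a * q * b⁻¹ ∈ N := by
    intro x
    obtain ⟨P, φ, hφ, hx⟩ := hstab x
    obtain ⟨g, hg⟩ := hN P φ hφ
    refine ⟨g⁻¹, fun a b hab => ?_⟩
    have h1 : (a, b) ∈ MulAction.stabilizer (S × S) x := hab
    rw [hx] at h1
    obtain ⟨h, hb⟩ := h1
    have h2 := Subgroup.Normal.conj_mem ‹_› _ (N.inv_mem (hg a b h hb)) (g * a * g⁻¹)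
    convert h2 using 1
    group
  have hcard : Nat.card (RightOrbits S X) = m :=
    Nat.eq_of_mul_eq_mul_left Nat.card_pos ((card_eq_mul hfree).symm.trans hm)
  obtain ⟨T, hT1, hT2, hT3, hT4, -⟩ := exists_transfer hfree hfl hfr hcompat
  rw [hcard] at hT1 hT3
  refine ⟨m, T, hpm, hT1, fun P φ hφ u u' h hu huN hu'N => ?_, fun u hu h => ?_, hT4⟩
  · obtain ⟨α, hα'⟩ := hα P φ hφ
    exact hT2 u huN u' hu'N α (fun b x => hα' 1 1 b P.one_mem x (map_one φ))
      (fun x => hα' u u' 1 h x hu)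
  · refine hT3 u hu fun x a b ha hab => ?_
    obtain ⟨P, φ, hφ, -, hh, hb⟩ := hst x a b hab
    exact h P φ hφ a b ha hh hb

/-- The transfer of a homomorphism into an abelian group. -/
theorem exists_fusion_transfer_hom (hS : IsPGroup p S) (hF : F.IsSaturated p) {A : Type*}
    [CommGroup A] (θ : S →* A) :
    ∃ (m : ℕ) (T : S →* A), ¬ p ∣ m ∧ F.focalSubgroup.subgroupOf S ≤ T.ker ∧
      ∀ u : S, (∀ (P : Subgroup Ω) (φ : P →* Ω), φ ∈ F.Hom P → ∀ (a b : S),
        a ∈ Subgroup.zpowers u → ∀ h : (a : Ω) ∈ P, φ ⟨a, h⟩ = b → θ b = θ a) →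
        T u = θ u ^ m := by
  obtain ⟨m, T, hm, h1, h2, h3, -⟩ := exists_fusion_transfer hS hF (⊤ : Subgroup S)
    (fun _ _ _ => ⟨1, fun _ _ _ _ => trivial⟩) (f := θ) (fun a _ b => map_mul θ a b)
    (fun a _ b => map_mul θ b a)
  let T' : S →* A := MonoidHom.mk' T fun u v => by
    have := h1 u v
    rw [map_mul θ, div_self', one_pow, div_eq_one] at this
    exact this.symm
  refine ⟨m, T', hm, ?_, fun u hu => h3 u trivial hu⟩
  rw [← Subgroup.map_le_map_iff_of_injective S.subtype_injective,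
    Subgroup.map_subgroupOf_eq_of_le focalSubgroup_le]
  refine (Subgroup.closure_le _).2 ?_
  rintro _ ⟨P, φ, x, hφ, rfl⟩
  let a : S := ⟨x, le_S F hφ x.2⟩
  let b : S := ⟨φ x, apply_mem_S F hφ x⟩
  refine ⟨a⁻¹ * b, ?_, rfl⟩
  rw [SetLike.mem_coe, MonoidHom.mem_ker, map_mul, map_inv, inv_mul_eq_one]
  exact (h2 P φ hφ a b x.2 rfl trivial trivial).symm

/-- **Tate's theorem**, general form: a subgroup `M` of the hyperfocal subgroup, normalized by `S`,
with the same image modulo `Φ(S)`, is the hyperfocal subgroup. -/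
theorem hyperfocalSubgroup_eq_of_le_sup_frattini (hS : IsPGroup p S) (hF : F.IsSaturated p)
    {M : Subgroup Ω} (hMn : S ≤ Subgroup.normalizer (M : Set Ω))
    (hMN : M ≤ F.hyperfocalSubgroup p)
    (h : F.hyperfocalSubgroup p ≤ M ⊔ (frattini S).map S.subtype) :
    M = F.hyperfocalSubgroup p := by
  classical
  by_contra hne
  have hMS : M ≤ S := hMN.trans (hyperfocalSubgroup_le p)
  set N := (F.hyperfocalSubgroup p).subgroupOf S with hNdef
  have hNn : N.Normal := ⟨fun a ha g => Subgroup.mem_subgroupOf.2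
    ((conj_mem_iff_of_le_normalizer (le_normalizer_hyperfocalSubgroup p) g.2).2 ha)⟩
  -- a maximal normal subgroup between `M` and `N`
  have hM0 : (M.subgroupOf S).Normal := ⟨fun a ha g => Subgroup.mem_subgroupOf.2
    ((conj_mem_iff_of_le_normalizer hMn g.2).2 ha)⟩
  obtain ⟨M', hM'⟩ := (Set.toFinite {L : Subgroup S | L.Normal ∧ M.subgroupOf S ≤ L ∧ L < N}).exists_maximal
    ⟨M.subgroupOf S, hM0, le_rfl, lt_of_le_of_ne (fun x hx => hMN hx) fun he => hne (by
      have := congrArg (Subgroup.map S.subtype) he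
      rwa [Subgroup.map_subgroupOf_eq_of_le hMS, hNdef,
        Subgroup.map_subgroupOf_eq_of_le (hyperfocalSubgroup_le p)] at this)⟩
  obtain ⟨hM'n, hMM', hM'N⟩ := hM'.prop
  set π := QuotientGroup.mk' M' with hπ
  set Z := N.map π with hZ
  have hZn : Z.Normal := hNn.map π (QuotientGroup.mk'_surjective M')
  have hmin : ∀ W : Subgroup (S ⧸ M'), W.Normal → W ≤ Z → W = ⊥ ∨ W = Z := by
    intro W hW hWZ
    rw [or_iff_not_imp_left]
    intro hW0
    have h1 : W.comap π ≤ N := by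
      intro x hx
      obtain ⟨y, hy, hyx⟩ := hWZ hx
      have := N.mul_mem hy (hM'N.le (QuotientGroup.eq.1 hyx))
      rwa [mul_inv_cancel_left] at this
    have h2 : M' ≤ W.comap π := fun x hx => by
      rw [Subgroup.mem_comap, show π x = 1 from (QuotientGroup.eq_one_iff x).2 hx]
      exact W.one_mem
    by_contra hWne
    have h3 : W.comap π < N := lt_of_le_of_ne h1 fun he => hWne (by
      rw [hZ, ← he, Subgroup.map_comap_eq_self_of_surjective (QuotientGroup.mk'_surjective M')])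
    have h4 := hM'.le_of_ge ⟨hW.comap π, hMM'.trans h2, h3⟩ h2
    refine hW0 ?_
    rw [← Subgroup.map_comap_eq_self_of_surjective (QuotientGroup.mk'_surjective M') W,
      eq_bot_iff, Subgroup.map_le_iff_le_comap]
    intro x hx
    rw [Subgroup.mem_comap, Subgroup.mem_bot, QuotientGroup.mk'_apply, QuotientGroup.eq_one_iff]
    exact h4 hx
  have hZ0 : Z ≠ ⊥ := by
    intro hb
    refine hM'N.not_ge fun x hx => (QuotientGroup.eq_one_iff x).1 ?_
    rw [← Subgroup.mem_bot, ← hb]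
    exact ⟨x, hx, rfl⟩
  have hQp : IsPGroup p (S ⧸ M') := hS.to_quotient M'
  have hcen : Z ≤ Subgroup.center (S ⧸ M') := by
    rcases hmin (Z ⊓ Subgroup.center (S ⧸ M')) inferInstance inf_le_left with h1 | h1
    · exact absurd h1 (PGroup.inf_center_ne_bot hQp Z hZ0)
    · exact h1 ▸ inf_le_right
  obtain ⟨z, hz⟩ : ∃ z : Z, orderOf z = p := by
    refine exists_prime_orderOf_dvd_card' p ?_
    have hnt : Nontrivial Z := (Subgroup.nontrivial_iff_ne_bot Z).2 hZ0
    obtain ⟨k, hk0, hk⟩ := (hQp.to_subgroup Z).nontrivial_iff_card.1 hnt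
    rw [hk]
    exact dvd_pow_self p (by omega)
  have hexp : ∀ y ∈ Z, y ^ p = 1 := by
    rcases hmin (Subgroup.zpowers (z : S ⧸ M')) ⟨fun y hy g => by
        rwa [Subgroup.mem_center_iff.1 (hcen (Subgroup.zpowers_le.2 z.2 hy)) g, mul_inv_cancel_right]⟩
      (Subgroup.zpowers_le.2 z.2) with h1 | h1
    · rw [Subgroup.zpowers_eq_bot] at h1
      rw [← Subgroup.orderOf_coe, h1, orderOf_one] at hz
      exact absurd hz (Fact.out : p.Prime).ne_one.symm
    · intro y hy
      rw [← h1, Subgroup.mem_zpowers_iff] at hy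
      obtain ⟨i, rfl⟩ := hy
      rw [← zpow_natCast, ← zpow_mul, mul_comm, zpow_mul, zpow_natCast, ← hz, ← Subgroup.orderOf_coe,
        pow_orderOf_eq_one, one_zpow]
  let _ : CommGroup Z :=
    { (inferInstance : Group Z) with
      mul_comm := fun a b => Subtype.ext (Subgroup.mem_center_iff.1 (hcen b.2) a) }
  -- representatives of the cosets of `N`
  let r : S → S := fun a => Quotient.out (QuotientGroup.mk a : S ⧸ N)
  have hr : ∀ a, a * (r a)⁻¹ ∈ N := fun a => by
    rw [← QuotientGroup.eq_one_iff, QuotientGroup.mk_mul, QuotientGroup.mk_inv,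
      QuotientGroup.out_eq', mul_inv_cancel]
  let f : S → Z := fun a => ⟨π (a * (r a)⁻¹), ⟨_, hr a, rfl⟩⟩
  have hfN : ∀ (m : S) (hm : m ∈ N) (a : S), f (m * a) = ⟨π m, m, hm, rfl⟩ * f a := by
    intro m hm a
    have h1 : r (m * a) = r a := congrArg Quotient.out (by
      rw [QuotientGroup.mk_mul, (QuotientGroup.eq_one_iff m).2 hm, one_mul])
    refine Subtype.ext ?_
    change π (m * a * (r (m * a))⁻¹) = π m * π (a * (r a)⁻¹)
    rw [h1, mul_assoc, map_mul]
  have hf1' : f 1 = 1 → ∀ (m : S) (hm : m ∈ N), f m = ⟨π m, m, hm, rfl⟩ := fun h1 m hm => by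
    have h2 := hfN m hm 1
    rwa [mul_one, h1, mul_one] at h2
  -- normalise so that `f 1 = 1`
  let c := f 1
  let f' : S → Z := fun a => f a / c
  have hfl : ∀ m ∈ N, ∀ a, f' (m * a) = f' m * f' a := by
    intro m hm a
    have h2 := hfN m hm 1
    rw [mul_one] at h2
    simp only [f', c, hfN m hm a, h2, div_eq_mul_inv]
    rw [mul_inv_cancel_right, mul_assoc]
  have hfval : ∀ (m : S) (hm : m ∈ N), f' m = ⟨π m, m, hm, rfl⟩ := by
    intro m hm
    have h2 := hfN m hm 1
    rw [mul_one] at h2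
    simp only [f', c, h2, mul_div_cancel_right]
  have hfr : ∀ m ∈ N, ∀ a, f' (a * m) = f' a * f' m := by
    intro m hm a
    have h1 := hNn.conj_mem m hm a
    rw [show a * m = a * m * a⁻¹ * a by group, hfl _ h1, hfval _ h1, hfval m hm, mul_comm]
    refine congrArg (f' a * ·) (Subtype.ext ?_)
    change π (a * m * a⁻¹) = π m
    rw [map_mul, map_mul, Subgroup.mem_center_iff.1 (hcen ⟨m, hm, rfl⟩) (π a), map_inv,
      mul_inv_cancel_right]
  obtain ⟨m, T, hpm, hdef, hinv, -, -⟩ := exists_fusion_transfer hS hF N (fun P φ hφ => by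
    obtain ⟨g, hg, hge⟩ := exists_conj_mod_hyperfocal hS hF hφ
    refine ⟨⟨g, hg⟩, fun a b h hb => Subgroup.mem_subgroupOf.2 ?_⟩
    have := hge ⟨a, h⟩
    rw [hb] at this
    simpa using this) hfl hfr
  have hTN : ∀ u ∈ N, ∀ v, T (u * v) = T u * T v := fun u hu v => by
    have h1 := hdef u v
    rw [hfl u hu v, div_self', one_pow, div_eq_one] at h1
    exact h1.symm
  have hT1 : T 1 = 1 := by
    have h2 := hTN 1 N.one_mem 1
    rw [one_mul] at h2
    exact mul_eq_left.1 h2.symm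
  let Th : N →* Z := MonoidHom.mk' (fun u => T u) fun u v => hTN u u.2 v
  -- the transfer vanishes on `N`
  have hTzero : F.hyperfocalSubgroup p ≤ (Subgroup.map N.subtype Th.ker).map S.subtype := by
    refine (Subgroup.closure_le _).2 ?_
    rintro _ ⟨P, α, x, hP, hα, rfl⟩
    have hPfin := finite_of_le hP
    have hval : ∀ (β : F.autGroup P), β ∈ pResidual p (F.autGroup P) → ∀ x : P,
        (x : Ω)⁻¹ * ((β : MulAut P) x : Ω) ∈ F.hyperfocalSubgroup p := fun β hβ x =>
      Subgroup.subset_closure ⟨P, β, x, hP, hβ, rfl⟩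
    let mkS : P → S := fun x => ⟨x, hP x.2⟩
    suffices h : ∀ x : P, T ((mkS x)⁻¹ * mkS ((α : MulAut P) x)) = 1 by
      exact ⟨_, ⟨⟨(mkS x)⁻¹ * mkS ((α : MulAut P) x), hval α hα x⟩, h x, rfl⟩, rfl⟩
    have hinvβ : ∀ (β : F.autGroup P) (y : P), (y : Ω) ∈ F.hyperfocalSubgroup p →
        ((β : MulAut P) y : Ω) ∈ F.hyperfocalSubgroup p → T (mkS ((β : MulAut P) y)) = T (mkS y) :=
      fun β y hy hy' => hinv P _ ((mem_autGroup_iff F hP).1 β.2) (mkS y) (mkS ((β : MulAut P) y))
        y.2 rfl hy hy'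
    clear x
    induction hα using Subgroup.closure_induction with
    | mem β hβ =>
      intro x
      have hres : β ∈ pResidual p (F.autGroup P) := Subgroup.subset_closure hβ
      set y := x⁻¹ * (β : MulAut P) x with hy
      have hymem : ∀ i : ℕ, ((((β : MulAut P) ^ i) y : P) : Ω) ∈ F.hyperfocalSubgroup p := by
        intro i
        induction i with
        | zero => simpa [hy] using hval β hres x
        | succ i ih =>
          rw [pow_succ', MulAut.mul_apply]
          have := (F.hyperfocalSubgroup p).mul_mem ih (hval β hres (((β : MulAut P) ^ i) y))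
          rwa [mul_inv_cancel_left] at this
      have hcst : ∀ i : ℕ, T (mkS (((β : MulAut P) ^ i) y)) = T (mkS y) := by
        intro i
        induction i with
        | zero => simp
        | succ i ih =>
          rw [pow_succ', MulAut.mul_apply, hinvβ β _ (hymem i) (by
            rw [← MulAut.mul_apply, ← pow_succ']; exact hymem (i + 1)), ih]
      have hprod : ∀ i : ℕ, mkS (x⁻¹ * ((β : MulAut P) ^ i) x) ∈ N ∧
          T (mkS (x⁻¹ * ((β : MulAut P) ^ i) x)) = T (mkS y) ^ i := by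
        intro i
        induction i with
        | zero =>
          rw [pow_zero, pow_zero, MulAut.one_apply, inv_mul_cancel]
          exact ⟨N.one_mem, hT1⟩
        | succ i ih =>
          have e1 : x⁻¹ * ((β : MulAut P) ^ (i + 1)) x =
              x⁻¹ * ((β : MulAut P) ^ i) x * ((β : MulAut P) ^ i) y := by
            rw [hy, map_mul, map_inv, pow_succ, MulAut.mul_apply]
            group
          have e2 : mkS (x⁻¹ * ((β : MulAut P) ^ i) x * ((β : MulAut P) ^ i) y) =
              mkS (x⁻¹ * ((β : MulAut P) ^ i) x) * mkS (((β : MulAut P) ^ i) y) := rfl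
          rw [e1, e2]
          exact ⟨N.mul_mem ih.1 (hymem i), by rw [hTN _ ih.1, ih.2, hcst, pow_succ]⟩
      have hk : ((β : MulAut P)) ^ orderOf β = 1 := by
        rw [← SubmonoidClass.coe_pow, pow_orderOf_eq_one, OneMemClass.coe_one]
      have h2 := (hprod (orderOf β)).2
      rw [hk, MulAut.one_apply, inv_mul_cancel, show mkS 1 = 1 from rfl, hT1] at h2
      have h3 : orderOf (T (mkS y)) ∣ orderOf β := orderOf_dvd_of_pow_eq_one h2.symm
      have h4 : orderOf (T (mkS y)) ∣ p := orderOf_dvd_of_pow_eq_one (Subtype.ext (by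
        rw [SubmonoidClass.coe_pow, hexp _ (T (mkS y)).2, OneMemClass.coe_one]))
      exact orderOf_eq_one_iff.1 (Nat.eq_one_of_dvd_coprimes hβ h3 h4)
    | one =>
      intro x
      rw [OneMemClass.coe_one, MulAut.one_apply, inv_mul_cancel, hT1]
    | mul β γ hβ hγ ihβ ihγ =>
      intro x
      rw [Subgroup.coe_mul, MulAut.mul_apply]
      have e : (mkS x)⁻¹ * mkS ((β : MulAut P) ((γ : MulAut P) x)) =
          ((mkS x)⁻¹ * mkS ((γ : MulAut P) x)) *
            ((mkS ((γ : MulAut P) x))⁻¹ * mkS ((β : MulAut P) ((γ : MulAut P) x))) := by group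
      rw [e, hTN _ (hval γ hγ x), ihγ, ihβ, one_mul]
    | inv β hβ ih =>
      intro x
      have e : ((mkS x)⁻¹ * mkS (((β⁻¹ : F.autGroup P) : MulAut P) x)) =
          ((mkS (((β⁻¹ : F.autGroup P) : MulAut P) x))⁻¹ * mkS x)⁻¹ := by group
      have h1 := ih (((β⁻¹ : F.autGroup P) : MulAut P) x)
      rw [Subgroup.coe_inv, MulAut.apply_inv_self, ← Subgroup.coe_inv] at h1
      have h5 : (mkS (((β⁻¹ : F.autGroup P) : MulAut P) x))⁻¹ * mkS x ∈ N := by
        have := hval β hβ (((β⁻¹ : F.autGroup P) : MulAut P) x)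
        rwa [Subgroup.coe_inv, MulAut.apply_inv_self, ← Subgroup.coe_inv] at this
      have h2 := hTN _ h5
        ((mkS (((β⁻¹ : F.autGroup P) : MulAut P) x))⁻¹ * mkS x)⁻¹
      rw [mul_inv_cancel, hT1, h1, one_mul] at h2
      rw [e]
      exact h2.symm
  have hT0 : ∀ u ∈ N, T u = 1 := by
    intro u hu
    obtain ⟨w, ⟨v, hv, rfl⟩, hw⟩ := hTzero hu
    rw [← Subtype.ext (show ((v : S) : Ω) = u from hw)]
    exact hv
  -- a homomorphism on `S` extending a power of `f'` on `N`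
  let g : S →* Z := MonoidHom.mk' (fun a => f' a ^ m / T a) fun a b => by
    have h1 := hdef a b
    rw [div_pow, mul_pow, div_eq_div_iff_mul_eq_mul] at h1
    rw [div_mul_div_comm, div_eq_div_iff_mul_eq_mul]
    rw [mul_comm (f' (a * b) ^ m)]
    exact h1
  have hgN : ∀ (u : S) (hu : u ∈ N), (g u : S ⧸ M') = π u ^ m := fun u hu => by
    change ((f' u ^ m / T u : Z) : S ⧸ M') = _
    rw [hT0 u hu, div_one, hfval u hu]
    rfl
  have hΦ : frattini S ≤ g.ker := by
    refine Solvable.frattini_le_of_elementary (p := p) g.ker ?_ fun x => ?_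
    · exact Abelianization.commutator_subset_ker g
    · rw [MonoidHom.mem_ker, map_pow]
      exact Subtype.ext (hexp _ (g x).2)
  have hNker : N ≤ g.ker := by
    intro u hu
    have h1 := h hu
    rw [← Subgroup.map_subgroupOf_eq_of_le hMS, ← Subgroup.map_sup] at h1
    obtain ⟨v, hv, hvu⟩ := h1
    rw [Subgroup.coe_subtype] at hvu
    rw [← Subtype.ext hvu]
    refine (sup_le ?_ hΦ) hv
    intro w hw
    refine Subtype.ext ?_
    rw [hgN w (hMN hw), show π w = 1 from (QuotientGroup.eq_one_iff w).2 (hMM' hw), one_pow]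
    rfl
  refine hM'N.not_ge fun u hu => (QuotientGroup.eq_one_iff u).1 ?_
  have h1 : π u ^ m = 1 := by
    rw [← hgN u hu, hNker hu, OneMemClass.coe_one]
  have h2 := orderOf_dvd_of_pow_eq_one h1
  have h3 := orderOf_dvd_of_pow_eq_one (hexp _ ⟨u, hu, rfl⟩ : π u ^ p = 1)
  exact orderOf_eq_one_iff.1 (Nat.eq_one_of_dvd_coprimes
    ((Fact.out : p.Prime).coprime_iff_not_dvd.2 hpm).symm h2 h3)

end CfsgLib.Fusion
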