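import Cfsg.Agent.Lib.Fusion.FunctorCore
import Cfsg.Agent.Lib.Fusion.Tate

/-!
# Control of transfer by a functor
-/

set_option autoImplicit false

open Cfsg Cfsg.FusionSystem

namespace CfsgLib.Fusion

universe u

/-- The focal subgroup of the maps of `N_F(U)`. -/
def focalLocal {Ω : Type*} [Group Ω] {S : Subgroup Ω} (F : FusionSystem S) (U : Subgroup Ω) :
    Subgroup Ω :=
  Subgroup.closure {y | ∃ (P : Subgroup Ω) (φ : P →* Ω) (x : P),
    φ ∈ F.normalizerHom U P ∧ y = (x : Ω)⁻¹ * φ x}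

variable (W : ∀ (Q : Type u) [Group Q], Subgroup Q)

theorem focalLocal_le {Ω : Type u} [Group Ω] {S : Subgroup Ω} (F : FusionSystem S)
    (U : Subgroup Ω) : focalLocal F U ≤ F.focalSubgroup := by
  refine Subgroup.closure_mono ?_
  rintro _ ⟨P, φ, x, hφ, rfl⟩
  exact ⟨P, φ, x, hφ.1, rfl⟩

theorem commutator_le_focalLocal {Ω : Type u} [Group Ω] {S : Subgroup Ω} {F : FusionSystem S}
    {U : Subgroup Ω} (hU : S ≤ normalizerIn S U) (hUS : U ≤ S) : ⁅S, S⁆ ≤ focalLocal F U := by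
  refine Subgroup.commutator_le.2 fun a ha b hb => ?_
  refine Subgroup.subset_closure ⟨S, conjHom S b, ⟨a⁻¹, S.inv_mem ha⟩, ?_, ?_⟩
  · exact mem_normalizerHom_of_img (F.conj_mem le_rfl hb) le_rfl hUS
      (conj_img_eq (hU hb).2 hUS) (fun _ => rfl) hU
      fun x => hU (S.mul_mem (S.mul_mem hb x.2) (S.inv_mem hb))
  · simp [conjHom, commutatorElement_def, mul_assoc]

theorem le_normalizer_of_commutator_le {Ω : Type*} [Group Ω] {S T : Subgroup Ω} [Finite S]
    (hT : ⁅S, S⁆ ≤ T) (hTS : T ≤ S) : S ≤ Subgroup.normalizer (T : Set Ω) := by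
  intro s hs
  have := finite_of_le hTS
  refine mem_normalizer_of_forall fun x hx => ?_
  have h1 := T.mul_mem hx (hT (Subgroup.commutator_mem_commutator (S.inv_mem (hTS hx)) hs))
  convert h1 using 1
  simp [commutatorElement_def, mul_assoc]

variable {p : ℕ} [Fact p.Prime]
  (hW1 : ∀ (Q : Type u) [Group Q] [Finite Q], IsPGroup p Q → Nontrivial Q → W Q ≠ ⊥)
  (hW2 : ∀ (Q R : Type u) [Group Q] [Group R] [Finite Q], IsPGroup p Q →
    ∀ φ : Q ≃* R, (W Q).map φ.toMonoidHom = W R)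

include hW1 hW2 in
/-- Transfer is controlled by a functor when it is controlled in constrained systems on the
core. -/
theorem focalSubgroup_le_focalLocal
    (hbase : ∀ (Ω : Type u) [Group Ω] (S : Subgroup Ω) [Finite S] (F : FusionSystem S),
      IsPGroup p S → F.IsSaturated p → centralizerIn S F.core ≤ F.core →
      F.focalSubgroup ⊓ F.core ≤ focalLocal F (wImg W S))
    {Ω : Type u} [Group Ω] {S : Subgroup Ω} [Finite S] (F : FusionSystem S) :
    IsPGroup p S → F.IsSaturated p → F.focalSubgroup ≤ focalLocal F (wImg W S) := by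
  apply system_induction (C := fun Ω _ S F => IsPGroup p S → F.IsSaturated p →
    F.focalSubgroup ≤ focalLocal F (wImg W S))
  clear! Ω
  intro Ω _ S _ F ihq ihs hS hF
  set T₀ := focalLocal F (wImg W S) with hT₀
  have hW : wImg W S ≤ S := wImg_le W S
  have hWS := le_normalizerIn_wImg W hW2 hS
  have hcomm : ⁅S, S⁆ ≤ T₀ := commutator_le_focalLocal hWS hW
  have hT₀S : T₀ ≤ S := (focalLocal_le F _).trans focalSubgroup_le
  have hn := le_normalizer_of_commutator_le hcomm hT₀S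
  -- maps trivial modulo `T₀`
  have hmod : ∀ {P : Subgroup Ω} {φ : P →* Ω}, φ ∈ F.Hom P → (∀ x : P, (x : Ω)⁻¹ * φ x ∈ T₀) →
      φ ∈ (modSys F T₀ hn).Hom P := fun hφ h => ⟨hφ, 1, S.one_mem, fun x => by simpa using h x⟩
  have hdone : F ≤ modSys F T₀ hn → F.focalSubgroup ≤ T₀ := by
    intro h
    refine (Subgroup.closure_le _).2 ?_
    rintro _ ⟨P, φ, x, hφ, rfl⟩
    obtain ⟨g, hg, hge⟩ := (mem_modSys.1 (h P hφ)).2
    have h1 := T₀.mul_mem (hcomm (inv_mul_conj_mem_commutator (le_S F hφ x.2) hg)) (hge x)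
    rwa [mul_assoc, mul_inv_cancel_left] at h1
  -- subsystems
  have hsub : ∀ (T : Subgroup Ω) [Finite T] (E : FusionSystem T), T ≤ S → E.IsSaturated p →
      E.IsSubsystemOf F → (¬ ∀ P, F.Hom P ⊆ E.Hom P) →
      (∀ P, ∀ φ ∈ E.normalizerHom (wImg W T) P, ∀ x : P, (x : Ω)⁻¹ * φ x ∈ T₀) →
      ∀ P, ∀ φ ∈ E.Hom P, ∀ x : P, (x : Ω)⁻¹ * φ x ∈ T₀ := by
    intro T _ E hTS hE hEF hne hN P φ hφ x
    have h1 : focalLocal E (wImg W T) ≤ T₀ := by
      refine (Subgroup.closure_le _).2 ?_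
      rintro _ ⟨P, φ, x, hφ, rfl⟩
      exact hN P φ hφ x
    exact h1 (ihs T E hTS hEF hne (hS.to_le hTS) hE (Subgroup.subset_closure ⟨P, φ, x, hφ, rfl⟩))
  have hN₀ : ∀ P, ∀ φ ∈ F.normalizerHom (wImg W S) P, ∀ x : P, (x : Ω)⁻¹ * φ x ∈ T₀ :=
    fun P φ hφ x => Subgroup.subset_closure ⟨P, φ, x, hφ, rfl⟩
  by_cases hX : F.core = ⊥
  · refine hdone (le_of_ascend hS hF (wImg W) (fun T _ => wImg_le W T)
      (fun T hT => wImg_ne_bot W hW1 hS hT) (fun T hT => normalizerIn_le_wImg W hW2 hS hT) _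
      (fun P φ hφ => hmod hφ.1 (hN₀ P φ hφ)) fun U hU hUn hUIH P φ hφ => hmod hφ.1 ?_)
    have := finite_of_le (normalizerIn_le (S := S) U)
    have hnot : ¬ F.IsNormal U := fun h => hU (le_bot_iff.1 (hX ▸ le_sSup h))
    refine hsub _ (normSys F U rfl hUn.1) (normalizerIn_le U) (isSaturated_normSys hS hF hUn)
      (normSys_isSubsystemOf hUn.1) (normSys_proper hUn.1 hnot) (fun P ψ hψ x => ?_) P φ hφ
    obtain ⟨h1, h2⟩ := normalizerHom_normSys hUn.1 _ P hψ
    obtain ⟨-, g, hg, hge⟩ := hUIH P ψ h1 h2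
    have h3 := T₀.mul_mem (hcomm (inv_mul_conj_mem_commutator (le_S F h1.1 x.2) hg)) (hge x)
    rwa [mul_assoc, mul_inv_cancel_left] at h3
  have hXn : F.IsNormal F.core := isNormal_core
  have hXS := hXn.1
  have hXnS := le_normalizer_of_stronglyClosed (stronglyClosed_of_isNormal hXn)
  -- modulo the core
  have hquot : F.focalSubgroup ≤ T₀ ⊔ F.core := by
    rcases eq_or_ne F.core S with hXeq | hXne
    · exact le_sup_of_le_right (focalSubgroup_le.trans hXeq.ge)
    obtain ⟨Ω', _, S', _, θ, E, hS', hlt, hEsat, hE, hθ⟩ := exists_quotient hS hF hXn hX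
    have hS'ne : S' ≠ ⊥ := by
      intro h
      refine hXne (le_antisymm hXS fun s hs => ?_)
      exact (hE.2.1 ⟨s, hs⟩).1 (Subgroup.mem_bot.1 (h ▸ hE.2.2.1.le ⟨_, rfl⟩))
    set U' := wImg W S'
    set U := preimageAlong θ U'
    have hU'S : U' ≤ S' := wImg_le W S'
    have hUS : U ≤ S := preimageAlong_le θ U'
    have hXU : F.core < U := lt_preimageAlong hE hU'S (wImg_ne_bot W hW1 hS' le_rfl hS'ne)
    have hnot : ¬ F.IsNormal U := fun h => hXU.not_ge (le_sSup h)
    have hUn : F.IsFullyNormalized U := isFullyNormalized_of_normal hUS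
      (le_normalizerIn_preimageAlong hE (le_normalizerIn_wImg W hW2 hS'))
    have := finite_of_le (normalizerIn_le (S := S) U)
    have hTU : normalizerIn S U = S := le_antisymm (normalizerIn_le U) (le_inf le_rfl
      (le_normalizerIn_preimageAlong hE (le_normalizerIn_wImg W hW2 hS')))
    have hUmaps := hsub _ (normSys F U rfl hUS) (normalizerIn_le U) (isSaturated_normSys hS hF hUn)
      (normSys_isSubsystemOf hUS) (normSys_proper hUS hnot) (fun P ψ hψ x => by
        obtain ⟨-, h2⟩ := normalizerHom_normSys hUS _ P hψ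
        rw [hTU] at h2
        exact hN₀ P ψ h2 x)
    have hle := ihq Ω' S' E hlt hS' hEsat
    have himg : focalLocal E U' ≤ (T₀.subgroupOf S).map θ := by
      refine (Subgroup.closure_le _).2 ?_
      rintro _ ⟨P', φ', y, hφ', rfl⟩
      obtain ⟨φ, hφ, hP, hφS, hθP, hφe⟩ := exists_lift_normalizerHom hE hU'S hφ'
      obtain ⟨s, hs⟩ := hE.2.2.1.ge (le_S E hφ'.1 y.2)
      have hsP : (s : Ω) ∈ preimageAlong θ P' := mem_preimageAlong.2 (hs ▸ y.2)
      refine ⟨s⁻¹ * ⟨φ ⟨s, hsP⟩, hφS _⟩, hUmaps _ φ hφ ⟨s, hsP⟩, ?_⟩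
      rw [map_mul, map_inv, hs, ← hφe ⟨s, hsP⟩]
      exact congrArg (fun z => (y : Ω')⁻¹ * φ' z) (Subtype.ext hs)
    refine (Subgroup.closure_le _).2 ?_
    rintro _ ⟨P, φ, x, hφ, rfl⟩
    obtain ⟨φ', hφ', hP, hφS, hθP, hφe⟩ := hθ.1.2 P φ hφ
    have h1 : θ (⟨x, hP x.2⟩⁻¹ * ⟨φ x, hφS x⟩) ∈ (T₀.subgroupOf S).map θ := by
      refine himg (hle (Subgroup.subset_closure ⟨_, φ', ⟨_, hθP x⟩, hφ', ?_⟩))
      rw [map_mul, map_inv, hφe]
    obtain ⟨t, ht, hte⟩ := h1
    have h2 : ((t⁻¹ * (⟨x, hP x.2⟩⁻¹ * ⟨φ x, hφS x⟩) : S) : Ω) ∈ F.core :=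
      (hE.2.1 _).1 (by rw [map_mul, map_inv, hte, inv_mul_cancel])
    have h3 := Subgroup.mul_mem_sup (S := T₀) ht h2
    simpa [mul_assoc] using h3
  suffices hcap : F.focalSubgroup ⊓ F.core ≤ T₀ by
    intro y hy
    obtain ⟨a, ha, b, hb, rfl⟩ := exists_mul_of_mem_sup (hT₀S.trans hXnS) (hquot hy)
    refine T₀.mul_mem ha (hcap ⟨?_, hb⟩)
    simpa using F.focalSubgroup.mul_mem (F.focalSubgroup.inv_mem (focalLocal_le F _ ha)) hy
  by_cases hc : centralizerIn S F.core ≤ F.core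
  · exact hbase Ω S F hS hF hc
  by_cases hinner : ∀ P, F.Hom P ⊆ (innerOnSys F F.core hXS hXnS).Hom P
  · have hI := innerOn_of_innerOnSys hinner
    -- transfer into the abelianization of `S`
    obtain ⟨m, T, hm, hker, hT⟩ := exists_fusion_transfer_hom hS hF (Abelianization.of (G := S))
    rintro y ⟨hy, hyX⟩
    set u : S := ⟨y, hXS hyX⟩
    have h1 : T u = Abelianization.of u ^ m := by
      refine hT u fun P φ hφ a b ha h hab => ?_
      obtain ⟨s, hs, hse⟩ := hI P φ hφ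
      obtain ⟨k, rfl⟩ := Subgroup.mem_zpowers_iff.1 ha
      have hmem : ((u ^ k : S) : Ω) ∈ F.core := by
        rw [Subgroup.coe_zpow]
        exact F.core.zpow_mem hyX k
      have h2 : b = ⟨s, hs⟩ * u ^ k * ⟨s, hs⟩⁻¹ := Subtype.ext (hab.symm.trans (hse _ hmem))
      rw [h2, map_mul, map_mul, map_inv]
      exact mul_inv_cancel_comm _ _
    have h3 : T u = 1 := hker (show u ∈ F.focalSubgroup.subgroupOf S from hy)
    have h4 : Abelianization.of u = 1 := by
      obtain ⟨j, hj⟩ := hS u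
      have h5 : Abelianization.of u ^ p ^ j = 1 := by rw [← map_pow, hj, map_one]
      exact (pow_eq_one_iff_of_coprime (m := m) (n := p ^ j)
        (((Fact.out : p.Prime).coprime_iff_not_dvd.2 hm).symm.pow_right j)).1 ⟨h1.symm.trans h3, h5⟩
    have h6 : u ∈ commutator S := by rw [← Abelianization.ker_of]; exact h4
    refine hcomm ?_
    have h7 : (commutator S).map S.subtype ≤ ⁅S, S⁆ := by
      rw [commutator_def, Subgroup.map_commutator]
      exact Subgroup.commutator_mono (Subgroup.map_subtype_le _) (Subgroup.map_subtype_le _)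
    exact h7 ⟨u, h6, rfl⟩
  · refine inf_le_left.trans (hdone ?_)
    have hYS : F.core ⊔ centralizerIn S F.core ≤ S := sup_le hXS (centralizerIn_le _)
    have hYn := le_normalizer_sup_centralizerIn (S := S) hXS hXnS
    have hYfn : F.IsFullyNormalized _ := isFullyNormalized_of_normal hYS hYn
    have hTY : normalizerIn S (F.core ⊔ centralizerIn S F.core) = S :=
      le_antisymm (normalizerIn_le _) (le_inf le_rfl hYn)
    have := finite_of_le (normalizerIn_le (S := S) (F.core ⊔ centralizerIn S F.core))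
    refine le_of_split hS hF hXn _ (fun P φ hφ => hmod hφ.1 ?_) (fun P hXP φ hφ hfix => hmod hφ ?_)
    · refine hsub _ (normSys F _ rfl hYS) (normalizerIn_le _) (isSaturated_normSys hS hF hYfn)
        (normSys_isSubsystemOf hYS) (normSys_proper hYS (not_isNormal_sup_centralizerIn hc))
        (fun P ψ hψ x => ?_) P φ hφ
      obtain ⟨-, h2⟩ := normalizerHom_normSys hYS _ P hψ
      rw [hTY] at h2
      exact hN₀ P ψ h2 x
    · exact hsub S _ le_rfl (isSaturated_innerOnSys hS hF hXn) (fun P φ h => h.1) hinner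
        (fun P ψ hψ x => hN₀ P ψ (normalizerHom_mono le_rfl
          (show (innerOnSys F F.core hXS hXnS).IsSubsystemOf F from fun _ _ h => h.1) _ P hψ) x) P φ
        (mem_innerOnSys_of_fixed hXP hφ hfix)

end CfsgLib.Fusion
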