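import Cfsg.Agent.Lib.Fusion.Invariant
import Cfsg.Agent.Lib.Fusion.GroupSystem
import Cfsg.Agent.Lib.Solvable.Nilpotent

/-!
# Simplicity of the fusion system of a group from a fusion chain

If a Sylow `p`-subgroup `S` of `G` has only one central subgroup of order `p`, generated by `z`,
if `S` is reached from `z` by multiplication and fusion, and if `N_G(S)` consists of `p`-elements,
then the fusion system of `G` on `S` is simple.
-/

set_option autoImplicit false

open Cfsg Cfsg.FusionSystem

namespace CfsgLib.Fusion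

variable {G : Type*} [Group G]

/-- The elements reached from `z` by products and by conjugation in `G` that lands in `S`. -/
inductive Fused (S : Subgroup G) (z : G) : G → Prop
  | base : Fused S z z
  | one : Fused S z 1
  | mul {a b : G} : Fused S z a → Fused S z b → Fused S z (a * b)
  | conj {a : G} (g : G) : Fused S z a → g * a * g⁻¹ ∈ S → Fused S z (g * a * g⁻¹)

theorem Fused.conjSub {S : Subgroup G} {z x : G} (k : G) (h : Fused S z x) :
    Fused (conjSub k S) (k * z * k⁻¹) (k * x * k⁻¹) := by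
  induction h with
  | base => exact .base
  | one => simpa using Fused.one (S := CfsgLib.Fusion.conjSub k S) (z := k * z * k⁻¹)
  | @mul a b _ _ iha ihb =>
    have := iha.mul ihb
    rwa [show k * a * k⁻¹ * (k * b * k⁻¹) = k * (a * b) * k⁻¹ by group] at this
  | @conj a g _ hS ih =>
    have h1 : k * g * k⁻¹ * (k * a * k⁻¹) * (k * g * k⁻¹)⁻¹ = k * (g * a * g⁻¹) * k⁻¹ := by
      group
    have := ih.conj (k * g * k⁻¹) (h1 ▸ conj_mem_conjSub (g := k) hS)
    rwa [h1] at this

theorem fused_mem_of_stronglyClosed {S T : Subgroup G}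
    (hT : (groupFusionSystem S).StronglyClosed T) {z x : G} (hz : z ∈ T) (hx : Fused S z x) :
    x ∈ T := by
  induction hx with
  | base => exact hz
  | one => exact T.one_mem
  | mul _ _ iha ihb => exact T.mul_mem iha ihb
  | @conj a g _ hS ih =>
    have haS : a ∈ S := hT.1 ih
    let φ : Subgroup.zpowers a →* G :=
      (MulAut.conj g).toMonoidHom.comp (Subgroup.zpowers a).subtype
    have hφ : φ ∈ (groupFusionSystem S).Hom (Subgroup.zpowers a) := by
      refine ⟨Subgroup.zpowers_le.2 haS, ?_, g, fun x => rfl⟩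
      rintro ⟨_, n, rfl⟩
      change g * a ^ n * g⁻¹ ∈ S
      rw [← conj_zpow]
      exact S.zpow_mem hS n
    exact hT.2 _ (Subgroup.zpowers_le.2 ih) φ hφ ⟨a, Subgroup.mem_zpowers a⟩

/-- Simplicity of the fusion system from a fusion chain. -/
theorem isSimple_of_fused [Finite G] {p : ℕ} [Fact p.Prime] (S : Sylow p G) (z : G)
    (hz1 : z ≠ 1) (hzS : z ∈ (S : Subgroup G))
    (hZ : ∀ c ∈ (S : Subgroup G), (∀ s ∈ (S : Subgroup G), s * c = c * s) →
      c ∈ Subgroup.zpowers z)
    (hzp : z ^ p = 1)
    (hgen : ∀ x ∈ (S : Subgroup G), Fused (S : Subgroup G) z x)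
    (hN : ∀ g ∈ Subgroup.normalizer ((S : Subgroup G) : Set G), ∃ k : ℕ, g ^ p ^ k = 1) :
    (groupFusionSystem (S : Subgroup G)).IsSimple p := by
  have hS := S.2
  have : Group.IsNilpotent (S : Subgroup G) := hS.isNilpotent
  refine isSimple_of_autGroup_eq_inn hS (isSaturated_groupFusion S) ?_ ?_ ?_
  · exact fun h => hz1 (by simpa [h] using hzS)
  · intro T hT
    by_cases hT1 : T = ⊥
    · exact Or.inl hT1
    refine Or.inr (le_antisymm hT.1 fun x hx => fused_mem_of_stronglyClosed hT ?_ (hgen x hx))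
    have : (T.subgroupOf (S : Subgroup G)).Normal := by
      refine ⟨fun t ht s => ?_⟩
      have := hT.2 T le_rfl _ ((groupFusionSystem (S : Subgroup G)).conj_mem hT.1 s.2) ⟨_, ht⟩
      simpa [Subgroup.mem_subgroupOf] using this
    have hne := CfsgLib.Solvable.inf_center_ne_bot_of_isNilpotent
      (N := T.subgroupOf (S : Subgroup G)) (fun h => hT1 (by
        rwa [Subgroup.subgroupOf_eq_bot, disjoint_iff, inf_eq_left.2 hT.1] at h))
    obtain ⟨c, hcm, hc1⟩ := (Subgroup.bot_or_exists_ne_one _).resolve_left hne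
    obtain ⟨hcT, hcc⟩ := hcm
    have hcz := hZ c c.2 fun s hs => congrArg Subtype.val (Subgroup.mem_center_iff.1 hcc ⟨s, hs⟩)
    have hzo : orderOf z = p := orderOf_eq_prime hzp hz1
    have hcne : (c : G) ≠ 1 := fun h => hc1 (Subtype.ext h)
    have hle : Subgroup.zpowers (c : G) ≤ Subgroup.zpowers z := Subgroup.zpowers_le.2 hcz
    have heq : Subgroup.zpowers (c : G) = Subgroup.zpowers z := by
      refine Subgroup.eq_of_le_of_card_ge hle ?_
      have hdvd : Nat.card (Subgroup.zpowers (c : G)) ∣ p :=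
        (Subgroup.card_dvd_of_le hle).trans (dvd_of_eq ((Nat.card_zpowers z).trans hzo))
      rcases (Nat.dvd_prime Fact.out).1 hdvd with h | h
      · rw [Nat.card_zpowers, orderOf_eq_one_iff] at h
        exact absurd h hcne
      · rw [h, Nat.card_zpowers, hzo]
    have : z ∈ Subgroup.zpowers (c : G) := heq ▸ Subgroup.mem_zpowers z
    exact Subgroup.zpowers_le.2 (show (c : G) ∈ T from hcT) this
  · rw [autGroup_groupFusion le_rfl, inn_eq]
    refine le_antisymm (fun α hα => ?_) (autInducedBy_mono le_top)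
    obtain ⟨g, -, hg⟩ := mem_autInducedBy_iff.1 hα
    have hgN : g ∈ Subgroup.normalizer ((S : Subgroup G) : Set G) := mem_normalizer_of_aut hg
    obtain ⟨k, hk⟩ := hN g hgN
    have hgp : IsPGroup p (Subgroup.zpowers g) := by
      obtain ⟨j, -, hj⟩ := (Nat.dvd_prime_pow Fact.out).1 (orderOf_dvd_of_pow_eq_one hk)
      exact IsPGroup.of_card (n := j) (by rw [Nat.card_zpowers, hj])
    have hsup : IsPGroup p (Subgroup.zpowers g ⊔ (S : Subgroup G) : Subgroup G) :=
      hgp.to_sup_of_normal_right' hS (Subgroup.zpowers_le.2 hgN)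
    have hgS : g ∈ (S : Subgroup G) := by
      rw [← S.3 hsup le_sup_right]
      exact Subgroup.mem_sup_left (Subgroup.mem_zpowers g)
    exact mem_autInducedBy_iff.2 ⟨g, hgS, hg⟩

end CfsgLib.Fusion
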