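import Cfsg.Agent.Lib.Fusion.Fused

/-!
Simplicity from a fusion chain when the automorphism group of the Sylow subgroup is a p-group.
-/

set_option autoImplicit false

open Cfsg Cfsg.FusionSystem

namespace CfsgLib.Fusion

/-- If `Aut(S)` is a p-group, the centre of `S` has a single subgroup of order p, generated by `z`,
and `S` is reached from `z` by products and fusion, then the fusion system is simple. -/
theorem isSimple_of_fused_autPGroup {G : Type*} [Group G] [Finite G] {p : ℕ} [Fact p.Prime]
    (S : Sylow p G) (z : G) (hz1 : z ≠ 1) (hzS : z ∈ (S : Subgroup G))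
    (hZ : ∀ c ∈ (S : Subgroup G), (∀ s ∈ (S : Subgroup G), s * c = c * s) → c = 1 ∨ c = z)
    (hgen : ∀ x ∈ (S : Subgroup G), Fused (S : Subgroup G) z x)
    (hA : IsPGroup p (MulAut (S : Subgroup G))) :
    (groupFusionSystem (S : Subgroup G)).IsSimple p := by
  have hS := S.2
  have : Group.IsNilpotent (S : Subgroup G) := hS.isNilpotent
  refine isSimple_of_autGroup_eq_inn hS (isSaturated_groupFusion S) ?_ ?_ ?_
  · exact fun h => hz1 (by simpa [h] using hzS)
  · intro T hT
    by_cases hT1 : T = ⊥
    · exact Or.inl hT1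
    refine Or.inr (le_antisymm hT.1 fun x hx => fused_mem_of_stronglyClosed hT ?_ (hgen x hx))
    have : (T.subgroupOf (S : Subgroup G)).Normal := by
      refine ⟨fun t ht s => ?_⟩
      have := hT.2 T le_rfl _ ((groupFusionSystem (S : Subgroup G)).conj_mem hT.1 s.2) ⟨_, ht⟩
      simpa [Subgroup.mem_subgroupOf] using this
    have hne := CfsgLib.Solvable.inf_center_ne_bot_of_isNilpotent
      (N := T.subgroupOf (S : Subgroup G)) (fun h => hT1 (by
        rwa [Subgroup.subgroupOf_eq_bot, disjoint_iff, inf_eq_left.2 hT.1] at h))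
    obtain ⟨c, ⟨hcT, hcc⟩, hc1⟩ := (Subgroup.bot_or_exists_ne_one _).resolve_left hne
    rcases hZ c c.2 fun s hs => congrArg Subtype.val (Subgroup.mem_center_iff.1 hcc ⟨s, hs⟩) with
      h | h
    · exact absurd (Subtype.ext h) hc1
    · exact h ▸ (show (c : G) ∈ T from hcT)
  · have hfn : (groupFusionSystem (S : Subgroup G)).IsFullyNormalized (S : Subgroup G) := by
      refine ⟨le_rfl, fun Q hQ => ?_⟩
      rw [show normalizerIn (S : Subgroup G) (S : Subgroup G) = (S : Subgroup G) from
        le_antisymm (normalizerIn_le _) (le_inf le_rfl Subgroup.le_normalizer)]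
      exact Subgroup.card_le_of_le (normalizerIn_le Q)
    have hodd := ((isFullyAutomized_iff hS).1
      (fullyAutomized_receptive_of_fullyNormalized hS (isSaturated_groupFusion S) hfn).1).2
    set A := (groupFusionSystem (S : Subgroup G)).autGroup (S : Subgroup G) with hAdef
    set I := autInducedBy (S : Subgroup G) (S : Subgroup G) with hI
    have hone : I.relIndex A = 1 := by
      have : Finite (MulAut (S : Subgroup G)) :=
        Finite.of_injective (fun φ : MulAut (S : Subgroup G) => ⇑φ) DFunLike.coe_injective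
      obtain ⟨n, hn⟩ := IsPGroup.iff_card.1 (hA.to_subgroup A)
      obtain ⟨k, -, hk⟩ := (Nat.dvd_prime_pow Fact.out).1 (hn ▸ Subgroup.relIndex_dvd_card I A)
      rcases k with _ | k
      · simpa using hk
      · exact absurd (hk ▸ dvd_pow_self p k.succ_ne_zero) hodd
    rw [inn_eq]
    exact le_antisymm (Subgroup.relIndex_eq_one.1 hone) (autInducedBy_le_autGroup le_rfl)

end CfsgLib.Fusion
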