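import Cfsg.Agent.Lib.PGroup.Extraspecial
import Cfsg.Agent.Lib.LocalEven.DihedralCriterion

/-!
# Generalized extraspecial groups with an elementary abelian maximal subgroup
-/

set_option autoImplicit false

open scoped commutatorElement

namespace CfsgLib.Fusion.GenX

open Subgroup

/-- A type in the bottom universe with no operations on it. -/
structure SmallCopy (n : ℕ) : Type where
  /-- The index of an element. -/
  val : Fin n

theorem exists_small_group (K : Type*) [Group K] [Finite K] :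
    ∃ (E : Type) (_ : Group E), Nonempty (K ≃* E) := by
  obtain ⟨n, ⟨e⟩⟩ := Finite.exists_equiv_fin K
  let f : SmallCopy n ≃ K := (Equiv.mk SmallCopy.val SmallCopy.mk (fun _ => rfl) fun _ => rfl).trans e.symm
  letI := f.group
  exact ⟨SmallCopy n, f.group, ⟨MulEquiv.symm f.mulEquiv⟩⟩

theorem exists_small_commGroup (K : Type*) [Group K] [Finite K] (hc : ∀ a b : K, a * b = b * a) :
    ∃ (A : Type) (_ : CommGroup A), Nonempty (K ≃* A) := by
  letI : CommGroup K := { ‹Group K› with mul_comm := hc }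
  obtain ⟨n, ⟨e⟩⟩ := Finite.exists_equiv_fin K
  let f : SmallCopy n ≃ K := (Equiv.mk SmallCopy.val SmallCopy.mk (fun _ => rfl) fun _ => rfl).trans e.symm
  letI := f.commGroup
  exact ⟨SmallCopy n, f.commGroup, ⟨MulEquiv.symm f.mulEquiv⟩⟩

section

variable {G : Type*} [Group G]

/-- The product of a subgroup with a central subgroup meeting it trivially. -/
theorem exists_equiv_prod (K A : Subgroup G) (hA : A ≤ center G) (h : K ⊓ A = ⊥) :
    Nonempty (↥(K ⊔ A) ≃* K × A) := by
  let f : K × A →* G := MonoidHom.noncommCoprod K.subtype A.subtype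
    fun k a => (mem_center_iff.1 (hA a.2) k)
  have hf : Function.Injective f := by
    rw [injective_iff_map_eq_one]
    rintro ⟨k, a⟩ hka
    have h1 : (k : G) * a = 1 := hka
    have h2 : (k : G) ∈ K ⊓ A := ⟨k.2, by rw [eq_inv_of_mul_eq_one_left h1]; exact A.inv_mem a.2⟩
    rw [h, mem_bot] at h2
    rw [h2, one_mul] at h1
    exact Prod.ext (Subtype.ext h2) (Subtype.ext h1)
  have hrange : f.range = K ⊔ A := by
    refine le_antisymm ?_ (sup_le (fun k hk => ⟨(⟨k, hk⟩, 1), mul_one k⟩)
      fun a ha => ⟨(1, ⟨a, ha⟩), one_mul a⟩)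
    rintro _ ⟨⟨k, a⟩, rfl⟩
    exact mul_mem_sup k.2 a.2
  exact ⟨(MulEquiv.subgroupCongr hrange.symm).trans (MonoidHom.ofInjective hf).symm⟩

variable [Finite G] {p : ℕ} [hp : Fact p.Prime]

/-- A subgroup of an elementary abelian group has a complement. -/
theorem exists_complement_elemAb {Z Φ : Subgroup G} (hZc : ∀ a ∈ Z, ∀ b ∈ Z, a * b = b * a)
    (hZp : ∀ a ∈ Z, a ^ p = 1) (hΦ : Φ ≤ Z) :
    ∃ A, A ≤ Z ∧ Φ ⊓ A = ⊥ ∧ Φ ⊔ A = Z := by
  obtain ⟨A, hA, hmax⟩ := Set.Finite.exists_maximal (α := Subgroup G)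
    (Set.toFinite {A | A ≤ Z ∧ Φ ⊓ A = ⊥}) ⟨⊥, bot_le, inf_bot_eq _⟩
  obtain ⟨hAZ, hAΦ⟩ := hA
  refine ⟨A, hAZ, hAΦ, le_antisymm (sup_le hΦ hAZ) fun v hv => ?_⟩
  by_contra hv'
  have hle : A ≤ A ⊔ zpowers v := le_sup_left
  have hnew : A ⊔ zpowers v ≤ Z ∧ Φ ⊓ (A ⊔ zpowers v) = ⊥ := by
    refine ⟨sup_le hAZ (zpowers_le.2 hv), le_bot_iff.1 fun e he => ?_⟩
    obtain ⟨heΦ, he⟩ := he
    have hn : zpowers v ≤ Subgroup.normalizer (A : Set G) := by
      refine zpowers_le.2 (mem_normalizer_iff.2 fun w => ⟨fun hw => ?_, fun hw => ?_⟩)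
      · rw [hZc v hv w (hAZ hw), mul_inv_cancel_right]; exact hw
      · have h1 := hZc v hv _ (hAZ hw)
        have : w = v * w * v⁻¹ := by
          calc w = v⁻¹ * (v * (v * w * v⁻¹) * v⁻¹) * v := by rw [h1]; group
            _ = v * w * v⁻¹ := by group
        rwa [this]
    have he' : e ∈ ((A ⊔ zpowers v : Subgroup G) : Set G) := he
    rw [Subgroup.coe_mul_of_right_le_normalizer_left A (zpowers v) hn] at he'
    obtain ⟨a, ha, b, hb, rfl⟩ := he'
    obtain ⟨k, rfl⟩ := mem_zpowers_iff.1 hb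
    have hk : v ^ k ∈ Φ ⊔ A := by
      have h1 : v ^ k = a⁻¹ * (a * v ^ k) := by group
      rw [h1]
      exact mul_mem (le_sup_right (a := Φ) (A.inv_mem ha)) (le_sup_left (b := A) heΦ)
    have hdvd : (p : ℤ) ∣ k := by
      by_contra hnd
      obtain ⟨s, t, hst⟩ := ((Nat.prime_iff_prime_int.1 hp.out).coprime_iff_not_dvd).2 hnd
      have : v = (v ^ k) ^ t * ((v ^ p) ^ s) := by
        rw [← zpow_natCast v p, ← zpow_mul, ← zpow_mul, ← zpow_add,
          show k * t + (p : ℤ) * s = 1 by rw [← hst]; ring, zpow_one]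
      refine hv' ?_
      rw [this, hZp v hv, one_zpow, mul_one]
      exact zpow_mem hk t
    obtain ⟨j, rfl⟩ := hdvd
    have hv1 : v ^ ((p : ℤ) * j) = 1 := by rw [zpow_mul, zpow_natCast, hZp v hv, one_zpow]
    show a * v ^ ((p : ℤ) * j) ∈ (⊥ : Subgroup G)
    replace heΦ : a * v ^ ((p : ℤ) * j) ∈ Φ := heΦ
    rw [hv1, mul_one] at heΦ ⊢
    rw [← hAΦ]
    exact ⟨heΦ, ha⟩
  have : v ∈ A := (hmax hnew hle) (le_sup_right (a := A) (mem_zpowers v))
  exact hv' (le_sup_right (a := Φ) this)

variable (hG : IsPGroup p G) (hge : frattini G = _root_.commutator G)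
  (hcard : Nat.card (_root_.commutator G) = p)
include hG hcard

theorem commutator_le_center : _root_.commutator G ≤ center G :=
  CfsgLib.PGroup.le_center_of_card_eq hG _ hcard

omit [Finite G] hp hG in
theorem exists_noncommuting (hp1 : p ≠ 1) : ∃ a b : G, a * b ≠ b * a := by
  by_contra h
  push_neg at h
  have hbot : _root_.commutator G = ⊥ := by
    rw [_root_.commutator_def]
    exact le_bot_iff.1 (commutator_le.2 fun a _ b _ =>
      mem_bot.2 (commutatorElement_eq_one_iff_mul_comm.2 (h a b)))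
  rw [hbot, card_bot] at hcard
  exact hp1 hcard.symm

include hge

/-- With an elementary abelian subgroup of index `p`, a generalized extraspecial group is a group
of order `p³` times an elementary abelian group. -/
theorem exists_split {M : Subgroup G} (hM : M.index = p)
    (hMc : ∀ a ∈ M, ∀ b ∈ M, a * b = b * a) (hMp : ∀ a ∈ M, a ^ p = 1) {g : G} (hg : g ∉ M) :
    ∃ (E A : Subgroup G) (x : G), g ∈ E ∧ x ∈ E ∧ x ∈ M ∧ g * x ≠ x * g ∧ Nat.card E = p ^ 3 ∧
      Cfsg.IsExtraspecial p E ∧ (∀ a ∈ A, a ^ p = 1) ∧ (∀ a ∈ A, ∀ b ∈ A, a * b = b * a) ∧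
      Nonempty (G ≃* E × A) := by
  set Φ := _root_.commutator G with hΦdef
  have hΦc : Φ ≤ center G := commutator_le_center hG hcard
  have hcomm : ∀ a b : G, ⁅a, b⁆ ∈ Φ := fun a b =>
    commutator_mem_commutator (mem_top a) (mem_top b)
  have hsup : ∀ K : Subgroup G, M ≤ K → g ∈ K → K = ⊤ := by
    intro K hMK hgK
    rw [← index_eq_one]
    rcases (Nat.dvd_prime hp.out).1 (hM ▸ index_dvd_of_le hMK) with h | h
    · exact h
    · refine absurd ((eq_of_le_of_card_ge hMK ?_).symm ▸ hgK) hg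
      have h1 := K.card_mul_index
      rw [← M.card_mul_index, h, hM] at h1
      exact (Nat.eq_of_mul_eq_mul_right hp.out.pos h1).le
  have hMc' : ∀ m ∈ M, g * m = m * g → m ∈ center G := fun m hm hgm => by
    have : centralizer ({m} : Set G) = ⊤ := hsup _
      (fun a ha => mem_centralizer_singleton_iff.2 (hMc a ha m hm))
      (mem_centralizer_singleton_iff.2 hgm)
    exact mem_center_iff.2 fun a => mem_centralizer_singleton_iff.1 (this ▸ mem_top a)
  obtain ⟨u, v, huv⟩ := exists_noncommuting hcard hp.out.ne_one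
  have hne : ¬ M ≤ centralizer ({g} : Set G) := by
    intro h
    have hMZ : M ≤ center G := fun m hm =>
      hMc' m hm (mem_centralizer_singleton_iff.1 (h hm)).symm
    have : centralizer ({g} : Set G) = ⊤ := hsup _
      (fun a ha => mem_centralizer_singleton_iff.2 (mem_center_iff.1 (hMZ ha) g).symm)
      (mem_centralizer_singleton_iff.2 rfl)
    have hgc : g ∈ center G :=
      mem_center_iff.2 fun a => mem_centralizer_singleton_iff.1 (this ▸ mem_top a)
    have htop : center G = ⊤ := hsup _ hMZ hgc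
    exact huv (mem_center_iff.1 (htop ▸ mem_top v) u)
  have hZM : center G ≤ M := by
    intro z hz
    by_contra hzM
    refine hne fun m hm => mem_centralizer_singleton_iff.2 ?_
    have hgK : g ∈ M ⊔ zpowers z := by
      have : M ⊔ zpowers z = ⊤ := by
        rw [← index_eq_one]
        rcases (Nat.dvd_prime hp.out).1 (hM ▸ index_dvd_of_le
          (le_sup_left : M ≤ M ⊔ zpowers z)) with h | h
        · exact h
        · refine absurd (?_ : z ∈ M) hzM
          have he : M = M ⊔ zpowers z := eq_of_le_of_card_ge le_sup_left (by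
            have h1 := (M ⊔ zpowers z).card_mul_index
            rw [← M.card_mul_index, h, hM] at h1
            exact (Nat.eq_of_mul_eq_mul_right hp.out.pos h1).le)
          exact he ▸ le_sup_right (a := M) (mem_zpowers z)
      rw [this]; exact mem_top g
    have : M ⊔ zpowers z ≤ centralizer ({m} : Set G) := sup_le
      (fun a ha => mem_centralizer_singleton_iff.2 (hMc a ha m hm))
      (zpowers_le.2 (mem_centralizer_singleton_iff.2 (mem_center_iff.1 hz m).symm))
    exact (mem_centralizer_singleton_iff.1 (this hgK)).symm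
  have hinf : M ⊓ centralizer ({g} : Set G) = center G :=
    le_antisymm (fun m hm => hMc' m hm.1 (mem_centralizer_singleton_iff.1 hm.2).symm)
      fun z hz => ⟨hZM hz, mem_centralizer_singleton_iff.2 (mem_center_iff.1 hz g).symm⟩
  have hcardM : Nat.card (center G) * p = Nat.card M :=
    hinf ▸ CfsgLib.PGroup.card_inf_centralizer_mul hΦc hcard (fun k _ => hcomm k g) hne
  obtain ⟨A, hAZ, hAΦ, hAsup⟩ := exists_complement_elemAb (p := p)
    (fun a ha b _ => (mem_center_iff.1 ha b).symm) (fun a ha => hMp a (hZM ha)) hΦc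
  obtain ⟨x, hxM, hx⟩ := SetLike.not_le_iff_exists.1 hne
  have hgx : g * x ≠ x * g := fun h => hx (mem_centralizer_singleton_iff.2 h.symm)
  set z := ⁅g, x⁆ with hzdef
  have hz1 : z ≠ 1 := fun h => hgx (commutatorElement_eq_one_iff_mul_comm.1 h)
  have hzΦ : zpowers z = Φ := by
    refine eq_of_le_of_card_ge (zpowers_le.2 (hcomm g x)) ?_
    rw [Nat.card_zpowers, hcard]
    exact ((Nat.dvd_prime hp.out).1 (hcard ▸ orderOf_dvd_natCard Φ (hcomm g x))).elim
      (fun h => absurd (orderOf_eq_one_iff.1 h) hz1) (fun h => h.ge)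
  set E := closure ({x, g} : Set G) with hEdef
  have hxE : x ∈ E := subset_closure (Set.mem_insert x {g})
  have hgE : g ∈ E := subset_closure (Set.mem_insert_of_mem x rfl)
  have hΦE : Φ ≤ E := by
    rw [← hzΦ, zpowers_le, hzdef, commutatorElement_def]
    exact mul_mem (mul_mem (mul_mem hgE hxE) (inv_mem hgE)) (inv_mem hxE)
  have hgp : g ^ p ∈ Φ := hge ▸ CfsgLib.PGroup.pow_mem_frattini hG g
  have hEZ : E ⊓ center G ≤ Φ := by
    rintro e ⟨he, hec⟩
    have h1 : Abelianization.of e ∈ closure ({Abelianization.of x, Abelianization.of g} :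
        Set (Abelianization G)) := by
      have h := mem_map_of_mem Abelianization.of he
      rwa [hEdef, MonoidHom.map_closure, Set.image_pair] at h
    obtain ⟨m, n, hmn⟩ := mem_closure_pair.1 h1
    obtain ⟨φ, hφ, rfl⟩ : ∃ φ ∈ Φ, e = φ * (x ^ m * g ^ n) := by
      refine ⟨e * (x ^ m * g ^ n)⁻¹, ?_, by group⟩
      rw [hΦdef, ← Abelianization.ker_of, MonoidHom.mem_ker, map_mul, map_inv, map_mul, map_zpow,
        map_zpow, hmn, mul_inv_cancel]
    have hxg : x ^ m * g ^ n ∈ center G := by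
      have := mul_mem (inv_mem (hΦc hφ)) hec
      rwa [inv_mul_cancel_left] at this
    have hgn : g ^ n ∈ M := by
      have := M.mul_mem (M.inv_mem (M.zpow_mem hxM m)) (hZM hxg)
      rwa [inv_mul_cancel_left] at this
    have hpn : (p : ℤ) ∣ n := by
      by_contra hnd
      obtain ⟨s, t, hst⟩ := ((Nat.prime_iff_prime_int.1 hp.out).coprime_iff_not_dvd).2 hnd
      refine hg ?_
      rw [show g = (g ^ n) ^ t * ((g ^ p) ^ s) by
        rw [← zpow_natCast g p, ← zpow_mul, ← zpow_mul, ← zpow_add,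
          show n * t + (p : ℤ) * s = 1 by rw [← hst]; ring, zpow_one]]
      exact M.mul_mem (M.zpow_mem hgn t) (M.zpow_mem (hZM (hΦc hgp)) s)
    have hgnΦ : g ^ n ∈ Φ := by
      obtain ⟨j, rfl⟩ := hpn
      rw [zpow_mul, zpow_natCast]
      exact Φ.zpow_mem hgp j
    have hxmc : x ^ m ∈ center G := by
      have := mul_mem hxg (inv_mem (hΦc hgnΦ))
      rwa [mul_inv_cancel_right] at this
    have hpm : (p : ℤ) ∣ m := by
      by_contra hnd
      obtain ⟨s, t, hst⟩ := ((Nat.prime_iff_prime_int.1 hp.out).coprime_iff_not_dvd).2 hnd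
      refine hgx (mem_center_iff.1 ?_ g)
      rw [show x = (x ^ m) ^ t * ((x ^ p) ^ s) by
        rw [← zpow_natCast x p, ← zpow_mul, ← zpow_mul, ← zpow_add,
          show m * t + (p : ℤ) * s = 1 by rw [← hst]; ring, zpow_one], hMp x hxM, one_zpow, mul_one]
      exact zpow_mem hxmc t
    obtain ⟨i, rfl⟩ := hpm
    rw [zpow_mul, zpow_natCast, hMp x hxM, one_zpow, one_mul]
    exact Φ.mul_mem hφ hgnΦ
  have hEA : E ⊓ A = ⊥ := by
    refine le_bot_iff.1 fun a ha => ?_
    rw [← hAΦ]
    exact ⟨hEZ ⟨ha.1, hAZ ha.2⟩, ha.2⟩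
  have hcZ : center G ⊔ zpowers x = M := by
    have hle : center G ⊔ zpowers x ≤ M := sup_le hZM (zpowers_le.2 hxM)
    refine eq_of_le_of_card_ge hle ?_
    obtain ⟨a, ha⟩ := card_dvd_of_le (le_sup_left : center G ≤ center G ⊔ zpowers x)
    have hd := card_dvd_of_le hle
    rw [← hcardM, ha] at hd
    rcases (Nat.dvd_prime hp.out).1 (Nat.dvd_of_mul_dvd_mul_left Nat.card_pos hd) with h | h
    · rw [h, mul_one] at ha
      have := eq_of_le_of_card_ge (le_sup_left : center G ≤ center G ⊔ zpowers x) ha.le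
      exact absurd (mem_center_iff.1 (this ▸ le_sup_right (a := center G) (mem_zpowers x)) g) hgx
    · rw [ha, h, hcardM]
  have htop : E ⊔ A = ⊤ := by
    have hZle : center G ≤ E ⊔ A := hAsup ▸ sup_le (hΦE.trans le_sup_left) le_sup_right
    refine hsup _ (hcZ ▸ sup_le hZle (zpowers_le.2 (le_sup_left (b := A) hxE)))
      (le_sup_left (b := A) hgE)
  obtain ⟨e⟩ := exists_equiv_prod E A (hAZ) hEA
  obtain ⟨e'⟩ := exists_equiv_prod Φ A hAZ hAΦ
  have hcardE : Nat.card E = p ^ 3 := by
    have h1 : Nat.card G = Nat.card E * Nat.card A := by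
      rw [← Nat.card_prod, ← Nat.card_congr e.toEquiv, htop, Nat.card_congr topEquiv.toEquiv]
    have h2 : Nat.card (center G) = p * Nat.card A := by
      rw [← hcard, ← Nat.card_prod, ← Nat.card_congr e'.toEquiv, hAsup]
    rw [← M.card_mul_index, hM, ← hcardM, h2] at h1
    refine Nat.eq_of_mul_eq_mul_right (Nat.card_pos (α := A)) ?_
    rw [← h1]
    ring
  refine ⟨E, A, x, hgE, hxE, hxM, hgx, hcardE, ?_, fun a ha => hMp a (hZM (hAZ ha)),
    fun a ha b _ => (mem_center_iff.1 (hAZ ha) b).symm,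
    ⟨(topEquiv.symm.trans (MulEquiv.subgroupCongr htop.symm)).trans e⟩⟩
  have hcenE : center E = Φ.subgroupOf E := by
    refine le_antisymm (fun w hw => hEZ ⟨w.2, mem_center_iff.2 fun a => ?_⟩) fun w hw =>
      mem_center_iff.2 fun a => Subtype.ext (mem_center_iff.1 (hΦc hw) a)
    have : E ⊔ A ≤ centralizer ({(w : G)} : Set G) := sup_le
      (fun a ha => mem_centralizer_singleton_iff.2
        (congrArg Subtype.val (mem_center_iff.1 hw ⟨a, ha⟩)))
      fun a ha => mem_centralizer_singleton_iff.2 (mem_center_iff.1 (hAZ ha) w).symm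
    exact mem_centralizer_singleton_iff.1 (this (htop.symm ▸ mem_top a))
  refine CfsgLib.PGroup.isExtraspecial_mk (hG.to_subgroup E) ?_ ?_ (fun a b => ?_) fun a => ?_
  · rw [hcenE, Nat.card_congr (subgroupOfEquivOfLe hΦE).toEquiv, hcard]
  · exact fun h => hgx (congrArg Subtype.val (h.is_comm.comm (⟨g, hgE⟩ : E) ⟨x, hxE⟩))
  · rw [hcenE]; exact hcomm a b
  · rw [hcenE]; exact hge ▸ CfsgLib.PGroup.pow_mem_frattini hG (a : G)

/-- For `p = 2` the group is a dihedral group of order 8 times an elementary abelian group. -/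
theorem exists_dihedral_split (h2 : p = 2) {M : Subgroup G} (hM : M.index = p)
    (hMc : ∀ a ∈ M, ∀ b ∈ M, a * b = b * a) (hMp : ∀ a ∈ M, a ^ p = 1) :
    ∃ (A : Type) (_ : CommGroup A), (∀ a : A, a ^ 2 = 1) ∧
      Nonempty (G ≃* DihedralGroup 4 × A) := by
  subst h2
  obtain ⟨g, hg⟩ : ∃ g, g ∉ M := by
    by_contra h
    push_neg at h
    rw [index_eq_one.2 (eq_top_iff' M |>.2 h)] at hM
    omega
  obtain ⟨E, A, x, hgE, hxE, hxM, hgx, hcardE, hext, hAp, hAc, ⟨e⟩⟩ :=
    exists_split hG hge hcard hM hMc hMp hg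
  have hΦc : _root_.commutator G ≤ center G := commutator_le_center hG hcard
  have hsq : ∀ w : G, w ^ 2 ∈ _root_.commutator G :=
    fun w => hge ▸ CfsgLib.PGroup.pow_mem_frattini hG w
  -- a rotation
  obtain ⟨c, hcE, hcM, hc4, hc2⟩ : ∃ c ∈ E, c ∉ M ∧ c ^ 4 = 1 ∧ c ^ 2 ≠ 1 := by
    have h4 : ∀ w : G, w ^ 4 = 1 := fun w => by
      rw [show 4 = 2 * 2 from rfl, pow_mul]
      exact orderOf_dvd_iff_pow_eq_one.1 ((Subgroup.orderOf_dvd_natCard _ (hsq w)).trans hcard.dvd)
    by_cases hg2 : g ^ 2 = 1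
    · refine ⟨x * g, E.mul_mem hxE hgE, fun h => hg ?_, h4 _, fun h => hgx ?_⟩
      · simpa using M.mul_mem (M.inv_mem hxM) h
      · have hxi : x⁻¹ = x := inv_eq_of_mul_eq_one_left (by rw [← pow_two]; exact hMp x hxM)
        have hgi : g⁻¹ = g := inv_eq_of_mul_eq_one_left (by rw [← pow_two]; exact hg2)
        have h1 : (x * g)⁻¹ = x * g := inv_eq_of_mul_eq_one_left (by rw [← pow_two]; exact h)
        rw [mul_inv_rev, hxi, hgi] at h1
        exact h1
    · exact ⟨g, hgE, hg, h4 g, hg2⟩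
  have hxx : x * x = 1 := by rw [← pow_two]; exact hMp x hxM
  have hxne : c * x ≠ x * c := by
    intro h
    refine hgx ?_
    have hsup : centralizer ({x} : Set G) = ⊤ := by
      rw [← index_eq_one]
      rcases (Nat.dvd_prime Nat.prime_two).1 (hM ▸ index_dvd_of_le
        (fun a ha => mem_centralizer_singleton_iff.2 (hMc a ha x hxM) :
          M ≤ centralizer ({x} : Set G))) with h' | h'
      · exact h'
      · refine absurd ?_ hcM
        have heq := eq_of_le_of_card_ge (fun a ha => mem_centralizer_singleton_iff.2 (hMc a ha x hxM) :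
          M ≤ centralizer ({x} : Set G)) (by
            have h1 := (centralizer ({x} : Set G)).card_mul_index
            rw [← M.card_mul_index, h', hM] at h1
            exact (Nat.eq_of_mul_eq_mul_right (by omega) h1).le)
        rw [heq]
        exact mem_centralizer_singleton_iff.2 h
    exact mem_centralizer_singleton_iff.1 (hsup ▸ mem_top g)
  have hinv : x * c * x⁻¹ = c⁻¹ := by
    have h1 : ⁅x, c⁆ = c ^ 2 := by
      have hmem : ⁅x, c⁆ ∈ _root_.commutator G := commutator_mem_commutator (mem_top x) (mem_top c)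
      have hz : zpowers (c ^ 2) = _root_.commutator G :=
        eq_of_le_of_card_ge (zpowers_le.2 (hsq c)) (by
          rw [Nat.card_zpowers, hcard, orderOf_eq_prime (p := 2) (by rw [← pow_mul]; exact hc4) hc2])
      rw [← hz, mem_zpowers_iff] at hmem
      obtain ⟨i, hi⟩ := hmem
      have hi2 : i = i % 2 + 2 * (i / 2) := by omega
      rcases Int.emod_two_eq_zero_or_one i with h | h <;>
        rw [hi2, h, zpow_add, zpow_mul,
          zpow_ofNat (c ^ 2) 2, show (c ^ 2) ^ 2 = 1 by rw [← pow_mul]; exact hc4, one_zpow,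
          mul_one] at hi
      · rw [zpow_zero] at hi
        exact absurd (commutatorElement_eq_one_iff_mul_comm.1 hi.symm).symm hxne
      · rw [zpow_one] at hi; exact hi.symm
    have h2 : c ^ 3 = c⁻¹ := eq_inv_of_mul_eq_one_left (by rw [← pow_succ]; exact hc4)
    rw [← h2, pow_succ c 2, ← h1, commutatorElement_def]
    group
  let f := CfsgLib.LocalEven.DihedralCrit.toGroup (p := 4) x c hxx hc4 hinv
  have hf : Function.Injective f := by
    refine CfsgLib.LocalEven.DihedralCrit.toGroup_injective hxx hc4 hinv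
      (orderOf_eq_prime_pow (p := 2) (n := 1) (by simpa using hc2) (by simpa using hc4)) fun h => ?_
    obtain ⟨i, rfl⟩ := mem_zpowers_iff.1 h
    exact hxne ((Commute.refl c).zpow_right i).eq
  have hrange : f.range = E := by
    refine eq_of_le_of_card_ge ?_ ?_
    · rintro _ ⟨(i | i), rfl⟩
      · exact pow_mem hcE _
      · exact E.mul_mem hxE (pow_mem hcE _)
    · rw [hcardE, ← Nat.card_congr (MonoidHom.ofInjective hf).toEquiv, DihedralGroup.nat_card]
      norm_num
  obtain ⟨A', _, ⟨eA⟩⟩ := exists_small_commGroup A fun a b => Subtype.ext (hAc a a.2 b b.2)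
  exact ⟨A', inferInstance, fun a => eA.symm.injective (by
    rw [map_pow, map_one]; exact Subtype.ext (hAp _ (eA.symm a).2)),
    ⟨e.trans (MulEquiv.prodCongr
      ((MonoidHom.ofInjective hf).trans (MulEquiv.subgroupCongr hrange)).symm eA)⟩⟩

/-- For odd `p`, if a further element has order `p` the group is `p^{1+2}_+` times an elementary
abelian group. -/
theorem exists_exponent_split (hodd : p ≠ 2) {M : Subgroup G} (hM : M.index = p)
    (hMc : ∀ a ∈ M, ∀ b ∈ M, a * b = b * a) (hMp : ∀ a ∈ M, a ^ p = 1) {g : G} (hg : g ∉ M)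
    (hgp : g ^ p = 1) :
    ∃ (E : Type) (_ : Group E) (A : Type) (_ : CommGroup A), Cfsg.IsExtraspecial p E ∧
      Nat.card E = p ^ 3 ∧ Monoid.exponent E = p ∧ (∀ a : A, a ^ p = 1) ∧
      Nonempty (G ≃* E × A) := by
  obtain ⟨E, A, x, hgE, hxE, hxM, hgx, hcardE, hext, hAp, hAc, ⟨e⟩⟩ :=
    exists_split hG hge hcard hM hMc hMp hg
  have hcen : ∀ a b : G, ⁅a, b⁆ ∈ center G := fun a b =>
    commutator_le_center hG hcard (commutator_mem_commutator (mem_top a) (mem_top b))
  let K : Subgroup G :=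
    { carrier := {w | w ^ p = 1}
      one_mem' := one_pow p
      mul_mem' := fun {a b} (ha : a ^ p = 1) (hb : b ^ p = 1) => by
        show (a * b) ^ p = 1
        rw [CfsgLib.PGroup.mul_pow_of_comm_mem_center (hcen b a), ha, hb, one_mul, one_mul]
        obtain ⟨c, hc⟩ := hp.out.dvd_choose_self (k := 2) (by norm_num)
          (lt_of_le_of_ne hp.out.two_le (Ne.symm hodd))
        have hm : ⁅b, a⁆ ∈ _root_.commutator G := commutator_mem_commutator (mem_top b) (mem_top a)
        rw [hc, pow_mul, orderOf_dvd_iff_pow_eq_one.1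
          ((Subgroup.orderOf_dvd_natCard _ hm).trans hcard.dvd), one_pow]
      inv_mem' := fun {a} (ha : a ^ p = 1) => by
        show a⁻¹ ^ p = 1
        rw [inv_pow, ha, inv_one] }
  have hMK : M ≤ K := fun a ha => hMp a ha
  have hKtop : K = ⊤ := by
    rw [← index_eq_one]
    rcases (Nat.dvd_prime hp.out).1 (hM ▸ index_dvd_of_le hMK) with h | h
    · exact h
    · refine absurd ?_ hg
      have heq := eq_of_le_of_card_ge hMK (by
        have h1 := K.card_mul_index
        rw [← M.card_mul_index, h, hM] at h1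
        exact (Nat.eq_of_mul_eq_mul_right hp.out.pos h1).le)
      rw [heq]
      exact hgp
  have hexp : Monoid.exponent E = p := by
    refine ((Nat.dvd_prime hp.out).1 (Monoid.exponent_dvd_of_forall_pow_eq_one fun w => ?_)).elim
      (fun h => ?_) id
    · exact Subtype.ext (show (w : G) ∈ K by rw [hKtop]; trivial)
    · exfalso
      have := Monoid.exp_eq_one_iff.1 h
      exact hgx (congrArg Subtype.val (Subsingleton.elim
        ((⟨g, hgE⟩ : E) * ⟨x, hxE⟩) (⟨x, hxE⟩ * ⟨g, hgE⟩)))
  obtain ⟨E', _, ⟨eE⟩⟩ := exists_small_group E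
  obtain ⟨A', _, ⟨eA⟩⟩ := exists_small_commGroup A fun a b => Subtype.ext (hAc a a.2 b b.2)
  refine ⟨E', inferInstance, A', inferInstance, ?_, ?_, ?_, fun a => eA.symm.injective (by
    rw [map_pow, map_one]; exact Subtype.ext (hAp _ (eA.symm a).2)), ⟨e.trans (eE.prodCongr eA)⟩⟩
  · obtain ⟨⟨hEp, hfr, hco⟩, hZc⟩ := hext
    have hcen' : ∀ a b : E', ⁅a, b⁆ ∈ center E' := by
      intro a b
      refine mem_center_iff.2 fun c => eE.symm.injective ?_
      rw [map_mul, map_mul]
      refine mem_center_iff.1 ?_ _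
      rw [← hco, map_commutatorElement]
      exact commutator_mem_commutator (mem_top _) (mem_top _)
    have : Finite E' := Finite.of_equiv E eE.toEquiv
    refine CfsgLib.PGroup.isExtraspecial_mk (hEp.of_equiv eE)
      ((Nat.card_congr (Subgroup.centerCongr eE).toEquiv).symm.trans hZc) (fun h => hgx ?_) hcen'
      fun a => ?_
    · exact congrArg Subtype.val (eE.injective (by
        rw [map_mul, map_mul]
        exact h.is_comm.comm _ _ :
        eE ((⟨g, hgE⟩ : E) * ⟨x, hxE⟩) = eE (⟨x, hxE⟩ * ⟨g, hgE⟩)))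
    · rw [show a ^ p = 1 from eE.symm.injective (by
        rw [map_pow, map_one]
        exact Subtype.ext (show ((eE.symm a : E) : G) ∈ K by rw [hKtop]; trivial))]
      exact one_mem _
  · rw [← hcardE, Nat.card_congr eE.toEquiv]
  · rw [← hexp, Monoid.exponent_eq_of_mulEquiv eE]

end

end CfsgLib.Fusion.GenX
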