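import Cfsg.Agent.Lib.Fusion.OmegaSeries
import Cfsg.Agent.Lib.Fusion.GenExtraspecial

/-!
# Strongly closed generalized extraspecial subgroups
-/

set_option autoImplicit false

open Cfsg Cfsg.FusionSystem
open scoped commutatorElement

namespace CfsgLib.Fusion

open GenX

section

variable {V : Type*} [Group V] [Finite V] {p : ℕ} [hp : Fact p.Prime]

/-- Two transvections with different lines: either they generate a `p`-group, or the group they
generate contains an element commuting with the first and inverting the first line. -/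
theorem pgroup_or_inversion (hV : IsPGroup p V) (hab : ∀ a b : V, Commute a b)
    (hexp : ∀ a : V, a ^ p = 1) {Z : Subgroup V} (hZ : Nat.card Z = p)
    {τ τ' : MulAut V} (hfix : ∀ z ∈ Z, τ z = z) (hmov : ∀ w, τ w * w⁻¹ ∈ Z) {b : V}
    (hτb : τ b ≠ b) (hτ'b : τ' b = b) (hmov' : ∀ w, τ' w * w⁻¹ ∈ Subgroup.zpowers b) :
    IsPGroup p (Subgroup.closure {τ, τ'} : Subgroup (MulAut V)) ∨
      ∃ ι ∈ Subgroup.closure ({τ, τ'} : Set (MulAut V)), ι * τ = τ * ι ∧ ∀ z ∈ Z, ι z = z⁻¹ := by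
  set A := Subgroup.closure ({τ, τ'} : Set (MulAut V)) with hAdef
  have hτA : τ ∈ A := Subgroup.subset_closure (Set.mem_insert τ _)
  have hτ'A : τ' ∈ A := Subgroup.subset_closure (Set.mem_insert_of_mem τ rfl)
  have hpow : ∀ {w : V}, w ≠ 1 → orderOf w = p := fun hw => orderOf_eq_prime (hexp _) hw
  obtain ⟨z, hzdef⟩ : ∃ z, z = τ b * b⁻¹ := ⟨_, rfl⟩
  have hz : z ∈ Z := hzdef ▸ hmov b
  have hτbz : τ b = z * b := by rw [hzdef, inv_mul_cancel_right]
  have hz1 : z ≠ 1 := fun h => hτb (by rw [hτbz, h, one_mul])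
  have hZz : Z = Subgroup.zpowers z := (Subgroup.eq_of_le_of_card_ge (Subgroup.zpowers_le.2 hz)
    (by rw [Nat.card_zpowers, hpow hz1, hZ])).symm
  by_cases hτ'z : τ' z = z
  · left
    let C : ℕ → Subgroup V := fun i =>
      if i = 0 then ⊥ else if i = 1 then Z else if i = 2 then Z ⊔ Subgroup.zpowers b else ⊤
    have hfix' : ∀ w ∈ Z, τ' w = w := by
      intro w hw
      rw [hZz] at hw
      obtain ⟨i, rfl⟩ := Subgroup.mem_zpowers_iff.1 hw
      rw [map_zpow, hτ'z]
    have hsup : ∀ w ∈ Z ⊔ Subgroup.zpowers b, w⁻¹ * τ w ∈ Z ∧ τ' w = w := by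
      intro w hw
      refine ⟨?_, ?_⟩
      · rw [(hab w⁻¹ (τ w)).eq]; exact hmov w
      · let K : Subgroup V :=
          { carrier := {v | τ' v = v}
            one_mem' := map_one τ'
            mul_mem' := fun {x y} (hx : τ' x = x) (hy : τ' y = y) => by
              show τ' (x * y) = x * y
              rw [map_mul, hx, hy]
            inv_mem' := fun {x} (hx : τ' x = x) => by
              show τ' x⁻¹ = x⁻¹
              rw [map_inv, hx] }
        exact (sup_le hfix' (Subgroup.zpowers_le.2 hτ'b) : Z ⊔ Subgroup.zpowers b ≤ K) hw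
    have hC01 : C 0 ≤ C 1 := by simp [C]
    have hC12 : C 1 ≤ C 2 := by simp [C]
    have hC23 : C 2 ≤ C 3 := by simp [C]
    have hall : ∀ α : MulAut V, (∀ i < 3, ∀ x ∈ C (i + 1), x⁻¹ * α x ∈ C i) →
        α ∈ stabSeries (⊤ : Subgroup (MulAut V)) C 3 := by
      intro α hα
      have hfwd : ∀ i ≤ 3, ∀ x ∈ C i, α x ∈ C i := by
        intro i hi x hx
        interval_cases i
        · rw [show x = 1 from Subgroup.mem_bot.1 (by simpa [C] using hx), map_one]
          exact one_mem _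
        · simpa using (C 1).mul_mem hx (hC01 (hα 0 (by norm_num) x hx))
        · simpa using (C 2).mul_mem hx (hC12 (hα 1 (by norm_num) x hx))
        · simpa using (C 3).mul_mem hx (hC23 (hα 2 (by norm_num) x hx))
      refine ⟨trivial, fun i hi x => ⟨hfwd i hi x, fun h => ?_⟩, hα⟩
      have hinj : Function.Injective (fun y : C i => (⟨α y, hfwd i hi y y.2⟩ : C i)) :=
        fun u v huv => Subtype.ext (α.injective (Subtype.mk.inj huv))
      obtain ⟨⟨y, hy⟩, hye⟩ := Finite.injective_iff_surjective.1 hinj ⟨α x, h⟩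
      have hyx : y = x := α.injective (Subtype.mk.inj hye)
      exact hyx ▸ hy
    refine ((isPGroup_of_stabilizes hV (stabSeries (⊤ : Subgroup (MulAut V)) C 3) C 3
      (fun x => by simp [C]) (fun α _ _ _ x hx => ?_) fun α hα => hα.2.2)).to_le
      ((Subgroup.closure_le _).2 ?_)
    · rw [show x = 1 from Subgroup.mem_bot.1 (by simpa [C] using hx), map_one]
    · intro f hf
      rcases hf with hf | hf <;> rw [hf] <;> refine hall _ fun i hi x hx => ?_ <;> interval_cases i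
      · simp only [C] at hx ⊢
        simp [hfix x (by simpa using hx)]
      · simpa [C] using (hsup x (by simpa [C] using hx)).1
      · have : x⁻¹ * τ x ∈ Z := by rw [(hab x⁻¹ (τ x)).eq]; exact hmov x
        simpa [C] using (le_sup_left : Z ≤ Z ⊔ Subgroup.zpowers b) this
      · simp only [C] at hx ⊢
        simp [hfix' x (by simpa using hx)]
      · simp [C, (hsup x (by simpa [C] using hx)).2]
      · have : x⁻¹ * τ' x ∈ Subgroup.zpowers b := by rw [(hab x⁻¹ (τ' x)).eq]; exact hmov' x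
        simpa [C] using (le_sup_right : Subgroup.zpowers b ≤ Z ⊔ Subgroup.zpowers b) this
  · right
    obtain ⟨d, hddef⟩ : ∃ d, d = τ' z * z⁻¹ := ⟨_, rfl⟩
    have hd1 : d ≠ 1 := fun h => hτ'z (mul_inv_eq_one.1 (hddef ▸ h))
    have hb1 : b ≠ 1 := fun h => hτb (by rw [h, map_one])
    have hbd : Subgroup.zpowers d = Subgroup.zpowers b :=
      Subgroup.eq_of_le_of_card_ge (Subgroup.zpowers_le.2 (hddef ▸ hmov' z))
        (by rw [Nat.card_zpowers, Nat.card_zpowers, hpow hd1, hpow hb1])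
    have hτ'd : τ' d = d := by
      obtain ⟨i, hi⟩ := Subgroup.mem_zpowers_iff.1 (hddef ▸ hmov' z : d ∈ Subgroup.zpowers b)
      rw [← hi, map_zpow, hτ'b]
    have hbinv : b⁻¹ ∈ Subgroup.zpowers d := hbd ▸ inv_mem (Subgroup.mem_zpowers b)
    rw [← mem_powers_iff_mem_zpowers] at hbinv
    obtain ⟨m, hm⟩ := hbinv
    have hiter : ∀ k : ℕ, (τ' ^ k) z = d ^ k * z ∧ (τ' ^ k) b = b ∧
        ∀ v, τ' v = v → (τ' ^ k) v = v := by
      intro k
      induction k with
      | zero => simp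
      | succ k ih =>
        refine ⟨?_, ?_, fun v hv => ?_⟩
        · rw [pow_succ', MulAut.mul_apply, ih.1, map_mul, map_pow, hτ'd, pow_succ d k, mul_assoc,
            hddef, inv_mul_cancel_right]
        · rw [pow_succ', MulAut.mul_apply, ih.2.1, hτ'b]
        · rw [pow_succ', MulAut.mul_apply, ih.2.2 v hv, hv]
    set g := τ' ^ m with hgdef
    have hgz : g z = b⁻¹ * z := by rw [hgdef, (hiter m).1]; exact congrArg (· * z) hm
    have hgb : g b = b := (hiter m).2.1
    set w := τ * g * τ with hwdef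
    have hwz : w z = b⁻¹ := by
      rw [hwdef, MulAut.mul_apply, MulAut.mul_apply, hfix z hz, hgz, map_mul, map_inv, hτbz,
        hfix z hz, mul_inv_rev, inv_mul_cancel_right]
    have hwb : w b = z := by
      rw [hwdef, MulAut.mul_apply, MulAut.mul_apply, hτbz, map_mul, hgz, hgb, map_mul, map_mul,
        map_inv, hτbz, hfix z hz, mul_inv_rev, inv_mul_cancel_right, (hab b⁻¹ (z * b)).eq,
        mul_inv_cancel_right]
    set ι := w * w with hιdef
    have hιA : ι ∈ A := by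
      have : w ∈ A := mul_mem (mul_mem hτA (pow_mem hτ'A m)) hτA
      exact mul_mem this this
    have hιz : ι z = z⁻¹ := by rw [hιdef, MulAut.mul_apply, hwz, map_inv, hwb]
    have hιb : ι b = b⁻¹ := by rw [hιdef, MulAut.mul_apply, hwb, hwz]
    refine ⟨ι, hιA, ?_, fun y hy => ?_⟩
    · let K : Subgroup V :=
        { carrier := {v | ι (τ v) = τ (ι v)}
          one_mem' := by simp
          mul_mem' := fun {x y} (hx : ι (τ x) = τ (ι x)) (hy : ι (τ y) = τ (ι y)) => by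
            show ι (τ (x * y)) = τ (ι (x * y))
            rw [map_mul, map_mul, hx, hy, map_mul, map_mul]
          inv_mem' := fun {x} (hx : ι (τ x) = τ (ι x)) => by
            show ι (τ x⁻¹) = τ (ι x⁻¹)
            rw [map_inv, map_inv, hx, map_inv, map_inv] }
      have hKz : z ∈ K := show ι (τ z) = τ (ι z) by rw [hfix z hz, hιz, map_inv, hfix z hz]
      have hKb : b ∈ K := show ι (τ b) = τ (ι b) by
        rw [hτbz, map_mul, hιz, hιb, map_inv, hτbz, mul_inv_rev, (hab z⁻¹ b⁻¹).eq]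
      refine MulEquiv.ext fun v => ?_
      show v ∈ K
      obtain ⟨i, hi⟩ := Subgroup.mem_zpowers_iff.1 (hZz ▸ hmov v)
      set v₁ := v * (b ^ i)⁻¹ with hv₁
      have hv1τ : τ v₁ = v₁ := by
        rw [hv₁, map_mul, map_inv, map_zpow, hτbz, (hab z b).mul_zpow,
          show τ v = z ^ i * v by rw [hi, inv_mul_cancel_right], mul_inv_rev,
          (hab (z ^ i) v).eq, mul_assoc, (hab (b ^ i)⁻¹ (z ^ i)⁻¹).eq, ← mul_assoc (z ^ i),
          mul_inv_cancel, one_mul]
      have hj' : τ' v₁ * v₁⁻¹ ∈ Subgroup.zpowers d := hbd ▸ hmov' v₁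
      rw [← mem_powers_iff_mem_zpowers] at hj'
      obtain ⟨k, hk⟩ := hj'
      set v₂ := v₁ * (z ^ k)⁻¹ with hv₂
      have hv2τ : τ v₂ = v₂ := by rw [hv₂, map_mul, map_inv, map_pow, hfix z hz, hv1τ]
      have hv2τ' : τ' v₂ = v₂ := by
        have hd' : τ' v₁ = d ^ k * v₁ := by
          rw [show d ^ k = τ' v₁ * v₁⁻¹ from hk, inv_mul_cancel_right]
        rw [hv₂, map_mul, map_inv, map_pow, show τ' z = d * z by rw [hddef, inv_mul_cancel_right],
          (hab d z).mul_pow, hd', mul_inv_rev, (hab (d ^ k) v₁).eq, mul_assoc,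
          (hab (z ^ k)⁻¹ (d ^ k)⁻¹).eq, ← mul_assoc (d ^ k), mul_inv_cancel, one_mul]
      have hK2 : v₂ ∈ K := by
        have hg2 : g v₂ = v₂ := (hiter m).2.2 v₂ hv2τ'
        have hw2 : w v₂ = v₂ := by
          rw [hwdef, MulAut.mul_apply, MulAut.mul_apply, hv2τ, hg2, hv2τ]
        show ι (τ v₂) = τ (ι v₂)
        rw [hv2τ, hιdef, MulAut.mul_apply, hw2, hw2, hv2τ]
      have hK1 : v₁ ∈ K := by
        have := K.mul_mem hK2 (K.pow_mem hKz k)
        rwa [hv₂, inv_mul_cancel_right] at this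
      have := K.mul_mem hK1 (K.zpow_mem hKb i)
      rwa [hv₁, inv_mul_cancel_right] at this
    · rw [hZz] at hy
      obtain ⟨i, rfl⟩ := Subgroup.mem_zpowers_iff.1 hy
      rw [map_zpow, hιz, inv_zpow]

end

variable {Ω : Type*} [Group Ω] {S : Subgroup Ω} {F : FusionSystem S} {p : ℕ} [Fact p.Prime]
  [Finite S]

/-- An automorphism of `M ≤ P` carrying a map induced by `g ∈ P` into `Aut_S(M)` fixes every
characteristic subgroup of a strongly closed `P = M⟨g⟩`. -/
theorem apply_mem_of_congr_induced (hS : IsPGroup p S) (hF : F.IsSaturated p) {P M : Subgroup Ω}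
    (hP : F.StronglyClosed P) (hMP : M ≤ P) (hMab : ⁅M, M⁆ = ⊥) (hM : F.IsFullyNormalized M)
    {g : Ω} (hg : g ∈ P) (hgn : g ∈ Subgroup.normalizer (M : Set Ω))
    (htop : P ≤ M ⊔ Subgroup.zpowers g) {α : MulAut M} (hα : α ∈ F.autGroup M)
    (h : α * normAut g hgn * α⁻¹ ∈ autInducedBy S M) :
    ∃ ψ : MulAut P, (∀ w : M, ((ψ ⟨w, hMP w.2⟩ : P) : Ω) = α w) := by
  have hMS : M ≤ S := hM.1
  have hMe : M ≤ extender S M (M.subtype.comp (α : M ≃* M).toMonoidHom) :=
    (le_inf hMS (Subgroup.commutator_eq_bot_iff_le_centralizer.1 hMab) :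
      M ≤ centralizerIn S M).trans (centralizerIn_le_extender _ _)
  have hge : g ∈ extender S M (M.subtype.comp (α : M ≃* M).toMonoidHom) :=
    mem_extender_iso_iff.2 ⟨hP.1 hg, hgn, by
      rw [show MulAut.congr (α : M ≃* M) (normAut g hgn) = α * normAut g hgn * α⁻¹ from
        MulEquiv.ext fun _ => rfl]
      exact h⟩
  have hle : P ≤ extender S M (M.subtype.comp (α : M ≃* M).toMonoidHom) :=
    htop.trans (sup_le hMe (Subgroup.zpowers_le.2 hge))
  obtain ⟨χ, hχ, hχe⟩ := exists_extension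
    (fullyAutomized_receptive_of_fullyNormalized hS hF hM).2
    ((mem_autGroup_iff F hMS).1 hα) hMP hle
  have := finite_of_le hP.1
  have hrange : χ.range = P := by
    refine Subgroup.eq_of_le_of_card_ge ?_ ?_
    · rintro _ ⟨y, rfl⟩
      exact hP.2 P le_rfl χ hχ y
    · rw [← Nat.card_congr (MonoidHom.ofInjective (F.injective_of_mem hχ)).toEquiv]
  obtain ⟨ψ, -, hψe⟩ := exists_iso_of_range hχ hrange
  exact ⟨ψ, fun w => (hψe _).trans (hχe w)⟩

/-- A strongly closed generalized extraspecial subgroup outside the two exceptional isomorphism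
types is normal. -/
theorem isNormal_of_genExtraspecial (hS : IsPGroup p S) (hF : F.IsSaturated p) {P : Subgroup Ω}
    (hP : F.StronglyClosed P) (hge : frattini ↥P = commutator ↥P)
    (hcard : Nat.card ↥(commutator ↥P) = p)
    (h2 : p = 2 → ¬ ∃ (A : Type) (_ : CommGroup A), (∀ a : A, a ^ 2 = 1) ∧
      Nonempty (↥P ≃* DihedralGroup 4 × A))
    (hodd : p ≠ 2 → ¬ ∃ (E : Type) (_ : Group E) (A : Type) (_ : CommGroup A),
      Cfsg.IsExtraspecial p E ∧ Nat.card E = p ^ 3 ∧ Monoid.exponent E = p ∧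
        (∀ a : A, a ^ p = 1) ∧ Nonempty (↥P ≃* E × A)) : F.IsNormal P := by
  have hPS := hP.1
  have := finite_of_le hPS
  have hpp : p.Prime := Fact.out
  have hPp : IsPGroup p P := hS.to_le hPS
  set Φ := (commutator ↥P).map P.subtype with hΦdef
  have hΦP : Φ ≤ P := Subgroup.map_subtype_le _
  have hΦcard : Nat.card Φ = p := by
    rw [hΦdef, Subgroup.card_map_of_injective P.subtype_injective, hcard]
  have hΦfin := finite_of_le (hΦP.trans hPS)
  have hΦcP : commutator ↥P ≤ Subgroup.center ↥P := commutator_le_center hPp hcard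
  have hcomm : ∀ a ∈ P, ∀ b ∈ P, ⁅a, b⁆ ∈ Φ := fun a ha b hb =>
    ⟨⁅(⟨a, ha⟩ : P), ⟨b, hb⟩⁆,
      Subgroup.commutator_mem_commutator (Subgroup.mem_top _) (Subgroup.mem_top _), rfl⟩
  have hpow : ∀ a ∈ P, a ^ p ∈ Φ := fun a ha =>
    ⟨(⟨a, ha⟩ : P) ^ p, hge ▸ CfsgLib.PGroup.pow_mem_frattini hPp _, rfl⟩
  have hΦcomm : ∀ z ∈ Φ, ∀ w ∈ P, w * z = z * w := by
    rintro _ ⟨z, hz, rfl⟩ w hw
    exact congrArg Subtype.val (Subgroup.mem_center_iff.1 (hΦcP hz) ⟨w, hw⟩)
  suffices hΦsc : F.StronglyClosed Φ by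
    refine isNormal_of_series hS hF hP (fun i => if i = 0 then ⊥ else if i = 1 then Φ else P) 2 rfl
      (by simp) (fun i _ => ?_) (fun i _ => ?_) ?_
    · split_ifs <;> simp [hΦP]
    · split_ifs
      · exact stronglyClosed_of_isNormal isNormal_bot
      · exact hΦsc
      · exact hP
    · intro i hi
      interval_cases i
      · simp only [zero_add, if_true, if_false, one_ne_zero]
        exact Subgroup.commutator_le.2 fun a ha b hb => Subgroup.mem_bot.2
          (commutatorElement_eq_one_iff_mul_comm.2 (hΦcomm b hb a ha))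
      · simpa using (Subgroup.commutator_le.2 hcomm : ⁅P, P⁆ ≤ Φ)
  refine ⟨hΦP.trans hPS, fun R hR φ hφ x => ?_⟩
  by_contra hx
  have hx1 : (x : Ω) ≠ 1 := fun h => hx (by
    rw [show x = 1 from Subtype.ext h, map_one]; exact Φ.one_mem)
  have hRΦ : R = Φ := by
    have := finite_of_le (hR.trans (hΦP.trans hPS))
    rcases (Nat.dvd_prime hpp).1 (hΦcard ▸ Subgroup.card_dvd_of_le hR) with h1 | h1
    · exact absurd (Subgroup.mem_bot.1 ((Subgroup.eq_bot_of_card_eq R h1).le x.2)) hx1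
    · exact Subgroup.eq_of_le_of_card_ge hR (by rw [h1, hΦcard])
  subst hRΦ
  have hRS : Φ ≤ S := hΦP.trans hPS
  obtain ⟨e, he, hee⟩ := exists_iso_of_mem hφ
  set a := φ x with hadef
  have haP : a ∈ P := hP.2 Φ hΦP φ hφ x
  have hap : a ^ p = 1 := by
    rw [hadef, ← map_pow, show x ^ p = 1 from orderOf_dvd_iff_pow_eq_one.1
      ((orderOf_dvd_natCard x).trans hΦcard.dvd), map_one]
  have hBW : φ.range ≤ S := fun y ⟨w, hw⟩ => hw ▸ apply_mem_S F hφ w
  have hSR : S ≤ Subgroup.normalizer (Φ : Set Ω) := by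
    have hsn : ∀ s ∈ S, ∀ w ∈ Φ, s * w * s⁻¹ ∈ Φ := by
      rintro s hs _ ⟨w, hw, rfl⟩
      have hc : (commutator ↥P).Characteristic := inferInstance
      exact ⟨normAut s (le_normalizer_of_stronglyClosed hP hs) w,
        Subgroup.characteristic_iff_map_le.1 hc _ ⟨w, hw, rfl⟩, rfl⟩
    intro s hs
    refine Subgroup.mem_normalizer_iff.2 fun w => ⟨hsn s hs w, fun hw => ?_⟩
    simpa [mul_assoc] using hsn s⁻¹ (S.inv_mem hs) _ hw
  have hfc : F.IsFullyCentralized Φ := by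
    have hfinC := finite_of_le (centralizerIn_le (S := S) Φ)
    refine ⟨hRS, fun Q _ => Subgroup.card_le_of_le ((centralizerIn_le Q).trans
      (le_inf le_rfl fun s hs w hw => ?_))⟩
    have hn : (Φ.subgroupOf S).Normal := ⟨fun y hy t => by
      have h := conj_mem_of_mem_normalizer (hSR t.2) (show (y : Ω) ∈ Φ from hy)
      exact h⟩
    have hRc : Φ.subgroupOf S ≤ Subgroup.center S := CfsgLib.PGroup.le_center_of_card_eq hS _
      (by rw [Nat.card_congr (Subgroup.subgroupOfEquivOfLe hRS).toEquiv, hΦcard])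
    exact (congrArg Subtype.val (Subgroup.mem_center_iff.1 (hRc (x := ⟨w, hRS hw⟩) hw) ⟨s, hs⟩)).symm
  obtain ⟨χ₀, hχ₀, hχ₀e⟩ := exists_extension (receptive_of_fullyCentralized hS hF hfc) he.symm
    (le_inf hBW (by
      rintro _ ⟨u, rfl⟩ _ ⟨v, rfl⟩
      rw [← map_mul, ← map_mul]
      exact congrArg φ (Subtype.ext (hΦcomm _ u.2 _ (hΦP v.2)))) : φ.range ≤ centralizerIn S φ.range)
    (centralizerIn_le_extender _ _)
  -- `M = C_P(a)` and `χ` carries `a` into `Φ`
  set M := P ⊓ Subgroup.centralizer ({a} : Set Ω) with hMdef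
  have hMP : M ≤ P := inf_le_left
  have hMS : M ≤ S := hMP.trans hPS
  have := finite_of_le hMS
  have haM : a ∈ M := ⟨haP, Subgroup.mem_centralizer_singleton_iff.2 rfl⟩
  have hMC : M ≤ centralizerIn S φ.range := by
    refine le_inf hMS fun m hm y hy => ?_
    obtain ⟨w, rfl⟩ := hy
    have hw : w ∈ Subgroup.zpowers x := by
      rw [show Subgroup.zpowers x = ⊤ from Subgroup.eq_top_of_card_eq _ (by
        rw [Nat.card_zpowers, hΦcard]
        exact orderOf_eq_prime (orderOf_dvd_iff_pow_eq_one.1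
          ((orderOf_dvd_natCard x).trans hΦcard.dvd)) fun h => hx1 (congrArg Subtype.val h))]
      trivial
    obtain ⟨i, rfl⟩ := Subgroup.mem_zpowers_iff.1 hw
    rw [map_zpow]
    exact (Commute.zpow_left (Subgroup.mem_centralizer_singleton_iff.1 hm.2).symm i).eq
  set χ := χ₀.comp (Subgroup.inclusion hMC) with hχdef
  have hχ : χ ∈ F.Hom M := res_mem F hχ₀ hMC
  have hχP : ∀ m : M, χ m ∈ P := hP.2 M hMP χ hχ
  have hχinj : Function.Injective χ := F.injective_of_mem hχ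
  have hχa : χ ⟨a, haM⟩ = x := by
    have h3 := hχ₀e (e x)
    rw [MulEquiv.symm_apply_apply] at h3
    rw [← h3]
    exact congrArg χ₀ (Subtype.ext (hee x).symm)
  have haΦ : a ∉ Φ := hx
  have hRgen : ∀ {w : Ω}, w ∈ Φ → w ≠ 1 → Subgroup.zpowers w = Φ := fun {w} hw hw1 =>
    Subgroup.eq_of_le_of_card_ge (Subgroup.zpowers_le.2 hw) (by
      rw [Nat.card_zpowers, hΦcard, orderOf_eq_prime (x := w) (orderOf_dvd_iff_pow_eq_one.1
        ((Subgroup.orderOf_dvd_natCard _ hw).trans hΦcard.dvd)) hw1])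
  have hkill : ∀ d : M, (d : Ω) ∈ Φ → χ d ∈ Φ → d = 1 := by
    intro d hd hχd
    by_contra hd1
    have hχd1 : χ d ≠ 1 := fun h => hd1 (hχinj (h.trans (map_one χ).symm))
    obtain ⟨i, hi⟩ := Subgroup.mem_zpowers_iff.1 ((hRgen hχd hχd1).ge x.2)
    have h4 : d ^ i = ⟨a, haM⟩ := hχinj (by rw [map_zpow, hi, hχa])
    refine haΦ ?_
    rw [show a = ((d ^ i : M) : Ω) from (congrArg Subtype.val h4).symm]
    exact Φ.zpow_mem hd i
  have hMab : ∀ u ∈ M, ∀ v ∈ M, u * v = v * u := by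
    intro u hu v hv
    have h1 := hkill ⁅(⟨u, hu⟩ : M), ⟨v, hv⟩⁆ (hcomm u (hMP hu) v (hMP hv))
      (by rw [map_commutatorElement]; exact hcomm _ (hχP _) _ (hχP _))
    exact congrArg Subtype.val (commutatorElement_eq_one_iff_mul_comm.1 h1)
  have hMexp : ∀ u ∈ M, u ^ p = 1 := fun u hu =>
    congrArg Subtype.val (hkill ((⟨u, hu⟩ : M) ^ p) (hpow u (hMP hu))
      (by rw [map_pow]; exact hpow _ (hχP _)))
  have hMne : M ≠ P := by
    intro h
    obtain ⟨u, v, huv⟩ := exists_noncommuting hcard hpp.ne_one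
    exact huv (Subtype.ext (hMab u (h.symm.le u.2) v (h.symm.le v.2)))
  let M' := M.subgroupOf P
  have hMidx : M'.index = p := by
    have hne : ¬ (⊤ : Subgroup P) ≤ Subgroup.centralizer ({(⟨a, haP⟩ : P)} : Set P) := by
      intro h
      refine hMne (le_antisymm hMP fun w hw => ⟨hw, Subgroup.mem_centralizer_singleton_iff.2 ?_⟩)
      exact congrArg Subtype.val
        (Subgroup.mem_centralizer_singleton_iff.1 (h (Subgroup.mem_top (⟨w, hw⟩ : P))))
    have h1 := CfsgLib.PGroup.card_inf_centralizer_mul hΦcP hcard (K := (⊤ : Subgroup P))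
      (x := ⟨a, haP⟩) (fun k _ => Subgroup.commutator_mem_commutator (Subgroup.mem_top _)
        (Subgroup.mem_top _)) hne
    rw [top_inf_eq, Nat.card_congr Subgroup.topEquiv.toEquiv] at h1
    have hM'eq : M' = Subgroup.centralizer ({(⟨a, haP⟩ : P)} : Set P) := by
      ext w
      simp only [M', hMdef, Subgroup.mem_subgroupOf, Subgroup.mem_inf,
        Subgroup.mem_centralizer_singleton_iff]
      exact ⟨fun h => Subtype.ext h.2, fun h => ⟨w.2, congrArg Subtype.val h⟩⟩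
    rw [← hM'eq, ← M'.card_mul_index] at h1
    exact (Nat.eq_of_mul_eq_mul_left Nat.card_pos h1).symm
  have hM'c : ∀ u ∈ M', ∀ v ∈ M', u * v = v * u := fun u hu v hv => Subtype.ext (hMab u hu v hv)
  have hM'p : ∀ u ∈ M', u ^ p = 1 := fun u hu => Subtype.ext (hMexp u hu)
  have hp2 : p ≠ 2 := fun h => h2 h (exists_dihedral_split hPp hge hcard h hMidx hM'c hM'p)
  have hMchar : ∀ y ∈ P, y ^ p = 1 → y ∈ M := by
    intro y hy hyp
    by_contra hyM
    exact hodd hp2 (exists_exponent_split hPp hge hcard hp2 hMidx hM'c hM'p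
      (g := ⟨y, hy⟩) hyM (Subtype.ext hyp))
  have himg : ∀ {Q : Subgroup Ω} {θ : Q →* Ω}, θ ∈ F.Hom Q → ∀ y : Q, (y : Ω) ∈ M → θ y ∈ M :=
    fun {Q θ} hθ y hy => hMchar _
      (hP.2 _ inf_le_right _ (res_mem F hθ (inf_le_left : Q ⊓ P ≤ Q)) ⟨y, y.2, hMP hy⟩)
      (by rw [← map_pow, show y ^ p = 1 from Subtype.ext (hMexp y hy), map_one])
  have hMsc : F.StronglyClosed M := ⟨hMS, fun Q hQ θ hθ y => himg hθ y (hQ y.2)⟩
  have hMn := le_normalizer_of_stronglyClosed hMsc
  have hMfn : F.IsFullyNormalized M := isFullyNormalized_of_normal hMS hMn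
  have := finite_of_le hMS
  obtain ⟨β, hβ, hβe⟩ := exists_iso_of_range hχ (Subgroup.eq_of_le_of_card_ge
    (by rintro _ ⟨y, rfl⟩; exact himg hχ y y.2)
    (by rw [← Nat.card_congr (MonoidHom.ofInjective hχinj).toEquiv]))
  have hRM : Φ ≤ M := fun z hz => ⟨hΦP hz, Subgroup.mem_centralizer_singleton_iff.2
    (hΦcomm z hz a haP).symm⟩
  set Z := Φ.subgroupOf M with hZdef
  have hZcard : Nat.card Z = p := by
    rw [Nat.card_congr (Subgroup.subgroupOfEquivOfLe hRM).toEquiv, hΦcard]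
  obtain ⟨g, hgP, hgM⟩ := SetLike.exists_of_lt (lt_of_le_of_ne hMP hMne)
  have htop : P ≤ M ⊔ Subgroup.zpowers g := by
    intro w hw
    have h1 : M' ⊔ Subgroup.zpowers (⟨g, hgP⟩ : P) = ⊤ := by
      rw [← Subgroup.index_eq_one]
      rcases (Nat.dvd_prime hpp).1 (hMidx ▸ Subgroup.index_dvd_of_le
        (le_sup_left : M' ≤ M' ⊔ Subgroup.zpowers (⟨g, hgP⟩ : P))) with h | h
      · exact h
      · refine absurd ?_ hgM
        have heq : M' = M' ⊔ Subgroup.zpowers (⟨g, hgP⟩ : P) :=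
          Subgroup.eq_of_le_of_card_ge le_sup_left (by
            have h1 := (M' ⊔ Subgroup.zpowers (⟨g, hgP⟩ : P)).card_mul_index
            rw [← M'.card_mul_index, h, hMidx] at h1
            exact (Nat.eq_of_mul_eq_mul_right hpp.pos h1).le)
        have : (⟨g, hgP⟩ : P) ∈ M' :=
          heq ▸ le_sup_right (a := M') (Subgroup.mem_zpowers _)
        exact this
    have h2 : (⟨w, hw⟩ : P) ∈ M' ⊔ Subgroup.zpowers (⟨g, hgP⟩ : P) := h1 ▸ Subgroup.mem_top _
    have h3 := Subgroup.mem_map_of_mem P.subtype h2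
    rw [Subgroup.map_sup, MonoidHom.map_zpowers, Subgroup.map_subgroupOf_eq_of_le hMP] at h3
    exact h3
  have hgn := hMn (hPS hgP)
  set τ : MulAut M := normAut g hgn with hτdef
  have hτA : τ ∈ F.autGroup M :=
    autInducedBy_le_autGroup hMS (mem_autInducedBy_iff.2 ⟨g, hPS hgP, fun _ => rfl⟩)
  have hτS : τ ∈ autInducedBy S M := mem_autInducedBy_iff.2 ⟨g, hPS hgP, fun _ => rfl⟩
  have hfix : ∀ z ∈ Z, τ z = z := fun z hz => Subtype.ext (by
    show g * (z : Ω) * g⁻¹ = z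
    rw [hΦcomm z hz g hgP, mul_inv_cancel_right])
  have hmov : ∀ w : M, τ w * w⁻¹ ∈ Z := fun w => by
    show g * (w : Ω) * g⁻¹ * (w : Ω)⁻¹ ∈ Φ
    exact hcomm g hgP w (hMP w.2)
  set b : M := ⟨a, haM⟩ with hbdef
  have hβb : ((β b : M) : Ω) = x := (hβe b).trans hχa
  have hτb : τ b ≠ b := by
    intro h
    refine hMne (le_antisymm hMP ?_)
    have hgc : g ∈ Subgroup.centralizer ({a} : Set Ω) :=
      Subgroup.mem_centralizer_singleton_iff.2 (mul_inv_eq_iff_eq_mul.1 (congrArg Subtype.val h))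
    exact htop.trans (sup_le le_rfl (Subgroup.zpowers_le.2 ⟨hgP, hgc⟩))
  set β' : MulAut M := β with hβ'
  set τ' : MulAut M := β'⁻¹ * τ * β' with hτ'def
  have hβA : β' ∈ F.autGroup M := (mem_autGroup_iff F hMS).2 hβ
  have hZgen : ∀ w ∈ Z, w ∈ Subgroup.zpowers (β' b) := by
    intro w hw
    have h5 : (w : Ω) ∈ Subgroup.zpowers ((β b : M) : Ω) := by
      rw [hβb, hRgen x.2 hx1]; exact hw
    obtain ⟨i, hi⟩ := Subgroup.mem_zpowers_iff.1 h5
    exact Subgroup.mem_zpowers_iff.2 ⟨i, Subtype.ext (by rw [Subgroup.coe_zpow]; exact hi)⟩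
  have hτ'b : τ' b = b := by
    rw [hτ'def, MulAut.mul_apply, MulAut.mul_apply,
      hfix (β' b) (show ((β b : M) : Ω) ∈ Φ by rw [hβb]; exact x.2), MulAut.inv_apply_self]
  have hmov' : ∀ w, τ' w * w⁻¹ ∈ Subgroup.zpowers b := by
    intro w
    obtain ⟨i, hi⟩ := Subgroup.mem_zpowers_iff.1 (hZgen _ (hmov (β' w)))
    refine Subgroup.mem_zpowers_iff.2 ⟨i, β'.injective ?_⟩
    rw [map_zpow, hi, map_mul, map_inv, hτ'def, MulAut.mul_apply, MulAut.mul_apply,
      MulAut.apply_inv_self]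
  have hMab' : ⁅M, M⁆ = ⊥ := le_bot_iff.1 (Subgroup.commutator_le.2 fun u hu v hv =>
    Subgroup.mem_bot.2 (commutatorElement_eq_one_iff_mul_comm.2 (hMab u hu v hv)))
  -- automorphisms of `P` fix `Φ`
  have hcharR : ∀ α ∈ F.autGroup M, α * τ * α⁻¹ ∈ autInducedBy S M → ∀ z ∈ Z, α z ∈ Z := by
    intro α hα h z hz
    obtain ⟨ψ, hψ⟩ := apply_mem_of_congr_induced hS hF hP hMP hMab' hMfn hgP hgn htop hα h
    obtain ⟨z₀, hz₀, hz₀e⟩ := (show (z : Ω) ∈ Φ from hz)
    have hc : (commutator ↥P).Characteristic := inferInstance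
    refine ⟨ψ z₀, Subgroup.characteristic_iff_map_le.1 hc ψ ⟨z₀, hz₀, rfl⟩, ?_⟩
    rw [show z₀ = ⟨(z : Ω), hMP z.2⟩ from Subtype.ext hz₀e]
    exact hψ z
  have hτ'A : τ' ∈ F.autGroup M := mul_mem (mul_mem (inv_mem hβA) hτA) hβA
  have hcl : Subgroup.closure ({τ, τ'} : Set (MulAut M)) ≤ F.autGroup M := by
    rw [Subgroup.closure_le]
    rintro _ (rfl | rfl)
    exacts [hτA, hτ'A]
  rcases pgroup_or_inversion (hS.to_le hMS) (fun u v => Subtype.ext (hMab u u.2 v v.2))
    (fun u => Subtype.ext (hMexp u u.2)) hZcard hfix hmov hτb hτ'b hmov' with hpg | ⟨ι, hι, hιτ, hιZ⟩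
  · obtain ⟨-, Sy, hSy⟩ := (fullyAutomized_receptive_of_fullyNormalized hS hF hMfn).1
    obtain ⟨Q, hQ⟩ := (hpg.comap_subtype (K := F.autGroup M)).exists_le_sylow
    obtain ⟨γ, hγ⟩ := MulAction.exists_smul_eq (F.autGroup M) Q Sy
    have hconj : ∀ σ ∈ Subgroup.closure ({τ, τ'} : Set (MulAut M)),
        (γ : MulAut M) * σ * (γ : MulAut M)⁻¹ ∈ autInducedBy S M := by
      intro σ hσ
      have h1 : γ * ⟨σ, hcl hσ⟩ * γ⁻¹ ∈ ((γ • Q : Sylow p (F.autGroup M)) : Subgroup _) :=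
        Subgroup.smul_mem_pointwise_smul _ (MulAut.conj γ) _ (hQ (show (⟨σ, hcl hσ⟩ : F.autGroup M) ∈
          (Subgroup.closure ({τ, τ'} : Set (MulAut M))).subgroupOf (F.autGroup M) from hσ))
      rw [hγ, hSy] at h1
      exact h1
    have h1 := hcharR γ γ.2 (hconj τ (Subgroup.subset_closure (Set.mem_insert τ _)))
    have h2' := hcharR ((γ : MulAut M) * β'⁻¹) (mul_mem γ.2 (inv_mem hβA)) (by
      have := hconj τ' (Subgroup.subset_closure (Set.mem_insert_of_mem τ rfl))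
      rw [hτ'def] at this
      simpa [mul_assoc] using this) (β' b) (show ((β b : M) : Ω) ∈ Φ by rw [hβb]; exact x.2)
    rw [MulAut.mul_apply, MulAut.inv_apply_self] at h2'
    have hinj : Function.Injective (fun w : Z => (⟨(γ : MulAut M) w, h1 w w.2⟩ : Z)) :=
      fun u v huv => Subtype.ext ((γ : MulAut M).injective (Subtype.mk.inj huv))
    obtain ⟨⟨w, hw⟩, hwe⟩ := Finite.injective_iff_surjective.1 hinj ⟨_, h2'⟩
    have : w = b := (γ : MulAut M).injective (Subtype.mk.inj hwe)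
    subst this
    exact haΦ hw
  · have hιτ' : ι * τ * ι⁻¹ = τ := by rw [hιτ, mul_inv_cancel_right]
    obtain ⟨ψ, hψ⟩ := apply_mem_of_congr_induced hS hF hP hMP hMab' hMfn hgP hgn htop (hcl hι)
      (hιτ'.symm ▸ hτS)
    set g' : P := ⟨g, hgP⟩ with hg'
    have hd : ((g'⁻¹ * ψ g' : P) : Ω) ∈ M := by
      refine ⟨(g'⁻¹ * ψ g').2, Subgroup.mem_centralizer_singleton_iff.2 ?_⟩
      have h4 : ι (τ (ι⁻¹ b)) = τ b := congrArg (fun f : MulAut M => f b) hιτ'
      have h5 := congrArg Subtype.val h4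
      change ((ι ⟨g * ((ι⁻¹ b : M) : Ω) * g⁻¹, _⟩ : M) : Ω) = g * a * g⁻¹ at h5
      rw [← hψ, show (⟨((⟨g * ((ι⁻¹ b : M) : Ω) * g⁻¹, _⟩ : M) : Ω), _⟩ : P) =
        g' * ⟨((ι⁻¹ b : M) : Ω), hMP (ι⁻¹ b).2⟩ * g'⁻¹ from Subtype.ext rfl, map_mul, map_mul,
        map_inv, Subgroup.coe_mul, Subgroup.coe_mul, Subgroup.coe_inv, hψ,
        MulAut.apply_inv_self] at h5
      rw [Subgroup.coe_mul, Subgroup.coe_inv]
      calc g⁻¹ * (ψ g' : Ω) * a = g⁻¹ * ((ψ g' : Ω) * (b : Ω) * (ψ g' : Ω)⁻¹) * (ψ g' : Ω) := by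
            rw [hbdef]; group
        _ = g⁻¹ * (g * a * g⁻¹) * (ψ g' : Ω) := by rw [h5]
        _ = a * (g⁻¹ * (ψ g' : Ω)) := by group
    set d : P := g'⁻¹ * ψ g' with hddef
    have hgp : ψ (g' ^ p) = g' ^ p := by
      rw [map_pow, show ψ g' = g' * d by rw [hddef, mul_inv_cancel_left],
        CfsgLib.PGroup.mul_pow_of_comm_mem_center (hΦcP (Subgroup.commutator_mem_commutator
          (Subgroup.mem_top _) (Subgroup.mem_top _))),
        show d ^ p = 1 from Subtype.ext (hMexp _ hd)]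
      obtain ⟨c, hc⟩ := hpp.dvd_choose_self (k := 2) (by norm_num)
        (lt_of_le_of_ne hpp.two_le (Ne.symm hp2))
      have hm : ⁅d, g'⁆ ∈ commutator ↥P :=
        Subgroup.commutator_mem_commutator (Subgroup.mem_top _) (Subgroup.mem_top _)
      rw [hc, pow_mul, orderOf_dvd_iff_pow_eq_one.1
        ((Subgroup.orderOf_dvd_natCard _ hm).trans hcard.dvd), one_pow, mul_one, mul_one]
    have hgR : g ^ p ∈ Φ := hpow g hgP
    have h6 := congrArg Subtype.val (hιZ ⟨g ^ p, hRM hgR⟩ hgR)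
    rw [← hψ, show (⟨((⟨g ^ p, hRM hgR⟩ : M) : Ω), _⟩ : P) = g' ^ p from Subtype.ext rfl,
      hgp] at h6
    have h7 : g ^ p = (g ^ p)⁻¹ := h6
    have h8 : g ^ p = 1 := by
      have h9 : (g ^ p) ^ 2 = 1 := by rw [pow_two]; nth_rw 2 [h7]; rw [mul_inv_cancel]
      have h10 : orderOf (g ^ p) ∣ Nat.gcd 2 p := Nat.dvd_gcd (orderOf_dvd_of_pow_eq_one h9)
        ((Subgroup.orderOf_dvd_natCard _ hgR).trans hΦcard.dvd)
      rw [(Nat.coprime_primes Nat.prime_two hpp).2 (Ne.symm hp2), Nat.dvd_one] at h10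
      exact orderOf_eq_one_iff.1 h10
    exact hgM (hMchar g hgP h8)

end CfsgLib.Fusion
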