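import Cfsg.Agent.Lib.Fusion.NormalCentralizer
import Cfsg.Agent.Lib.Fusion.NormalizerSat

/-!
# The elements centralized by a normal subsystem generate a centralized subgroup
-/

set_option autoImplicit false

open Cfsg Cfsg.FusionSystem

namespace CfsgLib.Fusion.MaxCent

variable {Ω : Type*} [Group Ω] {S T : Subgroup Ω} {F : FusionSystem S} {E : FusionSystem T}

/-- The elements of `C_S(T)` centralized by `E`. -/
def centSet (F : FusionSystem S) {T : Subgroup Ω} (E : FusionSystem T) : Set Ω :=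
  {y | y ∈ centralizerIn S T ∧
    ∀ P : Subgroup Ω, E.Hom P ⊆ F.centralizerHom (Subgroup.zpowers y) P}

/-- The subgroup they generate. -/
def centGen (F : FusionSystem S) {T : Subgroup Ω} (E : FusionSystem T) : Subgroup Ω :=
  Subgroup.closure (centSet F E)

theorem centGen_le : centGen F E ≤ centralizerIn S T :=
  (Subgroup.closure_le _).2 fun _ hy => hy.1

theorem fixed_of_generators {M : Subgroup Ω} {ψ : M →* Ω} (hle : centGen F E ≤ M)
    (h : ∀ (y : Ω) (hy : y ∈ centSet F E), ψ ⟨y, hle (Subgroup.subset_closure hy)⟩ = y)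
    (y : Ω) (hy : y ∈ centGen F E) : ψ ⟨y, hle hy⟩ = y := by
  have h1 : centGen F E ≤ (ψ.eqLocus M.subtype).map M.subtype :=
    (Subgroup.closure_le _).2 fun y hy => ⟨⟨y, hle (Subgroup.subset_closure hy)⟩, h y hy, rfl⟩
  obtain ⟨w, hw, hwy⟩ := h1 hy
  rw [show (⟨y, hle hy⟩ : M) = w from Subtype.ext hwy.symm]
  exact hw.trans hwy

/-- The maps of `E` extending with all centralized elements fixed. -/
def fixSys (F : FusionSystem S) {T : Subgroup Ω} (E : FusionSystem T) (hTS : T ≤ S) :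
    FusionSystem T where
  Hom P := {φ | φ ∈ E.Hom P ∧ ∃ ψ ∈ F.Hom (P ⊔ centGen F E),
    (∀ x : P, ψ (Subgroup.inclusion le_sup_left x) = φ x) ∧
    ∀ x : centGen F E, ψ (Subgroup.inclusion le_sup_right x) = x}
  le_of_mem h := E.le_of_mem h.1
  injective_of_mem h := E.injective_of_mem h.1
  conj_mem := fun {P g} hP hg => ⟨E.conj_mem hP hg, conjHom _ g,
    F.conj_mem (sup_le (hP.trans hTS) (centGen_le.trans (centralizerIn_le T))) (hTS hg),
    fun x => rfl, fun x => by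
      change g * (x : Ω) * g⁻¹ = x
      rw [(centGen_le x.2).2 g hg, mul_inv_cancel_right]⟩
  comp_mem := by
    rintro P Q φ χ ⟨hφ, ψ₁, hψ₁, h1, h1'⟩ ⟨hχ, ψ₂, hψ₂, h2, h2'⟩ hv
    have hle : ∀ x, ψ₁ x ∈ Q ⊔ centGen F E :=
      apply_mem_sup h1 hv (img_eq_of_forall_fixed le_sup_right h1').le
    refine ⟨E.comp_mem hφ hχ hv, _, F.comp_mem hψ₁ hψ₂ hle, fun x => ?_, fun x => ?_⟩
    · exact (congrArg ψ₂ (Subtype.ext (h1 x))).trans (h2 ⟨φ x, hv x⟩)
    · exact (congrArg ψ₂ (Subtype.ext (h1' x))).trans (h2' x)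
  inv_mem := by
    rintro P φ ⟨hφ, ψ, hψ, h1, h1'⟩
    obtain ⟨φi, hφi, hφie⟩ := E.inv_mem hφ
    obtain ⟨ψi, hψi, hψie⟩ := F.inv_mem hψ
    have hle : φ.range ⊔ centGen F E ≤ ψ.range := sup_le
      (by rintro _ ⟨x, rfl⟩; exact ⟨_, h1 x⟩) fun y hy => ⟨_, h1' ⟨y, hy⟩⟩
    refine ⟨φi, ⟨hφi, ψi.comp (Subgroup.inclusion hle), res_mem F hψi hle, ?_, fun x => ?_⟩,
      hφie⟩
    · rintro ⟨_, x, rfl⟩
      rw [hφie]
      refine Eq.trans ?_ (hψie (Subgroup.inclusion le_sup_left x))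
      exact congrArg ψi (Subtype.ext (h1 x).symm)
    · refine Eq.trans ?_ (hψie (Subgroup.inclusion le_sup_right x))
      exact congrArg ψi (Subtype.ext (h1' x).symm)

theorem inclusion_zpowers {y : Ω} (R : Subgroup Ω) :
    y ∈ R ⊔ Subgroup.zpowers y := Subgroup.mem_sup_right (Subgroup.mem_zpowers y)

/-- The elements of `R ⟨y⟩` for `y` centralizing `R`. -/
theorem exists_mul_zpow {R : Subgroup Ω} {y : Ω} (hy : ∀ r ∈ R, r * y = y * r) {x : Ω}
    (hx : x ∈ R ⊔ Subgroup.zpowers y) : ∃ r ∈ R, ∃ k : ℤ, x = r * y ^ k := by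
  have h : x ∈ (↑(R ⊔ Subgroup.zpowers y) : Set Ω) := hx
  rw [Subgroup.coe_mul_of_right_le_normalizer_left R (Subgroup.zpowers y)
    (Subgroup.zpowers_le.2 (mem_normalizer_of_forall_commute hy))] at h
  obtain ⟨r, hr, w, hw, rfl⟩ := h
  obtain ⟨k, rfl⟩ := Subgroup.mem_zpowers_iff.1 hw
  exact ⟨r, hr, k, rfl⟩

/-- An automorphism of `R ⟨y⟩` fixing `R` and `y` is trivial. -/
theorem eq_one_of_fixed {R : Subgroup Ω} {y : Ω} (hy : ∀ r ∈ R, r * y = y * r)
    {b : MulAut ↥(R ⊔ Subgroup.zpowers y)} (hR : ∀ x : ↥(R ⊔ Subgroup.zpowers y), (x : Ω) ∈ R → b x = x)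
    (hb : b ⟨y, inclusion_zpowers R⟩ = ⟨y, inclusion_zpowers R⟩) : b = 1 := by
  refine MulEquiv.ext fun x => ?_
  obtain ⟨r, hr, k, hk⟩ := exists_mul_zpow hy x.2
  have hx : x = ⟨r, Subgroup.mem_sup_left hr⟩ * ⟨y, inclusion_zpowers R⟩ ^ k := Subtype.ext (by simp [hk])
  rw [hx, map_mul, map_zpow, hb, hR _ hr]
  rfl

variable [Finite S] {p : ℕ} [Fact p.Prime]

section Core

variable {R : Subgroup Ω}

/-- The restriction to `R ⟨y⟩` of an automorphism of `R C_S(R)` trivial modulo `R` on `C_S(R)`. -/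
theorem exists_restrict_lift (hRS : R ≤ S) {δ : MulAut ↥(R ⊔ centralizerIn S R)}
    (hδ : δ ∈ F.autGroup (R ⊔ centralizerIn S R))
    (hR : ∀ x : ↥(R ⊔ centralizerIn S R), (x : Ω) ∈ R → (δ x : Ω) ∈ R)
    (hK : ∀ x : ↥(R ⊔ centralizerIn S R), (x : Ω) ∈ centralizerIn S R → (x : Ω)⁻¹ * (δ x : Ω) ∈ R)
    (hco : (orderOf δ).Coprime p) {y : Ω} (hy : y ∈ centralizerIn S R) :
    ∃ b ∈ F.autGroup (R ⊔ Subgroup.zpowers y), (orderOf b).Coprime p ∧
      ∀ x : ↥(R ⊔ Subgroup.zpowers y), (b x : Ω) =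
        δ (Subgroup.inclusion (sup_le_sup_left (Subgroup.zpowers_le.2 hy) R) x) := by
  have hMS : R ⊔ centralizerIn S R ≤ S := sup_le hRS (centralizerIn_le R)
  have := finite_of_le hMS
  have hyM : R ⊔ Subgroup.zpowers y ≤ R ⊔ centralizerIn S R :=
    sup_le_sup_left (Subgroup.zpowers_le.2 hy) R
  have hfwd : ∀ x : ↥(R ⊔ centralizerIn S R), (x : Ω) ∈ R ⊔ Subgroup.zpowers y →
      (δ x : Ω) ∈ R ⊔ Subgroup.zpowers y := by
    intro x hx
    obtain ⟨r, hr, k, hk⟩ := exists_mul_zpow hy.2 hx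
    have hy' : (δ ⟨y, Subgroup.mem_sup_right hy⟩ : Ω) ∈ R ⊔ Subgroup.zpowers y := by
      have h1 := (R ⊔ Subgroup.zpowers y).mul_mem (inclusion_zpowers R)
        (Subgroup.mem_sup_left (hK ⟨y, Subgroup.mem_sup_right hy⟩ hy))
      rwa [mul_inv_cancel_left] at h1
    have hx' : x = ⟨r, Subgroup.mem_sup_left hr⟩ * ⟨y, Subgroup.mem_sup_right hy⟩ ^ k :=
      Subtype.ext (by simp [hk])
    rw [hx', map_mul, map_zpow, Subgroup.coe_mul, Subgroup.coe_zpow]
    exact mul_mem (Subgroup.mem_sup_left (hR ⟨r, Subgroup.mem_sup_left hr⟩ hr)) (zpow_mem hy' k)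
  refine exists_coprime_restrict hMS hyM hδ (fun x => ⟨hfwd x, fun hx => ?_⟩) hco
  -- `δ` permutes the finite subgroup
  have := finite_of_le (hyM.trans hMS)
  let f : ↥(R ⊔ Subgroup.zpowers y) → ↥(R ⊔ Subgroup.zpowers y) := fun z =>
    ⟨δ (Subgroup.inclusion hyM z), hfwd _ z.2⟩
  have hf : Function.Surjective f := Finite.injective_iff_surjective.1 fun a b hab =>
    Subgroup.inclusion_injective hyM (δ.injective (Subtype.ext (congrArg (fun w : ↥(R ⊔ Subgroup.zpowers y) => (w : Ω)) hab)))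
  obtain ⟨z, hz⟩ := hf ⟨_, hx⟩
  have h1 : δ (Subgroup.inclusion hyM z) = δ x :=
    Subtype.ext (congrArg (fun w : ↥(R ⊔ Subgroup.zpowers y) => (w : Ω)) hz)
  rw [← δ.injective h1]
  exact z.2

/-- At a well placed `R ⟨y⟩` a coprime extension is the restriction of the lift. -/
theorem eq_restrict (hS : IsPGroup p S) (hRS : R ≤ S) {N : FusionSystem (normalizerIn S R)}
    (hN : F.IsNormalizerSystem R N) {δ : MulAut ↥(R ⊔ centralizerIn S R)}
    (hδ : δ ∈ F.autGroup (R ⊔ centralizerIn S R))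
    (hR : ∀ x : ↥(R ⊔ centralizerIn S R), (x : Ω) ∈ R → (δ x : Ω) ∈ R)
    (hK : ∀ x : ↥(R ⊔ centralizerIn S R), (x : Ω) ∈ centralizerIn S R → (x : Ω)⁻¹ * (δ x : Ω) ∈ R)
    (hco : (orderOf δ).Coprime p) {y : Ω} (hy : y ∈ centralizerIn S R)
    (hM : N.IsFullyAutomized p (R ⊔ Subgroup.zpowers y))
    {b : MulAut ↥(R ⊔ Subgroup.zpowers y)} (hb : b ∈ F.autGroup (R ⊔ Subgroup.zpowers y))
    (hbco : (orderOf b).Coprime p)
    (hbR : ∀ (x : Ω) (hx : x ∈ R), (b ⟨x, Subgroup.mem_sup_left hx⟩ : Ω) =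
      δ ⟨x, Subgroup.mem_sup_left hx⟩)
    (hby : y⁻¹ * (b ⟨y, inclusion_zpowers R⟩ : Ω) ∈ R) :
    (b ⟨y, inclusion_zpowers R⟩ : Ω) = δ ⟨y, Subgroup.mem_sup_right hy⟩ := by
  have hp : p.Prime := Fact.out
  have hyS := hy.1
  have hMS : (R ⊔ Subgroup.zpowers y) ≤ S := sup_le hRS (Subgroup.zpowers_le.2 hyS)
  have := finite_of_le hMS
  obtain ⟨d, hd, hdco, hde⟩ := exists_restrict_lift hRS hδ hR hK hco hy
  set ym : ↥(R ⊔ Subgroup.zpowers y) := ⟨y, inclusion_zpowers R⟩ with hym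
  have hdy : (d ym : Ω) = δ ⟨y, Subgroup.mem_sup_right hy⟩ := hde ym
  set η := d⁻¹ * b with hη
  have hηF : η ∈ F.autGroup (R ⊔ Subgroup.zpowers y) := mul_mem (inv_mem hd) hb
  have hηR : ∀ x : ↥(R ⊔ Subgroup.zpowers y), (x : Ω) ∈ R → η x = x := fun x hx => by
    rw [hη, MulAut.mul_apply, show b x = d x from Subtype.ext ((hbR x hx).trans (hde x).symm),
      MulAut.inv_apply_self]
  -- the value at `y`
  set u : Ω := y⁻¹ * (d ym : Ω) with hu
  have huR : u ∈ R := by rw [hu, hdy]; exact hK ⟨y, Subgroup.mem_sup_right hy⟩ hy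
  have hdR : ∀ x : ↥(R ⊔ Subgroup.zpowers y), (x : Ω) ∈ R → (d x : Ω) ∈ R := fun x hx => by rw [hde]; exact hR _ hx
  have hdRi : ∀ x : ↥(R ⊔ Subgroup.zpowers y), (x : Ω) ∈ R → (d⁻¹ x : Ω) ∈ R := by
    intro x hx
    have := finite_of_le hRS
    let f : R → R := fun z => ⟨d ⟨z, Subgroup.mem_sup_left z.2⟩, hdR _ z.2⟩
    have hf : Function.Surjective f := Finite.injective_iff_surjective.1 fun a c hac => by
      have h1 := d.injective (Subtype.ext (congrArg (fun w : R => (w : Ω)) hac) :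
        d ⟨(a : Ω), Subgroup.mem_sup_left a.2⟩ = d ⟨(c : Ω), Subgroup.mem_sup_left c.2⟩)
      exact Subtype.ext (congrArg Subtype.val h1 :)
    obtain ⟨z, hz⟩ := hf ⟨x, hx⟩
    rw [show x = d ⟨z, Subgroup.mem_sup_left z.2⟩ from
      Subtype.ext (congrArg (fun w : R => (w : Ω)) hz).symm, MulAut.inv_apply_self]
    exact z.2
  have hηy : y⁻¹ * (η ym : Ω) ∈ R := by
    have h1 : (ym)⁻¹ * η ym = d⁻¹ ((d ym)⁻¹ * b ym) := by
      rw [map_mul, map_inv, MulAut.inv_apply_self, hη, MulAut.mul_apply]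
    have h2 : (((d ym)⁻¹ * b ym : ↥(R ⊔ Subgroup.zpowers y)) : Ω) ∈ R := by
      have h3 := R.mul_mem (R.inv_mem huR) hby
      rw [hu, mul_inv_rev, inv_inv, mul_assoc, mul_inv_cancel_left] at h3
      simpa using h3
    have h4 := hdRi _ h2
    rw [← h1] at h4
    simpa using h4
  obtain ⟨z, hzR, hzη⟩ : ∃ z ∈ R, (η ym : Ω) = y * z := ⟨_, hηy, (mul_inv_cancel_left _ _).symm⟩
  have hyz : Commute y z := (hy.2 z hzR).symm
  -- `η` lies in the stabilizer
  let St : Subgroup (MulAut ↥(R ⊔ Subgroup.zpowers y)) :=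
    { carrier := {α | α ∈ F.autGroup (R ⊔ Subgroup.zpowers y) ∧ (∀ x : ↥(R ⊔ Subgroup.zpowers y), (x : Ω) ∈ R → α x = x) ∧
        ∀ x : ↥(R ⊔ Subgroup.zpowers y), (x : Ω)⁻¹ * (α x : Ω) ∈ R}
      one_mem' := ⟨one_mem _, fun x _ => rfl, fun x => by simp⟩
      mul_mem' := by
        rintro a c ⟨ha, haR, hax⟩ ⟨hc, hcR, hcx⟩
        refine ⟨mul_mem ha hc, fun x hx => by rw [MulAut.mul_apply, hcR x hx, haR x hx],
          fun x => ?_⟩
        have h1 := R.mul_mem (hcx x) (hax (c x))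
        rwa [mul_assoc, mul_inv_cancel_left] at h1
      inv_mem' := by
        rintro a ⟨ha, haR, hax⟩
        refine ⟨inv_mem ha, fun x hx => ?_, fun x => ?_⟩
        · conv_lhs => rw [← haR x hx, MulAut.inv_apply_self]
        · have h1 := R.inv_mem (hax (a⁻¹ x))
          rw [MulAut.apply_inv_self, mul_inv_rev, inv_inv] at h1
          exact h1 }
  have hpow : ∀ α ∈ St, ∃ k, α ^ p ^ k = 1 := by
    rintro α ⟨-, hαR, hαx⟩
    obtain ⟨w, hwR, hwα⟩ : ∃ w ∈ R, (α ym : Ω) = y * w :=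
      ⟨_, hαx ym, (mul_inv_cancel_left _ _).symm⟩
    obtain ⟨k, hk⟩ := hS.to_le hRS ⟨w, hwR⟩
    refine ⟨k, ?_⟩
    have hiter : ∀ i : ℕ, (((α ^ i) ym : ↥(R ⊔ Subgroup.zpowers y)) : Ω) = y * w ^ i ∧
        ∀ x : ↥(R ⊔ Subgroup.zpowers y), (x : Ω) ∈ R → (α ^ i) x = x := by
      intro i
      induction i with
      | zero => exact ⟨by simp [hym], fun x _ => rfl⟩
      | succ i ih =>
        refine ⟨?_, fun x hx => by rw [pow_succ', MulAut.mul_apply, ih.2 x hx, hαR x hx]⟩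
        have h1 : (α ^ i) ym = ym * ⟨w ^ i, Subgroup.mem_sup_left (R.pow_mem hwR i)⟩ :=
          Subtype.ext (by rw [ih.1]; rfl)
        rw [pow_succ', MulAut.mul_apply, h1, map_mul,
          hαR ⟨w ^ i, Subgroup.mem_sup_left (R.pow_mem hwR i)⟩ (R.pow_mem hwR i),
          Subgroup.coe_mul, hwα, mul_assoc, ← pow_succ']
    refine eq_one_of_fixed hy.2 (hiter _).2 (Subtype.ext ?_)
    have hk' : w ^ p ^ k = 1 := congrArg Subtype.val hk
    exact ((hiter (p ^ k)).1).trans (by rw [hk', mul_one])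
  have hηSt : η ∈ St := by
    refine ⟨hηF, hηR, fun x => ?_⟩
    obtain ⟨r, hr, k, hk⟩ := exists_mul_zpow hy.2 x.2
    have hx : x = ⟨r, Subgroup.mem_sup_left hr⟩ * ym ^ k := Subtype.ext (by simp [hk, hym])
    conv =>
      congr
      · skip
      · rw [hx, map_mul, map_zpow, hηR _ hr]
    rw [Subgroup.coe_mul, Subgroup.coe_mul, Subgroup.coe_zpow, Subgroup.coe_zpow, hzη,
      hyz.mul_zpow]
    change (r * y ^ k)⁻¹ * (r * (y ^ k * z ^ k)) ∈ R
    rw [show (r * y ^ k)⁻¹ * (r * (y ^ k * z ^ k)) = z ^ k by group]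
    exact R.zpow_mem hzR k
  -- so it is induced by an element of `C_S(R)`
  have hNM : N.autGroup (R ⊔ Subgroup.zpowers y) ≤ F.autGroup (R ⊔ Subgroup.zpowers y) := Subgroup.closure_mono fun α hα =>
    ((hN (R ⊔ Subgroup.zpowers y)).le hα).1
  have hMn : (R ⊔ Subgroup.zpowers y) ≤ normalizerIn S R := hM.1
  have hstab : ∀ β ∈ N.autGroup (R ⊔ Subgroup.zpowers y), ∀ x : ↥(R ⊔ Subgroup.zpowers y), (x : Ω) ∈ R → (β x : Ω) ∈ R := by
    intro β hβ x hx
    obtain ⟨-, -, -, ψ, -, hψe, hψR⟩ := (hN (R ⊔ Subgroup.zpowers y)).le ((mem_autGroup_iff N hMn).1 hβ)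
    have h1 : ψ (Subgroup.inclusion le_sup_left x) ∈ (R.subgroupOf ((R ⊔ Subgroup.zpowers y) ⊔ R)).map ψ :=
      ⟨_, hx, rfl⟩
    rw [hψR, hψe] at h1
    exact h1
  have hStN : St ≤ N.autGroup (R ⊔ Subgroup.zpowers y) := by
    rintro α ⟨hαF, hαR, -⟩
    refine (mem_autGroup_iff N hMn).2 ((hN (R ⊔ Subgroup.zpowers y)).ge ⟨(mem_autGroup_iff F hMS).1 hαF, hMn,
      fun x => hMn (α x).2, ((R ⊔ Subgroup.zpowers y).subtype.comp α.toMonoidHom).comp
        (Subgroup.inclusion (sup_le le_rfl le_sup_left)), res_mem F ((mem_autGroup_iff F hMS).1 hαF) _,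
        fun x => rfl, ?_⟩)
    have h1 : ∀ x : R, ((R ⊔ Subgroup.zpowers y).subtype.comp α.toMonoidHom).comp
        (Subgroup.inclusion (sup_le le_rfl le_sup_left : (R ⊔ Subgroup.zpowers y) ⊔ R ≤ (R ⊔ Subgroup.zpowers y)))
        (Subgroup.inclusion le_sup_right x) = x := fun x => by
      change (α ⟨(x : Ω), _⟩ : Ω) = x
      rw [hαR ⟨(x : Ω), Subgroup.mem_sup_left x.2⟩ x.2]
    exact img_eq_of_forall_fixed le_sup_right h1
  have hTn : autInducedBy (normalizerIn S R) (R ⊔ Subgroup.zpowers y) ≤ N.autGroup (R ⊔ Subgroup.zpowers y) := autInducedBy_le_autGroup hMn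
  have hSp : IsPGroup p (normalizerIn S R) := hS.to_le (normalizerIn_le R)
  have := finite_of_le (normalizerIn_le (S := S) R)
  obtain ⟨g, hg, hgconj⟩ := exists_conj_mem_of_le (p := p) (U := St)
    (T := autInducedBy (normalizerIn S R) (R ⊔ Subgroup.zpowers y)) (N := N.autGroup (R ⊔ Subgroup.zpowers y))
    (fun α => by
      obtain ⟨k, hk⟩ := hpow α α.2
      exact ⟨k, Subtype.ext hk⟩) (isPGroup_autInducedBy hSp (R ⊔ Subgroup.zpowers y)) hStN hTn
    ((isFullyAutomized_iff hSp).1 hM).2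
  have hgη : g⁻¹ * η * g ∈ St := by
    refine ⟨mul_mem (mul_mem (inv_mem (hNM hg)) hηF) (hNM hg), fun x hx => ?_, fun x => ?_⟩
    · rw [MulAut.mul_apply, MulAut.mul_apply, hηR _ (hstab g hg x hx), MulAut.inv_apply_self]
    · have h1 := hstab g⁻¹ (inv_mem hg) ((g x)⁻¹ * η (g x)) (by simpa using hηSt.2.2 (g x))
      rw [map_mul, map_inv, MulAut.inv_apply_self, Subgroup.coe_mul, Subgroup.coe_inv] at h1
      exact h1
  have hgη' := hgconj _ hgη
  rw [show g * (g⁻¹ * η * g) * g⁻¹ = η by group] at hgη'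
  obtain ⟨c, hcN, hce⟩ := mem_autInducedBy_iff.1 hgη'
  have hcK : c ∈ centralizerIn S R := by
    refine ⟨hcN.1, fun r hr => ?_⟩
    have h1 := hce ⟨r, Subgroup.mem_sup_left hr⟩
    rw [hηR _ hr] at h1
    exact (eq_mul_inv_iff_mul_eq.1 h1)
  -- the commutator is fixed by the lift
  let cm : ↥(R ⊔ centralizerIn S R) := ⟨c, Subgroup.mem_sup_right hcK⟩
  let yM : ↥(R ⊔ centralizerIn S R) := ⟨y, Subgroup.mem_sup_right hy⟩
  let zM : ↥(R ⊔ centralizerIn S R) := ⟨z, Subgroup.mem_sup_left hzR⟩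
  let uM : ↥(R ⊔ centralizerIn S R) := ⟨u, Subgroup.mem_sup_left huR⟩
  set rM : ↥(R ⊔ centralizerIn S R) := cm⁻¹ * δ cm with hrM
  have hrR : (rM : Ω) ∈ R := hK cm hcK
  have e1 : cm * yM * cm⁻¹ = yM * zM := Subtype.ext ((hce ym).symm.trans hzη)
  have e2 : δ yM = yM * uM := Subtype.ext (by
    change (δ yM : Ω) = y * u
    rw [hu, mul_inv_cancel_left, hdy])
  have e3 : δ cm = cm * rM := (mul_inv_cancel_left _ _).symm
  have hcR : ∀ v : ↥(R ⊔ centralizerIn S R), (v : Ω) ∈ R → Commute cm v := fun v hv => Subtype.ext (hcK.2 _ hv).symm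
  have hyR : ∀ v : ↥(R ⊔ centralizerIn S R), (v : Ω) ∈ R → Commute yM v := fun v hv => Subtype.ext (hy.2 _ hv).symm
  -- `u` and `r` are central in `R`
  have huK : u ∈ centralizerIn S R := by
    refine (centralizerIn S R).mul_mem ((centralizerIn S R).inv_mem hy) ⟨hMS (d ym).2, fun r hr => ?_⟩
    obtain ⟨w, hw⟩ : ∃ w : ↥(R ⊔ Subgroup.zpowers y), d w = ⟨r, Subgroup.mem_sup_left hr⟩ := d.surjective _
    have hwR : (w : Ω) ∈ R := by
      have := hdRi ⟨r, Subgroup.mem_sup_left hr⟩ hr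
      rwa [← hw, MulAut.inv_apply_self] at this
    have h1 : d (w * ym) = d (ym * w) := congrArg d (Subtype.ext (hy.2 _ hwR))
    rw [map_mul, map_mul, hw] at h1
    exact congrArg Subtype.val h1
  have hur : Commute uM rM := Subtype.ext (huK.2 _ hrR).symm
  have huz : Commute uM zM := Subtype.ext (huK.2 _ hzR).symm
  have e4 : δ (cm * yM * cm⁻¹) = yM * zM * uM := by
    rw [map_mul, map_mul, map_inv, e2, e3, ← e1]
    have h1 : rM * (yM * uM) * rM⁻¹ = yM * uM := by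
      rw [← mul_assoc, ← (hyR rM hrR).eq, mul_assoc yM, ← hur.eq, ← mul_assoc,
        mul_inv_cancel_right]
    calc cm * rM * (yM * uM) * (cm * rM)⁻¹ = cm * (rM * (yM * uM) * rM⁻¹) * cm⁻¹ := by group
      _ = cm * yM * cm⁻¹ * (cm * uM * cm⁻¹) := by rw [h1]; group
      _ = cm * yM * cm⁻¹ * uM := by rw [(hcR uM huR).eq, mul_inv_cancel_right]
  have hfix : δ zM = zM := by
    rw [e1, map_mul, e2, mul_assoc, mul_assoc] at e4
    have h2 := mul_left_cancel e4
    rw [← huz.eq] at h2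
    exact mul_left_cancel h2
  have hcommd : Commute d η := by
    have h3 : ∀ x : ↥(R ⊔ Subgroup.zpowers y), (x : Ω) ∈ R → η (d x) = d (η x) := fun x hx => by
      rw [hηR _ (hdR x hx), hηR x hx]
    refine MulEquiv.ext fun x => ?_
    change d (η x) = η (d x)
    obtain ⟨r, hr, k, hk⟩ := exists_mul_zpow hy.2 x.2
    have hx : x = ⟨r, Subgroup.mem_sup_left hr⟩ * ym ^ k := Subtype.ext (by simp [hk, hym])
    have h4 : d ym = ym * ⟨u, Subgroup.mem_sup_left huR⟩ :=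
      Subtype.ext (mul_inv_cancel_left _ _).symm
    have h5 : η ym = ym * ⟨z, Subgroup.mem_sup_left hzR⟩ := Subtype.ext hzη
    have h6 : d ⟨z, Subgroup.mem_sup_left hzR⟩ = ⟨z, Subgroup.mem_sup_left hzR⟩ := Subtype.ext (by
      rw [hde]
      exact congrArg Subtype.val hfix)
    have h7 : d (η ym) = η (d ym) := by
      rw [h5, map_mul, h6, h4, map_mul, hηR ⟨u, Subgroup.mem_sup_left huR⟩ huR, h5, mul_assoc,
        mul_assoc]
      congr 1
      exact Subtype.ext (congrArg Subtype.val huz.eq :)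
    calc d (η x) = d (η ⟨r, Subgroup.mem_sup_left hr⟩) * d (η ym) ^ k := by
          rw [hx, map_mul η, map_zpow η, map_mul d, map_zpow d]
      _ = η (d ⟨r, Subgroup.mem_sup_left hr⟩) * η (d ym) ^ k := by rw [h3 _ hr, h7]
      _ = η (d x) := by rw [hx, map_mul d, map_zpow d, map_mul η, map_zpow η]
  obtain ⟨k, hk⟩ := hpow η hηSt
  have hb' : b = d * η := by rw [hη, mul_inv_cancel_left]
  have hn : η ^ (orderOf b * orderOf d) = 1 := by
    have h1 : b ^ (orderOf b * orderOf d) = 1 :=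
      orderOf_dvd_iff_pow_eq_one.1 (dvd_mul_right _ _)
    rw [hb', hcommd.mul_pow, orderOf_dvd_iff_pow_eq_one.1 (dvd_mul_left _ _), one_mul] at h1
    rwa [← hb'] at h1
  have hη1 : η = 1 := orderOf_eq_one_iff.1 (Nat.eq_one_of_dvd_coprimes
    ((hbco.mul_left hdco).pow_right k) (orderOf_dvd_of_pow_eq_one hn)
    (orderOf_dvd_of_pow_eq_one hk))
  rw [← hdy, hb', hη1, mul_one]

omit [Fact p.Prime] in
/-- An automorphism of `R` extends to `R C_S(R)`. -/
theorem exists_lift (hrec : F.IsReceptive R) {a : MulAut R} (ha : a ∈ F.autGroup R) :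
    ∃ γ ∈ F.autGroup (R ⊔ centralizerIn S R),
      (∀ x : R, (γ (Subgroup.inclusion le_sup_left x) : Ω) = a x) ∧
      ∀ x : ↥(R ⊔ centralizerIn S R), (x : Ω) ∈ centralizerIn S R →
        (γ x : Ω) ∈ centralizerIn S R := by
  have hRS := hrec.1
  have haF := (mem_autGroup_iff F hRS).1 ha
  obtain ⟨ψ, hψ, hψe⟩ := exists_extension hrec haF le_sup_left
    (sup_le (le_extender haF) (centralizerIn_le_extender _ _))
  have hK : ∀ x : ↥(R ⊔ centralizerIn S R), (x : Ω) ∈ centralizerIn S R →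
      ψ x ∈ centralizerIn S R := fun x hx =>
    apply_mem_centralizerIn (e := a) hψ le_sup_left hψe hx
  have := finite_of_le (sup_le hRS (centralizerIn_le R) : R ⊔ centralizerIn S R ≤ S)
  have hr : ψ.range = R ⊔ centralizerIn S R := by
    refine Subgroup.eq_of_le_of_card_ge ?_ ?_
    · rw [range_ext_eq (φ := R.subtype.comp a.toMonoidHom) hψe, range_subtype_comp]
      refine sup_le le_sup_left fun y hy => ?_
      obtain ⟨x, hx, rfl⟩ := mem_img.1 hy
      exact Subgroup.mem_sup_right (hK x hx)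
    · exact (Nat.card_congr (MonoidHom.ofInjective (F.injective_of_mem hψ)).toEquiv).le
  obtain ⟨γ, hγ, hγe⟩ := exists_iso_of_range hψ hr
  exact ⟨γ, (mem_autGroup_iff F hγ.le_left).2 hγ, fun x => (hγe _).trans (hψe x),
    fun x hx => by rw [hγe]; exact hK x hx⟩

/-- A lift trivial modulo `R` fixes the centralized elements. -/
theorem fixed_of_lift (hS : IsPGroup p S) (hF : F.IsSaturated p) (hR : F.IsFullyNormalized R)
    (hRT : R ≤ T) {a : MulAut R} (ha : a ∈ E.autGroup R)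
    {δ : MulAut ↥(R ⊔ centralizerIn S R)} (hδ : δ ∈ F.autGroup (R ⊔ centralizerIn S R))
    (hδa : ∀ x : R, (δ (Subgroup.inclusion le_sup_left x) : Ω) = a x)
    (hK : ∀ x : ↥(R ⊔ centralizerIn S R), (x : Ω) ∈ centralizerIn S R → (x : Ω)⁻¹ * (δ x : Ω) ∈ R)
    (hco : (orderOf δ).Coprime p) (hao : (orderOf a).Coprime p) {y : Ω} (hy : y ∈ centSet F E)
    (hyK : y ∈ centralizerIn S R) :
    (δ ⟨y, Subgroup.mem_sup_right hyK⟩ : Ω) = y := by
  have hRS := hR.1
  have hrec := (fullyAutomized_receptive_of_fullyNormalized hS hF hR).2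
  have hMS : (R ⊔ Subgroup.zpowers y) ≤ S := sup_le hRS (Subgroup.zpowers_le.2 hyK.1)
  have := finite_of_le hMS
  have hstab : ∀ x : ↥(R ⊔ centralizerIn S R), (x : Ω) ∈ R → (δ x : Ω) ∈ R := fun x hx => by
    rw [show x = Subgroup.inclusion le_sup_left (⟨x, hx⟩ : R) from rfl, hδa]
    exact (a _).2
  -- an extension fixing `y`
  obtain ⟨-, -, -, ψ, hψ, hψe, hψy⟩ := hy.2 R ((mem_autGroup_iff E hRT).1 ha)
  have hψr : ψ.range = (R ⊔ Subgroup.zpowers y) := by
    rw [range_ext_eq hψe, range_subtype_comp, img_eq_of_forall_fixed le_sup_right hψy]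
  obtain ⟨e, he, hee⟩ := exists_iso_of_range hψ hψr
  obtain ⟨n, hn, hne⟩ := exists_coprime_power_extending (p := p) (le_sup_left : R ≤ (R ⊔ Subgroup.zpowers y))
    (α := a) (β := (e : MulAut ↥(R ⊔ Subgroup.zpowers y))) (fun x => Subtype.ext ((hee _).trans (hψe x))) hao
  set b₁ := (e : MulAut ↥(R ⊔ Subgroup.zpowers y)) ^ n
  have hb₁ : b₁ ∈ F.autGroup (R ⊔ Subgroup.zpowers y) := pow_mem ((mem_autGroup_iff F hMS).2 he) n
  have hb₁y : b₁ ⟨y, inclusion_zpowers R⟩ = ⟨y, inclusion_zpowers R⟩ :=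
    pow_apply_of_fixed_on (A := Subgroup.zpowers y) (fun x hx => Subtype.ext
      ((hee x).trans (hψy ⟨x, hx⟩))) n _ (Subgroup.mem_zpowers y)
  obtain ⟨b₂, hb₂, hb₂co, hb₂e⟩ := exists_restrict_lift hRS hδ hstab hK hco hyK
  -- move to a well placed subgroup
  obtain ⟨N, hN⟩ : ∃ N : FusionSystem (normalizerIn S R), F.IsNormalizerSystem R N :=
    ⟨normSys F R rfl hRS, fun P => rfl⟩
  have hMn : (R ⊔ Subgroup.zpowers y) ≤ normalizerIn S R :=
    sup_le (le_normalizerIn hRS) (Subgroup.zpowers_le.2 (centralizerIn_le_normalizerIn R hyK))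
  obtain ⟨M', hMM', hauto, -⟩ := isSaturated_normalizerSystem hS hF hR N hN (R ⊔ Subgroup.zpowers y) hMn
  obtain ⟨χ, hχN, hχr⟩ := hMM'
  obtain ⟨hχ, -, -, χ', hχ', hχe, hχR⟩ := (hN (R ⊔ Subgroup.zpowers y)).le hχN
  have hχRmem : ∀ (x : ↥(R ⊔ Subgroup.zpowers y)), (x : Ω) ∈ R → χ x ∈ R := fun x hx => by
    have h1 : χ' (Subgroup.inclusion le_sup_left x) ∈ (R.subgroupOf ((R ⊔ Subgroup.zpowers y) ⊔ R)).map χ' :=
      ⟨_, hx, rfl⟩
    rwa [hχR, hχe] at h1
  have := finite_of_le hRS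
  have hχRimg : img χ R = R := Subgroup.eq_of_le_of_card_ge
    (fun w hw => by obtain ⟨x, hx, rfl⟩ := mem_img.1 hw; exact hχRmem x hx)
    (card_img (F.injective_of_mem hχ) le_sup_left).ge
  set y' := χ ⟨y, inclusion_zpowers R⟩ with hy'
  have hy'K : y' ∈ centralizerIn S R := by
    refine ⟨apply_mem_S F hχ _, fun r hr => ?_⟩
    rw [← hχRimg, SetLike.mem_coe, mem_img] at hr
    obtain ⟨x, hx, rfl⟩ := hr
    rw [hy', ← map_mul, ← map_mul]
    exact congrArg χ (Subtype.ext (hyK.2 _ hx))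
  have hr' : χ.range = R ⊔ Subgroup.zpowers y' := by
    rw [← img_self, img_sup χ le_sup_left le_sup_right, hχRimg]
    congr 1
    rw [← range_comp_inclusion χ (le_sup_right : Subgroup.zpowers y ≤ (R ⊔ Subgroup.zpowers y))]
    refine le_antisymm ?_ (Subgroup.zpowers_le.2 ⟨⟨y, Subgroup.mem_zpowers y⟩, rfl⟩)
    rintro _ ⟨⟨x, k, rfl⟩, rfl⟩
    refine ⟨k, ?_⟩
    rw [hy']
    change χ ⟨y, inclusion_zpowers R⟩ ^ k = _
    rw [← map_zpow]
    exact congrArg χ (Subtype.ext (by simp))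
  rw [hr'] at hχr
  subst hχr
  obtain ⟨f, hf, hfe⟩ := exists_iso_of_range hχ hr'
  obtain ⟨c, hc, hce⟩ := exists_iso_of_range (res_mem F hχ (le_sup_left : R ≤ (R ⊔ Subgroup.zpowers y)))
    ((range_comp_inclusion _ _).trans hχRimg)
  obtain ⟨γ, hγ, hγe, hγK⟩ := exists_lift hrec (a := c) ((mem_autGroup_iff F hRS).2 hc)
  set δ' := γ * δ * γ⁻¹ with hδ'
  have hγi : ∀ x : ↥(R ⊔ centralizerIn S R), (x : Ω) ∈ R → (γ⁻¹ x : Ω) ∈ R := by
    intro x hx
    obtain ⟨w, hw⟩ := c.surjective ⟨x, hx⟩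
    have h1 : γ (Subgroup.inclusion le_sup_left w) = x := Subtype.ext (by
      rw [hγe]; exact congrArg Subtype.val hw)
    rw [← h1, MulAut.inv_apply_self]
    exact w.2
  have hγiK : ∀ x : ↥(R ⊔ centralizerIn S R), (x : Ω) ∈ centralizerIn S R →
      (γ⁻¹ x : Ω) ∈ centralizerIn S R := by
    intro x hx
    refine ⟨(sup_le hRS (centralizerIn_le R)) (γ⁻¹ x).2, fun r hr => ?_⟩
    have h1 : γ (Subgroup.inclusion le_sup_left (⟨r, hr⟩ : R) * γ⁻¹ x) =
        γ (γ⁻¹ x * Subgroup.inclusion le_sup_left (⟨r, hr⟩ : R)) := by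
      rw [map_mul, map_mul, MulAut.apply_inv_self]
      refine Subtype.ext ?_
      rw [Subgroup.coe_mul, Subgroup.coe_mul, hγe]
      exact hx.2 _ (c ⟨r, hr⟩).2
    exact congrArg Subtype.val (γ.injective h1)
  have hstab' : ∀ x : ↥(R ⊔ centralizerIn S R), (x : Ω) ∈ R → (δ' x : Ω) ∈ R := fun x hx => by
    rw [hδ', MulAut.mul_apply, MulAut.mul_apply]
    have h1 := hstab _ (hγi x hx)
    rw [show δ (γ⁻¹ x) = Subgroup.inclusion le_sup_left (⟨_, h1⟩ : R) from rfl, hγe]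
    exact (c _).2
  have hK' : ∀ x : ↥(R ⊔ centralizerIn S R), (x : Ω) ∈ centralizerIn S R →
      (x : Ω)⁻¹ * (δ' x : Ω) ∈ R := fun x hx => by
    rw [hδ', MulAut.mul_apply, MulAut.mul_apply]
    have h1 := hK _ (hγiK x hx)
    have h2 : δ (γ⁻¹ x) = γ⁻¹ x * Subgroup.inclusion le_sup_left (⟨_, h1⟩ : R) :=
      Subtype.ext (mul_inv_cancel_left _ _).symm
    rw [h2, map_mul, MulAut.apply_inv_self, Subgroup.coe_mul, inv_mul_cancel_left, hγe]
    exact (c _).2
  have hord : (orderOf δ').Coprime p := by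
    rw [hδ', ← MulAut.conj_apply, MulEquiv.orderOf_eq]
    exact hco
  have key : ∀ b ∈ F.autGroup (R ⊔ Subgroup.zpowers y), (orderOf b).Coprime p →
      (∀ (x : Ω) (hx : x ∈ R), (b ⟨x, Subgroup.mem_sup_left hx⟩ : Ω) =
        δ ⟨x, Subgroup.mem_sup_left hx⟩) →
      y⁻¹ * (b ⟨y, inclusion_zpowers R⟩ : Ω) ∈ R →
      (f (b ⟨y, inclusion_zpowers R⟩) : Ω) = δ' ⟨y', Subgroup.mem_sup_right hy'K⟩ := by
    intro b hb hbco hbR hby
    have hfy : f ⟨y, inclusion_zpowers R⟩ = ⟨y', inclusion_zpowers R⟩ := Subtype.ext (hfe _)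
    have hval : MulAut.congr f b ⟨y', inclusion_zpowers R⟩ = f (b ⟨y, inclusion_zpowers R⟩) := by
      change f (b (f.symm _)) = _
      rw [← hfy, MulEquiv.symm_apply_apply]
    rw [← hval]
    refine eq_restrict hS hRS hN (mul_mem (mul_mem hγ hδ) (inv_mem hγ)) hstab' hK' hord hy'K hauto
      (congr_mem_autGroup hf hb) (by rwa [MulEquiv.orderOf_eq]) (fun x hx => ?_) ?_
    · obtain ⟨w, hw⟩ := c.surjective ⟨x, hx⟩
      have h1 : f (Subgroup.inclusion le_sup_left w) = ⟨x, Subgroup.mem_sup_left hx⟩ :=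
        Subtype.ext ((hfe _).trans ((hce w).symm.trans (congrArg Subtype.val hw)))
      have h2 : γ (Subgroup.inclusion le_sup_left w) =
          (⟨x, Subgroup.mem_sup_left hx⟩ : ↥(R ⊔ centralizerIn S R)) :=
        Subtype.ext ((hγe w).trans (congrArg Subtype.val hw))
      change (f (b (f.symm ⟨x, _⟩)) : Ω) = _
      rw [← h1, MulEquiv.symm_apply_apply, MulAut.mul_apply, MulAut.mul_apply, ← h2,
        MulAut.inv_apply_self]
      have h3 := hδa w
      rw [show δ (Subgroup.inclusion le_sup_left w) = Subgroup.inclusion le_sup_left (a w) from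
        Subtype.ext h3, hγe, hce]
      change _ = χ (Subgroup.inclusion le_sup_left (a w))
      rw [← hfe]
      refine congrArg (fun v => (f v : Ω)) (Subtype.ext ?_)
      exact (hbR w w.2).trans h3
    · rw [hval, hfe, hy']
      have h1 := hχRmem ((⟨y, inclusion_zpowers R⟩ : ↥(R ⊔ Subgroup.zpowers y))⁻¹ * b ⟨y, inclusion_zpowers R⟩) hby
      rwa [map_mul, map_inv] at h1
  have hb₁R : ∀ (x : Ω) (hx : x ∈ R), (b₁ ⟨x, Subgroup.mem_sup_left hx⟩ : Ω) =
      δ ⟨x, Subgroup.mem_sup_left hx⟩ := fun x hx =>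
    (congrArg Subtype.val (hne ⟨x, hx⟩)).trans (hδa ⟨x, hx⟩).symm
  have h1 := key b₁ hb₁ hn hb₁R (by rw [hb₁y]; simp)
  have h2 := key b₂ hb₂ hb₂co (fun x hx => hb₂e _) (by
    rw [hb₂e]; exact hK ⟨y, Subgroup.mem_sup_right hyK⟩ hyK)
  have h3 := f.injective (Subtype.ext (h1.trans h2.symm))
  rw [hb₁y] at h3
  exact ((congrArg Subtype.val h3).trans (hb₂e _)).symm

end Core

/-- Automorphisms of `T C_S(T)` preserve the centralized elements. -/
theorem apply_mem_centSet (hE : E.IsInvariantIn F)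
    {β : MulAut ↥(T ⊔ centralizerIn S T)} (hβ : β ∈ F.autGroup (T ⊔ centralizerIn S T))
    {y : Ω} (hy : y ∈ centSet F E) :
    (β ⟨y, Subgroup.mem_sup_right hy.1⟩ : Ω) ∈ centSet F E := by
  have hTS := hE.2.1.1
  have hX : T ⊔ centralizerIn S T ≤ S := sup_le hTS (centralizerIn_le T)
  have hβF := (mem_autGroup_iff F hX).1 hβ
  have hyX : Subgroup.zpowers y ≤ T ⊔ centralizerIn S T :=
    Subgroup.zpowers_le.2 (Subgroup.mem_sup_right hy.1)
  have h := centralized_img hE (Subgroup.zpowers_le.2 hy.1) hy.2 hβF le_sup_left hyX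
  set z : Ω := (β ⟨y, Subgroup.mem_sup_right hy.1⟩ : Ω) with hz
  have hle : Subgroup.zpowers z ≤
      img ((T ⊔ centralizerIn S T).subtype.comp β.toMonoidHom) (Subgroup.zpowers y) :=
    Subgroup.zpowers_le.2 (mem_img.2 ⟨_, Subgroup.mem_zpowers y, rfl⟩)
  refine ⟨img_le_centralizerIn_of_le hE.2.1 hβF le_sup_left (Subgroup.zpowers_le.2 hy.1)
    (hle (Subgroup.mem_zpowers z)), fun P φ hφ => ?_⟩
  obtain ⟨hφF, hP, hφC, ψ, hψ, hψe, hψY⟩ := h P hφ
  have hmono : ∀ {x : Ω}, x ∈ centralizerIn S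
      (img ((T ⊔ centralizerIn S T).subtype.comp β.toMonoidHom) (Subgroup.zpowers y)) →
      x ∈ centralizerIn S (Subgroup.zpowers z) := fun hx => ⟨hx.1, fun r hr => hx.2 r (hle hr)⟩
  exact ⟨hφF, fun x hx => hmono (hP hx), fun x => hmono (hφC x),
    ψ.comp (Subgroup.inclusion (sup_le_sup_left hle P)), res_mem F hψ _, fun x => hψe x,
    fun r => hψY ⟨r, hle r.2⟩⟩

omit [Fact p.Prime] in
theorem card_normalizerIn_le (hT : F.StronglyClosed T) {R Q : Subgroup Ω} (hR : R ≤ T) (hQ : Q ≤ T)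
    {e : Q ≃* R} {h : Q ≤ normalizerIn S Q} {ψ : normalizerIn S Q →* Ω}
    (hψ : ψ ∈ F.Hom (normalizerIn S Q)) (hψe : ∀ x : Q, ψ (Subgroup.inclusion h x) = e x)
    (hψN : ∀ g, ψ g ∈ normalizerIn S R) :
    Nat.card (normalizerIn T Q) ≤ Nat.card (normalizerIn T R) := by
  have := finite_of_le ((normalizerIn_le R).trans hT.1 : normalizerIn T R ≤ S)
  refine Nat.card_le_card_of_injective
    (fun g => (⟨ψ ⟨g, hT.1 g.2.1, g.2.2⟩,
      apply_mem_of_mem_stronglyClosed hT hψ (x := ⟨(g : Ω), hT.1 g.2.1, g.2.2⟩) g.2.1,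
      (hψN _).2⟩ : normalizerIn T R)) fun a b hab => ?_
  exact Subtype.ext (congrArg Subtype.val
    (F.injective_of_mem hψ (congrArg Subtype.val hab)) :)

/-- The automizer of a fully normalized subgroup fixes the centralized elements, given the larger
subgroups. -/
theorem autGroup_le_fixSys (hS : IsPGroup p S) (hE : E.IsNormalIn F p) {R : Subgroup Ω}
    (hRT : R ≤ T) (hR : F.IsFullyNormalized R) (hRE : E.IsFullyNormalized R)
    (hC : centralizerIn T R ≤ R)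
    (hIH : ∀ Q : Subgroup Ω, Nat.card R < Nat.card Q → ∀ φ ∈ E.Hom Q,
      φ ∈ (fixSys F E hE.1.2.2.2.1.1).Hom Q) :
    E.autGroup R ≤ (fixSys F E hE.1.2.2.2.1.1).autGroup R := by
  obtain ⟨⟨hEs, hF, hinv⟩, hext⟩ := hE
  have hT := hinv.2.1
  have hTS := hT.1
  have hRS := hRT.trans hTS
  have := finite_of_le hTS
  have := finite_of_le hRS
  have hTp := hS.to_le hTS
  obtain ⟨-, hrec⟩ := fullyAutomized_receptive_of_fullyNormalized hS hF hR
  set D := fixSys F E hTS with hD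
  set M₀ := R ⊔ centralizerIn S R with hM₀
  have hM₀S : M₀ ≤ S := sup_le hRS (centralizerIn_le R)
  have := finite_of_le hM₀S
  -- the automorphisms with a lift trivial modulo `R`
  let B : Subgroup (MulAut R) :=
    { carrier := {a | a ∈ E.autGroup R ∧ ∃ δ ∈ F.autGroup M₀,
        (∀ x : R, (δ (Subgroup.inclusion le_sup_left x) : Ω) = a x) ∧
        ∀ x : M₀, (x : Ω) ∈ centralizerIn S R → (x : Ω)⁻¹ * (δ x : Ω) ∈ R}
      one_mem' := ⟨one_mem _, 1, one_mem _, fun x => rfl, fun x _ => by simp⟩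
      mul_mem' := by
        rintro a b ⟨ha, δ, hδ, hδa, hδK⟩ ⟨hb, ε, hε, hεb, hεK⟩
        refine ⟨mul_mem ha hb, δ * ε, mul_mem hδ hε, fun x => ?_, fun x hx => ?_⟩
        · rw [MulAut.mul_apply, show ε (Subgroup.inclusion le_sup_left x) =
            Subgroup.inclusion le_sup_left (b x) from Subtype.ext (hεb x), hδa, MulAut.mul_apply]
        · have h1 := hεK x hx
          have h2 : ε x = x * Subgroup.inclusion le_sup_left (⟨_, h1⟩ : R) :=
            Subtype.ext (mul_inv_cancel_left _ _).symm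
          rw [MulAut.mul_apply, h2, map_mul, Subgroup.coe_mul, hδa, ← mul_assoc]
          exact R.mul_mem (hδK x hx) (a _).2
      inv_mem' := by
        rintro a ⟨ha, δ, hδ, hδa, hδK⟩
        have hinvR : ∀ x : R, δ⁻¹ (Subgroup.inclusion le_sup_left x) =
            Subgroup.inclusion le_sup_left (a⁻¹ x) := fun x => by
          have h1 : δ (Subgroup.inclusion le_sup_left (a⁻¹ x)) = Subgroup.inclusion le_sup_left x :=
            Subtype.ext (by rw [hδa, MulAut.apply_inv_self]; rfl)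
          rw [← h1, MulAut.inv_apply_self]
        refine ⟨inv_mem ha, δ⁻¹, inv_mem hδ, fun x => congrArg Subtype.val (hinvR x),
          fun x hx => ?_⟩
        have hxK : (δ⁻¹ x : Ω) ∈ centralizerIn S R := by
          refine ⟨hM₀S (δ⁻¹ x).2, fun r hr => ?_⟩
          have h1 : δ (Subgroup.inclusion le_sup_left (⟨r, hr⟩ : R) * δ⁻¹ x) =
              δ (δ⁻¹ x * Subgroup.inclusion le_sup_left (⟨r, hr⟩ : R)) := by
            rw [map_mul, map_mul, MulAut.apply_inv_self]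
            refine Subtype.ext ?_
            rw [Subgroup.coe_mul, Subgroup.coe_mul, hδa]
            exact hx.2 _ (a ⟨r, hr⟩).2
          exact congrArg Subtype.val (δ.injective h1)
        have h1 := R.inv_mem (hδK (δ⁻¹ x) hxK)
        rw [MulAut.apply_inv_self, mul_inv_rev, inv_inv] at h1
        exact h1 }
  have hBE : B ≤ E.autGroup R := fun a ha => ha.1
  -- it contains the induced automorphisms
  have hTB : autInducedBy T R ≤ B := by
    intro α hα
    obtain ⟨t, ht, hte⟩ := mem_autInducedBy_iff.1 hα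
    have htn := mem_normalizer_of_aut hte
    have htM : t ∈ Subgroup.normalizer (M₀ : Set Ω) := by
      refine conjSub_eq_iff_mem_normalizer.1 ?_
      rw [hM₀, conjSub, Subgroup.map_sup, ← conjSub, ← conjSub,
        conjSub_eq_iff_mem_normalizer.2 htn]
      congr 1
      refine conjSub_eq_iff_mem_normalizer.2 ?_
      have := finite_of_le (centralizerIn_le (S := S) R)
      refine mem_normalizer_of_forall fun k hk => ⟨S.mul_mem (S.mul_mem (hTS ht) hk.1)
        (S.inv_mem (hTS ht)), fun r hr => ?_⟩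
      have h1 : t⁻¹ * r * t ∈ R := (Subgroup.mem_normalizer_iff''.1 htn r).1 hr
      have h2 := hk.2 _ h1
      calc r * (t * k * t⁻¹) = t * ((t⁻¹ * r * t) * k) * t⁻¹ := by group
        _ = t * (k * (t⁻¹ * r * t)) * t⁻¹ := by rw [h2]
        _ = t * k * t⁻¹ * r := by group
    refine ⟨autInducedBy_le_autGroup hRT hα, normAut t htM,
      autInducedBy_le_autGroup hM₀S (mem_autInducedBy_iff.2 ⟨t, hTS ht, fun x => rfl⟩),
      fun x => (hte x).symm, fun x hx => hC ⟨?_, ?_⟩⟩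
    · rw [normAut_apply, show (x : Ω)⁻¹ * (t * x * t⁻¹) = (x : Ω)⁻¹ * t * x * t⁻¹ by group]
      exact T.mul_mem ((Subgroup.mem_normalizer_iff''.1
        (mem_normalizer_of_stronglyClosed hT hx.1) t).1 ht) (T.inv_mem ht)
    · intro r hr
      have h1 : t⁻¹ * r * t ∈ R := (Subgroup.mem_normalizer_iff''.1 htn r).1 hr
      have h2 : (x : Ω) * (t⁻¹ * r * t) = t⁻¹ * r * t * x := (hx.2 _ h1).symm
      have h3 : r * (t * x * t⁻¹) = t * x * t⁻¹ * r := by
        calc r * (t * x * t⁻¹) = t * ((t⁻¹ * r * t) * x) * t⁻¹ := by group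
          _ = t * ((x : Ω) * (t⁻¹ * r * t)) * t⁻¹ := by rw [h2]
          _ = t * x * t⁻¹ * r := by group
      have h4 : r * (x : Ω)⁻¹ = (x : Ω)⁻¹ * r := ((Commute.inv_right (hx.2 r hr : Commute r (x : Ω))) :)
      rw [normAut_apply]
      calc r * ((x : Ω)⁻¹ * (t * x * t⁻¹)) = r * (x : Ω)⁻¹ * (t * x * t⁻¹) := by group
        _ = (x : Ω)⁻¹ * (r * (t * x * t⁻¹)) := by rw [h4, mul_assoc]
        _ = (x : Ω)⁻¹ * (t * x * t⁻¹) * r := by rw [h3, ← mul_assoc]
  have hTD : autInducedBy T R ≤ D.autGroup R := autInducedBy_le_autGroup hRT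
  have hTi := ((isFullyAutomized_iff hTp).1
    (fullyAutomized_receptive_of_fullyNormalized hTp hEs hRE).1).2
  -- `B` fixes the centralized elements
  have hCK : centGen F E ≤ centralizerIn S R := centGen_le.trans fun x hx =>
    ⟨hx.1, fun r hr => hx.2 r (hRT hr)⟩
  have hBco : ∀ a ∈ B, (orderOf a).Coprime p → a ∈ D.autGroup R := by
    rintro a ⟨ha, δ₀, hδ₀, hδ₀a, hδ₀K⟩ hao
    obtain ⟨n, hn, hne⟩ := exists_coprime_power_extending (p := p) (le_sup_left : R ≤ M₀)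
      (α := a) (β := δ₀) (fun x => Subtype.ext (hδ₀a x)) hao
    let H : Subgroup (MulAut R) := B
    have hnK : ∀ i : ℕ, ∀ x : M₀, (x : Ω) ∈ centralizerIn S R →
        (x : Ω)⁻¹ * ((δ₀ ^ i) x : Ω) ∈ R := by
      intro i
      induction i with
      | zero => intro x _; simp
      | succ i ih =>
        intro x hx
        have h1 := ih x hx
        have h2 : (δ₀ ^ i) x = x * Subgroup.inclusion le_sup_left (⟨_, h1⟩ : R) :=
          Subtype.ext (mul_inv_cancel_left _ _).symm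
        rw [pow_succ', MulAut.mul_apply, h2, map_mul, Subgroup.coe_mul, hδ₀a, ← mul_assoc]
        exact R.mul_mem (hδ₀K x hx) (a _).2
    have hle : R ⊔ centGen F E ≤ M₀ := sup_le_sup_left hCK R
    have hδF := (mem_autGroup_iff F hM₀S).1 (pow_mem hδ₀ n)
    refine (mem_autGroup_iff D hRT).2 ⟨(mem_autGroup_iff E hRT).1 ha,
      (M₀.subtype.comp (δ₀ ^ n).toMonoidHom).comp (Subgroup.inclusion hle),
      res_mem F hδF hle, fun x => congrArg Subtype.val (hne x), fun x => ?_⟩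
    refine fixed_of_generators (F := F) (E := E)
      (ψ := (M₀.subtype.comp (δ₀ ^ n).toMonoidHom).comp (Subgroup.inclusion hle))
      le_sup_right (fun y hy => ?_) x x.2
    exact fixed_of_lift hS hF hR hRT ha (pow_mem hδ₀ n) (fun x => congrArg Subtype.val (hne x))
      (hnK n) hn hao hy (hCK (Subgroup.subset_closure hy))
  have hBD : B ≤ D.autGroup R := by
    intro α hα
    have hTpR : IsPGroup p (autInducedBy T R) := isPGroup_autInducedBy hTp R
    have hidx : ¬ p ∣ ((autInducedBy T R).subgroupOf B).index := fun h => hTi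
      (h.trans (Dvd.intro _ (Subgroup.relIndex_mul_relIndex _ _ _ hTB hBE)))
    have htop := Transfer.pResidual_sup_sylow (G := B) (hTpR.comap_subtype.toSylow hidx)
    have h1 : (⟨α, hα⟩ : B) ∈ (D.autGroup R).subgroupOf B := by
      refine (?_ : _ ≤ (D.autGroup R).subgroupOf B) (htop.ge (Subgroup.mem_top _))
      refine sup_le ((Subgroup.closure_le _).2 fun b hb => hBco b b.2 ?_) ?_
      · rw [Subgroup.orderOf_coe]; exact hb
      · intro w hw
        exact hTD hw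
    exact h1
  intro a ha
  by_cases hRT' : R = T
  · subst hRT'
    obtain ⟨β, hβ, hβT, hβC⟩ := hext a ha
    exact hBD ⟨ha, β, hβ, hβT, fun x hx => (hβC x hx).1⟩
  -- `B` is normal
  have hBn : ∀ b ∈ B, a * b * a⁻¹ ∈ B := by
    rintro b ⟨hb, δ, hδ, hδb, hδK⟩
    obtain ⟨γ, hγ, hγa, hγK⟩ := exists_lift hrec (autGroup_mono hinv.1 R ha)
    refine ⟨mul_mem (mul_mem ha hb) (inv_mem ha), γ * δ * γ⁻¹,
      mul_mem (mul_mem hγ hδ) (inv_mem hγ), fun x => ?_, fun x hx => ?_⟩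
    · have h1 : γ⁻¹ (Subgroup.inclusion le_sup_left x) = Subgroup.inclusion le_sup_left (a⁻¹ x) := by
        have h2 : γ (Subgroup.inclusion le_sup_left (a⁻¹ x)) = Subgroup.inclusion le_sup_left x :=
          Subtype.ext (by rw [hγa, MulAut.apply_inv_self]; rfl)
        rw [← h2, MulAut.inv_apply_self]
      simp only [MulAut.mul_apply]
      rw [h1, show δ (Subgroup.inclusion le_sup_left (a⁻¹ x)) =
        Subgroup.inclusion le_sup_left (b (a⁻¹ x)) from Subtype.ext (hδb _), hγa]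
    · have hxK : (γ⁻¹ x : Ω) ∈ centralizerIn S R := by
        refine ⟨hM₀S (γ⁻¹ x).2, fun r hr => ?_⟩
        have h1 : γ (Subgroup.inclusion le_sup_left (⟨r, hr⟩ : R) * γ⁻¹ x) =
            γ (γ⁻¹ x * Subgroup.inclusion le_sup_left (⟨r, hr⟩ : R)) := by
          rw [map_mul, map_mul, MulAut.apply_inv_self]
          refine Subtype.ext ?_
          rw [Subgroup.coe_mul, Subgroup.coe_mul, hγa]
          exact hx.2 _ (a ⟨r, hr⟩).2
        exact congrArg Subtype.val (γ.injective h1)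
      have h1 := hδK _ hxK
      have h2 : δ (γ⁻¹ x) = γ⁻¹ x * Subgroup.inclusion le_sup_left (⟨_, h1⟩ : R) :=
        Subtype.ext (mul_inv_cancel_left _ _).symm
      simp only [MulAut.mul_apply]
      rw [h2, map_mul, MulAut.apply_inv_self, Subgroup.coe_mul, inv_mul_cancel_left, hγa]
      exact (a _).2
  -- Frattini
  have hTpR : IsPGroup p (autInducedBy T R) := isPGroup_autInducedBy hTp R
  obtain ⟨g, hg, hgc⟩ := exists_conj_mem_of_le (p := p)
    (U := (autInducedBy T R).map (MulAut.conj a).toMonoidHom) (T := autInducedBy T R) (N := B)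
    (hTpR.map _) hTpR (by rintro _ ⟨b, hb, rfl⟩; exact hBn b (hTB hb)) hTB
    (fun h => hTi (h.trans (Dvd.intro _ (Subgroup.relIndex_mul_relIndex _ _ _ hTB hBE))))
  have hga : g * a ∈ E.autGroup R := mul_mem (hBE hg) ha
  have hgaI := (mem_autGroup_iff E hRT).1 hga
  have hM : normalizerIn T R ≤ extender T R (R.subtype.comp (g * a : MulAut R).toMonoidHom) := by
    intro t ht
    refine mem_extender_iso_iff.2 ⟨ht.1, ht.2, ?_⟩
    have h1 := hgc _ ⟨normAut t ht.2, mem_autInducedBy_iff.2 ⟨t, ht.1, fun x => rfl⟩, rfl⟩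
    convert h1 using 1
    change _ = g * (a * normAut t ht.2 * a⁻¹) * g⁻¹
    exact MulEquiv.ext fun x => rfl
  obtain ⟨ψ, hψ, hψe⟩ := exists_extension
    (fullyAutomized_receptive_of_fullyNormalized hTp hEs hRE).2 hgaI (le_normalizerIn hRT) hM
  have hlt := lt_normalizerIn hTp (lt_of_le_of_ne hRT hRT')
  have := finite_of_le ((normalizerIn_le R).trans hTS : normalizerIn T R ≤ S)
  have hψD := hIH _ (Set.Finite.card_lt_card (Set.toFinite _) hlt) ψ hψ
  have h2 : (g * a : MulAut R) ∈ D.autGroup R :=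
    mem_autGroup_of_mem D (res_mem D hψD (le_normalizerIn hRT)) fun x => (hψe x).symm
  have h3 := mul_mem (inv_mem (hBD hg)) h2
  rwa [inv_mul_cancel_left] at h3

/-- All maps of a normal subsystem extend with the centralized elements fixed. -/
theorem hom_subset_fixSys (hS : IsPGroup p S) (hE : E.IsNormalIn F p) :
    ∀ (n : ℕ) (P : Subgroup Ω), Nat.card T - Nat.card P ≤ n → ∀ φ ∈ E.Hom P,
      φ ∈ (fixSys F E hE.1.2.2.2.1.1).Hom P := by
  obtain ⟨hEs, hF, hinv⟩ := hE.1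
  have hT := hinv.2.1
  have hTS := hT.1
  have := finite_of_le hTS
  have hTp := hS.to_le hTS
  intro n
  induction n using Nat.strong_induction_on with
  | _ n ih =>
  intro P hn φ hφ
  set D := fixSys F E hE.1.2.2.2.1.1 with hD
  have hP := le_S E hφ
  have hbig : ∀ Q : Subgroup Ω, Nat.card P < Nat.card Q → ∀ ψ ∈ E.Hom Q, ψ ∈ D.Hom Q := by
    intro Q hQ ψ hψ
    have h1 : Nat.card Q ≤ Nat.card T := Subgroup.card_le_of_le (le_S E hψ)
    exact ih (Nat.card T - Nat.card Q) (by omega) Q le_rfl ψ hψ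
  -- representatives
  obtain ⟨R, hPR, hR⟩ := exists_fullyNormalized F (hP.trans hTS)
  obtain ⟨χ, hχ, hχr⟩ := hPR
  have hRT : R ≤ T := hχr ▸ (fun _ ⟨x, hx⟩ => hx ▸ hT.2 P hP χ hχ x)
  obtain ⟨α, hα, χ₀, hχ₀, hd⟩ := hinv.2.2.2 P hP χ hχ
  set R₀ := χ₀.range with hR₀def
  have hR₀T : R₀ ≤ T := range_le_S E hχ₀
  obtain ⟨A, hA, hAe⟩ := exists_aut_extension hS hF hT hα
  have hXS : T ⊔ centralizerIn S T ≤ S := sup_le hTS (centralizerIn_le T)
  have hR₀X : R₀ ≤ T ⊔ centralizerIn S T := hR₀T.trans le_sup_left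
  have hAR : img ((T ⊔ centralizerIn S T).subtype.comp A.toMonoidHom) R₀ = R := by
    rw [← hχr]
    ext w
    rw [mem_img]
    constructor
    · rintro ⟨z, ⟨x, hx⟩, rfl⟩
      refine ⟨x, (hd x (apply_mem_S E hχ₀ x)).trans ?_⟩
      rw [← hAe]
      exact congrArg (fun v => (A v : Ω)) (Subtype.ext hx)
    · rintro ⟨x, rfl⟩
      exact ⟨⟨χ₀ x, hR₀X ⟨x, rfl⟩⟩, ⟨x, rfl⟩,
        ((hd x (apply_mem_S E hχ₀ x)).trans (hAe _).symm).symm⟩
  obtain ⟨f, hf, hfe⟩ := exists_iso_of_range (res_mem F ((mem_autGroup_iff F hXS).1 hA) hR₀X)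
    ((range_comp_inclusion _ hR₀X).trans hAR)
  have hfe' : ∀ x : R₀, (f x : Ω) = ((α ⟨x, hR₀T x.2⟩ : T) : Ω) := fun x =>
    (hfe x).trans (hAe ⟨x, hR₀T x.2⟩)
  -- normalizer orders
  have hNle : ∀ Q : Subgroup Ω, Q ≤ T → F.IsConj Q R →
      Nat.card (normalizerIn T Q) ≤ Nat.card (normalizerIn T R) := by
    intro Q hQT hQ
    obtain ⟨e, h, -, ψ, hψ, hψe, hψN⟩ := exists_hom_normalizerIn_of_fullyNormalized hS hF hR hQ
    exact card_normalizerIn_le hT hRT hQT hψ hψe hψN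
  have hNR : Nat.card (normalizerIn T R) ≤ Nat.card (normalizerIn T R₀) := by
    have := finite_of_le ((normalizerIn_le R₀).trans hTS : normalizerIn T R₀ ≤ S)
    have hmem : ∀ g : normalizerIn T R,
        ((α⁻¹ ⟨g, g.2.1⟩ : T) : Ω) ∈ normalizerIn T R₀ := by
      intro g
      refine ⟨(α⁻¹ _).2, ?_⟩
      have := finite_of_le (hR₀T.trans hTS)
      refine mem_normalizer_of_forall fun x hx => ?_
      have h1 : (g : Ω) * f ⟨x, hx⟩ * (g : Ω)⁻¹ ∈ R :=
        conj_mem_of_mem_normalizer g.2.2 (f _).2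
      obtain ⟨w, hw⟩ := f.surjective ⟨_, h1⟩
      have h2 : α ((α⁻¹ ⟨g, g.2.1⟩) * ⟨x, hR₀T hx⟩ * (α⁻¹ ⟨g, g.2.1⟩)⁻¹) = α ⟨w, hR₀T w.2⟩ := by
        rw [map_mul, map_mul, map_inv, MulAut.apply_inv_self]
        refine Subtype.ext ?_
        rw [← hfe' w, hw]
        change (g : Ω) * ((α ⟨x, hR₀T hx⟩ : T) : Ω) * (g : Ω)⁻¹ = _
        rw [← hfe' ⟨x, hx⟩]
      have h3 := congrArg Subtype.val (α.injective h2)
      simp only [Subgroup.coe_mul, Subgroup.coe_inv] at h3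
      rw [h3]
      exact w.2
    refine Nat.card_le_card_of_injective (fun g => (⟨_, hmem g⟩ : normalizerIn T R₀)) ?_
    intro a b hab
    have h1 : (α⁻¹ ⟨a, a.2.1⟩ : T) = α⁻¹ ⟨b, b.2.1⟩ :=
      Subtype.ext (congrArg (fun v : normalizerIn T R₀ => (v : Ω)) hab)
    exact Subtype.ext (congrArg (fun v : T => (v : Ω)) ((α⁻¹).injective h1) :)
  have hPR₀ : E.IsConj P R₀ := ⟨χ₀, hχ₀, rfl⟩
  have hR₀R : F.IsConj R₀ R := isConj_iff.2 ⟨f, hf⟩
  have hRE : E.IsFullyNormalized R := ⟨hRT, fun Q hQ => hNle Q (le_right_of_isConj hQ)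
    (isConj_symm (isConj_of_isSubsystemOf hinv.1 hQ))⟩
  have hR₀E : E.IsFullyNormalized R₀ := ⟨hR₀T, fun Q hQ => (hNle Q (le_right_of_isConj hQ)
    (isConj_trans (isConj_symm (isConj_of_isSubsystemOf hinv.1 hQ)) hR₀R)).trans hNR⟩
  have hcard : Nat.card R₀ = Nat.card P := (card_eq_of_isConj hPR₀).symm
  have hcardR : Nat.card R = Nat.card P := by
    rw [← card_eq_of_isConj hR₀R, hcard]
  -- the automizer of `R₀`
  have haut : E.autGroup R₀ ≤ D.autGroup R₀ := by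
    intro a ha
    by_cases hC : centralizerIn T R₀ ≤ R₀
    · -- move to `R`
      have hCR : centralizerIn T R ≤ R := by
        intro c hc
        have h1 : ((α⁻¹ ⟨c, hc.1⟩ : T) : Ω) ∈ centralizerIn T R₀ := by
          refine ⟨(α⁻¹ _).2, fun x hx => ?_⟩
          have h2 : α (⟨x, hR₀T hx⟩ * α⁻¹ ⟨c, hc.1⟩) = α (α⁻¹ ⟨c, hc.1⟩ * ⟨x, hR₀T hx⟩) := by
            rw [map_mul, map_mul, MulAut.apply_inv_self]
            refine Subtype.ext ?_
            rw [Subgroup.coe_mul, Subgroup.coe_mul, ← hfe' ⟨x, hx⟩]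
            exact hc.2 _ (f _).2
          exact congrArg Subtype.val (α.injective h2)
        have h3 := (hfe' ⟨_, hC h1⟩).symm
        rw [show (⟨((α⁻¹ ⟨c, hc.1⟩ : T) : Ω), hR₀T (hC h1)⟩ : T) = α⁻¹ ⟨c, hc.1⟩ from rfl,
          MulAut.apply_inv_self] at h3
        exact (show c = _ from h3) ▸ (f _).2
      have ha' := congr_mem_of_conjClosed hinv.1 (conjClosed_of_isInvariantIn hinv) hf hR₀T hRT ha
      have hD' := autGroup_le_fixSys hS hE hRT hR hRE hCR (fun Q hQ => hbig Q (hcardR ▸ hQ)) ha'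
      obtain ⟨-, ψ, hψ, hψe, hψY⟩ := (mem_autGroup_iff D hRT).1 hD'
      -- pull back
      refine (mem_autGroup_iff D hR₀T).2 ⟨(mem_autGroup_iff E hR₀T).1 ha, ?_⟩
      have := finite_of_le hXS
      have hgenX : centGen F E ≤ (T ⊔ centralizerIn S T) := centGen_le.trans le_sup_right
      have hAY : centGen F E ≤ ((centGen F E).comap ((T ⊔ centralizerIn S T).subtype.comp A.toMonoidHom)).map (T ⊔ centralizerIn S T).subtype :=
        (Subgroup.closure_le _).2 fun y hy => ⟨⟨y, Subgroup.mem_sup_right hy.1⟩,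
          Subgroup.subset_closure (apply_mem_centSet hinv hA hy), rfl⟩
      have hfwd : ∀ x : ↥(R₀ ⊔ centGen F E),
          (A ⟨x, sup_le hR₀X hgenX x.2⟩ : Ω) ∈ R ⊔ centGen F E := by
        have hle : R₀ ⊔ centGen F E ≤
            ((R ⊔ centGen F E).comap ((T ⊔ centralizerIn S T).subtype.comp A.toMonoidHom)).map (T ⊔ centralizerIn S T).subtype := by
          refine sup_le (fun x hx => ⟨⟨x, hR₀X hx⟩, Subgroup.mem_sup_left ?_, rfl⟩) ?_
          · exact (congrArg (· ∈ R) (hfe ⟨x, hx⟩)).mp (f ⟨x, hx⟩).2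
          · exact hAY.trans (Subgroup.map_mono (Subgroup.comap_mono le_sup_right))
        intro x
        obtain ⟨z, hz, hzx⟩ := hle x.2
        rw [show (⟨x, _⟩ : ↥(T ⊔ centralizerIn S T)) = z from Subtype.ext hzx.symm]
        exact hz
      have hψX : ∀ z, ψ z ∈ (T ⊔ centralizerIn S T) := fun z => sup_le (hRT.trans le_sup_left) hgenX
        (apply_mem_sup hψe (fun x => (MulAut.congr f a x).2)
          (img_eq_of_forall_fixed le_sup_right hψY).le z)
      have hAi := (mem_autGroup_iff F hXS).1 (inv_mem hA)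
      have h0 := res_mem F ((mem_autGroup_iff F hXS).1 hA) (sup_le hR₀X hgenX : R₀ ⊔ centGen F E ≤ (T ⊔ centralizerIn S T))
      have h1 := F.comp_mem h0 hψ hfwd
      refine ⟨_, F.comp_mem h1 hAi (fun x => hψX _), fun x => ?_, fun x => ?_⟩
      · change ((A⁻¹ ⟨ψ ⟨(A ⟨x, _⟩ : Ω), _⟩, _⟩ : ↥(T ⊔ centralizerIn S T)) : Ω) = (a x : Ω)
        have e1 : ψ ⟨(A ⟨x, hR₀X x.2⟩ : Ω), hfwd (Subgroup.inclusion le_sup_left x)⟩ = f (a x) := by
          refine Eq.trans (congrArg ψ (Subtype.ext ?_)) ((hψe (f x)).trans ?_)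
          · exact (hfe x).symm
          · change (f (a (f.symm (f x))) : Ω) = _
            rw [MulEquiv.symm_apply_apply]
        have e2 : (⟨ψ ⟨(A ⟨x, hR₀X x.2⟩ : Ω), hfwd (Subgroup.inclusion le_sup_left x)⟩,
            hψX _⟩ : ↥(T ⊔ centralizerIn S T)) = A (Subgroup.inclusion hR₀X (a x)) := Subtype.ext (e1.trans (hfe _))
        rw [e2, MulAut.inv_apply_self]
        rfl
      · change ((A⁻¹ ⟨ψ ⟨(A ⟨x, _⟩ : Ω), _⟩, _⟩ : ↥(T ⊔ centralizerIn S T)) : Ω) = (x : Ω)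
        have hAx : (A ⟨x, hgenX x.2⟩ : Ω) ∈ centGen F E := by
          obtain ⟨z, hz, hzx⟩ := hAY x.2
          rw [show (⟨x, hgenX x.2⟩ : ↥(T ⊔ centralizerIn S T)) = z from Subtype.ext hzx.symm]
          exact hz
        have e2 : (⟨ψ ⟨(A ⟨x, hgenX x.2⟩ : Ω), hfwd (Subgroup.inclusion le_sup_right x)⟩,
            hψX _⟩ : ↥(T ⊔ centralizerIn S T)) = A ⟨x, hgenX x.2⟩ := Subtype.ext (hψY ⟨_, hAx⟩)
        rw [e2, MulAut.inv_apply_self]
    · have haI := (mem_autGroup_iff E hR₀T).1 ha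
      set M := R₀ ⊔ centralizerIn T R₀ with hMdef
      obtain ⟨ψ, hψ, hψe⟩ := exists_extension
        (fullyAutomized_receptive_of_fullyNormalized hTp hEs hR₀E).2 haI le_sup_left
        (sup_le (le_extender haI) (centralizerIn_le_extender _ _))
      have hlt : R₀ < M := lt_of_le_of_ne le_sup_left fun h => hC (le_sup_right.trans h.ge)
      have := finite_of_le (sup_le (hR₀T.trans hTS) ((centralizerIn_le R₀).trans hTS) : M ≤ S)
      have hψD := hbig M (hcard ▸ Set.Finite.card_lt_card (Set.toFinite _) hlt) ψ hψ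
      exact mem_autGroup_of_mem D (res_mem D hψD le_sup_left) fun x => (hψe x).symm
  -- any isomorphism onto `R₀`
  have hiso : ∀ (Q : Subgroup Ω) (e : Q ≃* R₀), IsIso E e → IsIso D e := by
    intro Q e he
    by_cases hQ : Q = T
    · subst hQ
      have hR₀eq : R₀ = Q := Subgroup.eq_of_le_of_card_ge hR₀T (Nat.card_congr e.toEquiv).le
      clear_value R₀
      subst hR₀eq
      exact (mem_autGroup_iff D le_rfl).1 (haut ((mem_autGroup_iff E le_rfl).2 he))
    obtain ⟨β, hβ, h, ψ, hψ, hψe, -⟩ := exists_extension_normalizerIn hTp he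
      (fullyAutomized_receptive_of_fullyNormalized hTp hEs hR₀E).1
      (fullyAutomized_receptive_of_fullyNormalized hTp hEs hR₀E).2
    have hlt := lt_normalizerIn hTp (lt_of_le_of_ne he.le_left hQ)
    have := finite_of_le ((normalizerIn_le Q).trans hTS : normalizerIn T Q ≤ S)
    have hψD := hbig _ ((hcard.symm.trans (Nat.card_congr e.toEquiv).symm) ▸
      Set.Finite.card_lt_card (Set.toFinite _) hlt) ψ hψ
    have h1 : IsIso D (e.trans β) := isIso_of_mem (res_mem D hψD h) fun x => (hψe x).symm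
    exact (h1.trans ((mem_autGroup_iff D hR₀T).1 (haut hβ)).symm).congr fun x => by simp
  obtain ⟨e₀, he₀, -⟩ := exists_iso_of_mem hχ₀
  obtain ⟨i, hi, hie⟩ := exists_iso_of_mem hφ
  have hk := hiso _ (i.symm.trans e₀) (hi.symm.trans he₀)
  exact mem_of_eq rfl ((hiso P e₀ he₀).trans hk.symm).mem fun x => by
    simp [hie]

/-- The largest subgroup of `C_S(T)` centralized by a normal subsystem. -/
theorem main (hS : IsPGroup p S) (hE : E.IsNormalIn F p) :
    IsMaxCentralized F E (centGen F E) := by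
  refine ⟨centGen_le, fun P φ hφ => ?_, fun Y hY hEY y hy => Subgroup.subset_closure ⟨hY hy,
    fun P φ hφ => ?_⟩⟩
  · obtain ⟨-, ψ, hψ, hψe, hψY⟩ := hom_subset_fixSys hS hE _ P le_rfl φ hφ
    have hc : ∀ {x : Ω}, x ∈ T → x ∈ centralizerIn S (centGen F E) := fun {x} hx =>
      ⟨hE.1.2.2.2.1.1 hx, fun c hc => ((centGen_le hc).2 x hx).symm⟩
    exact ⟨hE.1.2.2.1 P hφ, fun x hx => hc (le_S E hφ hx), fun x => hc (apply_mem_S E hφ x),
      ψ, hψ, hψe, hψY⟩
  · obtain ⟨hφF, hP, hφC, ψ, hψ, hψe, hψY⟩ := hEY P hφ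
    have hle : Subgroup.zpowers y ≤ Y := Subgroup.zpowers_le.2 hy
    have hmono : centralizerIn S Y ≤ centralizerIn S (Subgroup.zpowers y) := fun x hx =>
      ⟨hx.1, fun r hr => hx.2 r (hle hr)⟩
    exact ⟨hφF, hP.trans hmono, fun x => hmono (hφC x),
      ψ.comp (Subgroup.inclusion (sup_le_sup_left hle P)), res_mem F hψ _, fun x => hψe x,
      fun r => hψY ⟨r, hle r.2⟩⟩

end CfsgLib.Fusion.MaxCent
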