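import Cfsg.Agent.Lib.Fusion.SmallEssential

/-!
# Abelian essential subgroups of rank two
-/

set_option autoImplicit false

open Cfsg Cfsg.FusionSystem

namespace CfsgLib.Fusion

variable {p : ℕ} [Fact p.Prime]

/-- The number of invariants is bounded by the rank. -/
theorem pow_card_le_index_frattini {A : Type*} [Group A] [Finite A] {ι : Type*} [Fintype ι]
    (a : ι → ℕ) (ha : ∀ i, a i ≠ 0) (e : A ≃* ((i : ι) → Multiplicative (ZMod (p ^ a i)))) :
    p ^ Fintype.card ι ≤ (frattini A).index := by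
  classical
  let c : ∀ i, Multiplicative (ZMod (p ^ a i)) →* Multiplicative (ZMod p) := fun i =>
    AddMonoidHom.toMultiplicative (ZMod.castHom (dvd_pow_self p (ha i)) (ZMod p)).toAddMonoidHom
  have hc : ∀ i, Function.Surjective (c i) := fun i y => by
    obtain ⟨x, hx⟩ := ZMod.ringHom_surjective (ZMod.castHom (dvd_pow_self p (ha i)) (ZMod p))
      (Multiplicative.toAdd y)
    exact ⟨Multiplicative.ofAdd x, Multiplicative.toAdd.injective hx⟩
  let π : A →* (ι → Multiplicative (ZMod p)) :=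
    MonoidHom.pi fun i => (c i).comp ((Pi.evalMonoidHom _ i).comp e.toMonoidHom)
  have hπ : Function.Surjective π := fun y => by
    choose x hx using fun i => hc i (y i)
    exact ⟨e.symm x, funext fun i => by simpa [π] using hx i⟩
  have hle : frattini A ≤ π.ker := by
    intro x hx
    rw [MonoidHom.mem_ker]
    funext i
    have hco : IsCoatom ((Pi.evalMonoidHom (fun _ : ι => Multiplicative (ZMod p)) i).comp π).ker := by
      set f := (Pi.evalMonoidHom (fun _ : ι => Multiplicative (ZMod p)) i).comp π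
      have hf : f.ker.index = p := by
        have hfs : Function.Surjective f := fun z => by
          obtain ⟨u, hu⟩ := hπ (fun _ => z)
          exact ⟨u, by simp [f, hu]⟩
        rw [Subgroup.index_ker, MonoidHom.range_eq_top.2 hfs, Subgroup.card_top,
          Nat.card_congr Multiplicative.toAdd, Nat.card_zmod]
      refine ⟨fun h => ?_, fun K hK => ?_⟩
      · rw [h, Subgroup.index_top] at hf
        exact (Fact.out : p.Prime).one_lt.ne hf
      · have hd := Subgroup.index_dvd_of_le hK.le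
        rw [hf, Nat.dvd_prime Fact.out] at hd
        rcases hd with hd | hd
        · exact Subgroup.index_eq_one.1 hd
        · have hmul := Subgroup.relIndex_mul_index hK.le
          rw [hf, hd] at hmul
          exact absurd (Subgroup.relIndex_eq_one.1
            (Nat.eq_of_mul_eq_mul_right (Fact.out : p.Prime).pos (hmul.trans (one_mul p).symm)))
            hK.not_ge
    exact (frattini_le_coatom hco hx :)
  have h1 := Nat.le_of_dvd (Nat.pos_of_ne_zero Subgroup.index_ne_zero_of_finite)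
    (Subgroup.index_dvd_of_le hle)
  rw [Subgroup.index_ker, MonoidHom.range_eq_top.2 hπ, Subgroup.card_top, Nat.card_pi,
    Finset.prod_congr rfl (fun _ _ => (Nat.card_congr Multiplicative.toAdd).trans (Nat.card_zmod p)),
    Finset.prod_const, Finset.card_univ] at h1
  exact h1

/-- For `p ≥ 5`, an automorphism of order `p` of a group in which all elements of order `p` are
`p`-th powers cannot act on the Frattini quotient by a nontrivial transvection. -/
theorem pow_mem_of_order_p {A : Type*} [CommGroup A] (hp5 : 5 ≤ p)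
    (hΩ : ∀ z : A, z ^ p = 1 → z ∈ (powMonoidHom p : A →* A).range) {s : MulAut A}
    (hs : s ^ p = 1)
    (hN : ∀ x : A, (x⁻¹ * s x)⁻¹ * s (x⁻¹ * s x) ∈ (powMonoidHom p : A →* A).range) (x : A) :
    x⁻¹ * s x ∈ (powMonoidHom p : A →* A).range := by
  set a := x⁻¹ * s x
  set b := a⁻¹ * s a
  set c := b⁻¹ * s b
  set d := c⁻¹ * s c
  obtain ⟨y, hy⟩ : b ∈ (powMonoidHom p : A →* A).range := hN x
  have hy' : b = y ^ p := hy.symm
  obtain ⟨y', hy''⟩ : c ∈ (powMonoidHom p : A →* A).range := ⟨y⁻¹ * s y, by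
    rw [powMonoidHom_apply, mul_pow, inv_pow, ← map_pow]
    simp only [c, hy']⟩
  have hy'' : c = y' ^ p := hy''.symm
  obtain ⟨z, hz⟩ : ∃ z, d = z ^ p ^ 2 := by
    obtain ⟨w, hw⟩ := hN y
    refine ⟨w, ?_⟩
    have hw' : (y⁻¹ * s y)⁻¹ * s (y⁻¹ * s y) = w ^ p := hw.symm
    rw [show d = ((y⁻¹ * s y)⁻¹ * s (y⁻¹ * s y)) ^ p by
      simp only [d, c, hy']
      simp only [mul_pow, inv_pow, map_mul, map_inv, map_pow], hw', ← pow_mul, pow_two]
  let Q : Subgroup A := (powMonoidHom (p ^ 2)).range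
  let π := QuotientGroup.mk' Q
  have hd : π (s c) = π c := by
    rw [show s c = c * d by simp [d], map_mul, show π d = 1 from
      (QuotientGroup.eq_one_iff d).2 ⟨z, hz.symm⟩, mul_one]
  have hsQ : ∀ u v : A, π u = π v → π (s u) = π (s v) := fun u v h => by
    obtain ⟨w, hw⟩ := QuotientGroup.eq.1 h
    refine QuotientGroup.eq.2 ⟨s w, ?_⟩
    rw [powMonoidHom_apply, ← map_pow, ← map_inv, ← map_mul]
    exact congrArg s hw
  have hit : ∀ n : ℕ, π ((s ^ n) x) = π (x * a ^ n * b ^ n.choose 2 * c ^ n.choose 3) := by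
    intro n
    induction n with
    | zero => simp
    | succ n ih =>
      rw [pow_succ', MulAut.mul_apply, hsQ _ _ ih]
      simp only [map_mul, map_pow, hd]
      rw [show s x = x * a by simp [a], show s a = a * b by simp [b], show s b = b * c by simp [c]]
      simp only [map_mul, Nat.choose_succ_succ', Nat.choose_one_right, Nat.choose_zero_right,
        mul_pow, pow_add, pow_one]
      simp only [mul_comm, mul_left_comm, mul_assoc]
  have h1 := hit p
  rw [hs, MulAut.one_apply] at h1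
  obtain ⟨m2, hm2⟩ := (Fact.out : p.Prime).dvd_choose_self two_ne_zero (show 2 < p by omega)
  obtain ⟨m3, hm3⟩ := (Fact.out : p.Prime).dvd_choose_self three_ne_zero (show 3 < p by omega)
  have h2 : π (b ^ p.choose 2) = 1 := (QuotientGroup.eq_one_iff _).2 ⟨y ^ m2, by
    rw [powMonoidHom_apply, hy', hm2, ← pow_mul, ← pow_mul]; ring_nf⟩
  have h3 : π (c ^ p.choose 3) = 1 := (QuotientGroup.eq_one_iff _).2 ⟨y' ^ m3, by
    rw [powMonoidHom_apply, hy'', hm3, ← pow_mul, ← pow_mul]; ring_nf⟩
  simp only [map_mul, h2, h3, mul_one, left_eq_mul] at h1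
  obtain ⟨w, hw⟩ := (QuotientGroup.eq_one_iff _).1 h1
  have hw' : w ^ p ^ 2 = a ^ p := hw
  obtain ⟨t, ht⟩ := hΩ (a * (w ^ p)⁻¹) (by
    rw [mul_pow, inv_pow, ← pow_mul, ← pow_two, hw', mul_inv_cancel])
  exact ⟨t * w, by rw [powMonoidHom_apply, mul_pow, show t ^ p = a * (w ^ p)⁻¹ from ht,
    inv_mul_cancel_right]⟩

variable {Ω : Type*} [Group Ω] {S : Subgroup Ω} [Finite S] {F : FusionSystem S} {H : Subgroup Ω}

/-- The abelian essential subgroups of rank two. -/
theorem essential_rank_two (hS : IsPGroup p S) (hF : F.IsSaturated p) (hH : F.IsEssential p H)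
    (hab : IsMulCommutative H) (hrk : (frattini H).index ≤ p ^ 2) :
    (Cfsg.IsElementaryAbelian p H ∧ Nat.card H = p ^ 2) ∨
      (p ≤ 3 ∧ ∃ k : ℕ, Nonempty (↥H ≃* Multiplicative (ZMod (p ^ k) × ZMod (p ^ k)))) := by
  classical
  have hp : p.Prime := Fact.out
  have hHS := hH.1.1
  have := finite_of_le hHS
  have hP := hS.to_le hHS
  let _ : CommGroup H := { (inferInstance : Group H) with mul_comm := hab.is_comm.comm }
  obtain ⟨ι, hι, q, hq, ⟨e⟩⟩ := CommGroup.equiv_prod_multiplicative_zmod_of_finite H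
  have hqp : ∀ i, ∃ k, q i = p ^ k := by
    intro i
    obtain ⟨N, hN⟩ := hP.exists_card_eq
    have h1 : q i ∣ p ^ N := by
      rw [← hN, Nat.card_congr e.toEquiv, Nat.card_pi]
      refine Dvd.dvd.trans ?_ (Finset.dvd_prod_of_mem _ (Finset.mem_univ i))
      rw [Nat.card_congr Multiplicative.toAdd, Nat.card_zmod]
    obtain ⟨k, -, hk⟩ := (Nat.dvd_prime_pow Fact.out).1 h1
    exact ⟨k, hk⟩
  choose a ha using hqp
  obtain rfl : q = fun i => p ^ a i := funext ha
  have ha0 : ∀ i, a i ≠ 0 := fun i h => by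
    have := hq i
    simp [h] at this
  have hcard : Fintype.card ι ≤ 2 :=
    (Nat.pow_le_pow_iff_right hp.one_lt).1 ((pow_card_le_index_frattini a ha0 e).trans hrk)
  have hninj := not_distinct_of_isEssential hS hF hH a e
  obtain ⟨i, i', hii, hne⟩ : ∃ i i', a i = a i' ∧ i ≠ i' := by
    simpa [Function.Injective] using hninj
  have huniv : (Finset.univ : Finset ι) = {i, i'} := (Finset.eq_of_subset_of_card_le
    (Finset.subset_univ _) (by rw [Finset.card_pair hne, Finset.card_univ]; exact hcard)).symm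
  have hcases : ∀ l, l = i ∨ l = i' := fun l => by
    have := Finset.mem_univ l
    rw [huniv] at this
    simpa using this
  set k := a i
  have hak : ∀ l, a l = k := fun l => by rcases hcases l with rfl | rfl <;> simp [k, hii]
  let c : ∀ l, Multiplicative (ZMod (p ^ a l)) ≃* Multiplicative (ZMod (p ^ k)) := fun l =>
    AddEquiv.toMultiplicative (ZMod.ringEquivCongr (by rw [hak l])).toAddEquiv
  let g : H →* Multiplicative (ZMod (p ^ k)) × Multiplicative (ZMod (p ^ k)) :=
    ((c i).toMonoidHom.comp ((Pi.evalMonoidHom _ i).comp e.toMonoidHom)).prod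
      ((c i').toMonoidHom.comp ((Pi.evalMonoidHom _ i').comp e.toMonoidHom))
  have hg : Function.Bijective g := by
    refine ⟨fun x y h => e.injective (funext fun l => ?_), fun y => ?_⟩
    · rcases hcases l with rfl | rfl
      · exact (c _).injective (congrArg Prod.fst h)
      · exact (c _).injective (congrArg Prod.snd h)
    · refine ⟨e.symm (Function.update (Function.update 1 i ((c i).symm y.1)) i' ((c i').symm y.2)), ?_⟩
      refine Prod.ext ?_ ?_ <;> simp [g, Function.update_of_ne hne]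
  let G := MulEquiv.ofBijective g hg
  have hH2 : Nat.card H = p ^ (2 * k) := by
    rw [Nat.card_congr G.toEquiv, Nat.card_prod, Nat.card_congr Multiplicative.toAdd, Nat.card_zmod,
      ← pow_add, two_mul]
  by_cases hk1 : k = 1
  · refine Or.inl ⟨⟨hab, fun x hx => ?_⟩, by rw [hH2, hk1]⟩
    have h1 : ∀ z : Multiplicative (ZMod (p ^ k)), z ^ p = 1 := fun z => by
      refine orderOf_dvd_iff_pow_eq_one.1 ((orderOf_dvd_natCard z).trans ?_)
      rw [Nat.card_congr Multiplicative.toAdd, Nat.card_zmod, hk1, pow_one]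
    have h2 : (⟨x, hx⟩ : H) ^ p = 1 := G.injective (by
      rw [map_pow, map_one]; exact Prod.ext (h1 _) (h1 _))
    exact congrArg (fun w : H => (w : Ω)) h2
  refine Or.inr ⟨?_, k, ⟨G.trans (MulEquiv.prodMultiplicative _ _).symm⟩⟩
  by_contra hp3
  have hp5 : 5 ≤ p := by
    have h4 : p ≠ 4 := fun h => by rw [h] at hp; norm_num at hp
    omega
  set P := (powMonoidHom p : H →* H).range
  have hΩ : ∀ z : H, z ^ p = 1 → z ∈ P := fun z hz => by
    have hz' : ∀ u : Multiplicative (ZMod (p ^ k)), u ^ p = 1 → ∃ w, w ^ p = u := fun u hu => by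
      simpa using exists_root_succ (p := p) (a := k) (j := 0) hk1 u (by simpa using hu)
    obtain ⟨w1, hw1⟩ := hz' (G z).1 (by rw [← Prod.pow_fst, ← map_pow, hz, map_one]; rfl)
    obtain ⟨w2, hw2⟩ := hz' (G z).2 (by rw [← Prod.pow_snd, ← map_pow, hz, map_one]; rfl)
    exact ⟨G.symm (w1, w2), G.injective (by
      rw [powMonoidHom_apply, map_pow, G.apply_symm_apply]; exact Prod.ext hw1 hw2)⟩
  -- the Frattini quotient
  have hPi : Nat.card (H ⧸ P) = p ^ 2 := by
    change P.index = p ^ 2
    have hk0 : k ≠ 0 := ha0 i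
    have hm := P.card_mul_index
    have hr : Nat.card P = p ^ (2 * k - 2) := by
      have e1 : P.map G.toMonoidHom =
          ((powMonoidHom p : Multiplicative (ZMod (p ^ k)) →* _).range).prod
            (powMonoidHom p : Multiplicative (ZMod (p ^ k)) →* _).range := by
        ext w
        constructor
        · rintro ⟨_, ⟨u, rfl⟩, rfl⟩
          exact ⟨⟨(G u).1, by simp⟩, ⟨(G u).2, by simp⟩⟩
        · rintro ⟨⟨u, hu⟩, ⟨v, hv⟩⟩
          exact ⟨G.symm (u, v) ^ p, ⟨G.symm (u, v), rfl⟩, Prod.ext (by simpa using hu) (by simpa using hv)⟩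
      have : IsCyclic (Multiplicative (ZMod (p ^ k))) := isCyclic_multiplicative
      have : NeZero (p ^ k) := ⟨(pow_pos hp.pos k).ne'⟩
      rw [← Subgroup.card_map_of_injective (f := G.toMonoidHom) G.injective, e1,
        Nat.card_congr (Subgroup.prodEquiv _ _).toEquiv, Nat.card_prod,
        IsCyclic.card_powMonoidHom_range, Nat.card_congr Multiplicative.toAdd, Nat.card_zmod,
        Nat.gcd_eq_right (dvd_pow_self p hk0),
        show p ^ k / p = p ^ (k - 1) from (Nat.div_eq_of_eq_mul_left hp.pos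
          (by rw [← pow_succ, show k - 1 + 1 = k by omega])), ← pow_add]
      congr 1
      omega
    rw [hr, hH2, show 2 * k = (2 * k - 2) + 2 by omega, pow_add, Nat.add_sub_cancel] at hm
    exact Nat.eq_of_mul_eq_mul_left (pow_pos hp.pos _) hm
  -- an automorphism of order `p`
  have hinn : ∀ β ∈ Inn H, β = 1 := by
    rintro _ ⟨u, rfl⟩
    refine MulEquiv.ext fun y => ?_
    rw [MulAut.conj_apply, hab.is_comm.comm u y, mul_inv_cancel_right]
    rfl
  obtain ⟨s₀, hs₀A, hs₀⟩ := exists_outer_of_isEssential hS hF hH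
  obtain ⟨n, hn⟩ := (isPGroup_autInducedBy hS H).exists_card_eq
  have hn0 : n ≠ 0 := fun h => by
    rw [h, pow_zero, Subgroup.card_eq_one] at hn
    rw [hn, Subgroup.mem_bot] at hs₀A
    exact hs₀ (hs₀A ▸ one_mem _)
  obtain ⟨⟨s, hsA⟩, hso⟩ := exists_prime_orderOf_dvd_card' (G := autInducedBy S H) p
    (hn ▸ dvd_pow_self p hn0)
  rw [Subgroup.orderOf_mk] at hso
  have hsp : s ^ p = 1 := hso ▸ pow_orderOf_eq_one s
  have hsF : s ∈ F.autGroup H := autInducedBy_le_autGroup hHS hsA
  have hinvP : ∀ α : MulAut H, P.map α.toMonoidHom = P := fun α => by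
    refine le_antisymm ?_ ?_
    · rintro _ ⟨_, ⟨u, rfl⟩, rfl⟩
      exact ⟨α u, by simp⟩
    · rintro _ ⟨u, rfl⟩
      exact ⟨(α.symm u) ^ p, ⟨α.symm u, rfl⟩, by simp⟩
  let t : MulAut (H ⧸ P) := QuotientGroup.congr P P s (hinvP s)
  have htp : t ^ p ^ 1 = 1 := by
    have : ∀ m : ℕ, ∀ u : H, (t ^ m) (QuotientGroup.mk u) = QuotientGroup.mk ((s ^ m) u) := by
      intro m
      induction m with
      | zero => intro u; rfl
      | succ m ih => intro u; rw [pow_succ', MulAut.mul_apply, ih, pow_succ', MulAut.mul_apply]; rfl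
    refine MulEquiv.ext fun w => ?_
    obtain ⟨u, rfl⟩ := QuotientGroup.mk_surjective w
    rw [this, pow_one, hsp]
    rfl
  -- moves are contained in `P`
  have hmove : ∀ u : H, u⁻¹ * s u ∈ P := by
    refine pow_mem_of_order_p hp5 hΩ hsp fun u => ?_
    by_cases ht : t = 1
    · have h1 : QuotientGroup.mk (u⁻¹ * s u) = (1 : H ⧸ P) := by
        rw [QuotientGroup.mk_mul, QuotientGroup.mk_inv,
          show (QuotientGroup.mk (s u) : H ⧸ P) = t (QuotientGroup.mk u) from rfl, ht]
        exact inv_mul_cancel _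
      have h2 : u⁻¹ * s u ∈ P := (QuotientGroup.eq_one_iff _).1 h1
      refine mul_mem (inv_mem h2) ?_
      exact (hinvP s).le ⟨_, h2, rfl⟩
    obtain ⟨w, -, htw, hw⟩ := exists_axis (hP.to_quotient P) (fun x y => mul_comm x y)
      (fun x => by
        obtain ⟨x, rfl⟩ := QuotientGroup.mk_surjective x
        rw [← QuotientGroup.mk_pow, QuotientGroup.eq_one_iff]
        exact ⟨x, rfl⟩) hPi ht htp
    obtain ⟨m, hm⟩ := hw (QuotientGroup.mk u)
    rw [← QuotientGroup.eq_one_iff]
    change ((QuotientGroup.mk (u⁻¹ * s u) : H ⧸ P))⁻¹ * t (QuotientGroup.mk (u⁻¹ * s u)) = 1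
    rw [show (QuotientGroup.mk (u⁻¹ * s u) : H ⧸ P) = w ^ m from hm.symm, map_zpow, htw,
      inv_mul_cancel]
  -- hence `s` is inner
  refine (fun h => ?_ : s ≠ 1) (hinn s ?_)
  · rw [h, orderOf_one] at hso
    exact hp.one_lt.ne hso
  have hP' : ∀ j, ∀ α : H →* H, ∀ u ∈ (powMonoidHom (p ^ j) : H →* H).range,
      α u ∈ (powMonoidHom (p ^ j) : H →* H).range := by
    rintro j α _ ⟨v, rfl⟩
    exact ⟨α v, (map_pow α v _).symm⟩
  obtain ⟨N, hN⟩ := hP.exists_card_eq
  refine mem_inn_of_stabilizes hS hH (fun j => (powMonoidHom (p ^ (N - j)) : H →* H).range) N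
    ?_ ?_ (fun α _ j _ u hu => hP' _ α.toMonoidHom u hu) hsF fun j hj u hu => ?_
  · refine eq_bot_iff.2 ?_
    rintro _ ⟨v, rfl⟩
    rw [Subgroup.mem_bot, powMonoidHom_apply, Nat.sub_zero, ← hN, pow_card_eq_one']
  · exact eq_top_iff.2 fun v _ => ⟨v, by simp⟩
  · obtain ⟨v, rfl⟩ := hu
    obtain ⟨w, hw⟩ := hmove v
    refine ⟨w, ?_⟩
    rw [powMonoidHom_apply, powMonoidHom_apply, map_pow, ← inv_pow, ← mul_pow,
      show N - j = (N - (j + 1)) + 1 by omega, pow_succ', pow_mul]
    exact congrArg (· ^ p ^ (N - (j + 1))) hw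

end CfsgLib.Fusion
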