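import Cfsg.Agent.Lib.Fusion.RelativeDegree
import Cfsg.Agent.Lib.Fusion.Alperin
import Cfsg.Agent.Lib.Fusion.NormSys
import Cfsg.Agent.Lib.Fusion.StronglyClosedSub

/-!
# The kernel of a homomorphism from the automizer of a normal subsystem
-/

set_option autoImplicit false

open Cfsg Cfsg.FusionSystem

namespace CfsgLib.Fusion

variable {Ω : Type*} [Group Ω] {S T : Subgroup Ω}

section defs

variable {Δ : Type*} [Group Δ]

/-- The least subsystem containing the maps of degree one on the relatively centric family. -/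
def kernelSys (F : FusionSystem S) (E : FusionSystem T) (χ : F.autGroup T →* Δ) :
    FusionSystem S where
  Hom P := {φ | φ ∈ F.Hom P ∧ ∀ D : FusionSystem S, (∀ (Q : Subgroup Ω) (ψ : Q →* Ω),
    Q ∈ relFamily F T → ψ ∈ F.Hom Q → HasDeg E χ ψ (1 : Δ) → ψ ∈ D.Hom Q) → φ ∈ D.Hom P}
  le_of_mem := fun h => F.le_of_mem h.1
  injective_of_mem := fun h => F.injective_of_mem h.1
  conj_mem := fun hP hg => ⟨F.conj_mem hP hg, fun D _ => D.conj_mem hP hg⟩
  comp_mem := by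
    intro P Q φ ψ hφ hψ h
    exact ⟨F.comp_mem hφ.1 hψ.1 h, fun D hD => D.comp_mem (hφ.2 D hD) (hψ.2 D hD) h⟩
  inv_mem := by
    intro P φ hφ
    obtain ⟨ψ, hψ, hψe⟩ := F.inv_mem hφ.1
    refine ⟨ψ, ⟨hψ, fun D hD => ?_⟩, hψe⟩
    obtain ⟨θ, hθ, hθe⟩ := D.inv_mem (hφ.2 D hD)
    refine mem_of_eq rfl hθ ?_
    rintro ⟨_, x, rfl⟩
    rw [hψe]
    exact (hθe x).symm

theorem kernelSys_le {F : FusionSystem S} {E : FusionSystem T} {χ : F.autGroup T →* Δ} :
    (kernelSys F E χ).IsSubsystemOf F := fun _ _ h => h.1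

end defs

variable [Finite S] {F : FusionSystem S} {E : FusionSystem T} {p : ℕ} [Fact p.Prime]
  {Δ : Type*} [Group Δ] [Finite Δ]

/-- The hypotheses. -/
structure KernelData (F : FusionSystem S) (E : FusionSystem T) (p : ℕ) (χ : F.autGroup T →* Δ) :
    Prop where
  hS : IsPGroup p S
  hF : F.IsSaturated p
  hE : E.IsWeaklyNormalIn F p
  hΔ : (Nat.card Δ).Coprime p
  hsurj : Function.Surjective χ
  hker : (E.autGroup T).subgroupOf (F.autGroup T) ≤ χ.ker

variable {χ : F.autGroup T →* Δ}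

theorem KernelData.unique (h : KernelData F E p χ) {P : Subgroup Ω} (hP : P ∈ relFamily F T)
    {φ : P →* Ω} {δ δ' : Δ} (h₁ : HasDeg E χ φ δ) (h₂ : HasDeg E χ φ δ') : δ = δ' :=
  hasDeg_unique χ h.hS h.hF h.hE.1 h.hE.2.2 h.hker h.hΔ hP.2 h₁ h₂

theorem KernelData.stronglyClosed (h : KernelData F E p χ) : F.StronglyClosed T := h.hE.2.2.2.1

theorem KernelData.finite_T (h : KernelData F E p χ) : Finite T := finite_of_le h.stronglyClosed.1

theorem KernelData.isPGroup_T (h : KernelData F E p χ) : IsPGroup p T :=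
  h.hS.to_le h.stronglyClosed.1

theorem self_mem_relFamily (hT : F.StronglyClosed T) : S ∈ relFamily F T := by
  refine ⟨le_rfl, inf_le_right, ?_⟩
  rintro R ⟨φ, hφ, rfl⟩ c hc
  have := finite_of_le hT.1
  have hle : φ.range = T := by
    refine Subgroup.eq_of_le_of_card_ge ?_ ?_
    · rintro _ ⟨x, rfl⟩; exact hT.2 (S ⊓ T) inf_le_right φ hφ x
    · rw [← Nat.card_congr (MonoidHom.ofInjective (F.injective_of_mem hφ)).toEquiv,
        inf_eq_right.2 hT.1]
  exact hle.ge hc.1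

theorem self_inf_eq (hT : F.StronglyClosed T) : S ⊓ T = T := inf_eq_right.2 hT.1

/-- On the family the kernel system consists of the maps of degree one. -/
theorem KernelData.mem_kernelSys_iff (h : KernelData F E p χ) {P : Subgroup Ω}
    (hP : P ∈ relFamily F T) {φ : P →* Ω} :
    φ ∈ (kernelSys F E χ).Hom P ↔ φ ∈ F.Hom P ∧ HasDeg E χ φ (1 : Δ) := by
  refine ⟨fun hφ => ⟨hφ.1, ?_⟩, fun hφ => ⟨hφ.1, fun D hD => hD P φ hP hφ.1 hφ.2⟩⟩
  let D : FusionSystem S :=
    { Hom := fun Q => {ψ | ψ ∈ F.Hom Q ∧ (Q ∈ relFamily F T → HasDeg E χ ψ (1 : Δ))}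
      le_of_mem := fun {Q ψ} hψ => F.le_of_mem hψ.1
      injective_of_mem := fun {Q ψ} hψ => F.injective_of_mem hψ.1
      conj_mem := fun {Q g} hQ hg => ⟨F.conj_mem hQ hg, fun _ =>
        hasDeg_conjHom χ h.hS h.stronglyClosed h.hE.2.2.1 h.hΔ hg⟩
      comp_mem := by
        intro Q R ψ θ hψ hθ hv
        refine ⟨F.comp_mem hψ.1 hθ.1 hv, fun hQ => ?_⟩
        have hR : R ∈ relFamily F T := mem_relFamily_of_le
          (range_mem_relFamily h.stronglyClosed hψ.1 hQ) (fun y hy => by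
            obtain ⟨x, rfl⟩ := hy; exact hv x) (le_S F hθ.1)
        have := hasDeg_comp χ h.hE.2.2 hψ.1 (hψ.2 hQ) (hθ.2 hR) hv
        rwa [mul_one] at this
      inv_mem := by
        intro Q ψ hψ
        obtain ⟨θ, hθ, hθe⟩ := F.inv_mem hψ.1
        refine ⟨θ, ⟨hθ, fun hR => ?_⟩, hθe⟩
        have hQ : Q ∈ relFamily F T := by
          have h1 := range_mem_relFamily h.stronglyClosed hθ hR
          rwa [show θ.range = Q from le_antisymm
            (by rintro _ ⟨⟨_, x, rfl⟩, rfl⟩; rw [hθe]; exact x.2)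
            (fun x hx => ⟨⟨ψ ⟨x, hx⟩, _, rfl⟩, hθe _⟩)] at h1
        have := hasDeg_inv χ h.hS h.hF h.hE.1 h.hE.2.2 h.hker h.hΔ hQ.2 hψ.1 (hψ.2 hQ) hθ hθe
        rwa [inv_one] at this }
  exact ((hφ.2 D fun Q ψ _ hψ hd => ⟨hψ, fun _ => hd⟩).2 hP)

/-- An automorphism of `S` with prescribed degree. -/
theorem KernelData.exists_aut_hasDeg (h : KernelData F E p χ) (δ : Δ) :
    ∃ α ∈ F.autGroup S, HasDeg E χ (autIncl α) δ := by
  have hT := h.stronglyClosed
  have := h.finite_T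
  have hTS := hT.1
  have hTfn : F.IsFullyNormalized T := ⟨hTS, fun Q hQ => by
    obtain ⟨φ, hφ, rfl⟩ := hQ
    rw [(weaklyClosed_of_stronglyClosed hT).2 φ hφ]⟩
  obtain ⟨⟨-, Y, hY⟩, hTr⟩ := fullyAutomized_receptive_of_fullyNormalized h.hS h.hF hTfn
  obtain ⟨a₀, ha₀⟩ := h.hsurj δ
  -- move it into the normalizer of the Sylow subgroup
  have hYk : (Y : Subgroup (F.autGroup T)) ≤ χ.ker := by
    intro y hy
    obtain ⟨k, hk⟩ := Y.2 ⟨y, hy⟩
    refine eq_one_of_pow_prime_of_coprime (p := p) (k := k) ?_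
      (h.hΔ.coprime_dvd_left (orderOf_dvd_natCard _))
    rw [← map_pow, show y ^ p ^ k = 1 from congrArg Subtype.val hk, map_one]
  have hf := Sylow.normalizer_sup_eq_top' Y hYk
  obtain ⟨n, hn, z, hz, hnz⟩ := Subgroup.mem_sup_of_normal_right.1
    (hf.ge (Subgroup.mem_top a₀))
  have hnδ : χ n = δ := by
    rw [← ha₀, ← hnz, map_mul, MonoidHom.mem_ker.1 hz, mul_one]
  have hext : S ≤ extender S T (T.subtype.comp (n : MulAut T).toMonoidHom) := by
    intro s hs
    have hsn := mem_normalizer_of_stronglyClosed hT hs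
    refine mem_extender_iso_iff.2 ⟨hs, hsn, ?_⟩
    have h1 : normAut s hsn ∈ autInducedBy S T :=
      mem_autInducedBy_iff.2 ⟨s, hs, fun _ => rfl⟩
    have h2 := (Subgroup.mem_normalizer_iff.1 hn
      ⟨normAut s hsn, autInducedBy_le_autGroup hTS h1⟩).1 (by rwa [hY, Subgroup.mem_subgroupOf])
    rw [hY, Subgroup.mem_subgroupOf] at h2
    convert h2 using 1
    exact MulEquiv.ext fun y => rfl
  obtain ⟨ψ, hψ, hψe⟩ := exists_extension hTr ((mem_autGroup_iff F hTS).1 n.2) hTS hext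
  obtain ⟨α, hα, hαe⟩ := exists_iso_of_range hψ (eq_S_of_isConj_S ⟨ψ, hψ, rfl⟩)
  refine ⟨α, (mem_autGroup_iff F le_rfl).2 hα, n, (S ⊓ T).subtype, id_mem E inf_le_right,
    fun x hx => ?_, hnδ⟩
  change ((α (Subgroup.inclusion inf_le_left x) : S) : Ω) = _
  rw [hαe]
  exact hψe ⟨x, x.2.2⟩

/-- A map may be moved by an automorphism of `S` to one of degree one. -/
theorem KernelData.exists_adjust (h : KernelData F E p χ) {P : Subgroup Ω}
    (hP : P ∈ relFamily F T) {φ : P →* Ω} (hφ : φ ∈ F.Hom P) :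
    ∃ α ∈ F.autGroup S, ∃ φ₁ ∈ (kernelSys F E χ).Hom P,
      ∀ (x : P) (hx : φ₁ x ∈ S), φ x = ((α ⟨φ₁ x, hx⟩ : S) : Ω) := by
  obtain ⟨δ, hδ⟩ := exists_hasDeg χ h.hE.2.2 hφ
  obtain ⟨α, hα, hαd⟩ := h.exists_aut_hasDeg δ⁻¹
  have hαF := (mem_autGroup_iff F le_rfl).1 hα
  have hv : ∀ x, φ x ∈ S := apply_mem_S F hφ
  refine ⟨α⁻¹, inv_mem hα, (autIncl α).comp (φ.codRestrict S hv),
    (h.mem_kernelSys_iff hP).2 ⟨F.comp_mem hφ hαF hv, ?_⟩, fun x hx => ?_⟩
  · have := hasDeg_comp χ h.hE.2.2 hφ hδ hαd hv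
    rwa [inv_mul_cancel] at this
  · have h1 : (⟨(autIncl α).comp (φ.codRestrict S hv) x, hx⟩ : S) = α ⟨φ x, hv x⟩ :=
      Subtype.ext rfl
    rw [h1, MulAut.inv_apply_self]

/-- A centric subgroup outside the family has a conjugate with a `p`-automorphism from `S`
outside the inner ones in the core of its automizer. -/
theorem KernelData.exists_coreAut (h : KernelData F E p χ) {P : Subgroup Ω}
    (hPc : F.IsCentric P) (hP : P ∉ relFamily F T) :
    ∃ (Q : Subgroup Ω) (f : P ≃* Q), IsIso F f ∧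
      ¬ (autInducedBy S Q ⊓ coreAut F p Q ≤ Cfsg.Inn Q) := by
  have hT := h.stronglyClosed
  have hTS := hT.1
  have hPS := hPc.1
  set R := P ⊓ T with hRdef
  have hRS : R ≤ S := inf_le_left.trans hPS
  obtain ⟨R', hRR', hR'n⟩ := exists_fullyNormalized F hRS
  obtain ⟨e, he⟩ := isConj_iff.1 hRR'
  obtain ⟨g, hl, hgiso, ψ, hψ, hψg, hψn⟩ :=
    exists_hom_normalizerIn_of_fullyNormalized h.hS h.hF hR'n (isConj_iff.2 ⟨e, he⟩)
  have hPN : P ≤ normalizerIn S R := fun x hx => ⟨hPS hx, by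
    have := finite_of_le hRS
    refine mem_normalizer_of_forall fun y hy => ⟨P.mul_mem (P.mul_mem hx hy.1) (P.inv_mem hx), ?_⟩
    exact conj_mem_of_mem_normalizer (mem_normalizer_of_stronglyClosed hT (hPS hx)) hy.2⟩
  set Q := (ψ.comp (Subgroup.inclusion hPN)).range with hQdef
  obtain ⟨f, hf, hfe⟩ : ∃ f : P ≃* Q, IsIso F f ∧
      ∀ x : P, (f x : Ω) = ψ (Subgroup.inclusion hPN x) := exists_iso_of_mem (res_mem F hψ hPN)
  have hQT : Q ⊓ T = R' := by
    rw [hQdef, ← img_inf_stronglyClosed hT (res_mem F hψ hPN)]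
    refine le_antisymm ?_ fun y hy => ?_
    · rintro _ ⟨x, rfl⟩
      have := hψg x
      change ψ (Subgroup.inclusion hPN (Subgroup.inclusion inf_le_left x)) ∈ R'
      exact this ▸ (g x).2
    · obtain ⟨x, hx⟩ := g.surjective ⟨y, hy⟩
      refine ⟨x, ?_⟩
      change ψ (Subgroup.inclusion hPN (Subgroup.inclusion inf_le_left x)) = y
      exact (hψg x).trans (congrArg Subtype.val hx)
  have hQS : Q ≤ S := range_le_S F (res_mem F hψ hPN)
  have hQc : F.IsCentric Q := isCentric_of_isConj_centric hPc ⟨_, res_mem F hψ hPN, rfl⟩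
  -- the centralizer of `R'` in `T` is not contained in `R'`
  have hC : ¬ centralizerIn T R' ≤ R' := by
    intro hle
    refine hP ⟨hPS, inf_le_right, fun X hX => ?_⟩
    have hR'T : R' ≤ T := hQT ▸ inf_le_right
    have hfc := fullyCentralized_of_fullyNormalized h.hS h.hF hR'n
    have hcard := (fullyCentralized_of_stronglyClosed h.hS h.hF hT h.hE.2.2.1 hR'T hfc)
    obtain ⟨k, hk⟩ := isConj_iff.1 (isConj_trans (isConj_symm hRR') hX)
    have hXT : X ≤ T := by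
      obtain ⟨φ, hφ, rfl⟩ := hX
      rintro _ ⟨x, rfl⟩
      exact hT.2 _ inf_le_right φ hφ x
    -- compare the centralizers
    obtain ⟨r₁, hl₁, hr₁, θ, hθ, hθe, -⟩ := exists_hom_normalizerIn_of_fullyNormalized h.hS h.hF hR'n
      (isConj_iff.2 ⟨k.symm, hk.symm⟩)
    intro c hc
    have hcN : c ∈ normalizerIn S X := centralizerIn_le_normalizerIn X ⟨hTS hc.1, hc.2⟩
    have h1 : θ ⟨c, hcN⟩ ∈ centralizerIn T R' := by
      refine ⟨hT.2 (Subgroup.zpowers c) (Subgroup.zpowers_le.2 hc.1) _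
        (res_mem F hθ (Subgroup.zpowers_le.2 hcN)) ⟨c, Subgroup.mem_zpowers c⟩, ?_⟩
      intro y hy
      have hXN : ∀ x : X, (x : Ω) ∈ normalizerIn S X := fun x =>
        ⟨hTS (hXT x.2), Subgroup.le_normalizer x.2⟩
      set x := r₁.symm ⟨y, hy⟩
      have h2 : (⟨c, hcN⟩ : normalizerIn S X) * ⟨x, hXN x⟩ = ⟨x, hXN x⟩ * ⟨c, hcN⟩ :=
        Subtype.ext (hc.2 x x.2).symm
      have h3 := congrArg θ h2
      rw [map_mul, map_mul, show θ ⟨x, hXN x⟩ = y from
        (hθe x).trans (congrArg Subtype.val (r₁.apply_symm_apply _))] at h3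
      exact h3.symm
    obtain ⟨x, hx⟩ := r₁.surjective ⟨_, hle h1⟩
    have h4 : θ ⟨c, hcN⟩ = θ (Subgroup.inclusion (fun z hz => ⟨hTS (hXT hz),
        Subgroup.le_normalizer hz⟩ : X ≤ normalizerIn S X) x) :=
      ((hθe x).trans (congrArg Subtype.val hx)).symm
    have h5 := congrArg Subtype.val (F.injective_of_mem hθ h4)
    change c = (x : Ω) at h5
    exact h5 ▸ x.2
  obtain ⟨c₀, hc₀, hc₀R⟩ := SetLike.not_le_iff_exists.1 hC
  -- an element of `C_T(R')` normalizing `Q` outside `Q`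
  set X := centralizerIn T R' ⊔ Q with hXdef
  have hCT : centralizerIn T R' ≤ T := centralizerIn_le R'
  have hXS : X ≤ S := sup_le (hCT.trans hTS) hQS
  have hQX : Q < X := lt_of_le_of_ne le_sup_right fun heq => hc₀R (by
    rw [← hQT]
    exact ⟨heq.ge (le_sup_left (b := Q) hc₀), hc₀.1⟩)
  have := finite_of_le hQS
  have := finite_of_le hXS
  have hNX := lt_normalizerIn (h.hS.to_le hXS) hQX
  obtain ⟨y, hy, hyQ⟩ := SetLike.exists_of_lt hNX
  have hCn : Q ≤ Subgroup.normalizer ((centralizerIn T R' : Subgroup Ω) : Set Ω) := fun q hq => by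
    have := finite_of_le (hCT.trans hTS)
    refine mem_normalizer_of_forall fun c hc => ⟨conj_mem_of_mem_normalizer
      (mem_normalizer_of_stronglyClosed hT (hQS hq)) hc.1, fun r hr => ?_⟩
    have hr' : q⁻¹ * r * q⁻¹⁻¹ ∈ R' := by
      rw [← hQT] at hr ⊢
      exact ⟨Q.mul_mem (Q.mul_mem (Q.inv_mem hq) hr.1) (Q.inv_mem (Q.inv_mem hq)),
        conj_mem_of_mem_normalizer (mem_normalizer_of_stronglyClosed hT (S.inv_mem (hQS hq))) hr.2⟩
    calc r * (q * c * q⁻¹) = q * ((q⁻¹ * r * q⁻¹⁻¹) * c) * q⁻¹ := by group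
      _ = q * (c * (q⁻¹ * r * q⁻¹⁻¹)) * q⁻¹ := by rw [hc.2 _ hr']
      _ = q * c * q⁻¹ * r := by group
  obtain ⟨q, hq, c, hc, hcq⟩ : ∃ q ∈ Q, ∃ c ∈ centralizerIn T R', q * c = y := by
    have h1 : y ∈ ((Q ⊔ centralizerIn T R' : Subgroup Ω) : Set Ω) := by
      rw [SetLike.mem_coe, sup_comm]; exact hy.1
    rw [Subgroup.coe_mul_of_left_le_normalizer_right _ _ hCn] at h1
    exact Set.mem_mul.1 h1
  have hcn : c ∈ Subgroup.normalizer (Q : Set Ω) := by
    have := Subgroup.mul_mem _ (Subgroup.inv_mem _ (Subgroup.le_normalizer hq)) hy.2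
    rwa [← hcq, inv_mul_cancel_left] at this
  have hcQ : c ∉ Q := fun hcQ => hyQ (hcq ▸ Q.mul_mem hq hcQ)
  refine ⟨Q, f, hf, fun hle => ?_⟩
  set γ := normAut c hcn with hγ
  have hγS : γ ∈ autInducedBy S Q :=
    mem_autInducedBy_iff.2 ⟨c, hTS (hCT hc), fun _ => rfl⟩
  -- the stabilizer of `1 ≤ R' ≤ Q`
  let K : Subgroup (MulAut Q) :=
    { carrier := {a | a ∈ F.autGroup Q ∧ (∀ r : Q, (r : Ω) ∈ T → a r = r) ∧
        ∀ x : Q, ((x⁻¹ * a x : Q) : Ω) ∈ T}
      one_mem' := ⟨one_mem _, fun _ _ => rfl, fun x => by simp⟩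
      mul_mem' := by
        rintro a b ⟨ha, ha1, ha2⟩ ⟨hb, hb1, hb2⟩
        refine ⟨mul_mem ha hb, fun r hr => by rw [MulAut.mul_apply, hb1 r hr, ha1 r hr],
          fun x => ?_⟩
        have h1 := T.mul_mem (hb2 x) (ha2 (b x))
        simpa [mul_assoc] using h1
      inv_mem' := by
        rintro a ⟨ha, ha1, ha2⟩
        refine ⟨inv_mem ha, fun r hr => ?_, fun x => ?_⟩
        · conv_lhs => rw [← ha1 r hr]
          exact MulAut.inv_apply_self Q a r
        · have h1 := T.inv_mem (ha2 (a⁻¹ x))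
          simpa using h1 }
  have hKn : (K.subgroupOf (F.autGroup Q)).Normal := by
    refine ⟨fun a ha b => ?_⟩
    obtain ⟨ha0, ha1, ha2⟩ := Subgroup.mem_subgroupOf.1 ha
    refine Subgroup.mem_subgroupOf.2 ⟨mul_mem (mul_mem b.2 ha0) (inv_mem b.2), fun r hr => ?_,
      fun x => ?_⟩
    · simp only [Subgroup.coe_mul, Subgroup.coe_inv, MulAut.mul_apply]
      rw [ha1 _ (autGroup_apply_mem hT (inv_mem b.2) hr), MulAut.apply_inv_self]
    · simp only [Subgroup.coe_mul, Subgroup.coe_inv, MulAut.mul_apply]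
      have h1 := autGroup_apply_mem hT b.2 (ha2 ((b : MulAut Q)⁻¹ x))
      rw [map_mul, map_inv, MulAut.apply_inv_self] at h1
      exact h1
  have hKp : IsPGroup p K := by
    intro a
    obtain ⟨k, hk⟩ := IsPGroup.iff_card.1 (h.hS.to_le hQS)
    obtain ⟨-, ha1, ha2⟩ := a.2
    have hpow : ∀ (x : Q) (n : ℕ),
        ((a : MulAut Q) ^ n) x = x * (x⁻¹ * (a : MulAut Q) x) ^ n := by
      intro x n
      induction n with
      | zero => simp
      | succ n ih =>
        rw [pow_succ', MulAut.mul_apply, ih, map_mul, map_pow, ha1 _ (ha2 x), pow_succ',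
          ← mul_assoc x, mul_inv_cancel_left]
    refine ⟨k, Subtype.ext (MulEquiv.ext fun x => ?_)⟩
    change ((a : MulAut Q) ^ p ^ k) x = x
    rw [hpow, ← hk, pow_card_eq_one', mul_one]
  have hγK : γ ∈ K := by
    refine ⟨autInducedBy_le_autGroup hQS hγS, fun r hr => Subtype.ext ?_, fun x => ?_⟩
    · have : (r : Ω) ∈ R' := hQT.le ⟨r.2, hr⟩
      rw [hγ, normAut_apply, ← hc.2 _ this, mul_inv_cancel_right]
    · rw [hγ, Subgroup.coe_mul, Subgroup.coe_inv, normAut_apply,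
        show (x : Ω)⁻¹ * (c * x * c⁻¹) = (x : Ω)⁻¹ * c * x * c⁻¹ by group]
      have h1 : (x : Ω)⁻¹ * c * x ∈ T := by
        simpa using conj_mem_of_mem_normalizer
          (mem_normalizer_of_stronglyClosed hT (S.inv_mem (hQS x.2))) hc.1
      exact T.mul_mem h1 (T.inv_mem hc.1)
  have hγc : γ ∈ coreAut F p Q := by
    refine ⟨⟨γ, hγK.1⟩, ?_, rfl⟩
    have : (K.subgroupOf (F.autGroup Q)).Normal := hKn
    exact Cores.le_pCore (N := K.subgroupOf (F.autGroup Q)) hKp.comap_subtype hγK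
  have h2 : γ ∈ Cfsg.Inn Q := hle ⟨hγS, hγc⟩
  exact hcQ (mem_of_normAut_mem_inn hQS (hQc.2 Q (isConj_refl hQS)) (hTS (hCT hc)) h2)

/-- Essential subgroups lie in the family. -/
theorem KernelData.mem_relFamily_of_isEssential (h : KernelData F E p χ) {P : Subgroup Ω}
    (hP : P = S ∨ F.IsEssential p P) : P ∈ relFamily F T := by
  rcases hP with rfl | hP
  · exact self_mem_relFamily h.stronglyClosed
  by_contra hcon
  obtain ⟨Q, f, hf, hnot⟩ := h.exists_coreAut hP.1 hcon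
  have hPS := hP.1.1
  have hr := isRadical_of_isEssential h.hS hP
  refine hnot ?_
  intro a ha
  have h1 := coreAut_congr hf.symm ha.2
  have h2 : MulAut.congr f.symm a ∈ Cfsg.Inn P := hr.2.le h1
  rw [inn_eq, mem_autInducedBy_iff] at h2 ⊢
  obtain ⟨z, hz, hze⟩ := h2
  refine ⟨f ⟨z, hz⟩, (f ⟨z, hz⟩).2, fun x => ?_⟩
  obtain ⟨w, rfl⟩ := f.surjective x
  have h3 : MulAut.congr f.symm a w = ⟨z, hz⟩ * w * (⟨z, hz⟩ : P)⁻¹ := Subtype.ext (hze w)
  have h4 := congrArg (fun v => ((f v : Q) : Ω)) h3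
  simpa using h4

end CfsgLib.Fusion
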