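import Cfsg.Agent.Lib.Fusion.KernelSystem
import Cfsg.Agent.Lib.Fusion.GeneratedSaturationClass
import Cfsg.Agent.Lib.Fusion.FunctorGeneration

/-!
# The kernel system is a normal subsystem
-/

set_option autoImplicit false

open Cfsg Cfsg.FusionSystem

namespace CfsgLib.Fusion

variable {Ω : Type*} [Group Ω] {S T : Subgroup Ω} [Finite S] {F : FusionSystem S}
  {E : FusionSystem T} {p : ℕ} [Fact p.Prime] {Δ : Type*} [Group Δ] [Finite Δ]
  {χ : F.autGroup T →* Δ}

/-- Automorphisms of `p`-power order lie in every conjugation closed subsystem over `S`. -/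
theorem mem_autGroup_of_pElement_conjClosed (hS : IsPGroup p S) (hF : F.IsSaturated p)
    {E₀ : FusionSystem S} (hEF : E₀.IsSubsystemOf F) (hcc : ConjClosed E₀ F) {P : Subgroup Ω}
    (hP : P ≤ S) {β : MulAut P} (hβ : β ∈ F.autGroup P) {k : ℕ} (hk : β ^ p ^ k = 1) :
    β ∈ E₀.autGroup P := by
  obtain ⟨R, hPR, hRn⟩ := exists_fullyNormalized F hP
  obtain ⟨e, he⟩ := isConj_iff.1 hPR
  have hβ' : ((autEquiv he ⟨β, hβ⟩ : F.autGroup R) : MulAut R) ∈ E₀.autGroup R := by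
    refine mem_autGroup_of_pow_eq_one hS hEF hcc
      (fullyAutomized_receptive_of_fullyNormalized hS hF hRn).1 (SetLike.coe_mem _) (k := k) ?_
    rw [← SubmonoidClass.coe_pow, ← map_pow,
      show (⟨β, hβ⟩ : F.autGroup P) ^ p ^ k = 1 from Subtype.ext hk, map_one, OneMemClass.coe_one]
  obtain ⟨χ₀, hχ, hχe⟩ := hcc R R le_rfl hRn.1 _ ((mem_autGroup_iff E₀ hRn.1).1 hβ')
    (fun x => ((autEquiv he ⟨β, hβ⟩ : MulAut R) x).2) _ he.symm
  have hr : (R.subgroupOf R).map (P.subtype.comp e.symm.toMonoidHom) = P :=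
    (img_self _).trans (range_subtype_comp e.symm)
  refine (mem_autGroup_iff E₀ hP).2 (mem_of_eq hr hχ ?_)
  rintro ⟨_, y, hy, rfl⟩
  refine Eq.trans ?_ (hχe y _).symm
  change ((β (e.symm y) : P) : Ω) = ((e.symm ((autEquiv he ⟨β, hβ⟩ : MulAut R) y) : P) : Ω)
  rw [autEquiv_apply, MulEquiv.symm_apply_apply]

theorem imageAlong_autIncl_range {φ : S →* Ω} : imageAlong φ S = φ.range := by
  rw [imageAlong, Subgroup.subgroupOf_self, MonoidHom.range_eq_map]

/-- The family is stable under the automorphisms of `S`. -/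
theorem KernelData.imageAlong_mem (h : KernelData F E p χ) {α : MulAut S}
    (hα : α ∈ F.autGroup S) {P : Subgroup Ω} (hP : P ∈ relFamily F T) :
    imageAlong (autIncl α) P ∈ relFamily F T := by
  have h1 := range_mem_relFamily h.stronglyClosed
    (res_mem F ((mem_autGroup_iff F le_rfl).1 hα) hP.1) hP
  convert h1 using 1
  ext y
  constructor
  · rintro ⟨z, hz, rfl⟩; exact ⟨⟨z, hz⟩, rfl⟩
  · rintro ⟨z, rfl⟩; exact ⟨⟨z, hP.1 z.2⟩, z.2, rfl⟩

/-- The kernel system is closed under transport. -/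
theorem KernelData.transportClosed_kernelSys (h : KernelData F E p χ) :
    TransportClosed (kernelSys F E χ) F := by
  intro P hPS φ hφ α hα
  set K := kernelSys F E χ
  have hαF := (mem_autGroup_iff F le_rfl).1 hα
  obtain ⟨δ, hδ⟩ := exists_hasDeg χ h.hE.2.2 hαF
  obtain ⟨αi, hαi, hαie⟩ := F.inv_mem hαF
  have key : φ ∈ (pullSys K (autIncl α) (autIncl_injective α) (autIncl_range α)).Hom P := by
    refine hφ.2 _ fun Q ψ hQ hψ hd => ?_
    have hψS := apply_mem_S F hψ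
    have hQ' := h.imageAlong_mem hα hQ
    -- the transported map
    let f : Q ≃* imageAlong (autIncl α) Q := imageEquiv (autIncl_injective α) hQ.1
    have hfF : IsIso F f := mem_of_eq rfl (res_mem F hαF hQ.1) fun _ => rfl
    let θ : imageAlong (autIncl α) Q →* Ω :=
      (autIncl α).comp ((ψ.comp f.symm.toMonoidHom).codRestrict S fun x => hψS _)
    have hθF : θ ∈ F.Hom (imageAlong (autIncl α) Q) :=
      F.comp_mem (F.comp_mem hfF.symm hψ fun x => (f.symm x).2) hαF fun x => hψS _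
    have hθe : ∀ x : Q, θ (f x) = ((α ⟨ψ x, hψS x⟩ : S) : Ω) := fun x => by
      refine congrArg (fun t : S => ((α t : S) : Ω)) (Subtype.ext ?_)
      change ψ (f.symm (f x)) = ψ x
      rw [MulEquiv.symm_apply_apply]
    refine ⟨hQ.1, hψS, θ, (h.mem_kernelSys_iff hQ').2 ⟨hθF, ?_⟩, fun x => hθe x⟩
    obtain ⟨η, hη⟩ := exists_hasDeg χ h.hE.2.2 hθF
    have hf1 : HasDeg E χ ((imageAlong (autIncl α) Q).subtype.comp f.toMonoidHom) δ :=
      hasDeg_of_eq χ (hasDeg_res χ hδ hQ.1) fun _ => rfl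
    have h1 := hasDeg_comp χ h.hE.2.2 (P := Q) hfF hf1 hη fun x => (f x).2
    have h2 := hasDeg_comp χ h.hE.2.2 hψ hd hδ hψS
    have h3 := h.unique hQ h1 (hasDeg_of_eq χ h2 fun x => hθe x)
    rw [mul_one, mul_eq_right] at h3
    rwa [h3] at hη
  obtain ⟨hPS', hφS, ψ, hψ, hψe⟩ := key
  exact ⟨ψ, hψ, fun x hφx hαx => hψe x⟩

/-- The Frattini condition. -/
theorem KernelData.frattini_kernelSys (h : KernelData F E p χ) {P : Subgroup Ω} {φ : P →* Ω}
    (hφ : φ ∈ F.Hom P) :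
    ∃ α ∈ F.autGroup S, ∃ φ₀ ∈ (kernelSys F E χ).Hom P,
      ∀ (x : P) (hx : φ₀ x ∈ S), φ x = ((α ⟨φ₀ x, hx⟩ : S) : Ω) := by
  suffices hle : F ≤ frattiniSys (kernelSys F E χ) F h.transportClosed_kernelSys from
    (hle P hφ).2
  refine alperin h.hS h.hF _ fun R hR => ?_
  have hR' := h.mem_relFamily_of_isEssential hR
  intro a ha
  have haF := (mem_autGroup_iff F hR'.1).1 ha
  obtain ⟨α, hα, φ₁, hφ₁, he⟩ := h.exists_adjust hR' haF
  exact mem_autGroup_of_mem (φ := R.subtype.comp a.toMonoidHom) _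
    ⟨haF, α, hα, φ₁, hφ₁, he⟩ fun _ => rfl

theorem KernelData.stronglyClosed_top (_h : KernelData F E p χ) : F.StronglyClosed S :=
  ⟨le_rfl, fun _ _ _ hψ x => apply_mem_S F hψ x⟩

theorem KernelData.isInvariantIn_kernelSys (h : KernelData F E p χ) :
    (kernelSys F E χ).IsInvariantIn F :=
  ⟨kernelSys_le, h.stronglyClosed_top, h.transportClosed_kernelSys,
    fun _ _ _ hφ => h.frattini_kernelSys hφ⟩

/-- Being fully normalized is invariant under the automorphisms of `S`. -/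
theorem isFullyNormalized_range_autIncl {α : MulAut S} (hα : α ∈ F.autGroup S) {Q : Subgroup Ω}
    (hQ : F.IsFullyNormalized Q) :
    F.IsFullyNormalized (imageAlong (autIncl α) Q) := by
  refine ⟨(Subgroup.map_le_range _ _).trans (autIncl_range α).le, fun R hR => ?_⟩
  have hconj : F.IsConj Q (imageAlong (autIncl α) Q) :=
    ⟨_, res_mem F ((mem_autGroup_iff F le_rfl).1 hα) hQ.1, by
      ext y
      constructor
      · rintro ⟨z, rfl⟩; exact ⟨⟨z, hQ.1 z.2⟩, z.2, rfl⟩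
      · rintro ⟨z, hz, rfl⟩; exact ⟨⟨z, hz⟩, rfl⟩⟩
  refine (hQ.2 R (isConj_trans hconj hR)).trans ?_
  have := finite_of_le ((Subgroup.map_le_range (autIncl α) (Q.subgroupOf S)).trans
    (autIncl_range α).le)
  have hfin : Finite (imageAlong (autIncl α) Q) :=
    finite_of_le ((Subgroup.map_le_range _ _).trans (autIncl_range α).le)
  have hval : ∀ g : normalizerIn S Q,
      ((α ⟨g, normalizerIn_le Q g.2⟩ : S) : Ω) ∈ normalizerIn S (imageAlong (autIncl α) Q) := by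
    intro g
    refine ⟨(α _).2, mem_normalizer_of_forall ?_⟩
    rintro _ ⟨x, hx, rfl⟩
    refine ⟨⟨g, normalizerIn_le Q g.2⟩ * x * (⟨g, normalizerIn_le Q g.2⟩ : S)⁻¹,
      conj_mem_of_mem_normalizer g.2.2 hx, ?_⟩
    rw [map_mul, map_mul, map_inv]
    rfl
  have := finite_of_le (normalizerIn_le (S := S) (imageAlong (autIncl α) Q))
  refine Nat.card_le_card_of_injective
    (fun g => (⟨_, hval g⟩ : normalizerIn S (imageAlong (autIncl α) Q))) ?_
  intro a b hab
  exact Subtype.ext (congrArg Subtype.val (α.injective (Subtype.ext (congrArg Subtype.val hab :))) :)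

/-- The kernel system is saturated. -/
theorem KernelData.isSaturated_kernelSys (h : KernelData F E p χ) :
    (kernelSys F E χ).IsSaturated p := by
  set K := kernelSys F E χ with hK
  have hT := h.stronglyClosed
  refine isSaturated_of_generated_on_family h.hS (relFamily F T) ?_ ?_ ?_ ?_
  · rintro P hP Q ⟨φ, hφ, rfl⟩
    exact range_mem_relFamily hT hφ.1 hP
  · intro P hP
    obtain ⟨Q₀, ⟨φ, hφ, rfl⟩, hQ₀⟩ := exists_fullyNormalized F hP.1
    obtain ⟨α, hα, φ₁, hφ₁, he⟩ := h.exists_adjust hP hφ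
    have hQn : F.IsFullyNormalized φ₁.range := by
      have h1 : imageAlong (autIncl α⁻¹) φ.range = φ₁.range := by
        have hinv : ∀ x : P, autIncl α⁻¹ ⟨φ x, apply_mem_S F hφ x⟩ = φ₁ x := fun x => by
          change ((α⁻¹ ⟨φ x, apply_mem_S F hφ x⟩ : S) : Ω) = φ₁ x
          rw [show (⟨φ x, apply_mem_S F hφ x⟩ : S) = α ⟨φ₁ x, apply_mem_S F hφ₁.1 x⟩ from
            Subtype.ext (he x _), MulAut.inv_apply_self]
        ext y
        constructor
        · rintro ⟨z, ⟨x, hx⟩, rfl⟩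
          exact ⟨x, (hinv x).symm.trans (congrArg (autIncl α⁻¹) (Subtype.ext hx))⟩
        · rintro ⟨x, rfl⟩
          exact ⟨⟨φ x, apply_mem_S F hφ x⟩, ⟨x, rfl⟩, hinv x⟩
      rw [← h1]
      exact isFullyNormalized_range_autIncl (inv_mem hα) hQ₀
    have hQℋ := range_mem_relFamily hT hφ₁.1 hP
    obtain ⟨hQa, hQr⟩ := fullyAutomized_receptive_of_fullyNormalized h.hS h.hF hQn
    have hQS := hQn.1
    refine ⟨φ₁.range, ⟨φ₁, hφ₁, rfl⟩, ?_, hQS, fun X e he' hX => ?_⟩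
    · obtain ⟨-, hi⟩ := (isFullyAutomized_iff h.hS).1 hQa
      refine (isFullyAutomized_iff h.hS).2 ⟨hQS, fun hd => hi (hd.trans ?_)⟩
      rw [← Subgroup.relIndex_mul_relIndex (autInducedBy S φ₁.range) (K.autGroup φ₁.range)
        (F.autGroup φ₁.range) (autInducedBy_le_autGroup hQS) (autGroup_mono kernelSys_le _)]
      exact dvd_mul_right _ _
    · obtain ⟨ψ, hψ, hψe⟩ := hQr.2 X e he'.1 hX
      have hXℋ : X ∈ relFamily F T := by
        obtain ⟨θ, hθ, hθe⟩ := F.inv_mem he'.1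
        have hrange : e.range ∈ relFamily F T := hX.symm ▸ hQℋ
        have h1 := range_mem_relFamily hT hθ hrange
        rwa [show θ.range = X from le_antisymm
          (by rintro _ ⟨⟨_, x, rfl⟩, rfl⟩; rw [hθe]; exact x.2)
          (fun x hx => ⟨⟨e ⟨x, hx⟩, _, rfl⟩, hθe _⟩)] at h1
      have hXN : X ≤ extender S X e := le_extender he'.1
      have hN : extender S X e ≤ S := le_S F hψ
      refine ⟨ψ, (h.mem_kernelSys_iff (mem_relFamily_of_le hXℋ hXN hN)).2 ⟨hψ, ?_⟩, hψe⟩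
      obtain ⟨η, hη⟩ := exists_hasDeg χ h.hE.2.2 hψ
      have h2 := h.unique hXℋ (hasDeg_of_eq χ (hasDeg_res χ hη hXN)
        fun x => (hψe x x.2 (hXN x.2)).symm) ((h.mem_kernelSys_iff hXℋ).1 he').2
      rwa [h2] at hη
  · intro D hD P φ hφ
    exact hφ.2 D fun Q ψ hQ hψ hd => hD Q hQ ((h.mem_kernelSys_iff hQ).2 ⟨hψ, hd⟩)
  · intro P hPc hP
    have hPF : F.IsCentric P := by
      refine ⟨hPc.1, fun Q hQ c hc => ?_⟩
      obtain ⟨φ, hφ, rfl⟩ := hQ
      obtain ⟨α, hα, φ₀, hφ₀, he⟩ := h.frattini_kernelSys hφ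
      have hcS := hc.1
      have hc' : ((α⁻¹ ⟨c, hcS⟩ : S) : Ω) ∈ centralizerIn S φ₀.range := by
        refine ⟨(α⁻¹ _).2, ?_⟩
        rintro _ ⟨x, rfl⟩
        have h2 : α ⟨φ₀ x, apply_mem_S _ hφ₀ x⟩ * ⟨c, hcS⟩ =
            ⟨c, hcS⟩ * α ⟨φ₀ x, apply_mem_S _ hφ₀ x⟩ := Subtype.ext (by
          change ((α _ : S) : Ω) * c = c * ((α _ : S) : Ω)
          rw [← he x]
          exact hc.2 (φ x) ⟨x, rfl⟩)
        have h4 := congrArg (fun t => ((α⁻¹ t : S) : Ω)) h2
        simpa [map_mul] using h4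
      obtain ⟨x, hx⟩ := hPc.2 φ₀.range ⟨φ₀, hφ₀, rfl⟩ hc'
      refine ⟨x, (he x (apply_mem_S _ hφ₀ x)).trans ?_⟩
      rw [show (⟨φ₀ x, apply_mem_S _ hφ₀ x⟩ : S) = α⁻¹ ⟨c, hcS⟩ from Subtype.ext hx,
        MulAut.apply_inv_self]
    obtain ⟨Q, f, hf, hnot⟩ := h.exists_coreAut hPF hP
    obtain ⟨α, hα, φ₀, hφ₀, he⟩ := h.frattini_kernelSys hf
    obtain ⟨f₀, hf₀, -⟩ := exists_iso_of_mem hφ₀
    refine ⟨φ₀.range, ⟨φ₀, hφ₀, rfl⟩, fun hle => hnot ?_⟩
    -- transport back from `φ₀.range` to `Q` by `α`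
    have hQS := IsIso.le_right hf
    obtain ⟨g, hg, hge⟩ := exists_iso_of_mem (res_mem F ((mem_autGroup_iff F le_rfl).1 hα)
      (range_le_S _ hφ₀ : φ₀.range ≤ S))
    have hr : ((autIncl α).comp (Subgroup.inclusion (range_le_S _ hφ₀ : φ₀.range ≤ S))).range
        = Q := by
      ext y
      constructor
      · rintro ⟨⟨_, x, rfl⟩, rfl⟩
        have h1 := he x (apply_mem_S _ hφ₀ x)
        simp only [MonoidHom.comp_apply, Subgroup.coe_subtype, MulEquiv.coe_toMonoidHom] at h1 ⊢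
        exact h1 ▸ (f x).2
      · intro hy
        obtain ⟨x, hx⟩ := f.surjective ⟨y, hy⟩
        exact ⟨⟨φ₀ x, x, rfl⟩, (he x (apply_mem_S _ hφ₀ x)).symm.trans (congrArg Subtype.val hx)⟩
    obtain ⟨e, he', hee⟩ := exists_iso_of_range (res_mem F ((mem_autGroup_iff F le_rfl).1 hα)
      (range_le_S _ hφ₀ : φ₀.range ≤ S)) hr
    intro a ⟨haS, hac⟩
    set b := MulAut.congr e.symm a with hb
    have hbc : b ∈ coreAut F p φ₀.range := coreAut_congr he'.symm hac
    have hbS : b ∈ autInducedBy S φ₀.range := by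
      rw [mem_autInducedBy_iff]
      obtain ⟨s, hs, hse⟩ := mem_autInducedBy_iff.1 haS
      refine ⟨((α⁻¹ ⟨s, hs⟩ : S) : Ω), (α⁻¹ _).2, fun x => ?_⟩
      have h1 : α ⟨(b x : Ω), range_le_S _ hφ₀ (b x).2⟩ =
          ⟨s, hs⟩ * α ⟨x, range_le_S _ hφ₀ x.2⟩ * (⟨s, hs⟩ : S)⁻¹ := Subtype.ext (by
        refine (hee (b x)).symm.trans ?_
        rw [hb]
        change (e (e.symm (a (e x))) : Ω) = _
        rw [MulEquiv.apply_symm_apply, hse, hee]
        rfl)
      have h2 := congrArg (fun t => ((α⁻¹ t : S) : Ω)) h1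
      simpa using h2
    have hbK : b ∈ coreAut K p φ₀.range := by
      obtain ⟨b', hb', hb'e⟩ := hbc
      have hbm : b ∈ K.autGroup φ₀.range := autInducedBy_le_autGroup (range_le_S _ hφ₀) hbS
      refine ⟨⟨b, hbm⟩, ?_, rfl⟩
      have hsub : K.autGroup φ₀.range ≤ F.autGroup φ₀.range := autGroup_mono kernelSys_le _
      have hn : ((pCore p (F.autGroup φ₀.range)).comap (Subgroup.inclusion hsub)).Normal := by
        have := Cores.pCore_characteristic (G := F.autGroup φ₀.range) p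
        infer_instance
      have hQfin := finite_of_le (range_le_S _ hφ₀ : φ₀.range ≤ S)
      refine Cores.le_pCore (N := (pCore p (F.autGroup φ₀.range)).comap (Subgroup.inclusion hsub))
        ((Cores.isPGroup_pCore p).comap_of_injective _ (Subgroup.inclusion_injective hsub)) ?_
      change (⟨b, hsub hbm⟩ : F.autGroup φ₀.range) ∈ pCore p _
      rwa [show (⟨b, hsub hbm⟩ : F.autGroup φ₀.range) = b' from Subtype.ext hb'e.symm]
    have h3 := hle ⟨hbS, hbK⟩
    rw [inn_eq, mem_autInducedBy_iff] at h3 ⊢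
    obtain ⟨z, hz, hze⟩ := h3
    refine ⟨e ⟨z, hz⟩, (e ⟨z, hz⟩).2, fun y => ?_⟩
    obtain ⟨w, rfl⟩ := e.surjective y
    have h4 : b w = ⟨z, hz⟩ * w * (⟨z, hz⟩ : φ₀.range)⁻¹ := Subtype.ext (hze w)
    have h5 := congrArg (fun v => ((e v : Q) : Ω)) h4
    simpa [hb] using h5

/-- The automizer of `S`. -/
theorem KernelData.mem_autGroup_kernelSys_iff (h : KernelData F E p χ) {α : MulAut S} :
    α ∈ (kernelSys F E χ).autGroup S ↔ α ∈ F.autGroup S ∧ ∃ β : F.autGroup T, χ β = 1 ∧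
      ∀ t : T, (((β : MulAut T) t : T) : Ω) = ((α ⟨(t : Ω), h.stronglyClosed.1 t.2⟩ : S) : Ω) := by
  have hT := h.stronglyClosed
  rw [mem_autGroup_iff _ le_rfl, mem_autGroup_iff F le_rfl]
  refine (h.mem_kernelSys_iff (self_mem_relFamily hT)).trans
    (and_congr_right fun hα => ⟨fun hd => ?_, ?_⟩)
  · have := h.finite_T
    obtain ⟨b, hb, hbe⟩ := exists_iso_of_range (res_mem F hα hT.1)
      ((weaklyClosed_of_stronglyClosed hT).2 _ (res_mem F hα hT.1))
    refine ⟨⟨b, (mem_autGroup_iff F hT.1).2 hb⟩, h.unique (self_mem_relFamily hT) ?_ hd,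
      fun t => hbe t⟩
    exact ⟨⟨b, (mem_autGroup_iff F hT.1).2 hb⟩, _, id_mem E inf_le_right,
      fun x hx => (hbe ⟨x, x.2.2⟩).symm, rfl⟩
  · rintro ⟨β, hβ, hβe⟩
    exact ⟨β, _, id_mem E inf_le_right, fun x hx => (hβe ⟨x, x.2.2⟩).symm, hβ⟩

/-- `E` lies in the kernel system. -/
theorem KernelData.isSubsystemOf_kernelSys (h : KernelData F E p χ) :
    E.IsSubsystemOf (kernelSys F E χ) := by
  have hT := h.stronglyClosed
  have := h.finite_T
  suffices hle : E ≤ restrictSys (kernelSys F E χ) T hT.1 from fun P φ hφ => (hle P hφ).1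
  refine alperin h.isPGroup_T h.hE.1 _ fun R hR => ?_
  obtain ⟨hRT, hRc⟩ : R ≤ T ∧ E.IsCentric R := by
    rcases hR with rfl | hR
    · exact ⟨le_rfl, le_rfl, fun Q hQ => (centralizerIn_le Q).trans (eq_S_of_isConj_S hQ).ge⟩
    · exact ⟨hR.1.1, hR.1⟩
  have hRℋ : R ∈ relFamily F T := ⟨hRT.trans hT.1, by
    rw [inf_eq_left.2 hRT]
    exact isCentricRelTo_of_isCentric h.hE.2.2 hRc⟩
  intro a ha
  have haE := (mem_autGroup_iff E hRT).1 ha
  exact mem_autGroup_of_mem (φ := R.subtype.comp a.toMonoidHom) _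
    ⟨(h.mem_kernelSys_iff hRℋ).2 ⟨h.hE.2.2.1 R haE, hasDeg_of_mem χ haE⟩, hRT,
      fun x => hRT (a x).2⟩ fun _ => rfl

/-- The kernel system is normal. -/
theorem KernelData.isNormalIn_kernelSys (h : KernelData F E p χ) :
    (kernelSys F E χ).IsNormalIn F p := by
  refine ⟨⟨h.isSaturated_kernelSys, h.hF, h.isInvariantIn_kernelSys⟩, fun α hα => ?_⟩
  have hαF := (mem_autGroup_iff F le_rfl).1 (autGroup_mono kernelSys_le S hα)
  have hM : S ⊔ centralizerIn S S = S := sup_eq_left.2 (centralizerIn_le S)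
  obtain ⟨ψ, hψ, hψe⟩ := mem_of_eq_sup hM.symm hαF
  obtain ⟨β, hβ, hβe⟩ := exists_iso_of_range hψ (by
    refine le_antisymm ((range_le_S F hψ).trans hM.ge) fun y hy => ?_
    obtain ⟨x, hx⟩ := α.surjective ⟨y, hM.le hy⟩
    exact ⟨⟨x, hM.ge x.2⟩, (hψe _).trans (congrArg Subtype.val hx)⟩)
  have hb : ∀ c : ↥(S ⊔ centralizerIn S S),
      (β c : Ω) = ((α ⟨c, hM.le c.2⟩ : S) : Ω) := fun c => (hβe c).trans (hψe c)
  refine ⟨β, (mem_autGroup_iff F hM.le).2 hβ, fun x => hb _, fun c hc => ⟨?_, ?_⟩⟩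
  · rw [hb]
    exact S.mul_mem (S.inv_mem hc.1) (α _).2
  · refine Subgroup.mul_mem _ (Subgroup.inv_mem _ hc.2) fun y hy => ?_
    obtain ⟨x, hx⟩ := α.surjective ⟨y, hy⟩
    have h1 : x * ⟨c, hM.le c.2⟩ = ⟨c, hM.le c.2⟩ * x := Subtype.ext (hc.2 x x.2)
    have h2 := congrArg (fun t => ((α t : S) : Ω)) h1
    simp only [map_mul, Subgroup.coe_mul, hx] at h2
    rw [hb]
    exact h2

/-- The residual lies in the kernel system. -/
theorem KernelData.residual_le (h : KernelData F E p χ) {R : FusionSystem S}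
    (hR : F.IsPPrimeResidual p R) : R.IsSubsystemOf (kernelSys F E χ) := by
  refine hR.2.2 _ h.isSaturated_kernelSys ⟨kernelSys_le, fun P hP => ?_⟩
  rw [Subgroup.map_le_iff_le_comap, Subgroup.closure_le]
  rintro β ⟨k, hk⟩
  exact mem_autGroup_of_pElement_conjClosed h.hS h.hF kernelSys_le
    (conjClosed_of_isInvariantIn h.isInvariantIn_kernelSys) hP β.2 (k := k)
    (by rw [← hk, ← map_pow, pow_orderOf_eq_one, map_one])

/-- The kernel system is proper when the group is nontrivial. -/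
theorem KernelData.not_forall_hom_eq (h : KernelData F E p χ) [Nontrivial Δ] :
    ¬ ∀ P : Subgroup Ω, (kernelSys F E χ).Hom P = F.Hom P := by
  intro hall
  obtain ⟨δ, hδ⟩ := exists_ne (1 : Δ)
  obtain ⟨α, hα, hαd⟩ := h.exists_aut_hasDeg δ
  have h1 : autIncl α ∈ (kernelSys F E χ).Hom S := by
    rw [hall]; exact (mem_autGroup_iff F le_rfl).1 hα
  have hS := self_mem_relFamily h.stronglyClosed
  exact hδ (h.unique hS hαd ((h.mem_kernelSys_iff hS).1 h1).2)

end CfsgLib.Fusion
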