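import Cfsg.Agent.Lib.Fusion.PermSimple

/-!
Certificate for a Sylow 2-subgroup of the Mathieu group on 11 points.
-/

set_option autoImplicit false
set_option maxRecDepth 16384

namespace CfsgLib.Fusion.M11

open CfsgLib.Golay CfsgLib.Fusion.PermCert

/-- The membership test. -/
def test (L : List ℕ) : Bool :=
  m24Test L && decide (imgMask L 340831 = 340831) && decide (imgMask L 1 = 1)

/-- Generators along a central series. -/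
def gens : List (List ℕ) :=
  [[0, 4, 2, 3, 1, 5, 16, 10, 13, 18, 7, 11, 12, 8, 22, 17, 6, 15, 9, 19, 23, 21, 14, 20],
   [0, 8, 2, 3, 13, 11, 18, 14, 4, 6, 22, 5, 12, 1, 10, 23, 9, 20, 16, 21, 15, 19, 7, 17],
   [0, 1, 3, 2, 4, 5, 9, 10, 13, 6, 7, 11, 12, 8, 14, 20, 18, 23, 16, 21, 15, 19, 22, 17],
   [0, 6, 2, 3, 16, 21, 4, 23, 9, 13, 20, 19, 12, 18, 15, 22, 1, 14, 8, 11, 7, 5, 17, 10]]

/-- The central involution. -/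
def z : List ℕ := [0, 4, 2, 3, 1, 5, 16, 10, 13, 18, 7, 11, 12, 8, 22, 17, 6, 15, 9, 19, 23, 21, 14, 20]

/-- The fusion chain. -/
def steps : List FStep :=
  [([0, 4, 3, 2, 1, 5, 18, 7, 8, 16, 10, 11, 12, 13, 22, 23, 9, 20, 6, 21, 17, 19, 14, 15], [0, 9, 12, 8, 16, 11, 4, 15, 3, 18, 23, 7, 13, 2, 22, 20, 1, 17, 6, 5, 19, 10, 14, 21], 0, 0),
   ([0, 8, 3, 2, 13, 11, 6, 22, 1, 18, 14, 5, 12, 4, 10, 15, 16, 17, 9, 19, 23, 21, 7, 20], [0, 1, 12, 16, 8, 19, 3, 22, 9, 13, 7, 17, 6, 18, 5, 14, 2, 10, 4, 21, 20, 15, 11, 23], 0, 0),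
   ([0, 8, 2, 3, 13, 11, 18, 14, 4, 6, 22, 5, 12, 1, 10, 23, 9, 20, 16, 21, 15, 19, 7, 17], [], 1, 2),
   ([0, 6, 2, 3, 16, 21, 4, 23, 9, 13, 20, 19, 12, 18, 15, 22, 1, 14, 8, 11, 7, 5, 17, 10], [0, 9, 12, 2, 18, 5, 1, 15, 13, 16, 17, 21, 3, 8, 22, 20, 4, 23, 6, 11, 10, 19, 14, 7], 3, 0),
   ([0, 1, 3, 2, 4, 5, 9, 10, 13, 6, 7, 11, 12, 8, 14, 20, 18, 23, 16, 21, 15, 19, 22, 17], [], 0, 1)]

/-- Invariant masks. -/
def masks : List ℕ := [340831, 1]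

/-- The orbits. -/
def l0 : List ℕ := [0, 1, 2, 2, 1, 5, 1, 7, 1, 1, 7, 5, 12, 1, 7, 7, 1, 7, 1, 5, 7, 5, 7, 7]

/-- The levels of the lower central series. -/
def levels : List (List (List ℕ) × List ℕ × List (ℕ × ℕ)) :=
  [([[0, 4, 2, 3, 1, 5, 16, 10, 13, 18, 7, 11, 12, 8, 22, 17, 6, 15, 9, 19, 23, 21, 14, 20], [0, 8, 2, 3, 13, 11, 18, 14, 4, 6, 22, 5, 12, 1, 10, 23, 9, 20, 16, 21, 15, 19, 7, 17]],
    [0, 1, 2, 3, 1, 5, 6, 7, 1, 6, 7, 5, 12, 1, 7, 15, 6, 15, 6, 19, 15, 19, 7, 15],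
    [(2, 3)]),
   ([[0, 4, 2, 3, 1, 5, 16, 10, 13, 18, 7, 11, 12, 8, 22, 17, 6, 15, 9, 19, 23, 21, 14, 20]],
    [0, 1, 2, 3, 1, 5, 6, 7, 8, 9, 7, 11, 12, 8, 14, 15, 6, 15, 9, 19, 20, 21, 14, 20],
    [(0, 2)])]

theorem cert : certOk test gens z steps masks l0 levels = true := by decide +kernel

theorem gens_length : gens.length = 4 := rfl

end CfsgLib.Fusion.M11
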