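import Cfsg.Agent.Lib.Fusion.PermSimple

/-!
Certificate for a Sylow 2-subgroup of the Mathieu group on 23 points.
-/

set_option autoImplicit false
set_option maxRecDepth 16384

namespace CfsgLib.Fusion.M23

open CfsgLib.Golay CfsgLib.Fusion.PermCert

/-- The membership test. -/
def test (L : List ℕ) : Bool :=
  m24Test L && decide (imgMask L 8388608 = 8388608)

/-- Generators along a central series. -/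
def gens : List (List ℕ) :=
  [[13, 10, 2, 3, 17, 20, 6, 15, 8, 18, 1, 11, 22, 0, 14, 7, 21, 4, 9, 19, 5, 16, 12, 23],
   [12, 18, 2, 3, 15, 21, 6, 17, 8, 10, 9, 11, 0, 22, 14, 4, 20, 7, 1, 19, 16, 5, 13, 23],
   [0, 18, 8, 14, 7, 20, 6, 4, 2, 10, 9, 11, 12, 13, 3, 17, 21, 15, 1, 19, 5, 16, 22, 23],
   [0, 9, 3, 2, 17, 21, 6, 15, 14, 1, 18, 11, 12, 13, 8, 7, 20, 4, 10, 19, 16, 5, 22, 23],
   [5, 4, 14, 8, 9, 22, 6, 1, 3, 7, 17, 11, 21, 20, 2, 10, 0, 18, 15, 19, 12, 13, 16, 23],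
   [0, 4, 3, 8, 18, 21, 11, 1, 14, 15, 17, 6, 22, 13, 2, 10, 5, 9, 7, 19, 16, 20, 12, 23],
   [1, 0, 2, 3, 20, 17, 6, 21, 8, 22, 13, 11, 18, 10, 14, 16, 15, 5, 12, 19, 4, 7, 9, 23]]

/-- The central involution. -/
def z : List ℕ := [13, 10, 2, 3, 17, 20, 6, 15, 8, 18, 1, 11, 22, 0, 14, 7, 21, 4, 9, 19, 5, 16, 12, 23]

/-- The fusion chain. -/
def steps : List FStep :=
  [([21, 10, 8, 3, 4, 22, 11, 15, 2, 9, 1, 6, 20, 16, 14, 7, 13, 17, 18, 19, 12, 0, 5, 23], [21, 5, 14, 19, 8, 10, 17, 13, 4, 7, 22, 3, 11, 0, 9, 16, 12, 2, 15, 18, 1, 20, 6, 23], 0, 0),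
   ([22, 18, 14, 8, 17, 5, 6, 15, 3, 10, 9, 11, 13, 12, 2, 7, 16, 4, 1, 19, 20, 21, 0, 23], [7, 12, 3, 6, 21, 1, 4, 9, 8, 16, 13, 17, 0, 2, 5, 10, 14, 11, 19, 20, 22, 15, 18, 23], 1, 0),
   ([5, 18, 14, 2, 17, 22, 11, 7, 3, 1, 9, 6, 16, 20, 8, 15, 13, 4, 10, 19, 12, 0, 21, 23], [], 1, 2),
   ([0, 9, 3, 2, 17, 21, 6, 15, 14, 1, 18, 11, 12, 13, 8, 7, 20, 4, 10, 19, 16, 5, 22, 23], [], 3, 1),
   ([0, 18, 8, 14, 7, 20, 6, 4, 2, 10, 9, 11, 12, 13, 3, 17, 21, 15, 1, 19, 5, 16, 22, 23], [11, 17, 3, 14, 4, 20, 19, 10, 21, 15, 1, 0, 6, 12, 16, 9, 2, 7, 18, 13, 8, 5, 22, 23], 4, 0),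
   ([16, 1, 8, 3, 17, 12, 11, 7, 2, 18, 10, 6, 5, 21, 14, 15, 0, 4, 9, 19, 22, 13, 20, 23], [], 0, 1),
   ([20, 9, 14, 2, 4, 12, 11, 15, 3, 10, 18, 6, 21, 5, 8, 7, 0, 17, 1, 19, 22, 13, 16, 23], [], 6, 2),
   ([13, 18, 3, 2, 4, 16, 6, 7, 14, 10, 9, 11, 22, 0, 8, 15, 5, 17, 1, 19, 21, 20, 12, 23], [], 7, 1),
   ([12, 1, 8, 14, 17, 16, 6, 15, 2, 9, 10, 11, 0, 22, 3, 7, 5, 4, 18, 19, 21, 20, 13, 23], [], 8, 2),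
   ([20, 4, 2, 3, 1, 13, 6, 9, 8, 7, 17, 11, 16, 5, 14, 18, 12, 10, 15, 19, 0, 22, 21, 23], [20, 14, 17, 13, 15, 21, 3, 16, 10, 8, 2, 19, 0, 4, 5, 12, 22, 18, 6, 11, 9, 7, 1, 23], 9, 0),
   ([12, 9, 14, 8, 4, 20, 6, 7, 3, 1, 18, 11, 0, 22, 2, 15, 21, 17, 10, 19, 5, 16, 13, 23], [], 0, 2),
   ([5, 4, 14, 8, 9, 22, 6, 1, 3, 7, 17, 11, 21, 20, 2, 10, 0, 18, 15, 19, 12, 13, 16, 23], [], 11, 10),
   ([16, 15, 2, 3, 18, 22, 6, 10, 8, 17, 7, 11, 20, 21, 14, 1, 0, 9, 4, 19, 12, 13, 5, 23], [], 12, 2),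
   ([12, 18, 2, 3, 15, 21, 6, 17, 8, 10, 9, 11, 0, 22, 14, 4, 20, 7, 1, 19, 16, 5, 13, 23], [], 13, 10),
   ([1, 0, 2, 3, 20, 17, 6, 21, 8, 22, 13, 11, 18, 10, 14, 16, 15, 5, 12, 19, 4, 7, 9, 23], [1, 9, 8, 3, 12, 15, 6, 5, 14, 4, 20, 19, 0, 21, 11, 18, 10, 17, 22, 2, 13, 16, 7, 23], 14, 0),
   ([20, 17, 14, 8, 18, 12, 6, 10, 3, 15, 4, 11, 16, 5, 2, 1, 13, 9, 7, 19, 22, 0, 21, 23], [], 2, 10),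
   ([0, 4, 3, 8, 18, 21, 11, 1, 14, 15, 17, 6, 22, 13, 2, 10, 5, 9, 7, 19, 16, 20, 12, 23], [], 16, 1)]

/-- Invariant masks. -/
def masks : List ℕ := [8388608]

/-- The orbits. -/
def l0 : List ℕ := [0, 0, 2, 2, 0, 0, 6, 0, 2, 0, 0, 6, 0, 0, 2, 0, 0, 0, 0, 19, 0, 0, 0, 23]

/-- The levels of the lower central series. -/
def levels : List (List (List ℕ) × List ℕ × List (ℕ × ℕ)) :=
  [([[13, 10, 2, 3, 17, 20, 6, 15, 8, 18, 1, 11, 22, 0, 14, 7, 21, 4, 9, 19, 5, 16, 12, 23], [12, 18, 2, 3, 15, 21, 6, 17, 8, 10, 9, 11, 0, 22, 14, 4, 20, 7, 1, 19, 16, 5, 13, 23], [0, 18, 8, 14, 7, 20, 6, 4, 2, 10, 9, 11, 12, 13, 3, 17, 21, 15, 1, 19, 5, 16, 22, 23], [5, 7, 8, 14, 18, 13, 6, 10, 2, 4, 15, 11, 21, 20, 3, 1, 12, 9, 17, 19, 0, 22, 16, 23]],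
    [0, 1, 2, 3, 1, 0, 6, 1, 2, 1, 1, 11, 0, 0, 3, 1, 0, 1, 1, 19, 0, 0, 0, 23],
    [(1, 5), (2, 6), (5, 6), (3, 5)]),
   ([[13, 10, 2, 3, 17, 20, 6, 15, 8, 18, 1, 11, 22, 0, 14, 7, 21, 4, 9, 19, 5, 16, 12, 23], [12, 18, 2, 3, 15, 21, 6, 17, 8, 10, 9, 11, 0, 22, 14, 4, 20, 7, 1, 19, 16, 5, 13, 23]],
    [0, 1, 2, 3, 4, 5, 6, 4, 8, 1, 1, 11, 0, 0, 14, 4, 5, 4, 1, 19, 5, 5, 0, 23],
    [(1, 5), (2, 3)]),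
   ([[13, 10, 2, 3, 17, 20, 6, 15, 8, 18, 1, 11, 22, 0, 14, 7, 21, 4, 9, 19, 5, 16, 12, 23]],
    [0, 1, 2, 3, 4, 5, 6, 7, 8, 9, 1, 11, 12, 0, 14, 7, 16, 4, 9, 19, 5, 16, 12, 23],
    [(1, 5)])]

theorem cert : certOk test gens z steps masks l0 levels = true := by decide +kernel

theorem gens_length : gens.length = 7 := rfl

end CfsgLib.Fusion.M23
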