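import Cfsg.Agent.Lib.Fusion.CentralizerInSubsystem
import Cfsg.Agent.Lib.Fusion.KernelSystem
import Cfsg.Agent.Lib.Fusion.FactorHat

/-!
# The largest subgroup centralized by a normal subsystem is strongly closed
-/

set_option autoImplicit false

open Cfsg Cfsg.FusionSystem

namespace CfsgLib.Fusion

variable {Ω : Type*} [Group Ω] {S T : Subgroup Ω} [Finite S] {F : FusionSystem S}
  {E : FusionSystem T}

omit [Finite S] in
theorem apply_mem_of_mem_stronglyClosed (hT : F.StronglyClosed T) {M : Subgroup Ω} {ψ : M →* Ω}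
    (hψ : ψ ∈ F.Hom M) {x : M} (hx : (x : Ω) ∈ T) : ψ x ∈ T :=
  hT.2 (Subgroup.zpowers (x : Ω)) (Subgroup.zpowers_le.2 hx) _
    (res_mem F hψ (Subgroup.zpowers_le.2 x.2)) ⟨x, Subgroup.mem_zpowers _⟩

theorem img_le_centralizerIn_of_le (hT : F.StronglyClosed T) {M : Subgroup Ω} {ψ : M →* Ω}
    (hψ : ψ ∈ F.Hom M) (hTM : T ≤ M) {R : Subgroup Ω} (hR : R ≤ centralizerIn S T) :
    img ψ R ≤ centralizerIn S T := by
  intro y hy
  obtain ⟨x, hx, rfl⟩ := mem_img.1 hy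
  refine ⟨apply_mem_S F hψ x, fun t ht => ?_⟩
  rw [← img_stronglyClosed_eq hT hψ hTM, SetLike.mem_coe] at ht
  obtain ⟨u, hu, rfl⟩ := mem_img.1 ht
  rw [← map_mul, ← map_mul]
  exact congrArg ψ (Subtype.ext ((hR hx).2 u hu))

/-- A map defined on `T` carries subgroups centralized by an invariant subsystem to such. -/
theorem centralized_img (hE : E.IsInvariantIn F) {R : Subgroup Ω}
    (hR : R ≤ centralizerIn S T) (hER : ∀ P : Subgroup Ω, E.Hom P ⊆ F.centralizerHom R P)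
    {M : Subgroup Ω} {χ : M →* Ω} (hχ : χ ∈ F.Hom M) (hTM : T ≤ M) (hRM : R ≤ M) :
    ∀ P : Subgroup Ω, E.Hom P ⊆ F.centralizerHom (img χ R) P := by
  have hT := hE.2.1
  have hTS := hT.1
  set R' := img χ R with hR'
  have hR'C : R' ≤ centralizerIn S T := img_le_centralizerIn_of_le hT hχ hTM hR
  intro P φ hφ
  have hPT := le_S E hφ
  have hφT := apply_mem_S E hφ
  obtain ⟨a, ha, hae⟩ := exists_iso_of_range (res_mem F hχ hTM)
    ((weaklyClosed_of_stronglyClosed hT).2 _ (res_mem F hχ hTM))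
  obtain ⟨θ, hθ, hθe⟩ := hE.2.2.1 P hPT φ hφ _ (inv_mem ((mem_autGroup_iff F hTS).2 ha))
  obtain ⟨-, -, -, ψ, hψ, hψe, hψR⟩ := hER _ hθ
  have hP₀T : ((P.subgroupOf T).map (T.subtype.comp ((a : MulAut T)⁻¹).toMonoidHom)) ≤ T := le_S E hθ
  have hψM : ∀ z, ψ z ∈ M := fun z => sup_le hTM hRM
    (apply_mem_sup hψe (apply_mem_S E hθ) (img_eq_of_forall_fixed le_sup_right hψR).le z)
  obtain ⟨e, he, hee⟩ := exists_iso_of_mem hχ
  have hle : P ⊔ R' ≤ χ.range := sup_le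
    (hPT.trans ((img_stronglyClosed_eq hT hχ hTM).ge.trans (img_le_range χ T))) (img_le_range χ R)
  -- pulling `P ⊔ R'` back
  have hback : ∀ z : ↥(P ⊔ R'), (e.symm (Subgroup.inclusion hle z) : Ω) ∈ ((P.subgroupOf T).map (T.subtype.comp ((a : MulAut T)⁻¹).toMonoidHom)) ⊔ R := by
    intro z
    have hcl : P ⊔ R' ≤ ((((P.subgroupOf T).map (T.subtype.comp ((a : MulAut T)⁻¹).toMonoidHom)) ⊔ R).comap
        (M.subtype.comp e.symm.toMonoidHom)).map χ.range.subtype := by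
      refine sup_le (fun y hy => ⟨⟨y, hle (Subgroup.mem_sup_left hy)⟩, ?_, rfl⟩)
        fun y hy => ⟨⟨y, hle (Subgroup.mem_sup_right hy)⟩, ?_, rfl⟩
      · refine Subgroup.mem_sup_left ⟨⟨y, hPT hy⟩, hy, ?_⟩
        change (((a : MulAut T)⁻¹ ⟨y, hPT hy⟩ : T) : Ω) = (e.symm ⟨y, _⟩ : Ω)
        have h1 : e ⟨((a : MulAut T)⁻¹ ⟨y, hPT hy⟩ : T), hTM ((a : MulAut T)⁻¹ _).2⟩ =
            ⟨y, hle (Subgroup.mem_sup_left hy)⟩ := Subtype.ext (by
          rw [hee]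
          refine (hae ((a : MulAut T)⁻¹ ⟨y, hPT hy⟩)).symm.trans ?_
          exact congrArg Subtype.val (MulAut.apply_inv_self T a ⟨y, hPT hy⟩))
        rw [← h1, MulEquiv.symm_apply_apply]
      · obtain ⟨x, hx, hxy⟩ := mem_img.1 hy
        refine Subgroup.mem_sup_right ?_
        change (e.symm ⟨y, _⟩ : Ω) ∈ R
        rw [show (⟨y, hle (Subgroup.mem_sup_right hy)⟩ : χ.range) = e x from
          Subtype.ext ((hee x).trans hxy).symm, MulEquiv.symm_apply_apply]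
        exact hx
    obtain ⟨w, hw, hwz⟩ := hcl z.2
    rw [show Subgroup.inclusion hle z = w from Subtype.ext hwz.symm]
    exact hw
  let Φ : ↥(P ⊔ R') →* Ω := χ.comp ((ψ.comp (((M.subtype.comp e.symm.toMonoidHom).comp
    (Subgroup.inclusion hle)).codRestrict _ hback)).codRestrict M fun z => hψM _)
  have hΦ : Φ ∈ F.Hom (P ⊔ R') :=
    F.comp_mem (F.comp_mem (res_mem F he.symm hle) hψ hback) hχ fun z => hψM _
  have hcent : ∀ {x : Ω}, x ∈ T → x ∈ centralizerIn S R' := fun {x} hx =>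
    ⟨hTS hx, fun r hr => ((hR'C hr).2 x hx).symm⟩
  refine ⟨hE.1 P hφ, fun x hx => hcent (hPT hx), fun x => hcent (hφT x), Φ, hΦ, fun x => ?_,
    fun r => ?_⟩
  · let x₀ : ((P.subgroupOf T).map (T.subtype.comp ((a : MulAut T)⁻¹).toMonoidHom)) := ⟨((a : MulAut T)⁻¹ ⟨x, hPT x.2⟩ : T), ⟨⟨x, hPT x.2⟩, x.2, rfl⟩⟩
    have h0 : e ⟨(x₀ : Ω), hTM (hP₀T x₀.2)⟩ =
        ⟨(x : Ω), hle (Subgroup.mem_sup_left x.2)⟩ := Subtype.ext (by
      rw [hee]
      refine (hae ((a : MulAut T)⁻¹ ⟨x, hPT x.2⟩)).symm.trans ?_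
      exact congrArg Subtype.val (MulAut.apply_inv_self T a ⟨x, hPT x.2⟩))
    have h1 : (ψ (Subgroup.inclusion le_sup_left x₀) : Ω) =
        (((a : MulAut T)⁻¹ ⟨φ x, hφT x⟩ : T) : Ω) := (hψe x₀).trans (hθe x (hφT x) _)
    change χ ⟨ψ ⟨(e.symm ⟨(x : Ω), _⟩ : Ω), _⟩, _⟩ = φ x
    have h2 : ψ ⟨(e.symm ⟨(x : Ω), hle (Subgroup.mem_sup_left x.2)⟩ : Ω),
        hback (Subgroup.inclusion le_sup_left x)⟩ = (((a : MulAut T)⁻¹ ⟨φ x, hφT x⟩ : T) : Ω) := by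
      rw [← h1]
      refine congrArg ψ (Subtype.ext ?_)
      change (e.symm ⟨(x : Ω), _⟩ : Ω) = (x₀ : Ω)
      rw [← h0, MulEquiv.symm_apply_apply]
    refine Eq.trans (congrArg χ (show (_ : M) =
      ⟨(((a : MulAut T)⁻¹ ⟨φ x, hφT x⟩ : T) : Ω), hTM ((a : MulAut T)⁻¹ _).2⟩ from
      Subtype.ext h2)) ?_
    refine (hae ((a : MulAut T)⁻¹ ⟨φ x, hφT x⟩)).symm.trans ?_
    exact congrArg Subtype.val (MulAut.apply_inv_self T a ⟨φ x, hφT x⟩)
  · obtain ⟨x, hx, hxr⟩ := mem_img.1 r.2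
    change χ ⟨ψ ⟨(e.symm ⟨(r : Ω), _⟩ : Ω), _⟩, _⟩ = r
    have h0 : e.symm ⟨(r : Ω), hle (Subgroup.mem_sup_right r.2)⟩ = x := by
      rw [MulEquiv.symm_apply_eq]
      exact Subtype.ext (hxr.symm.trans (hee x).symm)
    refine Eq.trans (congrArg χ (Subtype.ext ?_)) hxr
    refine Eq.trans (congrArg ψ (show _ = Subgroup.inclusion le_sup_right (⟨(x : Ω), hx⟩ : R) from
      Subtype.ext (congrArg (Subtype.val : M → Ω) h0))) ?_
    exact hψR ⟨x, hx⟩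

/-- `Y` is the largest subgroup of `C_S(T)` centralized by `E`. -/
structure IsMaxCentralized (F : FusionSystem S) (E : FusionSystem T) (Y : Subgroup Ω) : Prop where
  hY : Y ≤ centralizerIn S T
  hEY : ∀ P : Subgroup Ω, E.Hom P ⊆ F.centralizerHom Y P
  hmax : ∀ Y' : Subgroup Ω, Y' ≤ centralizerIn S T →
    (∀ P : Subgroup Ω, E.Hom P ⊆ F.centralizerHom Y' P) → Y' ≤ Y

variable {Y : Subgroup Ω}

theorem IsMaxCentralized.img_le (h : IsMaxCentralized F E Y) (hE : E.IsInvariantIn F)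
    {M : Subgroup Ω} {χ : M →* Ω} (hχ : χ ∈ F.Hom M) (hTM : T ≤ M) {R : Subgroup Ω} (hRM : R ≤ M)
    (hRY : R ≤ Y) : img χ R ≤ Y := by
  refine h.hmax _ (img_le_centralizerIn_of_le hE.2.1 hχ hTM (hRY.trans h.hY))
    (centralized_img hE (hRY.trans h.hY) (fun P φ hφ => ?_) hχ hTM hRM)
  obtain ⟨hφF, hP, hφC, ψ, hψ, hψe, hψY⟩ := h.hEY P hφ
  have hmono : centralizerIn S Y ≤ centralizerIn S R := fun x hx =>
    ⟨hx.1, fun r hr => hx.2 r (hRY hr)⟩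
  exact ⟨hφF, hP.trans hmono, fun x => hmono (hφC x), ψ.comp (Subgroup.inclusion
    (sup_le_sup_left hRY P)), res_mem F hψ _, fun x => hψe x, fun r => hψY ⟨r, hRY r.2⟩⟩

theorem IsMaxCentralized.le_normalizer (h : IsMaxCentralized F E Y) (hE : E.IsInvariantIn F) :
    S ≤ Subgroup.normalizer (Y : Set Ω) := by
  intro g hg
  have hYS : Y ≤ S := h.hY.trans (centralizerIn_le T)
  have := finite_of_le hYS
  refine mem_normalizer_of_forall fun y hy => ?_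
  exact h.img_le hE (F.conj_mem (P := S) le_rfl hg) hE.2.1.1 hYS le_rfl
    (mem_img.2 ⟨⟨y, hYS hy⟩, hy, rfl⟩)

variable {p : ℕ} [Fact p.Prime]

/-- The step of the climbing: a map fixing a relatively centric `V` extends to `N_T(V)`. -/
theorem exists_extension_step (hS : IsPGroup p S) (hF : F.IsSaturated p) (hE : E.IsInvariantIn F)
    {V : Subgroup Ω} (hV : IsCentricRelTo F T V) {x x₁ : Ω} (hx : x ∈ centralizerIn S T)
    {η : ↥(V ⊔ Subgroup.zpowers x) →* Ω} (hη : η ∈ F.Hom (V ⊔ Subgroup.zpowers x))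
    (hfix : ∀ v : V, η (Subgroup.inclusion le_sup_left v) = v)
    (hx₁ : η ⟨x, Subgroup.mem_sup_right (Subgroup.mem_zpowers x)⟩ = x₁) :
    ∃ Φ ∈ F.Hom (normalizerIn T V ⊔ Subgroup.zpowers x),
      Φ ⟨x, Subgroup.mem_sup_right (Subgroup.mem_zpowers x)⟩ = x₁ := by
  have hT := hE.2.1
  have hTS := hT.1
  have := finite_of_le hTS
  have hVT := hV.1
  have hVS := hVT.trans hTS
  have := finite_of_le hVS
  set N := normalizerIn T V with hNdef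
  have hNT : N ≤ T := normalizerIn_le V
  have hVN : V ≤ N := fun v hv => ⟨hVT hv, Subgroup.le_normalizer hv⟩
  set W' := η.range with hW'
  have hWS : (V ⊔ Subgroup.zpowers x) ≤ S := le_S F hη
  have hW'S : W' ≤ S := range_le_S F hη
  have := finite_of_le hWS
  have := finite_of_le hW'S
  have hx₁W : x₁ ∈ W' := ⟨_, hx₁⟩
  have hVW' : V ≤ W' := fun v hv => ⟨_, hfix ⟨v, hv⟩⟩
  have hx₁S : x₁ ∈ S := hW'S hx₁W
  have hxV : ∀ v ∈ V, v * x = x * v := fun v hv => hx.2 v (hVT hv)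
  have hx₁V : ∀ v ∈ V, v * x₁ = x₁ * v := fun v hv => by
    have h1 := congrArg η (show Subgroup.inclusion le_sup_left (⟨v, hv⟩ : V) *
        ⟨x, Subgroup.mem_sup_right (Subgroup.mem_zpowers x)⟩ =
      ⟨x, Subgroup.mem_sup_right (Subgroup.mem_zpowers x)⟩ *
        Subgroup.inclusion le_sup_left (⟨v, hv⟩ : V) from Subtype.ext (hxV v hv))
    rwa [map_mul, map_mul, hfix, hx₁] at h1
  have hzV : ∀ n ∈ N, n * x₁ * n⁻¹ * x₁⁻¹ ∈ V := fun n hn => by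
    refine centralizer_inf_mem hV hVS ?_ fun v hv => ?_
    · have h1 := conj_mem_of_mem_normalizer (mem_normalizer_of_stronglyClosed hT hx₁S) (T.inv_mem hn.1)
      have h2 := T.mul_mem hn.1 h1
      rwa [← mul_assoc, ← mul_assoc] at h2
    · have h1 : n⁻¹ * v * n ∈ V := (Subgroup.mem_normalizer_iff''.1 hn.2 v).1 hv
      calc v * (n * x₁ * n⁻¹ * x₁⁻¹) = n * ((n⁻¹ * v * n) * x₁) * n⁻¹ * x₁⁻¹ := by group
        _ = n * (x₁ * (n⁻¹ * v * n)) * n⁻¹ * x₁⁻¹ := by rw [hx₁V _ h1]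
        _ = n * x₁ * n⁻¹ * (v * x₁⁻¹) := by group
        _ = n * x₁ * n⁻¹ * (x₁⁻¹ * v) := by
          rw [show v * x₁⁻¹ = x₁⁻¹ * v by
            rw [eq_inv_mul_iff_mul_eq, ← mul_assoc, ← hx₁V v hv, mul_inv_cancel_right]]
        _ = n * x₁ * n⁻¹ * x₁⁻¹ * v := by group
  -- conjugation by `N` on `(V ⊔ Subgroup.zpowers x)` and `W'`
  have hNW : ∀ n ∈ N, n ∈ Subgroup.normalizer ((V ⊔ Subgroup.zpowers x : Subgroup Ω) : Set Ω) := fun n hn => by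
    refine mem_normalizer_of_forall fun y hy => ?_
    suffices hle : (V ⊔ Subgroup.zpowers x) ≤ (V ⊔ Subgroup.zpowers x).comap (MulAut.conj n).toMonoidHom from hle hy
    refine sup_le (fun v hv => ?_) (Subgroup.zpowers_le.2 ?_)
    · exact Subgroup.mem_sup_left (conj_mem_of_mem_normalizer hn.2 hv)
    · change n * x * n⁻¹ ∈ (V ⊔ Subgroup.zpowers x)
      rw [hx.2 n (hNT hn), mul_inv_cancel_right]
      exact Subgroup.mem_sup_right (Subgroup.mem_zpowers x)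
  have hW'le : W' ≤ V ⊔ Subgroup.zpowers x₁ := by
    rintro _ ⟨⟨w, hw⟩, rfl⟩
    have hle : (V ⊔ Subgroup.zpowers x) ≤ ((V ⊔ Subgroup.zpowers x₁).comap η).map (V ⊔ Subgroup.zpowers x).subtype := sup_le
      (fun v hv => ⟨⟨v, Subgroup.mem_sup_left hv⟩, by
        refine Subgroup.mem_comap.2 ?_
        rw [show (⟨v, Subgroup.mem_sup_left hv⟩ : ↥(V ⊔ Subgroup.zpowers x)) = Subgroup.inclusion le_sup_left ⟨v, hv⟩ from rfl,
          hfix]
        exact Subgroup.mem_sup_left hv, rfl⟩)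
      (Subgroup.zpowers_le.2 ⟨⟨x, Subgroup.mem_sup_right (Subgroup.mem_zpowers x)⟩, by
        refine Subgroup.mem_comap.2 ?_
        rw [hx₁]
        exact Subgroup.mem_sup_right (Subgroup.mem_zpowers x₁), rfl⟩)
    obtain ⟨u, hu, huw⟩ := hle hw
    rw [← show u = ⟨w, hw⟩ from Subtype.ext huw]; exact hu
  have hW'eq : W' = V ⊔ Subgroup.zpowers x₁ :=
    le_antisymm hW'le (sup_le hVW' (Subgroup.zpowers_le.2 hx₁W))
  have hNW' : ∀ n ∈ N, n ∈ Subgroup.normalizer (W' : Set Ω) := fun n hn => by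
    refine mem_normalizer_of_forall fun y hy => ?_
    suffices hle : W' ≤ W'.comap (MulAut.conj n).toMonoidHom from hle hy
    conv_lhs => rw [hW'eq]
    refine sup_le (fun v hv => ?_) (Subgroup.zpowers_le.2 ?_)
    · exact hVW' (conj_mem_of_mem_normalizer hn.2 hv)
    · change n * x₁ * n⁻¹ ∈ W'
      have h1 := W'.mul_mem (hVW' (hzV n hn)) hx₁W
      rwa [inv_mul_cancel_right] at h1
  -- commutators with `N` lie in `V`
  have hdW : ∀ n ∈ N, ∀ w : ↥(V ⊔ Subgroup.zpowers x), (w : Ω)⁻¹ * (n * w * n⁻¹) ∈ V := by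
    intro n hn w
    obtain ⟨a, ha, v, hv, hw⟩ := exists_mul_of_mem_sup (A := Subgroup.zpowers x) (T := V)
      (Subgroup.zpowers_le.2 (mem_normalizer_of_forall_commute hxV))
      (x := (w : Ω)) (by rw [sup_comm]; exact w.2)
    obtain ⟨k, rfl⟩ := Subgroup.mem_zpowers_iff.1 ha
    have hc : n * x ^ k = x ^ k * n := (Commute.zpow_right (hx.2 n (hNT hn) : Commute n x) k).eq
    rw [hw, show (x ^ k * v)⁻¹ * (n * (x ^ k * v) * n⁻¹) =
      v⁻¹ * ((x ^ k)⁻¹ * (n * x ^ k)) * v * n⁻¹ by group, hc, inv_mul_cancel_left]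
    rw [show v⁻¹ * n * v * n⁻¹ = v⁻¹ * (n * v * n⁻¹) by group]
    exact V.mul_mem (V.inv_mem hv) (conj_mem_of_mem_normalizer hn.2 hv)
  have hdW' : ∀ n ∈ N, ∀ w : W', (w : Ω)⁻¹ * (n * w * n⁻¹) ∈ V := by
    intro n hn w
    have hx₁n : x₁ ∈ Subgroup.normalizer (V : Set Ω) := mem_normalizer_of_forall_commute hx₁V
    obtain ⟨a, ha, v, hv, hw⟩ := exists_mul_of_mem_sup (A := Subgroup.zpowers x₁) (T := V)
      (Subgroup.zpowers_le.2 hx₁n)
      (x := (w : Ω)) (by rw [sup_comm, ← hW'eq]; exact w.2)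
    obtain ⟨k, rfl⟩ := Subgroup.mem_zpowers_iff.1 ha
    have hsub : x₁ ^ k ∈ ({
        carrier := {y | (∀ u ∈ V, u * y = y * u) ∧ n * y * n⁻¹ * y⁻¹ ∈ V}
        one_mem' := ⟨fun u _ => by simp, by simp⟩
        mul_mem' := by
          rintro y₁ y₂ ⟨h1, h1'⟩ ⟨h2, h2'⟩
          refine ⟨fun u hu => by rw [← mul_assoc, h1 u hu, mul_assoc, h2 u hu, mul_assoc], ?_⟩
          rw [show n * (y₁ * y₂) * n⁻¹ * (y₁ * y₂)⁻¹ = (n * y₁ * n⁻¹) * (n * y₂ * n⁻¹ * y₂⁻¹) *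
            y₁⁻¹ by group]
          have h3 : y₁⁻¹ ∈ Subgroup.normalizer (V : Set Ω) :=
            inv_mem (mem_normalizer_of_forall_commute h1)
          have h4 := V.mul_mem h1' (conj_mem_of_mem_normalizer (inv_mem h3) h2')
          convert h4 using 1
          group
        inv_mem' := by
          rintro y ⟨h1, h1'⟩
          refine ⟨fun u hu => by
            rw [eq_inv_mul_iff_mul_eq, ← mul_assoc, ← h1 u hu, mul_inv_cancel_right], ?_⟩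
          have h3 : y⁻¹ ∈ Subgroup.normalizer (V : Set Ω) :=
            inv_mem (mem_normalizer_of_forall_commute h1)
          have h4 := conj_mem_of_mem_normalizer h3 (V.inv_mem h1')
          convert h4 using 1
          group } : Subgroup Ω) :=
      Subgroup.zpow_mem _ (by exact ⟨hx₁V, hzV n hn⟩) k
    obtain ⟨hyV, hyn⟩ := hsub
    set y := x₁ ^ k
    rw [hw, show (y * v)⁻¹ * (n * (y * v) * n⁻¹) =
      v⁻¹ * (y⁻¹ * (n * y * n⁻¹ * y⁻¹) * y⁻¹⁻¹) * (n * v * n⁻¹) by group]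
    exact V.mul_mem (V.mul_mem (V.inv_mem hv)
      (conj_mem_of_mem_normalizer (inv_mem (mem_normalizer_of_forall_commute hyV)) hyn))
      (conj_mem_of_mem_normalizer hn.2 hv)
  -- a fully normalized conjugate
  obtain ⟨W₀, hW'W₀, hW₀⟩ := exists_fullyNormalized F hW'S
  obtain ⟨g₂, hl₂, hg₂, ψ₂, hψ₂, hψ₂e, -⟩ :=
    exists_hom_normalizerIn_of_fullyNormalized hS hF hW₀ hW'W₀
  obtain ⟨hW₀a, hW₀r⟩ := fullyAutomized_receptive_of_fullyNormalized hS hF hW₀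
  have hW₀S := hW₀.1
  have := finite_of_le hW₀S
  obtain ⟨eη, heη, heηe⟩ := exists_iso_of_mem hη
  set ω : ↥(V ⊔ Subgroup.zpowers x) ≃* W₀ := eη.trans g₂ with hω
  have hωF : IsIso F ω := heη.trans hg₂
  set V₀ := img (W₀.subtype.comp g₂.toMonoidHom) V with hV₀
  have hV₀T : V₀ ≤ T := fun y hy => by
    obtain ⟨w, hw, rfl⟩ := mem_img.1 hy
    exact apply_mem_of_mem_stronglyClosed hT hg₂ (hVT hw)
  have hV₀c : IsCentricRelTo F T V₀ :=
    hV.of_isConj hT ⟨_, res_mem F hg₂ hVW', range_comp_inclusion _ hVW'⟩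
  have hωV : ∀ (v : Ω) (hv : v ∈ V), (ω ⟨v, Subgroup.mem_sup_left hv⟩ : Ω) = g₂ ⟨v, hVW' hv⟩ :=
    fun v hv => congrArg (fun u => (g₂ u : Ω)) (Subtype.ext ((heηe _).trans (hfix ⟨v, hv⟩)))
  -- the `p`-group
  let A : Subgroup (MulAut W₀) :=
    { carrier := {a | a ∈ F.autGroup W₀ ∧
        (∃ n ∈ normalizerIn T V₀, ∀ y : W₀, (y : Ω) ∈ V₀ → (a y : Ω) = n * y * n⁻¹) ∧
        ∀ y : W₀, (y : Ω)⁻¹ * (a y : Ω) ∈ V₀}
      one_mem' := ⟨one_mem _, ⟨1, one_mem _, fun y _ => by simp⟩, fun y => by simp⟩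
      mul_mem' := by
        rintro a b ⟨ha, ⟨n, hn, hne⟩, ha2⟩ ⟨hb, ⟨m, hm, hme⟩, hb2⟩
        refine ⟨mul_mem ha hb, ⟨n * m, mul_mem hn hm, fun y hy => ?_⟩, fun y => ?_⟩
        · have h1 : (b y : Ω) ∈ V₀ := by simpa using V₀.mul_mem hy (hb2 y)
          rw [MulAut.mul_apply, hne _ h1, hme y hy]
          group
        · have h1 := V₀.mul_mem (hb2 y) (ha2 (b y))
          simpa [mul_assoc] using h1
      inv_mem' := by
        rintro a ⟨ha, ⟨n, hn, hne⟩, ha2⟩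
        have h2 : ∀ y : W₀, (y : Ω)⁻¹ * ((a⁻¹ y : W₀) : Ω) ∈ V₀ := fun y => by
          have h1 := V₀.inv_mem (ha2 (a⁻¹ y))
          simpa using h1
        refine ⟨inv_mem ha, ⟨n⁻¹, inv_mem hn, fun y hy => ?_⟩, h2⟩
        have h3 : ((a⁻¹ y : W₀) : Ω) ∈ V₀ := by simpa using V₀.mul_mem hy (h2 y)
        have h4 := hne _ h3
        rw [MulAut.apply_inv_self] at h4
        rw [h4]
        group }
  have hAp : IsPGroup p A := by
    obtain ⟨e₀, he₀⟩ := IsPGroup.iff_card.1 (hS : IsPGroup p S)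
    have hpow1 : ∀ {y : Ω}, y ∈ S → y ^ p ^ e₀ = 1 := fun {y} hy => by
      have := congrArg Subtype.val (pow_card_eq_one' (x := (⟨y, hy⟩ : S)))
      rwa [he₀] at this
    intro a
    obtain ⟨-, ⟨n, hn, hne⟩, ha2⟩ := a.2
    have hiter : ∀ j : ℕ, ∀ y : W₀, (y : Ω) ∈ V₀ →
        ((((a : MulAut _) ^ j) y : W₀) : Ω) = n ^ j * y * (n ^ j)⁻¹ ∧
        ((((a : MulAut _) ^ j) y : W₀) : Ω) ∈ V₀ := by
      intro j
      induction j with
      | zero => intro y hy; simpa using hy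
      | succ j ihj =>
        intro y hy
        obtain ⟨h1, h2⟩ := ihj y hy
        rw [pow_succ', MulAut.mul_apply]
        refine ⟨by rw [hne _ h2, h1, pow_succ']; group, ?_⟩
        simpa using V₀.mul_mem h2 (ha2 (((a : MulAut _) ^ j) y))
    set b : MulAut W₀ := (a : MulAut _) ^ p ^ e₀
    have hb1 : ∀ y : W₀, (y : Ω) ∈ V₀ → b y = y := fun y hy => Subtype.ext (by
      rw [(hiter _ y hy).1, hpow1 (hTS (normalizerIn_le _ hn))]; simp)
    have hb2 : ∀ y : W₀, ((y⁻¹ * b y : W₀) : Ω) ∈ V₀ := (A.pow_mem a.2 (p ^ e₀)).2.2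
    have hiter2 : ∀ (j : ℕ) (y : W₀), (b ^ j) y = y * (y⁻¹ * b y) ^ j := by
      intro j y
      induction j with
      | zero => simp
      | succ j ihj =>
        rw [pow_succ', MulAut.mul_apply, ihj, map_mul, map_pow, hb1 _ (hb2 y), pow_succ',
          ← mul_assoc y, mul_inv_cancel_left]
    refine ⟨e₀ + e₀, Subtype.ext (MulEquiv.ext fun y => ?_)⟩
    change ((a : MulAut _) ^ p ^ (e₀ + e₀)) y = y
    rw [pow_add, pow_mul]
    refine (hiter2 _ y).trans ?_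
    rw [show (y⁻¹ * b y) ^ p ^ e₀ = 1 from Subtype.ext (by
      rw [Subgroup.coe_pow]; exact hpow1 (hW₀S (y⁻¹ * b y).2)), mul_one]
  obtain ⟨b, hb, hbA⟩ := exists_conj_mem_of_le hAp (isPGroup_autInducedBy hS W₀)
    (fun a ha => ha.1) (autInducedBy_le_autGroup hW₀S) ((isFullyAutomized_iff hS).1 hW₀a).2
  -- the conjugations by `N`
  have hNψ : ∀ n (hn : n ∈ N), ∀ hn' : n ∈ normalizerIn S W',
      ψ₂ ⟨n, hn'⟩ ∈ normalizerIn T V₀ ∧ ∀ (v : Ω) (hv : v ∈ V),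
        (g₂ ⟨n * v * n⁻¹, hVW' (conj_mem_of_mem_normalizer hn.2 hv)⟩ : Ω) =
          ψ₂ ⟨n, hn'⟩ * g₂ ⟨v, hVW' hv⟩ * (ψ₂ ⟨n, hn'⟩)⁻¹ := by
    intro n hn hn'
    have heq : ∀ (v : Ω) (hv : v ∈ V),
        (g₂ ⟨n * v * n⁻¹, hVW' (conj_mem_of_mem_normalizer hn.2 hv)⟩ : Ω) =
          ψ₂ ⟨n, hn'⟩ * g₂ ⟨v, hVW' hv⟩ * (ψ₂ ⟨n, hn'⟩)⁻¹ := by
      intro v hv
      rw [← hψ₂e, ← hψ₂e, ← map_inv, ← map_mul, ← map_mul]
      rfl
    refine ⟨⟨apply_mem_of_mem_stronglyClosed hT hψ₂ (hNT hn), ?_⟩, heq⟩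
    have := finite_of_le (hV₀T.trans hTS)
    refine mem_normalizer_of_forall fun y hy => ?_
    obtain ⟨⟨v, hvW⟩, hv, rfl⟩ := mem_img.1 hy
    exact mem_img.2 ⟨⟨n * v * n⁻¹, hVW' (conj_mem_of_mem_normalizer hn.2 hv)⟩,
      conj_mem_of_mem_normalizer hn.2 hv, heq v hv⟩
  have hmemA : ∀ {W₁ : Subgroup Ω} (g : W₁ ≃* W₀), IsIso F g → ∀ n (hn : n ∈ N)
      (hnn : n ∈ Subgroup.normalizer (W₁ : Set Ω)) (hVW₁ : V ≤ W₁),
      (∀ (v : Ω) (hv : v ∈ V), (g ⟨v, hVW₁ hv⟩ : Ω) = g₂ ⟨v, hVW' hv⟩) →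
      (∀ w : W₁, (w : Ω)⁻¹ * (n * w * n⁻¹) ∈ V) → MulAut.congr g (normAut n hnn) ∈ A := by
    intro W₁ g hg n hn hnn hVW₁ hgV hd
    have hn' : n ∈ normalizerIn S W' := ⟨hTS (hNT hn), hNW' n hn⟩
    refine ⟨congr_mem_autGroup hg (autInducedBy_le_autGroup hg.le_left
      (mem_autInducedBy_iff.2 ⟨n, hTS (hNT hn), fun _ => rfl⟩)),
      ⟨ψ₂ ⟨n, hn'⟩, (hNψ n hn hn').1, fun y hy => ?_⟩, fun y => ?_⟩
    · obtain ⟨⟨v, hvW⟩, hv, hvy⟩ := mem_img.1 hy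
      have hy' : y = g ⟨v, hVW₁ hv⟩ := Subtype.ext (by rw [hgV v hv]; exact hvy.symm)
      subst hy'
      change (g (normAut n hnn (g.symm (g ⟨v, hVW₁ hv⟩))) : Ω) = _
      rw [MulEquiv.symm_apply_apply, hgV v hv, ← (hNψ n hn hn').2 v hv, ← hgV _
        (conj_mem_of_mem_normalizer hn.2 hv)]
      exact congrArg (fun u => (g u : Ω)) (Subtype.ext rfl)
    · obtain ⟨w, rfl⟩ := g.surjective y
      change (g w : Ω)⁻¹ * (g (normAut n hnn (g.symm (g w))) : Ω) ∈ V₀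
      rw [MulEquiv.symm_apply_apply, ← Subgroup.coe_inv, ← Subgroup.coe_mul, ← map_inv, ← map_mul]
      have h1 := hd w
      refine mem_img.2 ⟨⟨(w : Ω)⁻¹ * (n * w * n⁻¹), hVW' h1⟩, h1, ?_⟩
      change (g₂ _ : Ω) = _
      rw [← hgV _ h1]
      exact congrArg (fun u => (g u : Ω)) (Subtype.ext rfl)
  -- the two extensions to `N`
  have hext : ∀ {W₁ : Subgroup Ω} (g : W₁ ≃* W₀), IsIso F g → ∀ (hVW₁ : V ≤ W₁),
      (∀ n ∈ N, n ∈ Subgroup.normalizer (W₁ : Set Ω)) →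
      (∀ (v : Ω) (hv : v ∈ V), (g ⟨v, hVW₁ hv⟩ : Ω) = g₂ ⟨v, hVW' hv⟩) →
      (∀ n ∈ N, ∀ w : W₁, (w : Ω)⁻¹ * (n * w * n⁻¹) ∈ V) →
      ∃ Φ ∈ F.Hom (N ⊔ W₁), ∀ w : W₁, Φ (Subgroup.inclusion le_sup_right w) = b (g w) := by
    intro W₁ g hg hVW₁ hN hgV hd
    have hgb : IsIso F (g.trans b) := hg.trans ((mem_autGroup_iff F hW₀S).1 hb)
    refine exists_extension hW₀r hgb le_sup_right (sup_le (fun n hn => ?_) (le_extender hgb))
    refine mem_extender_iso_iff.2 ⟨hTS (hNT hn), hN n hn, ?_⟩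
    have h1 := hbA _ (hmemA g hg n hn (hN n hn) hVW₁ hgV (hd n hn))
    convert h1 using 1
    exact MulEquiv.ext fun y => rfl
  obtain ⟨Φ₁, hΦ₁, hΦ₁e⟩ := hext ω hωF le_sup_left hNW hωV hdW
  obtain ⟨Φ₂, hΦ₂, hΦ₂e⟩ := hext g₂ hg₂ hVW' hNW' (fun _ _ => rfl) hdW'
  have hagree : ∀ (v : Ω) (hv : v ∈ V), Φ₁ ⟨v, Subgroup.mem_sup_left (hVN hv)⟩ =
      Φ₂ ⟨v, Subgroup.mem_sup_left (hVN hv)⟩ := by
    intro v hv
    refine (hΦ₁e ⟨v, Subgroup.mem_sup_left hv⟩).trans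
      (Eq.trans ?_ (hΦ₂e ⟨v, hVW' hv⟩).symm)
    exact congrArg (fun u => (b u : Ω)) (Subtype.ext (hωV v hv))
  have hVrange : img Φ₂ V ≤ Φ₂.range := img_le_range _ _
  have hV₃c : IsCentricRelTo F T (img Φ₂ V) :=
    hV.of_isConj hT ⟨_, res_mem F hΦ₂ (hVN.trans le_sup_left), range_comp_inclusion _ _⟩
  have hΦN : ∀ n (hn : n ∈ N), Φ₁ ⟨n, Subgroup.mem_sup_left hn⟩ ∈ Φ₂.range := by
    intro n hn
    set n₁ := Φ₁ ⟨n, Subgroup.mem_sup_left hn⟩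
    set n₂ := Φ₂ ⟨n, Subgroup.mem_sup_left hn⟩
    have hz : n₂⁻¹ * n₁ ∈ img Φ₂ V := by
      refine centralizer_inf_mem hV₃c (hVrange.trans (range_le_S F hΦ₂))
        (T.mul_mem (T.inv_mem (apply_mem_of_mem_stronglyClosed hT hΦ₂ (hNT hn)))
          (apply_mem_of_mem_stronglyClosed hT hΦ₁ (hNT hn))) fun r hr => ?_
      obtain ⟨⟨v, hvM⟩, hv, rfl⟩ := mem_img.1 hr
      -- conjugation by both sends the image of `v` to that of `n v n⁻¹`
      have hnv := conj_mem_of_mem_normalizer hn.2 hv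
      have e1 : n₁ * Φ₂ ⟨v, hvM⟩ * n₁⁻¹ = Φ₂ ⟨n * v * n⁻¹, Subgroup.mem_sup_left (hVN hnv)⟩ := by
        rw [← hagree _ hnv, ← hagree v hv, ← map_inv, ← map_mul, ← map_mul]
        rfl
      have e2 : n₂ * Φ₂ ⟨v, hvM⟩ * n₂⁻¹ = Φ₂ ⟨n * v * n⁻¹, Subgroup.mem_sup_left (hVN hnv)⟩ := by
        rw [← map_inv, ← map_mul, ← map_mul]
        rfl
      calc Φ₂ ⟨v, hvM⟩ * (n₂⁻¹ * n₁) = n₂⁻¹ * (n₂ * Φ₂ ⟨v, hvM⟩ * n₂⁻¹) * n₁ := by group
        _ = n₂⁻¹ * (n₁ * Φ₂ ⟨v, hvM⟩ * n₁⁻¹) * n₁ := by rw [e2, e1]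
        _ = n₂⁻¹ * n₁ * Φ₂ ⟨v, hvM⟩ := by group
    have h2 := Φ₂.range.mul_mem (⟨_, rfl⟩ : n₂ ∈ Φ₂.range) (hVrange hz)
    rwa [mul_inv_cancel_left] at h2
  have hxW : x ∈ (V ⊔ Subgroup.zpowers x) := Subgroup.mem_sup_right (Subgroup.mem_zpowers x)
  have hxeq : Φ₁ ⟨x, Subgroup.mem_sup_right hxW⟩ = Φ₂ ⟨x₁, Subgroup.mem_sup_right hx₁W⟩ := by
    refine (hΦ₁e ⟨x, hxW⟩).trans (Eq.trans ?_ (hΦ₂e ⟨x₁, hx₁W⟩).symm)
    exact congrArg (fun u => (b (g₂ u) : Ω)) (Subtype.ext ((heηe _).trans hx₁))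
  obtain ⟨e₂, he₂, he₂e⟩ := exists_iso_of_mem hΦ₂
  have hsub : N ⊔ Subgroup.zpowers x ≤ N ⊔ (V ⊔ Subgroup.zpowers x) := sup_le_sup_left le_sup_right N
  have hin : ∀ z : ↥(N ⊔ Subgroup.zpowers x), Φ₁ (Subgroup.inclusion hsub z) ∈ Φ₂.range := by
    intro z
    have hle : N ⊔ Subgroup.zpowers x ≤
        (Φ₂.range.comap Φ₁).map (N ⊔ (V ⊔ Subgroup.zpowers x)).subtype := sup_le
      (fun n hn => ⟨⟨n, Subgroup.mem_sup_left hn⟩, hΦN n hn, rfl⟩)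
      (Subgroup.zpowers_le.2 ⟨⟨x, Subgroup.mem_sup_right hxW⟩, by
        change Φ₁ _ ∈ Φ₂.range
        rw [hxeq]
        exact ⟨_, rfl⟩, rfl⟩)
    obtain ⟨u, hu, huz⟩ := hle z.2
    rw [← show u = Subgroup.inclusion hsub z from Subtype.ext huz]; exact hu
  refine ⟨_, F.comp_mem (res_mem F hΦ₁ hsub) he₂.symm hin, ?_⟩
  change (e₂.symm ⟨Φ₁ ⟨x, _⟩, _⟩ : Ω) = x₁
  rw [show (⟨Φ₁ ⟨x, Subgroup.mem_sup_right hxW⟩, hin ⟨x, Subgroup.mem_sup_right
      (Subgroup.mem_zpowers x)⟩⟩ : Φ₂.range) = e₂ ⟨x₁, Subgroup.mem_sup_right hx₁W⟩ from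
    Subtype.ext (hxeq.trans (he₂e _).symm), MulEquiv.symm_apply_apply]

/-- **Climbing**: the image of an element of `Y` under a map defined on a centric subgroup is that
under a map defined on `T`. -/
theorem IsMaxCentralized.exists_extension_top (h : IsMaxCentralized F E Y) (hS : IsPGroup p S)
    (hF : F.IsSaturated p) (hE : E.IsInvariantIn F) {U : Subgroup Ω} (hU : E.IsCentric U) {x : Ω}
    (hx : x ∈ Y) {η : ↥(U ⊔ Subgroup.zpowers x) →* Ω}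
    (hη : η ∈ F.Hom (U ⊔ Subgroup.zpowers x)) :
    ∃ η' ∈ F.Hom (T ⊔ Subgroup.zpowers x),
      η' ⟨x, Subgroup.mem_sup_right (Subgroup.mem_zpowers x)⟩ =
        η ⟨x, Subgroup.mem_sup_right (Subgroup.mem_zpowers x)⟩ := by
  have hT := hE.2.1
  have hTS := hT.1
  have := finite_of_le hTS
  suffices key : ∀ (d : ℕ) (U : Subgroup Ω), E.IsCentric U → Nat.card T - Nat.card U ≤ d →
      ∀ (x : Ω), x ∈ Y → ∀ η : ↥(U ⊔ Subgroup.zpowers x) →* Ω,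
      η ∈ F.Hom (U ⊔ Subgroup.zpowers x) → ∃ η' ∈ F.Hom (T ⊔ Subgroup.zpowers x),
      η' ⟨x, Subgroup.mem_sup_right (Subgroup.mem_zpowers x)⟩ =
        η ⟨x, Subgroup.mem_sup_right (Subgroup.mem_zpowers x)⟩ from key _ U hU le_rfl x hx η hη
  clear hU hx hη η x U
  intro d
  induction d using Nat.strong_induction_on with
  | _ d ih =>
  intro U hU hd x hx η hη
  rcases eq_or_lt_of_le hU.1 with rfl | hlt
  · exact ⟨η, hη, rfl⟩
  have hUT := hU.1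
  have := finite_of_le (hUT.trans hTS)
  have hxC := h.hY hx
  -- decompose the restriction to `U`
  obtain ⟨a, ha, e, he, heq⟩ := hE.2.2.2 U hUT _
    (res_mem F hη (le_sup_left : U ≤ U ⊔ Subgroup.zpowers x))
  obtain ⟨-, -, -, ψ, hψ, hψe, hψY⟩ := h.hEY U he
  obtain ⟨β, hβ, hβa⟩ := exists_aut_extension hS hF hT ha
  have hTC : T ⊔ centralizerIn S T ≤ S := sup_le hTS (centralizerIn_le T)
  have hβF := (mem_autGroup_iff F hTC).1 hβ
  set x' := ((β ⟨x, Subgroup.mem_sup_right hxC⟩ : ↥(T ⊔ centralizerIn S T)) : Ω) with hx'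
  have hx'Y : x' ∈ Y := h.img_le hE hβF le_sup_left (R := Subgroup.zpowers x)
    ((Subgroup.zpowers_le.2 hxC).trans le_sup_right) (Subgroup.zpowers_le.2 hx)
    (mem_img.2 ⟨⟨x, Subgroup.mem_sup_right hxC⟩, Subgroup.mem_zpowers x, rfl⟩)
  -- the map from `V ⊔ ⟨x'⟩`
  have hWle : U ⊔ Subgroup.zpowers x ≤ U ⊔ Y := sup_le_sup_left (Subgroup.zpowers_le.2 hx) U
  set ψ' := ψ.comp (Subgroup.inclusion hWle) with hψ'
  have hψ'F : ψ' ∈ F.Hom _ := res_mem F hψ hWle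
  have heT : ∀ u, e u ∈ T := apply_mem_S E he
  have hψ'val : ∀ w, ψ' w ∈ T ⊔ centralizerIn S T := fun w =>
    sup_le_sup_left h.hY T
      (apply_mem_sup hψe heT (img_eq_of_forall_fixed le_sup_right hψY).le _)
  set θ := ((T ⊔ centralizerIn S T).subtype.comp β.toMonoidHom).comp
    (ψ'.codRestrict _ hψ'val) with hθ
  have hθF : θ ∈ F.Hom (U ⊔ Subgroup.zpowers x) := F.comp_mem hψ'F hβF hψ'val
  have hθU : ∀ u : U, θ (Subgroup.inclusion le_sup_left u) =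
      η (Subgroup.inclusion le_sup_left u) := by
    intro u
    refine Eq.trans ?_ (heq u (heT u)).symm
    change ((β ⟨ψ' _, _⟩ : ↥(T ⊔ centralizerIn S T)) : Ω) = ((a ⟨e u, heT u⟩ : T) : Ω)
    rw [← hβa ⟨e u, heT u⟩]
    exact congrArg (fun w => ((β w : ↥(T ⊔ centralizerIn S T)) : Ω)) (Subtype.ext (hψe u))
  have hθx : θ ⟨x, Subgroup.mem_sup_right (Subgroup.mem_zpowers x)⟩ = x' := by
    change ((β ⟨ψ' _, _⟩ : ↥(T ⊔ centralizerIn S T)) : Ω) = _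
    exact congrArg (fun w => ((β w : ↥(T ⊔ centralizerIn S T)) : Ω))
      (Subtype.ext (hψY ⟨x, hx⟩))
  set V := img η U with hV
  have hVT : V ≤ T := fun y hy => by
    obtain ⟨w, hw, rfl⟩ := mem_img.1 hy
    exact apply_mem_of_mem_stronglyClosed hT hη (hUT hw)
  have hUrel := isCentricRelTo_of_isCentric hE hU
  have hVrel : IsCentricRelTo F T V :=
    hUrel.of_isConj hT ⟨_, res_mem F hη le_sup_left, range_comp_inclusion _ _⟩
  obtain ⟨eθ, heθ, heθe⟩ := exists_iso_of_mem hθF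
  have hVθ : V ⊔ Subgroup.zpowers x' ≤ θ.range := sup_le (fun y hy => by
    obtain ⟨⟨w, hw'⟩, hw, rfl⟩ := mem_img.1 hy
    exact ⟨_, hθU ⟨w, hw⟩⟩) (Subgroup.zpowers_le.2 ⟨_, hθx⟩)
  set η₀ := η.comp (((U ⊔ Subgroup.zpowers x).subtype.comp eθ.symm.toMonoidHom).comp
    (Subgroup.inclusion hVθ) |>.codRestrict _ fun z => (eθ.symm _).2) with hη₀
  have hη₀F : η₀ ∈ F.Hom (V ⊔ Subgroup.zpowers x') :=
    F.comp_mem (res_mem F heθ.symm hVθ) hη fun z => (eθ.symm _).2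
  have hfix : ∀ v : V, η₀ (Subgroup.inclusion le_sup_left v) = v := by
    intro v
    obtain ⟨⟨w, hw'⟩, hw, hwv⟩ := mem_img.1 v.2
    refine Eq.trans ?_ hwv
    refine congrArg η (Subtype.ext ?_)
    change (eθ.symm ⟨(v : Ω), _⟩ : Ω) = w
    rw [show (⟨(v : Ω), hVθ (Subgroup.mem_sup_left v.2)⟩ : θ.range) = eθ ⟨w, hw'⟩ from
      Subtype.ext (by rw [heθe]; exact (hwv.symm.trans (hθU ⟨w, hw⟩).symm)),
      MulEquiv.symm_apply_apply]
  have hx₁ : η₀ ⟨x', Subgroup.mem_sup_right (Subgroup.mem_zpowers x')⟩ =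
      η ⟨x, Subgroup.mem_sup_right (Subgroup.mem_zpowers x)⟩ := by
    refine congrArg η (Subtype.ext ?_)
    change (eθ.symm ⟨x', _⟩ : Ω) = x
    rw [show (⟨x', hVθ (Subgroup.mem_sup_right (Subgroup.mem_zpowers x'))⟩ : θ.range) =
      eθ ⟨x, Subgroup.mem_sup_right (Subgroup.mem_zpowers x)⟩ from
      Subtype.ext (by rw [heθe, hθx]), MulEquiv.symm_apply_apply]
  obtain ⟨Φ, hΦ, hΦx⟩ := exists_extension_step hS hF hE hVrel (h.hY hx'Y) hη₀F hfix hx₁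
  -- induction
  have hVN : V ≤ normalizerIn T V := fun v hv => ⟨hVT hv, Subgroup.le_normalizer hv⟩
  have hVc : E.IsCentric V := ⟨hVT, fun Q hQ => hVrel.2 Q (isConj_of_isSubsystemOf hE.1 hQ)⟩
  have hcardV : Nat.card V = Nat.card U := card_img (F.injective_of_mem hη) le_sup_left
  have hVlt : V < T := lt_of_le_of_ne hVT fun hVT' =>
    hlt.ne (Subgroup.eq_of_le_of_card_ge hUT (by rw [← hcardV, hVT']))
  have hN := lt_normalizerIn (hS.to_le hTS) hVlt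
  have := finite_of_le ((normalizerIn_le (S := T) V).trans hTS)
  have hcard : Nat.card U < Nat.card (normalizerIn T V) := hcardV ▸ lt_of_not_ge fun hge =>
    hN.ne (Subgroup.eq_of_le_of_card_ge hN.le hge)
  have hle := Subgroup.card_le_of_le (normalizerIn_le (S := T) V)
  obtain ⟨η₁, hη₁, hη₁x⟩ := ih (Nat.card T - Nat.card (normalizerIn T V)) (by omega)
    (normalizerIn T V) (isCentric_of_le hVN (normalizerIn_le V) hVc) le_rfl x' hx'Y Φ hΦ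
  -- move back by `β`
  have hTxle : T ⊔ Subgroup.zpowers x ≤ T ⊔ centralizerIn S T :=
    sup_le_sup_left (Subgroup.zpowers_le.2 hxC) T
  have hval : ∀ z, (((T ⊔ centralizerIn S T).subtype.comp β.toMonoidHom).comp
      (Subgroup.inclusion hTxle)) z ∈ T ⊔ Subgroup.zpowers x' := by
    intro z
    have hcl : T ⊔ Subgroup.zpowers x ≤ ((T ⊔ Subgroup.zpowers x').comap
        ((T ⊔ centralizerIn S T).subtype.comp β.toMonoidHom)).map (T ⊔ centralizerIn S T).subtype :=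
      sup_le (fun t ht => ⟨⟨t, Subgroup.mem_sup_left ht⟩, by
          refine Subgroup.mem_comap.2 ?_
          change ((β _ : ↥(T ⊔ centralizerIn S T)) : Ω) ∈ T ⊔ Subgroup.zpowers x'
          rw [show (⟨t, Subgroup.mem_sup_left ht⟩ : ↥(T ⊔ centralizerIn S T)) =
            Subgroup.inclusion le_sup_left ⟨t, ht⟩ from rfl, hβa]
          exact Subgroup.mem_sup_left (a _).2, rfl⟩)
        (Subgroup.zpowers_le.2 ⟨⟨x, Subgroup.mem_sup_right hxC⟩,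
          Subgroup.mem_sup_right (Subgroup.mem_zpowers x'), rfl⟩)
    obtain ⟨u, hu, huz⟩ := hcl z.2
    change ((T ⊔ centralizerIn S T).subtype.comp β.toMonoidHom) (Subgroup.inclusion hTxle z) ∈ _
    rw [← show u = Subgroup.inclusion hTxle z from Subtype.ext huz]; exact hu
  refine ⟨_, F.comp_mem (res_mem F hβF hTxle) hη₁ hval, ?_⟩
  exact hη₁x.trans hΦx

/-- **`Y` is strongly closed.** -/
theorem IsMaxCentralized.stronglyClosed (h : IsMaxCentralized F E Y) (hS : IsPGroup p S)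
    (hE : E.IsWeaklyNormalIn F p) : F.StronglyClosed Y := by
  obtain ⟨hEs, hF, hinv⟩ := hE
  have hYS : Y ≤ S := h.hY.trans (centralizerIn_le T)
  have hn := h.le_normalizer hinv
  let D : FusionSystem S :=
    { Hom := fun P => {φ | φ ∈ F.Hom P ∧ ∀ z : P, (z : Ω) ∈ Y ↔ φ z ∈ Y}
      le_of_mem := fun h => F.le_of_mem h.1
      injective_of_mem := fun h => F.injective_of_mem h.1
      conj_mem := fun {P g} hP hg => ⟨F.conj_mem hP hg,
        fun z => Subgroup.mem_normalizer_iff.1 (hn hg) z⟩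
      comp_mem := fun {P Q φ ψ} hφ hψ hv => ⟨F.comp_mem hφ.1 hψ.1 hv,
        fun z => (hφ.2 z).trans (hψ.2 ⟨φ z, hv z⟩)⟩
      inv_mem := by
        intro P φ hφ
        obtain ⟨ψ, hψ, hψe⟩ := F.inv_mem hφ.1
        refine ⟨ψ, ⟨hψ, ?_⟩, hψe⟩
        rintro ⟨_, z, rfl⟩
        rw [hψe]
        exact (hφ.2 z).symm }
  refine ⟨hYS, fun R hR φ hφ z => ?_⟩
  refine ((alperin hS hF D (fun Q hQ a ha => ?_) R hφ).2 z).1 (hR z.2)
  have hkd : KernelData F E p (1 : F.autGroup T →* PUnit.{1}) :=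
    ⟨hS, hF, ⟨hEs, hF, hinv⟩, by simp, fun _ => ⟨1, Subsingleton.elim _ _⟩,
      fun _ _ => Subsingleton.elim _ _⟩
  obtain ⟨hQS, hQrel⟩ := hkd.mem_relFamily_of_isEssential hQ
  have hU : E.IsCentric (Q ⊓ T) :=
    ⟨inf_le_right, fun X hX => hQrel.2 X (isConj_of_isSubsystemOf hinv.1 hX)⟩
  have key : ∀ a ∈ F.autGroup Q, ∀ y : Q, (y : Ω) ∈ Y → (a y : Ω) ∈ Y := by
    intro a ha y hy
    have hle : Q ⊓ T ⊔ Subgroup.zpowers (y : Ω) ≤ Q :=
      sup_le inf_le_left (Subgroup.zpowers_le.2 y.2)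
    obtain ⟨η, hη, hηe⟩ := h.exists_extension_top hS hF hinv hU hy
      (res_mem F ((mem_autGroup_iff F hQS).1 ha) hle)
    have h1 := h.img_le hinv hη le_sup_left (le_sup_right) (Subgroup.zpowers_le.2 hy)
      (mem_img.2 ⟨⟨(y : Ω), Subgroup.mem_sup_right (Subgroup.mem_zpowers _)⟩,
        Subgroup.mem_zpowers _, rfl⟩)
    rw [hηe] at h1
    exact h1
  refine mem_autGroup_of_mem (φ := Q.subtype.comp a.toMonoidHom) D
    ⟨(mem_autGroup_iff F hQS).1 ha, fun y => ⟨key a ha y, fun hy => ?_⟩⟩ fun _ => rfl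
  have h1 := key _ (inv_mem ha) (a y) hy
  rwa [MulAut.inv_apply_self] at h1

/-- A map on a subgroup of `Y` extends to one on its join with `T`. -/
theorem IsMaxCentralized.exists_extension_sup (h : IsMaxCentralized F E Y) (hS : IsPGroup p S)
    (hE : E.IsWeaklyNormalIn F p) {R : Subgroup Ω} (hR : R ≤ Y) {φ : R →* Ω}
    (hφ : φ ∈ F.Hom R) :
    ∃ ψ ∈ F.Hom (R ⊔ T), ∀ x : R, ψ (Subgroup.inclusion le_sup_left x) = φ x := by
  have hYc := h.stronglyClosed hS hE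
  have hF := hE.2.1
  have hT := hE.2.2.2.1
  have hTS := hT.1
  have hRS := le_S F hφ
  have hTc : ∀ {X : Subgroup Ω}, X ≤ Y → T ≤ centralizerIn S X := fun hX t ht =>
    ⟨hTS ht, fun y hy => ((h.hY (hX hy)).2 t ht).symm⟩
  obtain ⟨R₀, hRR₀, hR₀n⟩ := exists_fullyNormalized F hRS
  have hR₀Y : R₀ ≤ Y := by
    obtain ⟨ψ, hψ, rfl⟩ := hRR₀
    rintro _ ⟨x, rfl⟩
    exact hYc.2 R hR ψ hψ x
  have hR₁Y : φ.range ≤ Y := by rintro _ ⟨x, rfl⟩; exact hYc.2 R hR φ hφ x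
  obtain ⟨g₁, hl₁, hg₁, ψ₁, hψ₁, hψ₁e, -⟩ :=
    exists_hom_normalizerIn_of_fullyNormalized hS hF hR₀n hRR₀
  obtain ⟨g₂, hl₂, hg₂, ψ₂, hψ₂, hψ₂e, -⟩ := exists_hom_normalizerIn_of_fullyNormalized hS hF hR₀n
    (isConj_trans (isConj_symm ⟨φ, hφ, rfl⟩) hRR₀)
  obtain ⟨e, he, hee⟩ := exists_iso_of_mem hφ
  have hω : IsIso F ((g₁.symm.trans e).trans g₂) := (hg₁.symm.trans he).trans hg₂
  obtain ⟨ω, hω', hωe⟩ := exists_extension
    (fullyAutomized_receptive_of_fullyNormalized hS hF hR₀n).2 hω (le_sup_left : R₀ ≤ R₀ ⊔ T)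
    (sup_le (le_extender hω) ((hTc hR₀Y).trans (centralizerIn_le_extender _ _)))
  have hT1 : T ≤ normalizerIn S R := (hTc hR).trans (centralizerIn_le_normalizerIn R)
  have hT2 : T ≤ normalizerIn S φ.range := (hTc hR₁Y).trans (centralizerIn_le_normalizerIn _)
  have hl : R ⊔ T ≤ normalizerIn S R := sup_le hl₁ hT1
  have hv1 : ∀ z : ↥(R ⊔ T), ψ₁ (Subgroup.inclusion hl z) ∈ R₀ ⊔ T := by
    refine apply_mem_sup (ψ := ψ₁.comp (Subgroup.inclusion hl))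
      (φ := R₀.subtype.comp g₁.toMonoidHom) hψ₁e (fun x => (g₁ x).2) ?_
    rintro y hy
    obtain ⟨z, hz, rfl⟩ := mem_img.1 hy
    exact apply_mem_of_mem_stronglyClosed hT hψ₁ hz
  have hr2 : R₀ ⊔ T ≤ img ψ₂ (φ.range ⊔ T) := sup_le
    (fun y hy => mem_img.2 ⟨Subgroup.inclusion hl₂ (g₂.symm ⟨y, hy⟩),
      Subgroup.mem_sup_left (g₂.symm ⟨y, hy⟩).2, by rw [hψ₂e, MulEquiv.apply_symm_apply]⟩)
    ((img_stronglyClosed_eq hT hψ₂ hT2).ge.trans (img_mono ψ₂ le_sup_right))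
  have hv2 : ∀ z : ↥(R₀ ⊔ T), ω z ∈ R₀ ⊔ T := by
    refine apply_mem_sup (φ := R₀.subtype.comp ((g₁.symm.trans e).trans g₂).toMonoidHom) hωe
      (fun x => (((g₁.symm.trans e).trans g₂) x).2) ?_
    rintro y hy
    obtain ⟨z, hz, rfl⟩ := mem_img.1 hy
    exact apply_mem_of_mem_stronglyClosed hT hω' hz
  obtain ⟨e₂, he₂, he₂e⟩ := exists_iso_of_mem hψ₂
  have hmid := F.comp_mem (res_mem F hψ₁ hl) hω' hv1
  refine ⟨_, F.comp_mem hmid he₂.symm fun z => img_le_range ψ₂ _ (hr2 (hv2 _)), fun x => ?_⟩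
  have h1 : ψ₁ (Subgroup.inclusion hl (Subgroup.inclusion le_sup_left x)) = g₁ x := hψ₁e x
  have h2 : ω ⟨ψ₁ (Subgroup.inclusion hl (Subgroup.inclusion le_sup_left x)),
      hv1 (Subgroup.inclusion le_sup_left x)⟩ = g₂ (e x) := by
    refine Eq.trans (congrArg ω (Subtype.ext h1)) ((hωe (g₁ x)).trans ?_)
    rw [MulEquiv.trans_apply, MulEquiv.trans_apply, MulEquiv.symm_apply_apply]
  change (e₂.symm ⟨ω ⟨ψ₁ (Subgroup.inclusion hl (Subgroup.inclusion le_sup_left x)), _⟩, _⟩ : Ω) =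
    φ x
  rw [show (⟨_, img_le_range ψ₂ _ (hr2 (hv2 ⟨_, hv1 (Subgroup.inclusion le_sup_left x)⟩))⟩ :
      ψ₂.range) = e₂ (Subgroup.inclusion hl₂ (e x)) from
    Subtype.ext (h2.trans ((he₂e _).trans (hψ₂e _)).symm), MulEquiv.symm_apply_apply]
  exact hee x

end CfsgLib.Fusion
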