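import Cfsg.Agent.Lib.PGroup.Metacyclic

/-!
# The elements of order `p` of a metacyclic `p`-group, `p` odd
-/

set_option autoImplicit false

namespace CfsgLib.Fusion

open CfsgLib.PGroup.Metacyclic

variable {G : Type*} [Group G] [Finite G] {p : ℕ} [hp : Fact p.Prime]

/-- An element of a `p`-group acts on a cyclic normal subgroup by powers `≡ 1 mod p`. -/
theorem exists_exponent (hG : IsPGroup p G) (C : Subgroup G) [hC : C.Normal] [IsCyclic C]
    (x c : G) (hc : c ∈ C) : ∃ r, 1 ≤ r ∧ p ∣ r - 1 ∧ x * c * x⁻¹ = c ^ r := by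
  rcases eq_or_ne c 1 with rfl | hc1
  · exact ⟨1, le_rfl, by simp, by simp⟩
  obtain ⟨a, ha⟩ := IsCyclic.exists_monoid_generator (α := C)
  obtain ⟨j, hj⟩ := ha ⟨c, hc⟩
  obtain ⟨i, hi⟩ := ha ⟨x * a * x⁻¹, hC.conj_mem a a.2 x⟩
  have hj' : (a : G) ^ j = c := congrArg Subtype.val hj
  have hi' : (a : G) ^ i = x * a * x⁻¹ := congrArg Subtype.val hi
  have hord : orderOf c ∣ Nat.card G := orderOf_dvd_natCard c
  set r := i + orderOf c with hr
  have hr1 : 1 ≤ r := le_add_left (orderOf_pos c)
  have hconj : x * c * x⁻¹ = c ^ r := by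
    rw [hr, pow_add, pow_orderOf_eq_one, mul_one, ← hj', ← conj_pow, ← hi', ← pow_mul, ← pow_mul,
      mul_comm]
  refine ⟨r, hr1, ?_, hconj⟩
  have hiter : ∀ n : ℕ, x ^ n * c * (x ^ n)⁻¹ = c ^ (r ^ n) := by
    intro n
    induction n with
    | zero => simp
    | succ n ih =>
      rw [pow_succ' x n, show x * x ^ n * c * (x * x ^ n)⁻¹ = x * (x ^ n * c * (x ^ n)⁻¹) * x⁻¹ by
        group, ih, ← conj_pow, hconj, ← pow_mul, ← pow_succ']
  obtain ⟨k, hk⟩ := hG x
  have h1 := hiter (p ^ k)
  rw [hk, one_mul, inv_one, mul_one] at h1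
  have hmod : r ^ (p ^ k) ≡ 1 [MOD orderOf c] :=
    pow_eq_pow_iff_modEq.1 (by rw [pow_one]; exact h1.symm)
  have hpc : p ∣ orderOf c := by
    obtain ⟨m, hm⟩ := hG.exists_orderOf_eq_pow c
    rcases Nat.eq_zero_or_pos m with rfl | hm0
    · exact absurd (orderOf_eq_one_iff.1 (by simpa using hm)) hc1
    · rw [hm]; exact dvd_pow_self p hm0.ne'
  have h2 : ((r ^ (p ^ k) : ℕ) : ZMod p) = ((1 : ℕ) : ZMod p) :=
    (ZMod.natCast_eq_natCast_iff' _ _ _).2 (Nat.ModEq.of_dvd hpc hmod)
  rw [Nat.cast_pow, ZMod.pow_card_pow] at h2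
  rw [← ZMod.natCast_eq_zero_iff, Nat.cast_sub hr1, h2]
  simp

/-- In a metacyclic `p`-group, `p` odd, the elements of order `p` form an elementary abelian
subgroup of order at most `p²`. -/
theorem exists_omega_of_metacyclic (hG : IsPGroup p G) (hodd : p ≠ 2)
    (hm : Cfsg.IsMetacyclic G) :
    ∃ W : Subgroup G, (∀ x, x ∈ W ↔ x ^ p = 1) ∧ (∀ x ∈ W, ∀ y ∈ W, Commute x y) ∧
      Nat.card W ≤ p ^ 2 := by
  obtain ⟨C, hC, hCc, hQc⟩ := hm
  have := hC
  have := hCc
  have := hQc
  -- elements of `C` of order `p` are central in the elements of order `p`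
  have hcen : ∀ c ∈ C, c ^ p = 1 → ∀ x : G, Commute x c := by
    intro c hc hcp x
    obtain ⟨r, hr1, hr, hconj⟩ := exists_exponent hG C x c hc
    obtain ⟨d, hd⟩ := hr
    have hc' : c ^ r = c := by
      rw [show r = p * d + 1 by omega, pow_succ, pow_mul, hcp, one_pow, one_mul]
    rw [hc'] at hconj
    exact mul_inv_eq_iff_eq_mul.1 hconj
  have hcomm : ∀ x y : G, x ^ p = 1 → y ^ p = 1 → Commute x y := by
    intro x y hx hy
    by_cases hyC : y ∈ C
    · exact hcen y hyC hy x
    -- the image of `y` generates the elements of order `p` of the quotient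
    set q : G ⧸ C := QuotientGroup.mk y with hq
    have hq1 : q ≠ 1 := fun h => hyC ((QuotientGroup.eq_one_iff y).1 h)
    have hqp : q ^ p = 1 := by rw [hq, ← QuotientGroup.mk_pow, hy]; rfl
    have hqo : orderOf q = p := orderOf_eq_prime hqp hq1
    have : Fintype (G ⧸ C) := Fintype.ofFinite _
    have hxq : (QuotientGroup.mk x : G ⧸ C) ∈ Subgroup.zpowers q := by
      classical
      by_contra hx'
      have hle : (insert (QuotientGroup.mk x : G ⧸ C)
          (Finset.univ.filter fun a : G ⧸ C => a ∈ Subgroup.zpowers q)) ⊆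
          Finset.univ.filter fun a : G ⧸ C => a ^ p = 1 := by
        intro a ha
        rcases Finset.mem_insert.1 ha with rfl | ha
        · simp [← QuotientGroup.mk_pow, hx]
        · obtain ⟨j, rfl⟩ := Subgroup.mem_zpowers_iff.1 (Finset.mem_filter.1 ha).2
          refine Finset.mem_filter.2 ⟨Finset.mem_univ _, ?_⟩
          rw [← zpow_natCast, ← zpow_mul, mul_comm, zpow_mul, zpow_natCast, hqp, one_zpow]
      have h1 := (Finset.card_le_card hle).trans (IsCyclic.card_pow_eq_one_le hp.out.pos)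
      rw [Finset.card_insert_of_notMem (by simp [hx']), ← Fintype.card_subtype,
        ← Nat.card_eq_fintype_card] at h1
      have h2 : Nat.card {a : G ⧸ C // a ∈ Subgroup.zpowers q} = p :=
        (Nat.card_zpowers q).trans hqo
      omega
    rw [← mem_powers_iff_mem_zpowers] at hxq
    obtain ⟨j, hj⟩ := hxq
    set z := y ^ j with hz
    have hzp : z ^ p = 1 := by rw [hz, ← pow_mul, mul_comm, pow_mul, hy, one_pow]
    set c := x * z⁻¹ with hc
    have hcC : c ∈ C := by
      rw [← QuotientGroup.eq_one_iff, hc, QuotientGroup.mk_mul, QuotientGroup.mk_inv, hz,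
        QuotientGroup.mk_pow, ← hj]
      exact mul_inv_cancel _
    have hxcz : x = c * z := by rw [hc, inv_mul_cancel_right]
    obtain ⟨r, hr1, hr, hconj⟩ := exists_exponent hG C z c hcC
    have hform : ∀ n : ℕ, (c * z) ^ n = c ^ gsum r n * z ^ n := by
      intro n
      induction n with
      | zero => simp [gsum_zero]
      | succ n ih =>
        rw [pow_succ' (c * z) n, ih, add_comm n 1, gsum_add, gsum_one, pow_one, pow_add c 1,
          pow_one, pow_mul, ← hconj, conj_pow, pow_add z 1, pow_one]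
        group
    have h1 : c ^ gsum r p = 1 := by
      have := hform p
      rw [← hxcz, hx, hzp, mul_one] at this
      exact this.symm
    obtain ⟨w, hw⟩ := gsum_prime hodd hr1 hr (dvd_refl p)
    have hcp : c ^ p = 1 := by
      obtain ⟨k, hk⟩ := hG.exists_orderOf_eq_pow c
      have h2 : orderOf c ∣ p * (1 + p * w) := by
        have := orderOf_dvd_of_pow_eq_one h1
        rwa [hw, show p + p * p * w = p * (1 + p * w) by ring] at this
      rw [hk] at h2
      refine orderOf_dvd_iff_pow_eq_one.1 (hk.symm ▸ ?_)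
      refine Nat.Coprime.dvd_of_dvd_mul_right ?_ h2
      refine Nat.Coprime.pow_left k ((hp.out.coprime_iff_not_dvd).2 fun h => ?_)
      exact hp.out.one_lt.ne' (Nat.dvd_one.1 ((Nat.dvd_add_left (Dvd.intro w rfl)).1 h))
    rw [hxcz]
    exact ((hcen c hcC hcp y).symm).mul_left ((Commute.refl y).pow_left j)
  let W : Subgroup G :=
    { carrier := {x | x ^ p = 1}
      one_mem' := one_pow p
      mul_mem' := fun {a b} (ha : a ^ p = 1) (hb : b ^ p = 1) => by
        show (a * b) ^ p = 1
        rw [(hcomm a b ha hb).mul_pow, ha, hb, one_mul]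
      inv_mem' := fun {a} (ha : a ^ p = 1) => by
        show a⁻¹ ^ p = 1
        rw [inv_pow, ha, inv_one] }
  refine ⟨W, fun x => Iff.rfl, fun x hx y hy => hcomm x y hx hy, ?_⟩
  classical
  set f := (QuotientGroup.mk' C).comp W.subtype with hf
  rw [← f.ker.card_mul_index, Subgroup.index_ker, pow_two]
  have : Fintype C := Fintype.ofFinite _
  have : Fintype (G ⧸ C) := Fintype.ofFinite _
  refine Nat.mul_le_mul ?_ ?_
  · refine le_trans ?_ (IsCyclic.card_pow_eq_one_le (α := C) hp.out.pos)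
    rw [← Fintype.card_subtype, ← Nat.card_eq_fintype_card]
    refine Nat.card_le_card_of_injective
      (fun w => ⟨⟨(w : W), (QuotientGroup.eq_one_iff _).1 w.2⟩, Subtype.ext (w : W).2⟩) ?_
    intro a b h
    exact Subtype.ext (Subtype.ext (congrArg (fun c => ((c.1 : C) : G)) h))
  · refine le_trans ?_ (IsCyclic.card_pow_eq_one_le (α := G ⧸ C) hp.out.pos)
    rw [← Fintype.card_subtype, ← Nat.card_eq_fintype_card]
    refine Nat.card_le_card_of_injective
      (fun q => ⟨(q : G ⧸ C), ?_⟩) fun a b h => Subtype.ext (Subtype.mk.inj h)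
    obtain ⟨w, hw⟩ := q.2
    rw [← hw, ← map_pow, show w ^ p = 1 from Subtype.ext w.2, map_one]

end CfsgLib.Fusion
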