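import Cfsg.Agent.Lib.Fusion.MetaTwo
import Cfsg.Agent.Lib.Fusion.Normal

/-!
# Strongly closed metacyclic subgroups of `2`-groups
-/

set_option autoImplicit false

open Cfsg Cfsg.FusionSystem

namespace CfsgLib.Fusion.MetaTwo

/-- An automorphism of odd prime order fixes pointwise an invariant subgroup whose automorphism
group is a `2`-group. -/
theorem apply_eq_self_of_isPGroup_mulAut {G : Type*} [Group G] {W : Subgroup G} {α : MulAut G}
    (hW : ∀ x, x ∈ W ↔ α x ∈ W) (hA : IsPGroup 2 (MulAut W)) (hq : (orderOf α).Prime)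
    (hne : orderOf α ≠ 2) {x : G} (hx : x ∈ W) : α x = x := by
  let β : MulAut W :=
    { toFun := fun w => ⟨α w, (hW w).1 w.2⟩
      invFun := fun w => ⟨α.symm w, (hW _).2 (by rw [α.apply_symm_apply]; exact w.2)⟩
      left_inv := fun w => Subtype.ext (α.symm_apply_apply w)
      right_inv := fun w => Subtype.ext (α.apply_symm_apply w)
      map_mul' := fun a b => Subtype.ext (map_mul α (a : G) b) }
  have hpow : ∀ (i : ℕ) (w : W), (((β ^ i) w : W) : G) = (α ^ i) w := by
    intro i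
    induction i with
    | zero => intro w; rfl
    | succ i ih =>
      intro w
      rw [pow_succ', pow_succ', MulAut.mul_apply, MulAut.mul_apply, ← ih w]
      rfl
  have hdvd : orderOf β ∣ orderOf α := orderOf_dvd_of_pow_eq_one (MulEquiv.ext fun w =>
    Subtype.ext (by rw [hpow, pow_orderOf_eq_one]; rfl))
  have h1 : β = 1 := by
    rcases (Nat.dvd_prime hq).1 hdvd with h | h
    · exact orderOf_eq_one_iff.1 h
    · exfalso
      have : Fact (Nat.Prime 2) := ⟨Nat.prime_two⟩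
      obtain ⟨k, hk⟩ := IsPGroup.iff_orderOf.1 hA β
      rw [h] at hk
      have h2 := (Nat.prime_dvd_prime_iff_eq hq Nat.prime_two).1
        (hq.dvd_of_dvd_pow (dvd_of_eq hk))
      exact hne h2
  exact congrArg Subtype.val (show β ⟨x, hx⟩ = ⟨x, hx⟩ by rw [h1]; rfl)

variable {Ω : Type*} [Group Ω] {S : Subgroup Ω} [Finite S] {F : FusionSystem S}

/-- A strongly closed metacyclic subgroup outside the exceptional families is normal. -/
theorem isNormal_of_stronglyClosed_metacyclic (hS : IsPGroup 2 S) (hF : F.IsSaturated 2)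
    {P : Subgroup Ω} (hP : F.StronglyClosed P) (hm : IsMetacyclic ↥P)
    (hd : ¬ ∃ m : ℕ, Nonempty (↥P ≃* DihedralGroup m))
    (hq : ¬ ∃ m : ℕ, Nonempty (↥P ≃* QuaternionGroup m)) (hsd : ¬ Cfsg.IsQuasiDihedral ↥P) :
    F.IsNormal P := by
  classical
  have : Fact (Nat.Prime 2) := ⟨Nat.prime_two⟩
  have hPS := hP.1
  have := finite_of_le hPS
  have hPn : S ≤ Subgroup.normalizer (P : Set Ω) := le_normalizer_of_stronglyClosed hP
  refine isNormal_of_stronglyClosed hS hF hP fun R hR => ?_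
  have hRS := hR.1.1
  have := finite_of_le hRS
  refine le_of_normalizer_inter_le hS hRS hPS hPn fun x hxP hxn => ?_
  by_contra hxR
  set W := P ⊓ R with hWdef
  have hWP : W ≤ P := inf_le_left
  have := finite_of_le (hWP.trans hPS)
  let Wr : Subgroup R := W.subgroupOf R
  have hWr : ∀ α ∈ F.autGroup R, ∀ r ∈ Wr, α r ∈ Wr := fun α hα r hr =>
    ⟨autGroup_apply_mem hP hα hr.1, (α r).2⟩
  have hconjR : ∀ g ∈ S, ∀ hg : g ∈ Subgroup.normalizer (R : Set Ω),
      normAut g hg ∈ F.autGroup R := fun g hg hgn =>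
    autInducedBy_le_autGroup hRS (mem_autInducedBy_iff.2 ⟨g, hg, fun _ => rfl⟩)
  have hmodW : ∀ g ∈ P, ∀ hg : g ∈ Subgroup.normalizer (R : Set Ω), ∀ r : R,
      r⁻¹ * normAut g hg r ∈ Wr := by
    intro g hg hgn r
    refine ⟨?_, (r⁻¹ * normAut g hgn r).2⟩
    change (r : Ω)⁻¹ * (g * r * g⁻¹) ∈ P
    have h1 := conj_mem_of_mem_normalizer (hPn (S.inv_mem (hRS r.2))) hg
    have h2 := P.mul_mem h1 (P.inv_mem hg)
    simpa [mul_assoc] using h2
  -- the stabilizers of `1 ≤ W ≤ R` in `P` lie in `R`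
  have hcen : ∀ g ∈ P, ∀ hg : g ∈ Subgroup.normalizer (R : Set Ω),
      (∀ w ∈ W, g * w = w * g) → g ∈ R := by
    intro g hg hgn hc
    let D : ℕ → Subgroup R := fun i => if i = 0 then ⊥ else if i = 1 then Wr else ⊤
    refine mem_of_normAut_mem_inn hRS (hR.1.2 R (isConj_refl hRS)) (hPS hg) (hg := hgn)
      (mem_inn_of_stabilizes hS hR D 2 rfl rfl ?_ (hconjR g (hPS hg) hgn) ?_)
    · intro α hα i hi r hr
      interval_cases i
      · have h1 : r = 1 := Subgroup.mem_bot.1 hr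
        rw [h1, map_one]
        exact one_mem _
      · exact hWr α hα r hr
      · exact Subgroup.mem_top _
    · intro i hi r hr
      interval_cases i
      · refine Subgroup.mem_bot.2 (Subtype.ext ?_)
        change (r : Ω)⁻¹ * (g * r * g⁻¹) = 1
        rw [hc r hr, mul_inv_cancel_right, inv_mul_cancel]
      · exact hmodW g hg hgn r
  have hCW : ∀ c ∈ P, (∀ w ∈ W, c * w = w * c) → c ∈ W := by
    let M := P ⊓ Subgroup.centralizer (W : Set Ω)
    let S' := S ⊓ Subgroup.normalizer (M : Set Ω)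
    have : Finite S' := finite_of_le inf_le_left
    have hRM : R ≤ S' := fun r hr => by
      refine ⟨hRS hr, ?_⟩
      have : Finite M := finite_of_le (inf_le_left.trans hPS)
      refine mem_normalizer_of_forall fun c hc => ⟨conj_mem_of_mem_normalizer (hPn (hRS hr)) hc.1,
        fun w hw => ?_⟩
      have hw' : r⁻¹ * w * r ∈ W := by
        refine ⟨?_, R.mul_mem (R.mul_mem (R.inv_mem hr) hw.2) hr⟩
        simpa using conj_mem_of_mem_normalizer (hPn (S.inv_mem (hRS hr))) hw.1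
      have h1 := hc.2 _ hw'
      calc w * (r * c * r⁻¹) = r * ((r⁻¹ * w * r) * c) * r⁻¹ := by group
        _ = r * (c * (r⁻¹ * w * r)) * r⁻¹ := by rw [h1]
        _ = r * c * r⁻¹ * w := by group
    intro c hc hcw
    refine ⟨hc, le_of_normalizer_inter_le (hS.to_le inf_le_left) hRM
      (le_inf (inf_le_left.trans hPS) Subgroup.le_normalizer) inf_le_right
      (fun g hg hgn => hcen g hg.1 hgn fun w hw => (hg.2 w hw).symm)
      ⟨hc, fun w hw => (hcw w hw).symm⟩⟩
  set Q := W.subgroupOf P with hQdef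
  have eQ : Q ≃* W := Subgroup.subgroupOfEquivOfLe hWP
  have hC : Subgroup.centralizer (Q : Set P) ≤ Q := fun c hc =>
    hCW c c.2 fun w hw => (congrArg Subtype.val
      (Subgroup.mem_centralizer_iff.1 hc ⟨w, hWP hw⟩ hw)).symm
  have hQtop : Q ≠ ⊤ := fun h => hxR (Subgroup.mem_inf.1 (show (⟨x, hxP⟩ : P) ∈ Q from
    h ▸ Subgroup.mem_top _)).2
  have hPp := hS.to_le hPS
  have hmax : (Nat.card Q = 4 ∧ ∀ a ∈ Q, ∀ b ∈ Q, a * b = b * a) ∨
      (Nat.card Q = 8 ∧ ¬ IsMulCommutative Q) → False := fun h => by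
    rcases maximal_class_cases hPp Q hC h hQtop with h' | h' | h'
    · exact hd h'
    · exact hsd h'
    · exact hq h'
  by_cases hA : IsPGroup 2 (MulAut W)
  · let D : ℕ → Subgroup R := fun i => if i = 0 then Wr else ⊤
    have hinv : ∀ α ∈ F.autGroup R, ∀ i ≤ 1, ∀ r ∈ D i, α r ∈ D i := by
      intro α hα i hi r hr
      interval_cases i
      · exact hWr α hα r hr
      · exact Subgroup.mem_top _
    have hAx := hconjR x (hPS hxP) hxn
    refine hxR (mem_of_normAut_mem_inn hRS (hR.1.2 R (isConj_refl hRS)) (hPS hxP) (hg := hxn)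
      (le_inn_of_normal_pgroup (isRadical_of_isEssential hS hR)
        (K := stabSeries (F.autGroup R) D 1) (fun α hα => hα.1)
        (normal_stabSeries_subgroupOf hinv) ?_ ⟨hAx, fun i hi r => ⟨hinv _ hAx i hi r, fun h => ?_⟩,
          fun i hi r hr => ?_⟩))
    · refine isPGroup_of_stabilizes (hS.to_le hRS) _ D 1 (fun r => Subgroup.mem_top _) ?_
        fun α hα => hα.2.2
      intro α hα hpr hne r hr
      have hW' : IsPGroup 2 (MulAut Wr) :=
        hA.of_equiv (MulAut.congr (Subgroup.subgroupOfEquivOfLe (inf_le_right : W ≤ R)).symm)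
      exact apply_eq_self_of_isPGroup_mulAut (fun y => hα.2.1 0 (Nat.zero_le 1) y) hW' hpr hne hr
    · simpa using hinv _ (inv_mem hAx) i hi _ h
    · interval_cases i
      exact hmodW x hxP hxn r
  have hWm : IsMetacyclic ↥W := CfsgLib.OddLocal.RankTwo.isMetacyclic_of_injective hm
    (Subgroup.inclusion hWP) (Subgroup.inclusion_injective hWP)
  rcases Cfsg.Agent.S1896.result (hPp.to_le hWP) hWm hA with ⟨⟨e⟩⟩ | ⟨n, ⟨e⟩⟩
  · refine hmax (Or.inr ⟨?_, fun h => ?_⟩)
    · rw [Nat.card_congr (eQ.trans e).toEquiv, Nat.card_eq_fintype_card, QuaternionGroup.card]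
    · have h1 : (QuaternionGroup.a 1 : QuaternionGroup 2) * QuaternionGroup.xa 0 =
          QuaternionGroup.xa 0 * QuaternionGroup.a 1 := by
        apply (eQ.trans e).symm.injective
        rw [map_mul, map_mul]
        exact h.is_comm.comm _ _
      exact absurd h1 (by decide)
  have hcard : Nat.card W = 2 ^ n * 2 ^ n := by
    rw [Nat.card_congr e.toEquiv, Nat.card_prod, Nat.card_congr Multiplicative.toAdd,
      Nat.card_zmod]
  have hcomm : ∀ a b : W, a * b = b * a := fun a b =>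
    e.injective (by rw [map_mul, map_mul, mul_comm])
  have hcommΩ : ∀ a ∈ W, ∀ b ∈ W, a * b = b * a := fun a ha b hb =>
    congrArg Subtype.val (hcomm ⟨a, ha⟩ ⟨b, hb⟩)
  rcases (show n = 0 ∨ n = 1 ∨ 2 ≤ n by omega) with rfl | rfl | hn
  · refine hQtop (eq_top_iff.mpr fun c _ => hC (Subgroup.mem_centralizer_iff.mpr fun y hy => ?_))
    have hy1 : y = 1 := by
      have h1 : Nat.card Q = 1 := by rw [Nat.card_congr eQ.toEquiv, hcard]; norm_num
      have := (Subgroup.eq_bot_of_card_eq Q h1) ▸ hy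
      exact Subgroup.mem_bot.mp this
    rw [hy1, one_mul, mul_one]
  · exact hmax (Or.inl ⟨by rw [Nat.card_congr eQ.toEquiv, hcard]; norm_num,
      fun a ha b hb => Subtype.ext (hcommΩ a ha b hb)⟩)
  have hexp : ∀ a : W, a ^ 2 ^ n = 1 := fun a => by
    apply e.injective
    rw [map_pow, map_one]
    refine Prod.ext ?_ ?_ <;>
    · simp only [Prod.pow_fst, Prod.pow_snd, Prod.fst_one, Prod.snd_one]
      apply Multiplicative.toAdd.injective
      rw [toAdd_pow, toAdd_one, nsmul_eq_mul, ZMod.natCast_self, zero_mul]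
  -- elements acting trivially modulo squares
  have hsq : ∀ g ∈ P, ∀ _ : g ∈ Subgroup.normalizer (R : Set Ω),
      (∀ w ∈ W, ∃ y ∈ W, g * w * g⁻¹ * w⁻¹ = y ^ 2) → g ∈ R := by
    intro g hg hgn htriv
    let Pw : ℕ → Subgroup R := fun j =>
      { carrier := {r | ∃ w ∈ W, w ^ 2 ^ j = (r : Ω)}
        one_mem' := ⟨1, one_mem _, by simp⟩
        mul_mem' := by
          rintro a b ⟨u, hu, hua⟩ ⟨v, hv, hvb⟩
          exact ⟨u * v, mul_mem hu hv, by
            rw [(show Commute u v from hcommΩ u hu v hv).mul_pow, hua, hvb]; rfl⟩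
        inv_mem' := by
          rintro a ⟨u, hu, hua⟩
          exact ⟨u⁻¹, inv_mem hu, by rw [inv_pow, hua]; rfl⟩ }
    let D : ℕ → Subgroup R := fun l => if l ≤ n then Pw (n - l) else ⊤
    have hD : ∀ l ≤ n, D l = Pw (n - l) := fun l hl => if_pos hl
    have hD0 : D 0 = ⊥ := by
      rw [hD 0 (Nat.zero_le n), Nat.sub_zero]
      refine (Subgroup.eq_bot_iff_forall _).2 fun r hr => ?_
      obtain ⟨w, hw, hwr⟩ := hr
      exact Subtype.ext (hwr.symm.trans (congrArg Subtype.val (hexp ⟨w, hw⟩)))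
    refine mem_of_normAut_mem_inn hRS (hR.1.2 R (isConj_refl hRS)) (hPS hg) (hg := hgn)
      (mem_inn_of_stabilizes hS hR D (n + 1) hD0 (if_neg (by omega)) ?_
        (hconjR g (hPS hg) hgn) ?_)
    · intro α hα i hi r hr
      rcases Nat.le_succ_iff.1 hi with h | h
      · rw [hD i h] at hr ⊢
        obtain ⟨w, hw, hwr⟩ := hr
        refine ⟨(α ⟨w, hw.2⟩ : R), hWr α hα ⟨w, hw.2⟩ hw, ?_⟩
        rw [← Subgroup.coe_pow, ← map_pow]
        exact congrArg (fun z : R => ((α z : R) : Ω)) (Subtype.ext hwr)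
      · subst h
        rw [show D (n + 1) = ⊤ from if_neg (by omega)]
        exact Subgroup.mem_top _
    · intro i hi r hr
      rcases Nat.lt_succ_iff_lt_or_eq.1 hi with h | h
      · rw [hD (i + 1) h] at hr
        rw [hD i h.le]
        obtain ⟨w, hw, hwr⟩ := hr
        obtain ⟨y, hy, hye⟩ := htriv w hw
        refine ⟨y, hy, ?_⟩
        have hgw : g * w * g⁻¹ ∈ W := by
          have h1 := W.mul_mem (W.pow_mem hy 2) hw
          rwa [← hye, inv_mul_cancel_right] at h1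
        change y ^ 2 ^ (n - i) = (r : Ω)⁻¹ * (g * r * g⁻¹)
        rw [show n - i = n - (i + 1) + 1 by omega, pow_succ' 2, pow_mul, ← hye, ← hwr,
          hcommΩ _ hgw _ (inv_mem hw),
          (show Commute w⁻¹ (g * w * g⁻¹) from hcommΩ _ (inv_mem hw) _ hgw).mul_pow, inv_pow,
          conj_pow]
      · subst h
        rw [hD i le_rfl, Nat.sub_self]
        exact ⟨_, hmodW g hg hgn r, by rw [pow_zero, pow_one]; rfl⟩
  have hxW : ∀ w ∈ W, x * w * x⁻¹ ∈ W := fun w hw =>
    ⟨P.mul_mem (P.mul_mem hxP hw.1) (P.inv_mem hxP), conj_mem_of_mem_normalizer hxn hw.2⟩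
  have hs2' : ∀ m : P, (∀ z ∈ Q, m * z * m⁻¹ = (⟨x, hxP⟩ : P) * z * (⟨x, hxP⟩ : P)⁻¹) →
      (∀ z ∈ Q, ∃ y ∈ Q, (⟨x, hxP⟩ : P) * ((⟨x, hxP⟩ : P) * z * (⟨x, hxP⟩ : P)⁻¹) *
        (⟨x, hxP⟩ : P)⁻¹ * z⁻¹ = y ^ 2) → m ^ 2 ∈ Q := by
    intro m hm' h2
    have hx2 : x * x ∈ W := by
      refine ⟨P.mul_mem hxP hxP, hsq _ (P.mul_mem hxP hxP) (mul_mem hxn hxn) fun z hz => ?_⟩
      obtain ⟨y, hy, hye⟩ := h2 ⟨z, hWP hz⟩ hz
      refine ⟨y, hy, ?_⟩
      have h1 := congrArg Subtype.val hye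
      push_cast at h1
      rw [← h1]
      group
    have hmx : (m : Ω) * x⁻¹ ∈ W := by
      refine hCW _ (P.mul_mem m.2 (P.inv_mem hxP)) fun z hz => ?_
      have hz' : x⁻¹ * z * x ∈ W :=
        ⟨P.mul_mem (P.mul_mem (P.inv_mem hxP) hz.1) hxP, by
          simpa using conj_mem_of_mem_normalizer (inv_mem hxn) hz.2⟩
      have h1 := congrArg Subtype.val (hm' ⟨_, hWP hz'⟩ hz')
      push_cast at h1
      calc (m : Ω) * x⁻¹ * z = (m : Ω) * (x⁻¹ * z * x) * (m : Ω)⁻¹ * ((m : Ω) * x⁻¹) := by group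
        _ = x * (x⁻¹ * z * x) * x⁻¹ * ((m : Ω) * x⁻¹) := by rw [h1]
        _ = z * ((m : Ω) * x⁻¹) := by group
    change ((m ^ 2 : P) : Ω) ∈ W
    have h3 := W.mul_mem (W.mul_mem hmx (hxW _ hmx)) hx2
    convert h3 using 1
    rw [Subgroup.coe_pow, sq]
    group
  refine hxR (hsq x hxP hxn fun w hw => ?_)
  obtain ⟨y, hy, hye⟩ := acts_trivially_mod_squares hPp hm Q n hn
    (by rw [Nat.card_congr eQ.toEquiv, hcard])
    (fun z hz => Subtype.ext (by
      have := congrArg Subtype.val (hexp ⟨(z : Ω), hz⟩); simpa using this))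
    (fun a ha b hb => Subtype.ext (hcommΩ a ha b hb)) (s := ⟨x, hxP⟩)
    (fun z hz => hxW z hz) hs2' (x := ⟨w, hWP hw⟩) hw
  exact ⟨y, hy, congrArg Subtype.val hye⟩

end CfsgLib.Fusion.MetaTwo
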