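import Cfsg.Agent.Lib.Fusion.InnerSat
import Cfsg.Agent.Lib.Fusion.Stabilizer
import Cfsg.Agent.Lib.PGroup.Basic
import Mathlib

/-!
# Supersoluble fusion systems
-/

set_option autoImplicit false

open Cfsg Cfsg.FusionSystem
open scoped commutatorElement

namespace CfsgLib.Fusion

variable {Ω : Type*} [Group Ω] {S : Subgroup Ω} {p : ℕ}

/-- The system over `S` realized through an injective homomorphism. -/
def realizedSys {G : Type*} [Group G] (ι : S →* G) (hι : Function.Injective ι) :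
    FusionSystem S where
  Hom P := {φ | ∃ (hP : P ≤ S) (hφ : ∀ x, φ x ∈ S) (g : G),
    ∀ x : P, ι ⟨φ x, hφ x⟩ = g * ι ⟨x, hP x.2⟩ * g⁻¹}
  le_of_mem h := ⟨h.1, h.2.1⟩
  injective_of_mem := by
    rintro P φ ⟨hP, hφ, g, hg⟩ a b hab
    have h1 : g * ι ⟨a, hP a.2⟩ * g⁻¹ = g * ι ⟨b, hP b.2⟩ * g⁻¹ := by
      rw [← hg, ← hg]
      exact congrArg ι (Subtype.ext hab)
    exact Subtype.ext (congrArg (fun t : S => (t : Ω))
      (hι (mul_left_cancel (mul_right_cancel h1))))
  conj_mem := by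
    intro P g hP hg
    refine ⟨hP, fun x => S.mul_mem (S.mul_mem hg (hP x.2)) (S.inv_mem hg), ι ⟨g, hg⟩, fun x => ?_⟩
    rw [← map_inv, ← map_mul, ← map_mul]
    exact congrArg ι (Subtype.ext rfl)
  comp_mem := by
    rintro P Q φ ψ ⟨hP, hφ, g, hg⟩ ⟨hQ, hψ, k, hk⟩ hPQ
    refine ⟨hP, fun x => hψ _, k * g, fun x => ?_⟩
    refine (hk ⟨φ x, hPQ x⟩).trans ?_
    rw [show (⟨φ x, hQ (hPQ x)⟩ : S) = ⟨φ x, hφ x⟩ from rfl, hg]
    group
  inv_mem := by
    rintro P φ ⟨hP, hφ, g, hg⟩
    have hinj : Function.Injective φ := fun a b hab => by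
      have h1 : g * ι ⟨a, hP a.2⟩ * g⁻¹ = g * ι ⟨b, hP b.2⟩ * g⁻¹ := by
        rw [← hg, ← hg]
        exact congrArg ι (Subtype.ext hab)
      exact Subtype.ext (congrArg (fun t : S => (t : Ω))
        (hι (mul_left_cancel (mul_right_cancel h1))))
    let e := MonoidHom.ofInjective hinj
    have he : ∀ x : P, e.symm ⟨φ x, ⟨x, rfl⟩⟩ = x := fun x => e.symm_apply_apply x
    refine ⟨P.subtype.comp e.symm.toMonoidHom, ⟨?_, fun y => hP (e.symm y).2, g⁻¹, ?_⟩,
      fun x => congrArg Subtype.val (he x)⟩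
    · rintro _ ⟨x, rfl⟩; exact hφ x
    · rintro ⟨_, x, rfl⟩
      rw [show (⟨(P.subtype.comp e.symm.toMonoidHom) ⟨φ x, ⟨x, rfl⟩⟩, hP (e.symm _).2⟩ : S) =
        ⟨x, hP x.2⟩ from Subtype.ext (congrArg Subtype.val (he x) :)]
      rw [hg]
      group

theorem isRealizedBy_realizedSys {G : Type*} [Group G] (ι : S →* G) (hι : Function.Injective ι) :
    (realizedSys ι hι).IsRealizedBy ι :=
  ⟨hι, fun _ hP _ hφ => ⟨fun ⟨_, _, g, hg⟩ => ⟨g, hg⟩, fun ⟨g, hg⟩ => ⟨hP, hφ, g, hg⟩⟩⟩

/-- The fusion system of `S ⋊ H` for a group `H` of automorphisms of order prime to `p`. -/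
theorem exists_saturated_of_coprime_aut [Fact p.Prime] [Finite S] (hS : IsPGroup p S)
    (H : Subgroup (MulAut S)) (hH : (Nat.card H).Coprime p) :
    ∃ F : FusionSystem S, F.IsSaturated p ∧ H ≤ F.autGroup S ∧
      ∀ (P : Subgroup Ω) (φ : P →* Ω), φ ∈ F.Hom P → ∃ (s : S) (h : MulAut S), h ∈ H ∧
        ∀ (x : P) (hx : (x : Ω) ∈ S), φ x = ((MulAut.conj s * h) ⟨x, hx⟩ : S) := by
  let ι : S →* (S ⋊[H.subtype] H) := SemidirectProduct.inl
  have : Finite (S ⋊[H.subtype] H) := Finite.of_equiv _ SemidirectProduct.equivProd.symm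
  refine ⟨realizedSys ι SemidirectProduct.inl_injective, ?_, fun h hh => ?_, ?_⟩
  · have hp : IsPGroup p ι.range :=
      hS.of_surjective ι.rangeRestrict ι.rangeRestrict_surjective
    have hi : ¬ p ∣ ι.range.index := by
      rw [show ι.range = _ from SemidirectProduct.range_inl_eq_ker_rightHom, Subgroup.index_ker,
        MonoidHom.range_eq_top.2 SemidirectProduct.rightHom_surjective, Subgroup.card_top]
      exact (Fact.out : p.Prime).coprime_iff_not_dvd.1 hH.symm
    exact isSaturated_of_isRealizedBy hS (isRealizedBy_realizedSys _ _) (hp.toSylow hi)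
      (IsPGroup.toSylow_coe _ _)
  · refine (mem_autGroup_iff _ le_rfl).2 (show ∃ (hP : S ≤ S)
      (hφ : ∀ x, (S.subtype.comp h.toMonoidHom) x ∈ S) (g : S ⋊[H.subtype] H),
      ∀ x : S, ι (⟨(S.subtype.comp h.toMonoidHom) x, hφ x⟩ : S) = g * ι (⟨x, hP x.2⟩ : S) * g⁻¹ from
      ⟨le_rfl, fun x => (h x).2, SemidirectProduct.inr ⟨h, hh⟩, fun x => ?_⟩)
    rw [← map_inv]
    exact SemidirectProduct.inl_aut (φ := H.subtype) ⟨h, hh⟩ ⟨x, x.2⟩
  · rintro P φ ⟨hP, hφ, g, hg⟩
    refine ⟨g.left, g.right, g.right.2, fun x hx => ?_⟩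
    have e : g * ι ⟨x, hx⟩ * g⁻¹ =
        ι (g.left * (g.right : MulAut S) ⟨x, hx⟩ * g.left⁻¹) := by
      have h2 := SemidirectProduct.inl_aut (φ := H.subtype) g.right ⟨x, hx⟩
      rw [map_mul, map_mul, map_inv, show ι ((g.right : MulAut S) ⟨x, hx⟩) = _ from h2, map_inv]
      conv_lhs => rw [← SemidirectProduct.inl_left_mul_inr_right g]
      group
      rfl
    exact congrArg Subtype.val (SemidirectProduct.inl_injective ((hg x).trans e))

/-- `C` is a chain from `⊥` to `S` of strongly closed subgroups with cyclic steps. -/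
def HasCyclicChain (F : FusionSystem S) : Prop :=
  ∃ (m : ℕ) (c : Fin (m + 1) → Subgroup Ω), c 0 = ⊥ ∧ c (Fin.last m) = S ∧
    (∀ i : Fin (m + 1), F.StronglyClosed (c i)) ∧
    ∀ i : Fin m, c i.castSucc ≤ c i.succ ∧ ∃ x ∈ S, c i.succ = c i.castSucc ⊔ Subgroup.zpowers x

theorem normal_subgroupOf_of_stronglyClosed [Finite S] {F : FusionSystem S} {C : Subgroup Ω}
    (hC : F.StronglyClosed C) : (C.subgroupOf S).Normal :=
  (Subgroup.normal_subgroupOf_iff_le_normalizer hC.1).2 (le_normalizer_of_stronglyClosed hC)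

/-- A step of index `p` of normal subgroups of a `p`-group is central. -/
theorem commutator_le_of_index_prime [Fact p.Prime] {G : Type*} [Group G] [Finite G]
    (hG : IsPGroup p G) (D C : Subgroup G) [D.Normal] [C.Normal] (hDC : D ≤ C)
    (hi : D.relIndex C = p) : ⁅(⊤ : Subgroup G), C⁆ ≤ D := by
  have hcard : Nat.card (C.map (QuotientGroup.mk' D)) = p := by
    rw [← Subgroup.relIndex_bot_left, ← QuotientGroup.map_mk'_self D, Subgroup.relIndex_map_map,
      QuotientGroup.ker_mk', sup_idem, sup_eq_left.2 hDC, hi]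
  have : (C.map (QuotientGroup.mk' D)).Normal :=
    Subgroup.Normal.map inferInstance _ (QuotientGroup.mk'_surjective D)
  have hZ : C.map (QuotientGroup.mk' D) ≤ Subgroup.center (G ⧸ D) :=
    CfsgLib.PGroup.le_center_of_card_eq (hG.to_quotient D) _ hcard
  rw [Subgroup.commutator_le]
  intro g _ c hc
  rw [← QuotientGroup.eq_one_iff]
  change QuotientGroup.mk' D ⁅g, c⁆ = 1
  rw [map_commutatorElement, commutatorElement_eq_one_iff_mul_comm]
  exact Subgroup.mem_center_iff.1 (hZ ⟨c, hc, rfl⟩) _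

/-- Below every nontrivial strongly closed subgroup of a supersoluble system there is one of
index `p`. -/
theorem exists_index_prime_below [Fact p.Prime] [Finite S] (hS : IsPGroup p S)
    {F : FusionSystem S} (hc : HasCyclicChain F) {C : Subgroup Ω} (hC : F.StronglyClosed C)
    (hne : C ≠ ⊥) : ∃ D : Subgroup Ω, F.StronglyClosed D ∧ D ≤ C ∧ D.relIndex C = p := by
  classical
  obtain ⟨m, c, h0, hlast, hsc, hstep⟩ := hc
  have hex : ∃ i : ℕ, ∃ h : i < m + 1, C ≤ c ⟨i, h⟩ :=
    ⟨m, Nat.lt_succ_self m, hC.1.trans hlast.ge⟩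
  obtain ⟨hi, hiC⟩ := Nat.find_spec hex
  set i := Nat.find hex with hidef
  have hi0 : i ≠ 0 := by
    intro h
    refine hne (le_bot_iff.1 (hiC.trans ?_))
    rw [show (⟨i, hi⟩ : Fin (m + 1)) = 0 from Fin.ext h, h0]
  obtain ⟨j, hj⟩ := Nat.exists_eq_succ_of_ne_zero hi0
  have hjm : j < m := by omega
  obtain ⟨hle, x, hxS, hx⟩ := hstep ⟨j, hjm⟩
  rw [show (⟨j, hjm⟩ : Fin m).succ = ⟨i, hi⟩ from Fin.ext hj.symm] at hx hle
  set A := c (Fin.castSucc ⟨j, hjm⟩) with hAdef
  have hA : F.StronglyClosed A := hsc _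
  have hjC : ¬ C ≤ A := fun h => Nat.find_min hex (m := j) (by omega) ⟨by omega, h⟩
  have := finite_of_le hC.1
  have hnorm : ∀ g ∈ C, ∀ a ∈ A, g * a * g⁻¹ ∈ A := fun g hg a ha =>
    conj_mem_of_mem_normalizer (le_normalizer_of_stronglyClosed hA (hC.1 hg)) ha
  have : (A.subgroupOf C).Normal := ⟨fun a ha g => hnorm g g.2 a ha⟩
  have hAn : (A.subgroupOf (c ⟨i, hi⟩)).Normal := ⟨fun a ha g =>
    conj_mem_of_mem_normalizer (P := A) (le_normalizer_of_stronglyClosed hA ((hsc _).1 g.2)) ha⟩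
  -- the big quotient is cyclic
  have hcyc : IsCyclic (↥(c ⟨i, hi⟩) ⧸ A.subgroupOf (c ⟨i, hi⟩)) := by
    have hxi : x ∈ c ⟨i, hi⟩ := hx ▸ Subgroup.mem_sup_right (Subgroup.mem_zpowers x)
    refine ⟨⟨QuotientGroup.mk ⟨x, hxi⟩, fun q => ?_⟩⟩
    obtain ⟨⟨g, hg⟩, rfl⟩ := QuotientGroup.mk_surjective q
    have hgm : g ∈ A ⊔ Subgroup.zpowers x := hx ▸ hg
    rw [← SetLike.mem_coe, Subgroup.coe_mul_of_right_le_normalizer_left A (Subgroup.zpowers x)] at hgm
    · obtain ⟨a, ha, y, ⟨k, rfl⟩, rfl⟩ := hgm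
      refine ⟨k, ?_⟩
      change (QuotientGroup.mk ⟨x, hxi⟩ : _ ⧸ A.subgroupOf _) ^ k = _
      rw [← QuotientGroup.mk_zpow, QuotientGroup.eq, Subgroup.mem_subgroupOf]
      have : (x ^ k)⁻¹ * a * (x ^ k) ∈ A := by
        have := conj_mem_of_mem_normalizer
          (le_normalizer_of_stronglyClosed hA (S.inv_mem (S.zpow_mem hxS k))) ha
        simpa using this
      simpa [mul_assoc] using this
    · exact (Subgroup.zpowers_le.2 (le_normalizer_of_stronglyClosed hA hxS))
  let π : C →* (↥(c ⟨i, hi⟩) ⧸ A.subgroupOf (c ⟨i, hi⟩)) :=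
    (QuotientGroup.mk' _).comp (Subgroup.inclusion hiC)
  have hker : ∀ z : C, π z = 1 ↔ (z : Ω) ∈ A := fun z => QuotientGroup.eq_one_iff _
  let _ := hcyc.commGroup
  let R := π.range
  have : IsCyclic R := inferInstance
  have : Finite R := Finite.of_surjective π.rangeRestrict π.rangeRestrict_surjective
  have hRp : IsPGroup p R := (hS.to_le hC.1).of_surjective π.rangeRestrict π.rangeRestrict_surjective
  obtain ⟨k, hk⟩ := hRp.exists_card_eq
  have hk0 : k ≠ 0 := by
    rintro rfl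
    refine hjC fun z hz => (hker ⟨z, hz⟩).1 ?_
    have hR : R = ⊥ := Subgroup.card_eq_one.1 (by simpa using hk)
    exact Subgroup.mem_bot.1 (hR.le ⟨_, rfl⟩)
  let f : C →* R := (powMonoidHom (p ^ (k - 1))).comp π.rangeRestrict
  refine ⟨(f.ker).map C.subtype, ⟨(Subgroup.map_subtype_le _).trans hC.1, ?_⟩,
    Subgroup.map_subtype_le _, ?_⟩
  · intro P hP φ hφ y
    obtain ⟨z, hz, hze⟩ := hP y.2
    have hφC : φ y ∈ C := hC.2 P (hP.trans (Subgroup.map_subtype_le _)) φ hφ y
    refine ⟨⟨φ y, hφC⟩, ?_, rfl⟩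
    have hzA : (z : Ω) ^ p ^ (k - 1) ∈ A := by
      have h1 : π (z ^ p ^ (k - 1)) = 1 := by
        rw [map_pow]
        exact congrArg Subtype.val (MonoidHom.mem_ker.1 hz)
      simpa using (hker _).1 h1
    have hyA : (y : Ω) ^ p ^ (k - 1) ∈ P ⊓ A := ⟨P.pow_mem y.2 _, hze ▸ hzA⟩
    have hres := hA.2 _ inf_le_right _ (res_mem F hφ (inf_le_left : P ⊓ A ≤ P)) ⟨_, hyA⟩
    rw [SetLike.mem_coe, MonoidHom.mem_ker]
    refine Subtype.ext ?_
    change π ⟨φ y, hφC⟩ ^ p ^ (k - 1) = 1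
    rw [← map_pow, hker, SubgroupClass.coe_pow, Subtype.coe_mk, ← map_pow]
    exact hres
  · rw [Subgroup.relIndex, Subgroup.subgroupOf,
      Subgroup.comap_map_eq_self_of_injective C.subtype_injective, Subgroup.index_ker,
      MonoidHom.range_comp, MonoidHom.range_eq_top.2 π.rangeRestrict_surjective,
      ← MonoidHom.range_eq_map, IsCyclic.card_powMonoidHom_range, hk,
      Nat.gcd_eq_right (pow_dvd_pow p (Nat.sub_le k 1)), Nat.pow_div (Nat.sub_le k 1)
        (Fact.out : p.Prime).pos, show k - (k - 1) = 1 by omega, pow_one]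

/-- A supersoluble system has a strongly closed chain with steps of index `p`. -/
theorem exists_prime_chain [Fact p.Prime] [Finite S] (hS : IsPGroup p S)
    {F : FusionSystem S} (hc : HasCyclicChain F) :
    ∃ (n : ℕ) (C : ℕ → Subgroup Ω), C 0 = ⊥ ∧ C n = S ∧
      (∀ i ≤ n, F.StronglyClosed (C i)) ∧ ∀ i < n, C i ≤ C (i + 1) ∧ (C i).relIndex (C (i + 1)) = p := by
  suffices ∀ N : ℕ, ∀ T : Subgroup Ω, F.StronglyClosed T → Nat.card T = N →
      ∃ (n : ℕ) (C : ℕ → Subgroup Ω), C 0 = ⊥ ∧ C n = T ∧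
      (∀ i ≤ n, F.StronglyClosed (C i)) ∧
        ∀ i < n, C i ≤ C (i + 1) ∧ (C i).relIndex (C (i + 1)) = p from
    this _ S ⟨le_rfl, fun _ _ _ hφ x => apply_mem_S F hφ x⟩ rfl
  intro N
  induction N using Nat.strong_induction_on with
  | _ N ih =>
    intro T hT hN
    by_cases hne : T = ⊥
    · exact ⟨0, fun _ => ⊥, rfl, hne.symm, fun i _ => hne ▸ hT, fun i hi => absurd hi (Nat.not_lt_zero i)⟩
    obtain ⟨D, hD, hDT, hDi⟩ := exists_index_prime_below hS hc hT hne
    have := finite_of_le hT.1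
    have := finite_of_le hD.1
    have hlt : Nat.card D < N := by
      rw [← hN, ← Subgroup.relIndex_mul_relIndex ⊥ D T bot_le hDT |>.trans
        (Subgroup.relIndex_bot_left T), Subgroup.relIndex_bot_left, hDi]
      exact lt_mul_of_one_lt_right Nat.card_pos (Fact.out : p.Prime).one_lt
    obtain ⟨n, C, h0, hn, hCsc, hCstep⟩ := ih _ hlt D hD rfl
    refine ⟨n + 1, fun i => if i ≤ n then C i else T, by simp [h0], by simp, fun i hi => ?_,
      fun i hi => ?_⟩
    · dsimp only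
      split_ifs with h
      · exact hCsc i h
      · exact hT
    · dsimp only
      rw [if_pos (Nat.lt_succ_iff.1 hi)]
      by_cases h : i + 1 ≤ n
      · rw [if_pos h]; exact hCstep i h
      · obtain rfl : i = n := by omega
        rw [if_neg h, hn]
        exact ⟨hDT, hDi⟩

theorem isNormal_of_cyclicChain [Fact p.Prime] [Finite S] (hS : IsPGroup p S)
    {F : FusionSystem S} (hF : F.IsSaturated p) (hc : HasCyclicChain F) : F.IsNormal S := by
  obtain ⟨n, C, h0, hn, hsc, hstep⟩ := exists_prime_chain hS hc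
  refine isNormal_of_series hS hF ⟨le_rfl, fun _ _ _ hφ x => apply_mem_S F hφ x⟩ C n h0 hn
    (fun i hi => (hsc i hi).1) hsc fun i hi => ?_
  have h1 := hsc i hi.le
  have h2 := hsc (i + 1) hi
  have := normal_subgroupOf_of_stronglyClosed h1
  have := normal_subgroupOf_of_stronglyClosed h2
  have hi' : ((C i).subgroupOf S).relIndex ((C (i + 1)).subgroupOf S) = p := by
    rw [← Subgroup.relIndex_map_map_of_injective _ _ S.subtype_injective,
      Subgroup.map_subgroupOf_eq_of_le h1.1, Subgroup.map_subgroupOf_eq_of_le h2.1]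
    exact (hstep i hi).2
  have h3 := Subgroup.map_mono (f := S.subtype) (commutator_le_of_index_prime hS _ _
    (fun _ hx => (hstep i hi).1 hx) hi')
  rwa [Subgroup.map_commutator, ← MonoidHom.range_eq_map, Subgroup.range_subtype,
    Subgroup.map_subgroupOf_eq_of_le h1.1, Subgroup.map_subgroupOf_eq_of_le h2.1] at h3

/-- In a group of order `p` any family of automorphisms commutes, with exponent `p - 1`. -/
theorem mulAut_order_prime [Fact p.Prime] {Q : Type*} [Group Q] (hQ : Nat.card Q = p) :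
    (∀ a b : MulAut Q, a * b = b * a) ∧ ∀ a : MulAut Q, a ^ (p - 1) = 1 := by
  have hc : IsCyclic Q := isCyclic_of_prime_card hQ
  let e := (IsCyclic.mulAutMulEquiv Q (h := hc))
  subst hQ
  refine ⟨fun a b => e.injective (by rw [map_mul, map_mul, mul_comm]), fun a => e.injective ?_⟩
  rw [map_pow, map_one]
  exact ZMod.units_pow_card_sub_one_eq_one _ _

/-- Automorphisms acting on a step of order `p` commute there and have exponent `p - 1`. -/
theorem step_aut [Fact p.Prime] {G : Type*} [Group G] (H : Subgroup (MulAut G)) (N M : Subgroup G)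
    [N.Normal] (hi : N.relIndex M = p) (hN : ∀ h ∈ H, ∀ x ∈ N, h x ∈ N)
    (hM : ∀ h ∈ H, ∀ x ∈ M, h x ∈ M) :
    (∀ a ∈ H, ∀ b ∈ H, ∀ x ∈ M, x⁻¹ * (a * b * a⁻¹ * b⁻¹) x ∈ N) ∧
      ∀ a ∈ H, ∀ x ∈ M, x⁻¹ * (a ^ (p - 1)) x ∈ N := by
  let res : H →* MulAut M :=
    { toFun := fun h =>
        { toFun := fun x => ⟨(h : MulAut G) x, hM _ h.2 x x.2⟩
          invFun := fun x => ⟨(h : MulAut G)⁻¹ x, hM _ (inv_mem h.2) x x.2⟩
          left_inv := fun x => Subtype.ext (by simp)
          right_inv := fun x => Subtype.ext (by simp)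
          map_mul' := fun x y => Subtype.ext (map_mul _ _ _) }
      map_one' := rfl
      map_mul' := fun _ _ => rfl }
  have hmap : ∀ h : H, (N.subgroupOf M).map (res h).toMonoidHom = N.subgroupOf M := fun h => by
    refine le_antisymm ?_ fun y hy => ?_
    · rintro _ ⟨x, hx, rfl⟩
      exact hN _ h.2 x hx
    · exact ⟨(res h).symm y, hN _ (inv_mem h.2) y hy, (res h).apply_symm_apply y⟩
  let π : H →* MulAut (↥M ⧸ N.subgroupOf M) :=
    { toFun := fun h => QuotientGroup.congr _ _ (res h) (hmap h)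
      map_one' := MulEquiv.ext fun q => by
        obtain ⟨x, rfl⟩ := QuotientGroup.mk_surjective q
        rfl
      map_mul' := fun a b => MulEquiv.ext fun q => by
        obtain ⟨x, rfl⟩ := QuotientGroup.mk_surjective q
        rfl }
  have hπ : ∀ h : H, π h = 1 → ∀ x ∈ M, x⁻¹ * (h : MulAut G) x ∈ N := fun h hh x hx => by
    have h1 : ((res h ⟨x, hx⟩ : M) : ↥M ⧸ N.subgroupOf M) = ((⟨x, hx⟩ : M) : _ ⧸ N.subgroupOf M) :=
      DFunLike.congr_fun hh (QuotientGroup.mk' (N.subgroupOf M) ⟨x, hx⟩)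
    exact Subgroup.mem_subgroupOf.1 (QuotientGroup.eq.1 h1.symm)
  obtain ⟨hcomm, hexp⟩ := mulAut_order_prime (show Nat.card (↥M ⧸ N.subgroupOf M) = p from hi)
  constructor
  · intro a ha b hb
    refine hπ (⟨a, ha⟩ * ⟨b, hb⟩ * ⟨a, ha⟩⁻¹ * ⟨b, hb⟩⁻¹) ?_
    rw [map_mul, map_mul, map_mul, map_inv, map_inv, hcomm (π ⟨a, ha⟩), mul_inv_cancel_right,
      mul_inv_cancel]
  · intro a ha
    refine hπ (⟨a, ha⟩ ^ (p - 1)) ?_
    rw [map_pow, hexp]

/-- Automorphism groups of order prime to `p` of a supersoluble system are abelian of exponent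
dividing `p - 1`. -/
theorem aut_coprime_of_cyclicChain [Fact p.Prime] [Finite S] (hS : IsPGroup p S)
    {F : FusionSystem S} (hc : HasCyclicChain F) (H : Subgroup (MulAut S))
    (hH : (Nat.card H).Coprime p) (hHF : H ≤ F.autGroup S) :
    IsMulCommutative H ∧ ∀ h ∈ H, h ^ (p - 1) = 1 := by
  obtain ⟨n, C, h0, hn, hsc, hstep⟩ := exists_prime_chain hS hc
  let D : ℕ → Subgroup S := fun i => (C i).subgroupOf S
  have hinv : ∀ β ∈ H, ∀ i ≤ n, ∀ x ∈ D i, β x ∈ D i := fun β hβ i hi x hx =>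
    autGroup_apply_mem (hsc i hi) (hHF hβ) hx
  have htriv : ∀ β ∈ H, (∀ i < n, ∀ x ∈ D (i + 1), x⁻¹ * β x ∈ D i) → β = 1 := by
    intro β hβ hβs
    have hiff : ∀ i ≤ n, ∀ x, x ∈ D i ↔ β x ∈ D i := fun i hi x =>
      ⟨hinv β hβ i hi x, fun h => by simpa using hinv β⁻¹ (inv_mem hβ) i hi _ h⟩
    have hK : IsPGroup p (stabSeries H D n) := by
      refine isPGroup_of_stabilizes hS _ D n (fun x => by simp [D, hn]) ?_ fun α hα => hα.2.2
      intro α _ _ _ x hx
      simp only [D, h0, Subgroup.mem_subgroupOf, Subgroup.mem_bot] at hx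
      rw [show x = 1 from Subtype.ext hx, map_one]
    obtain ⟨k, hk⟩ := hK ⟨β, hβ, hiff, hβs⟩
    have h1 : orderOf β ∣ p ^ k := orderOf_dvd_of_pow_eq_one (congrArg Subtype.val hk)
    have h2 : orderOf β ∣ Nat.card H := Subgroup.orderOf_dvd_natCard H hβ
    have h3 := Nat.dvd_gcd h2 h1
    rw [Nat.Coprime.gcd_eq_one (hH.pow_right k)] at h3
    exact orderOf_eq_one_iff.1 (Nat.dvd_one.1 h3)
  have hlay : ∀ i < n, (∀ a ∈ H, ∀ b ∈ H, ∀ x ∈ D (i + 1), x⁻¹ * (a * b * a⁻¹ * b⁻¹) x ∈ D i) ∧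
      ∀ a ∈ H, ∀ x ∈ D (i + 1), x⁻¹ * (a ^ (p - 1)) x ∈ D i := by
    intro i hi
    have := normal_subgroupOf_of_stronglyClosed (hsc i hi.le)
    refine step_aut (p := p) H (D i) (D (i + 1)) ?_ (fun h hh => hinv h hh _ hi.le)
      (fun h hh => hinv h hh _ hi)
    rw [← Subgroup.relIndex_map_map_of_injective _ _ S.subtype_injective,
      Subgroup.map_subgroupOf_eq_of_le (hsc i hi.le).1,
      Subgroup.map_subgroupOf_eq_of_le (hsc (i + 1) hi).1]
    exact (hstep i hi).2
  refine ⟨⟨⟨fun a b => Subtype.ext ?_⟩⟩, fun h hh =>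
    htriv _ (pow_mem hh _) fun i hi => (hlay i hi).2 h hh⟩
  have h1 := htriv _ (mul_mem (mul_mem (mul_mem a.2 b.2) (inv_mem a.2)) (inv_mem b.2))
    fun i hi => (hlay i hi).1 a a.2 b b.2
  rwa [mul_inv_eq_one, mul_inv_eq_iff_eq_mul] at h1

/-- An automorphism of exponent `p - 1` of a nontrivial elementary abelian group has an
eigenvector. -/
theorem exists_eigen_of_pow_pred [Fact p.Prime] {V : Type*} [CommGroup V] [Finite V] [Nontrivial V]
    (hV : ∀ v : V, v ^ p = 1) (f : MulAut V) (hf : f ^ (p - 1) = 1) :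
    ∃ (a : ℕ) (v : V), v ≠ 1 ∧ f v = v ^ a := by
  let _ : Module (ZMod p) (Additive V) :=
    AddCommGroup.zmodModule (n := p) (G := Additive V) fun v => congrArg Additive.ofMul (hV v.toMul)
  have : Module.Finite (ZMod p) (Additive V) := Module.Finite.of_finite
  let T : Module.End (ZMod p) (Additive V) :=
    (MonoidHom.toAdditive f.toMonoidHom).toZModLinearMap p
  have hT : ∀ (k : ℕ) (v : Additive V), (T ^ k : Module.End (ZMod p) (Additive V)) v = Additive.ofMul ((f ^ k) v.toMul) := by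
    intro k
    induction k with
    | zero => intro v; rfl
    | succ k ih => intro v; rw [pow_succ', Module.End.mul_apply, ih, pow_succ']; rfl
  have hTp : T ^ p = T := by
    refine LinearMap.ext fun v => ?_
    have hfp : f ^ p = f := by
      conv_lhs => rw [show p = p - 1 + 1 by have := (Fact.out : p.Prime).pos; omega]
      rw [pow_succ, hf, one_mul]
    rw [hT, hfp]
    rfl
  have hdvd : minpoly (ZMod p) T ∣ Polynomial.X ^ p - Polynomial.X :=
    minpoly.dvd _ _ (by simp [hTp])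
  have hne : (Polynomial.X ^ p - Polynomial.X : Polynomial (ZMod p)) ≠ 0 :=
    FiniteField.X_pow_card_sub_X_ne_zero (ZMod p) (Fact.out : p.Prime).one_lt
  have hsplit : (Polynomial.X ^ p - Polynomial.X : Polynomial (ZMod p)).Splits := by
    have h := FiniteField.roots_X_pow_card_sub_X (ZMod p)
    rw [Fintype.card_eq_nat_card, Nat.card_zmod] at h
    rw [Polynomial.splits_iff_card_roots, h,
      FiniteField.X_pow_card_sub_X_natDegree_eq _ (Fact.out : p.Prime).one_lt]
    simp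
  have hint : IsIntegral (ZMod p) T := Algebra.IsIntegral.isIntegral T
  obtain ⟨μ, hμ⟩ := (Polynomial.Splits.of_dvd hsplit hne hdvd).exists_eval_eq_zero
    (minpoly.degree_pos hint).ne'
  obtain ⟨v, hv⟩ := (Module.End.hasEigenvalue_of_isRoot hμ).exists_hasEigenvector
  refine ⟨μ.val, v.toMul, fun h => hv.2 h, Additive.ofMul.injective ?_⟩
  have h1 : T v = μ • v := Module.End.mem_eigenspace_iff.1 hv.1
  rw [← ZMod.natCast_zmod_val μ, Nat.cast_smul_eq_nsmul] at h1
  exact h1

/-- A commutative family of automorphisms of exponent `p - 1` fixes a subgroup of order `p` in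
every nontrivial normal part of the centre. -/
theorem exists_invariant_line [Fact p.Prime] {Q : Type*} [Group Q] [Finite Q] [Nontrivial Q]
    (hQ : IsPGroup p Q) (K : Subgroup (MulAut Q)) (hK : ∀ a ∈ K, ∀ b ∈ K, a * b = b * a)
    (hexp : ∀ a ∈ K, a ^ (p - 1) = 1) :
    ∃ z : Q, z ∈ Subgroup.center Q ∧ orderOf z = p ∧ ∀ a ∈ K, a z ∈ Subgroup.zpowers z := by
  classical
  have := hQ.center_nontrivial
  obtain ⟨k, hk⟩ := (hQ.to_subgroup (Subgroup.center Q)).exists_card_eq
  have hk0 : k ≠ 0 := by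
    rintro rfl
    rw [pow_zero] at hk
    exact (Finite.one_lt_card_iff_nontrivial.2 ‹_›).ne' hk
  obtain ⟨z₀, hz₀⟩ := exists_prime_orderOf_dvd_card' (G := Subgroup.center Q) p
    (hk ▸ dvd_pow_self p hk0)
  rw [← Subgroup.orderOf_coe] at hz₀
  have key : ∀ (l : List (MulAut Q)), (∀ a ∈ l, a ∈ K) →
      ∃ W : Subgroup Q, W ≠ ⊥ ∧ W ≤ Subgroup.center Q ∧ (∀ w ∈ W, w ^ p = 1) ∧
        (∀ a ∈ K, ∀ w ∈ W, a w ∈ W) ∧ ∀ a ∈ l, ∃ n : ℕ, ∀ w ∈ W, a w = w ^ n := by
    intro l
    induction l with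
    | nil =>
      intro _
      let W : Subgroup Q :=
        { carrier := {w | w ∈ Subgroup.center Q ∧ w ^ p = 1}
          one_mem' := ⟨one_mem _, one_pow p⟩
          mul_mem' := fun {a b} ha hb => ⟨mul_mem ha.1 hb.1, by
            rw [(show Commute a b from (Subgroup.mem_center_iff.1 hb.1 a)).mul_pow, ha.2, hb.2,
              one_mul]⟩
          inv_mem' := fun {a} ha => ⟨inv_mem ha.1, by rw [inv_pow, ha.2, inv_one]⟩ }
      refine ⟨W, fun h => ?_, fun w hw => hw.1, fun w hw => hw.2, fun a _ w hw => ⟨?_, ?_⟩,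
        fun a ha => absurd ha List.not_mem_nil⟩
      · have : (z₀ : Q) ∈ W := ⟨z₀.2, hz₀ ▸ pow_orderOf_eq_one _⟩
        rw [h, Subgroup.mem_bot] at this
        rw [this, orderOf_one] at hz₀
        exact (Fact.out : p.Prime).ne_one hz₀.symm
      · rw [Subgroup.mem_center_iff]
        intro g
        rw [← MulAut.apply_inv_self Q a g, ← map_mul, ← map_mul]
        exact congrArg a (Subgroup.mem_center_iff.1 hw.1 _)
      · rw [← map_pow, hw.2, map_one]
    | cons f l ih =>
      intro hl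
      have hfK := hl f List.mem_cons_self
      obtain ⟨W, hW, hWc, hWp, hWK, hWl⟩ := ih fun a ha => hl a (List.mem_cons_of_mem _ ha)
      let _ : CommGroup W :=
        { (inferInstance : Group W) with
          mul_comm := fun a b => Subtype.ext (Subgroup.mem_center_iff.1 (hWc b.2) a) }
      have : Nontrivial W := (Subgroup.nontrivial_iff_ne_bot W).2 hW
      let fW : MulAut W :=
        { toFun := fun x => ⟨f x, hWK f hfK x x.2⟩
          invFun := fun x => ⟨f⁻¹ x, hWK _ (inv_mem hfK) x x.2⟩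
          left_inv := fun x => Subtype.ext (by simp)
          right_inv := fun x => Subtype.ext (by simp)
          map_mul' := fun x y => Subtype.ext (map_mul _ _ _) }
      have hpow : ∀ (k : ℕ) (x : W), (((fW ^ k) x : W) : Q) = (f ^ k) x := by
        intro k
        induction k with
        | zero => intro x; rfl
        | succ k ihk =>
          intro x
          rw [pow_succ', pow_succ', MulAut.mul_apply, MulAut.mul_apply]
          exact congrArg f (ihk x)
      obtain ⟨n, v, hv, hfv⟩ := exists_eigen_of_pow_pred (p := p) (fun w : W => Subtype.ext (hWp w w.2)) fW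
        (MulEquiv.ext fun x => Subtype.ext (by rw [hpow, hexp f hfK]; rfl))
      let E : Subgroup Q :=
        { carrier := {w | w ∈ W ∧ f w = w ^ n}
          one_mem' := ⟨one_mem _, by simp⟩
          mul_mem' := fun {a b} ha hb => ⟨mul_mem ha.1 hb.1, by
            rw [map_mul, ha.2, hb.2,
              (show Commute a b from (Subgroup.mem_center_iff.1 (hWc hb.1) a)).mul_pow]⟩
          inv_mem' := fun {a} ha => ⟨inv_mem ha.1, by rw [map_inv, ha.2, inv_pow]⟩ }
      refine ⟨E, fun h => ?_, fun w hw => hWc hw.1, fun w hw => hWp w hw.1,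
        fun a ha w hw => ⟨hWK a ha w hw.1, ?_⟩, fun a ha => ?_⟩
      · have hmem : (v : Q) ∈ E := ⟨v.2, congrArg Subtype.val hfv⟩
        rw [h, Subgroup.mem_bot] at hmem
        exact hv (Subtype.ext hmem)
      · rw [← MulAut.mul_apply, hK f hfK a ha, MulAut.mul_apply, hw.2, map_pow]
      · rcases List.mem_cons.1 ha with rfl | ha
        · exact ⟨n, fun w hw => hw.2⟩
        · obtain ⟨m, hm⟩ := hWl a ha
          exact ⟨m, fun w hw => hm w hw.1⟩
  have : Fintype (MulAut Q) := Fintype.ofFinite _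
  obtain ⟨W, hW, hWc, hWp, -, hWl⟩ :=
    key (Finset.univ.filter (· ∈ K)).toList (fun a ha => by simpa using ha)
  obtain ⟨z, hz, hz1⟩ := (Subgroup.bot_or_exists_ne_one W).resolve_left hW
  refine ⟨z, hWc hz, orderOf_eq_prime (hWp z hz) hz1, fun a ha => ?_⟩
  obtain ⟨n, hn⟩ := hWl a (by simpa using ha)
  exact hn z hz ▸ Subgroup.npow_mem_zpowers z n

/-- Subgroups invariant under `Aut_F(S)` are strongly closed when `S` is normal. -/
theorem stronglyClosed_of_normal_top {F : FusionSystem S} (hn : F.IsNormal S) {C : Subgroup Ω}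
    (hC : C ≤ S) (hinv : ∀ α ∈ F.autGroup S, ∀ x : S, (x : Ω) ∈ C → ((α x : S) : Ω) ∈ C)
    [Finite S] : F.StronglyClosed C := by
  refine ⟨hC, fun P hPC φ hφ x => ?_⟩
  have hPS := le_S F hφ
  have hx : (x : Ω) ∈ C := hPC x.2
  obtain ⟨ψ, hψ, hψe, -⟩ := hn.2 P φ hφ
  let f : S →* S :=
    (ψ.comp (Subgroup.inclusion (le_sup_right : S ≤ P ⊔ S))).codRestrict S
      fun y => apply_mem_S F hψ _
  have hf : Function.Injective f := fun a b h =>
    Subgroup.inclusion_injective _ (F.injective_of_mem hψ (congrArg Subtype.val h))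
  let α : MulAut S := MulEquiv.ofBijective f (Finite.injective_iff_bijective.1 hf)
  have hα : α ∈ F.autGroup S := (mem_autGroup_iff F le_rfl).2 (res_mem F hψ le_sup_right)
  have h1 := hinv α hα ⟨x, hPS x.2⟩ hx
  rw [← hψe]
  exact h1

/-- If `S` is normal, with `Aut_F(S) = Inn(S) H` and `H` abelian of exponent dividing `p - 1`, the
system is supersoluble. -/
theorem cyclicChain_of_isNormal [Fact p.Prime] [Finite S] (hS : IsPGroup p S)
    {F : FusionSystem S} (hn : F.IsNormal S) (H : Subgroup (MulAut S))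
    (hA : ∀ α ∈ F.autGroup S, ∃ s : S, ∃ h ∈ H, α = MulAut.conj s * h)
    (hcomm : ∀ a ∈ H, ∀ b ∈ H, a * b = b * a) (hexp : ∀ a ∈ H, a ^ (p - 1) = 1) :
    HasCyclicChain F := by
  classical
  let Inv : Subgroup S → Prop := fun N => N.Normal ∧ ∀ h ∈ H, ∀ x ∈ N, h x ∈ N
  have hsc : ∀ N, Inv N → F.StronglyClosed (N.map S.subtype) := by
    rintro N ⟨hN, hNH⟩
    refine stronglyClosed_of_normal_top hn (Subgroup.map_subtype_le _) fun α hα x hx => ?_
    obtain ⟨y, hy, hyx⟩ := hx
    obtain rfl : y = x := Subtype.ext hyx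
    obtain ⟨s, h, hh, rfl⟩ := hA α hα
    exact ⟨_, hN.conj_mem _ (hNH h hh y hy) s, rfl⟩
  suffices ∀ d : ℕ, ∀ N : Subgroup S, Inv N → N.index = d →
      ∃ (m : ℕ) (c : Fin (m + 1) → Subgroup S), c 0 = N ∧ c (Fin.last m) = ⊤ ∧
        (∀ i, Inv (c i)) ∧ ∀ i : Fin m, c i.castSucc ≤ c i.succ ∧
          ∃ x, c i.succ = c i.castSucc ⊔ Subgroup.zpowers x by
    obtain ⟨m, c, h0, hl, hi, hstep⟩ := this _ ⊥
      ⟨inferInstance, fun h _ x hx => by rw [Subgroup.mem_bot] at hx ⊢; rw [hx, map_one]⟩ rfl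
    refine ⟨m, fun i => (c i).map S.subtype, ?_, ?_, fun i => hsc _ (hi i), fun i => ?_⟩
    · change (c 0).map S.subtype = ⊥
      rw [h0, Subgroup.map_bot]
    · change (c _).map S.subtype = S
      rw [hl, ← MonoidHom.range_eq_map, Subgroup.range_subtype]
    · obtain ⟨hle, x, hx⟩ := hstep i
      refine ⟨Subgroup.map_mono hle, x, x.2, ?_⟩
      change (c i.succ).map S.subtype = _
      rw [hx, Subgroup.map_sup, MonoidHom.map_zpowers]
      rfl
  intro d
  induction d using Nat.strong_induction_on with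
  | _ d ih =>
    intro N hN hd
    by_cases htop : N = ⊤
    · exact ⟨0, fun _ => N, rfl, htop, fun _ => hN, fun i => i.elim0⟩
    obtain ⟨hNn, hNH⟩ := hN
    have : Nontrivial (↥S ⧸ N) := QuotientGroup.nontrivial_iff.2 htop
    have hmap : ∀ h : H, N.map (h : MulAut S).toMonoidHom = N := fun h => by
      refine le_antisymm ?_ fun y hy => ?_
      · rintro _ ⟨x, hx, rfl⟩
        exact hNH h h.2 x hx
      · exact ⟨(h : MulAut S).symm y, hNH _ (inv_mem h.2) y hy,
          (h : MulAut S).apply_symm_apply y⟩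
    let π : H →* MulAut (↥S ⧸ N) :=
      { toFun := fun h => QuotientGroup.congr N N (h : MulAut S) (hmap h)
        map_one' := MulEquiv.ext fun q => by
          obtain ⟨x, rfl⟩ := QuotientGroup.mk_surjective q
          rfl
        map_mul' := fun a b => MulEquiv.ext fun q => by
          obtain ⟨x, rfl⟩ := QuotientGroup.mk_surjective q
          rfl }
    obtain ⟨z, hz, hzo, hzK⟩ := exists_invariant_line (hS.to_quotient N) π.range
      (by rintro _ ⟨a, rfl⟩ _ ⟨b, rfl⟩
          rw [← map_mul, ← map_mul]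
          exact congrArg π (Subtype.ext (hcomm a a.2 b b.2)))
      (by rintro _ ⟨a, rfl⟩
          rw [← map_pow, ← map_one π]
          exact congrArg π (Subtype.ext (hexp a a.2)))
    obtain ⟨x, rfl⟩ := QuotientGroup.mk_surjective z
    let M := (Subgroup.zpowers (QuotientGroup.mk x : ↥S ⧸ N)).comap (QuotientGroup.mk' N)
    have hNM : N ≤ M := fun y hy => by
      rw [Subgroup.mem_comap, QuotientGroup.mk'_apply, (QuotientGroup.eq_one_iff y).2 hy]
      exact one_mem _
    have hM : Inv M := by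
      refine ⟨⟨fun y hy g => ?_⟩, fun h hh y hy => ?_⟩
      · rw [Subgroup.mem_comap] at hy ⊢
        have hyc : QuotientGroup.mk' N y ∈ Subgroup.center _ := Subgroup.zpowers_le.2 hz hy
        rw [map_mul, map_mul, map_inv, Subgroup.mem_center_iff.1 hyc, mul_inv_cancel_right]
        exact hy
      · obtain ⟨k, hk⟩ := hy
        change (π ⟨h, hh⟩) (QuotientGroup.mk' N y) ∈ Subgroup.zpowers (QuotientGroup.mk' N x)
        rw [show QuotientGroup.mk' N y = QuotientGroup.mk' N x ^ k from hk.symm, map_zpow]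
        exact zpow_mem (hzK _ ⟨_, rfl⟩) k
    have hMeq : M = N ⊔ Subgroup.zpowers x := by
      refine le_antisymm (fun y hy => ?_) (sup_le hNM (Subgroup.zpowers_le.2 (Subgroup.mem_zpowers _)))
      obtain ⟨k, hk⟩ := hy
      have h1 : (x ^ k)⁻¹ * y ∈ N := QuotientGroup.eq.1 (by rw [QuotientGroup.mk_zpow]; exact hk)
      have h2 := mul_mem (Subgroup.mem_sup_right (Subgroup.zpow_mem_zpowers x k) :
        x ^ k ∈ N ⊔ Subgroup.zpowers x) (Subgroup.mem_sup_left h1)
      rwa [mul_inv_cancel_left] at h2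
    have hlt : M.index < d := by
      rw [← hd, ← Subgroup.relIndex_mul_index hNM]
      refine lt_mul_of_one_lt_left (Nat.pos_of_ne_zero Subgroup.index_ne_zero_of_finite) ?_
      have h1 : N.relIndex M = p := by
        conv_lhs => rw [← QuotientGroup.ker_mk' N]
        rw [← MonoidHom.comap_bot, Subgroup.relIndex_comap,
          Subgroup.map_comap_eq_self_of_surjective (QuotientGroup.mk'_surjective _),
          Subgroup.relIndex_bot_left, Nat.card_zpowers, hzo]
      rw [h1]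
      exact (Fact.out : p.Prime).one_lt
    obtain ⟨m, c, h0, hl, hi, hstep⟩ := ih _ hlt M hM rfl
    refine ⟨m + 1, Fin.cons N c, rfl, by rw [← Fin.succ_last]; exact hl,
      fun i => Fin.cases ⟨hNn, hNH⟩ hi i, fun i => Fin.cases ?_ (fun j => ?_) i⟩
    · refine ⟨?_, x, ?_⟩
      · exact hNM.trans h0.ge
      · exact (h0.trans hMeq)
    · rw [Fin.cons_succ, ← Fin.succ_castSucc, Fin.cons_succ]
      exact hstep j

/-- A complement to `Inn(S)` in `Aut_F(S)`. -/
theorem exists_coprime_complement [Fact p.Prime] [Finite S] (hS : IsPGroup p S)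
    {F : FusionSystem S} (hF : F.IsSaturated p) :
    ∃ H : Subgroup (MulAut S), (Nat.card H).Coprime p ∧
      ∀ α ∈ F.autGroup S, ∃ s : S, ∃ h ∈ H, α = MulAut.conj s * h := by
  have hfa := (fullyAutomized_receptive_of_fullyNormalized hS hF isFullyNormalized_self).1
  let A := F.autGroup S
  obtain ⟨-, R, hR⟩ :
      S ≤ S ∧ ∃ R : Sylow p A, (R : Subgroup A) = (autInducedBy S S).subgroupOf A := hfa
  have hmem : ∀ β : A, β ∈ (R : Subgroup A) → ∃ s : S, (β : MulAut S) = MulAut.conj s := by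
    intro β hβ
    rw [hR, Subgroup.mem_subgroupOf, mem_autInducedBy_iff] at hβ
    obtain ⟨g, hg, hge⟩ := hβ
    exact ⟨⟨g, hg⟩, MulEquiv.ext fun x => Subtype.ext (hge x)⟩
  have : (R : Subgroup A).Normal := by
    refine ⟨fun β hβ g => ?_⟩
    obtain ⟨s, hs⟩ := hmem β hβ
    rw [hR, Subgroup.mem_subgroupOf, mem_autInducedBy_iff]
    refine ⟨((g : MulAut S) s : S), ((g : MulAut S) s).2, fun x => ?_⟩
    have h1 : ((g * β * g⁻¹ : A) : MulAut S) x = (g : MulAut S) s * x * ((g : MulAut S) s)⁻¹ := by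
      simp [hs]
    rw [h1]
    rfl
  obtain ⟨k, hk⟩ := R.2.exists_card_eq
  have hidx : ¬ p ∣ (R : Subgroup A).index := R.not_dvd_index
  have hcop : Nat.Coprime (Nat.card (R : Subgroup A)) (R : Subgroup A).index := by
    rw [hk]
    exact ((Fact.out : p.Prime).coprime_iff_not_dvd.2 hidx).pow_left k
  obtain ⟨K, hK⟩ := Subgroup.exists_right_complement'_of_coprime hcop
  refine ⟨K.map A.subtype, ?_, fun α hα => ?_⟩
  · rw [Subgroup.card_map_of_injective A.subtype_injective, ← hK.symm.index_eq_card]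
    exact ((Fact.out : p.Prime).coprime_iff_not_dvd.2 hidx).symm
  · obtain ⟨⟨r, k⟩, hrk, -⟩ := Subgroup.isComplement_iff_existsUnique.1 hK ⟨α, hα⟩
    obtain ⟨s, hs⟩ := hmem r r.2
    exact ⟨s, (k : A), ⟨_, k.2, rfl⟩, (congrArg Subtype.val hrk).symm.trans (by rw [← hs]; rfl)⟩

/-- The criterion for a `p`-group to be of supersoluble type. -/
theorem supersoluble_iff [Fact p.Prime] [Finite S] (hS : IsPGroup p S) :
    (∀ F : FusionSystem S, F.IsSaturated p → HasCyclicChain F) ↔
      (∀ F : FusionSystem S, F.IsSaturated p → F.IsNormal S) ∧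
        ∀ H : Subgroup (MulAut S), (Nat.card H).Coprime p →
          IsMulCommutative H ∧ ∀ h ∈ H, h ^ (p - 1) = 1 := by
  refine ⟨fun h => ⟨fun F hF => isNormal_of_cyclicChain hS hF (h F hF), fun H hH => ?_⟩,
    fun h F hF => ?_⟩
  · obtain ⟨F, hF, hHF, -⟩ := exists_saturated_of_coprime_aut hS H hH
    exact aut_coprime_of_cyclicChain hS (h F hF) H hH hHF
  · obtain ⟨H, hH, hA⟩ := exists_coprime_complement hS hF
    obtain ⟨hc, he⟩ := h.2 H hH
    refine cyclicChain_of_isNormal hS (h.1 F hF) H hA (fun a ha b hb => ?_) he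
    exact congrArg Subtype.val (hc.is_comm.comm ⟨a, ha⟩ ⟨b, hb⟩)

end CfsgLib.Fusion
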