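import Cfsg.Prelude.Def_FusionComponents
import Cfsg.Agent.Lib.Fusion.Extender
import Cfsg.Agent.Lib.Fusion.GroupSystem

/-!
# Transport of a fusion system along an injective map
-/

set_option autoImplicit false

open Cfsg Cfsg.FusionSystem

namespace CfsgLib.Fusion

variable {Ω Ω' : Type*} [Group Ω] [Group Ω'] {S : Subgroup Ω} {S' : Subgroup Ω'}

theorem apply_mem_imageAlong {ι : S →* Ω'} {P : Subgroup Ω} {x : S} (hx : (x : Ω) ∈ P) :
    ι x ∈ imageAlong ι P :=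
  ⟨x, hx, rfl⟩

theorem imageAlong_mono {ι : S →* Ω'} {P Q : Subgroup Ω} (h : P ≤ Q) :
    imageAlong ι P ≤ imageAlong ι Q :=
  Subgroup.map_mono (Subgroup.comap_mono h)

/-- The isomorphism `P ≃* ι(P)`. -/
noncomputable def imageEquiv {ι : S →* Ω'} (hι : Function.Injective ι) {P : Subgroup Ω}
    (hP : P ≤ S) : P ≃* imageAlong ι P :=
  (Subgroup.subgroupOfEquivOfLe hP).symm.trans (Subgroup.equivMapOfInjective _ ι hι)

@[simp] theorem coe_imageEquiv {ι : S →* Ω'} (hι : Function.Injective ι) {P : Subgroup Ω}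
    (hP : P ≤ S) (x : P) : (imageEquiv hι hP x : Ω') = ι ⟨x, hP x.2⟩ := rfl

/-- An isomorphism of fusion systems given by an isomorphism of the underlying groups: the maps
correspond under `ι`. -/
structure Transported (F : FusionSystem S) (E : FusionSystem S') (ι : S →* Ω') : Prop where
  inj : Function.Injective ι
  range_eq : ι.range = S'
  hom_iff : ∀ (P : Subgroup Ω) (hP : P ≤ S) (φ : P →* Ω) (hφ : ∀ x, φ x ∈ S),
    φ ∈ F.Hom P ↔ ∃ ψ ∈ E.Hom (imageAlong ι P),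
      ∀ x : P, ψ ⟨ι ⟨x, hP x.2⟩, apply_mem_imageAlong x.2⟩ = ι ⟨φ x, hφ x⟩

variable {F : FusionSystem S} {E : FusionSystem S'} {ι : S →* Ω'}

theorem Transported.pull (h : Transported F E ι) {P : Subgroup Ω} (hP : P ≤ S)
    {ψ : imageAlong ι P →* Ω'} (hψ : ψ ∈ E.Hom (imageAlong ι P)) :
    ∃ φ ∈ F.Hom P, ∃ hφ : ∀ x, φ x ∈ S,
      ∀ x : P, ι ⟨φ x, hφ x⟩ = ψ ⟨ι ⟨x, hP x.2⟩, apply_mem_imageAlong x.2⟩ := by
  let f : P →* Ω' := ψ.comp (imageEquiv h.inj hP).toMonoidHom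
  have hf : ∀ x, f x ∈ ι.range := fun x => h.range_eq.ge (apply_mem_S E hψ _)
  let φ : P →* Ω := (S.subtype.comp (MonoidHom.ofInjective h.inj).symm.toMonoidHom).comp
    (f.codRestrict ι.range hf)
  have hφS : ∀ x, φ x ∈ S := fun x => ((MonoidHom.ofInjective h.inj).symm _).2
  have he : ∀ x, ι ⟨φ x, hφS x⟩ = f x := fun x =>
    congrArg Subtype.val ((MonoidHom.ofInjective h.inj).apply_symm_apply _)
  exact ⟨φ, (h.hom_iff P hP φ hφS).2 ⟨ψ, hψ, fun x => (he x).symm⟩, hφS, he⟩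

theorem Transported.imageAlong_le (h : Transported F E ι) (P : Subgroup Ω) :
    imageAlong ι P ≤ S' :=
  h.range_eq ▸ Subgroup.map_le_range _ _

/-- The transported automorphism group. -/
theorem Transported.autGroup_map (h : Transported F E ι) {P : Subgroup Ω} (hP : P ≤ S) :
    (F.autGroup P).map (MulAut.congr (imageEquiv h.inj hP)).toMonoidHom =
      E.autGroup (imageAlong ι P) := by
  have key : ∀ α : MulAut P, α ∈ F.autGroup P ↔
      MulAut.congr (imageEquiv h.inj hP) α ∈ E.autGroup (imageAlong ι P) := by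
    intro α
    rw [mem_autGroup_iff F hP, mem_autGroup_iff E (h.imageAlong_le P)]
    constructor
    · intro hα
      obtain ⟨ψ, hψ, hψe⟩ := (h.hom_iff P hP _ fun x => hP (α x).2).1 hα
      refine mem_of_eq rfl hψ fun y => ?_
      obtain ⟨x, rfl⟩ := (imageEquiv h.inj hP).surjective y
      change ((imageEquiv h.inj hP (α ((imageEquiv h.inj hP).symm (imageEquiv h.inj hP x))) :
        imageAlong ι P) : Ω') = _
      rw [MulEquiv.symm_apply_apply]
      exact (hψe x).symm.trans (congrArg ψ (Subtype.ext rfl))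
    · intro hα
      refine (h.hom_iff P hP _ fun x => hP (α x).2).2 ⟨_, hα, fun x => ?_⟩
      change ((imageEquiv h.inj hP (α ((imageEquiv h.inj hP).symm (imageEquiv h.inj hP x))) :
        imageAlong ι P) : Ω') = _
      rw [MulEquiv.symm_apply_apply]
      rfl
  ext β
  constructor
  · rintro ⟨α, hα, rfl⟩
    exact (key α).1 hα
  · intro hβ
    refine ⟨(MulAut.congr (imageEquiv h.inj hP)).symm β, (key _).2 ?_,
      (MulAut.congr (imageEquiv h.inj hP)).apply_symm_apply β⟩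
    rwa [MulEquiv.apply_symm_apply]

theorem Transported.autInducedBy_map (h : Transported F E ι) {P : Subgroup Ω} (hP : P ≤ S) :
    (autInducedBy S P).map (MulAut.congr (imageEquiv h.inj hP)).toMonoidHom =
      autInducedBy S' (imageAlong ι P) := by
  have key : ∀ (s : S) (α : MulAut P), (∀ x : P, ((α x : P) : Ω) = s * x * (s : Ω)⁻¹) ↔
      ∀ y, ((MulAut.congr (imageEquiv h.inj hP) α y : imageAlong ι P) : Ω') =
        ι s * y * (ι s)⁻¹ := by
    intro s α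
    have hc : ∀ x : P, ((MulAut.congr (imageEquiv h.inj hP) α (imageEquiv h.inj hP x) :
        imageAlong ι P) : Ω') = ι ⟨α x, hP (α x).2⟩ := by
      intro x
      change ((imageEquiv h.inj hP (α ((imageEquiv h.inj hP).symm (imageEquiv h.inj hP x))) :
        imageAlong ι P) : Ω') = _
      rw [MulEquiv.symm_apply_apply]
      rfl
    constructor
    · intro ha y
      obtain ⟨x, rfl⟩ := (imageEquiv h.inj hP).surjective y
      rw [hc, coe_imageEquiv, show (⟨(α x : Ω), hP (α x).2⟩ : S) = s * ⟨x, hP x.2⟩ * s⁻¹ from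
        Subtype.ext (ha x), map_mul, map_mul, map_inv]
    · intro ha x
      have h1 := ha (imageEquiv h.inj hP x)
      rw [hc, coe_imageEquiv, ← map_inv, ← map_mul, ← map_mul] at h1
      exact congrArg Subtype.val (h.inj h1)
  ext β
  rw [mem_autInducedBy_iff]
  constructor
  · rintro ⟨α, hα, rfl⟩
    obtain ⟨s, hs, hse⟩ := mem_autInducedBy_iff.1 hα
    exact ⟨ι ⟨s, hs⟩, h.range_eq.le ⟨_, rfl⟩, (key ⟨s, hs⟩ α).1 hse⟩
  · rintro ⟨t, ht, hte⟩
    obtain ⟨s, rfl⟩ := h.range_eq.ge ht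
    refine ⟨(MulAut.congr (imageEquiv h.inj hP)).symm β, mem_autInducedBy_iff.2
      ⟨s, s.2, (key s _).2 ?_⟩, (MulAut.congr (imageEquiv h.inj hP)).apply_symm_apply β⟩
    intro y
    rw [MulEquiv.apply_symm_apply]
    exact hte y

/-- Saturation can be transported. -/
theorem Transported.isSaturated [Finite S] [Finite S'] {p : ℕ} [Fact p.Prime] (hS : IsPGroup p S)
    (h : Transported F E ι) (hE : E.IsSaturated p) : F.IsSaturated p := by
  have hS' : IsPGroup p S' :=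
    hS.of_surjective (ι.codRestrict S' fun x => h.range_eq.le ⟨x, rfl⟩) fun y => by
      obtain ⟨x, hx⟩ := h.range_eq.ge y.2
      exact ⟨x, Subtype.ext hx⟩
  intro P hP
  obtain ⟨Q', ⟨ψ, hψ, hψr⟩, ha, hr⟩ := hE _ (h.imageAlong_le P)
  obtain ⟨φ, hφ, hφS, hφe⟩ := h.pull hP hψ
  have hQS : φ.range ≤ S := range_le_S F hφ
  have hQ : imageAlong ι φ.range = Q' := by
    rw [← hψr]
    ext y
    constructor
    · rintro ⟨q, ⟨x, hx⟩, rfl⟩
      refine ⟨⟨ι ⟨x, hP x.2⟩, apply_mem_imageAlong x.2⟩, ?_⟩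
      rw [← hφe]
      exact congrArg ι (Subtype.ext hx)
    · rintro ⟨⟨_, ⟨z, hz, rfl⟩⟩, rfl⟩
      exact ⟨⟨φ ⟨z, hz⟩, hφS _⟩, ⟨_, rfl⟩, hφe ⟨z, hz⟩⟩
  subst hQ
  refine ⟨φ.range, ⟨φ, hφ, rfl⟩, ?_, ?_⟩
  · rw [isFullyAutomized_iff hS]
    refine ⟨hQS, ?_⟩
    have h1 := ((isFullyAutomized_iff hS').1 ha).2
    rwa [← h.autGroup_map hQS, ← h.autInducedBy_map hQS, Subgroup.relIndex_map_map_of_injective _ _
      (MulAut.congr (imageEquiv h.inj hQS)).injective] at h1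
  refine ⟨hQS, fun R χ hχ hχr => ?_⟩
  have hR : R ≤ S := le_S F hχ
  have hχS := apply_mem_S F hχ
  obtain ⟨χ', hχ', hχe⟩ := (h.hom_iff R hR χ hχS).1 hχ
  have hr' : χ'.range = imageAlong ι φ.range := by
    ext y
    constructor
    · rintro ⟨⟨_, ⟨z, hz, rfl⟩⟩, rfl⟩
      exact ⟨⟨χ ⟨z, hz⟩, hχS _⟩, hχr.le ⟨_, rfl⟩, (hχe ⟨z, hz⟩).symm⟩
    · rintro ⟨q, hq, rfl⟩
      obtain ⟨x, hx⟩ := hχr.ge hq
      refine ⟨⟨ι ⟨x, hR x.2⟩, apply_mem_imageAlong x.2⟩, ?_⟩
      rw [hχe]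
      exact congrArg ι (Subtype.ext hx)
  obtain ⟨θ', hθ', hθe⟩ := hr.2 _ χ' hχ' hr'
  have hN : extender S R χ ≤ S := (extender_le_normalizerIn R χ).trans (normalizerIn_le R)
  have hN' : imageAlong ι (extender S R χ) ≤ extender S' (imageAlong ι R) χ' := by
    rintro _ ⟨g, hg, rfl⟩
    obtain ⟨-, hgn, k, hk, hke⟩ := mem_extender_iff.1 hg
    have : Finite (imageAlong ι R) := finite_of_le (h.imageAlong_le R)
    have hgn' : ι g ∈ Subgroup.normalizer (imageAlong ι R : Set Ω') := by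
      refine mem_normalizer_of_forall ?_
      rintro _ ⟨z, hz, rfl⟩
      rw [← map_inv, ← map_mul, ← map_mul]
      exact apply_mem_imageAlong (conj_mem_of_mem_normalizer hgn hz)
    refine mem_extender_iff.2 ⟨h.range_eq.le ⟨g, rfl⟩, hgn', ι ⟨k, hk⟩,
      h.range_eq.le ⟨_, rfl⟩, ?_⟩
    rintro ⟨_, ⟨z, hz, rfl⟩⟩
    have h1 : normAut (ι g) hgn' ⟨ι z, apply_mem_imageAlong hz⟩ =
        ⟨ι ⟨_, hR (normAut (g : Ω) hgn ⟨z, hz⟩).2⟩,
          apply_mem_imageAlong (normAut (g : Ω) hgn ⟨z, hz⟩).2⟩ := by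
      refine Subtype.ext ?_
      rw [normAut_apply]
      change ι g * ι z * (ι g)⁻¹ = ι _
      rw [← map_inv, ← map_mul, ← map_mul]
      exact congrArg ι (Subtype.ext rfl)
    refine (congrArg χ' h1).trans ?_
    rw [hχe, show χ' ⟨ι z, _⟩ = ι ⟨χ ⟨z, hz⟩, hχS _⟩ from hχe ⟨z, hz⟩,
      ← map_inv, ← map_mul, ← map_mul]
    exact congrArg ι (Subtype.ext (hke ⟨z, hz⟩))
  obtain ⟨θ, hθ, hθS, hθf⟩ := h.pull hN (res_mem E hθ' hN')
  refine ⟨θ, hθ, fun x hxR hxN => ?_⟩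
  have h1 := hθf ⟨x, hxN⟩
  have h2 := hθe (ι ⟨x, hR hxR⟩) (apply_mem_imageAlong hxR) (hN' (apply_mem_imageAlong hxN))
  have h3 : ι ⟨θ ⟨x, hxN⟩, hθS _⟩ = ι ⟨χ ⟨x, hxR⟩, hχS _⟩ :=
    h1.trans (h2.trans (hχe ⟨x, hxR⟩))
  exact congrArg Subtype.val (h.inj h3)

/-- A realization is an isomorphism with the fusion system of the group. -/
theorem transported_of_isRealizedBy {G : Type*} [Group G] {ι : S →* G} (h : F.IsRealizedBy ι) :
    Transported F (groupFusionSystem ι.range) ι := by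
  refine ⟨h.1, rfl, fun P hP φ hφ => ⟨fun hφF => ?_, ?_⟩⟩
  · obtain ⟨g, hg⟩ := (h.2 P hP φ hφ).1 hφF
    refine ⟨conjHom _ g, ⟨Subgroup.map_le_range _ _, ?_, g, fun y => rfl⟩, fun x => (hg x).symm⟩
    rintro ⟨_, ⟨z, hz, rfl⟩⟩
    exact ⟨_, hg ⟨z, hz⟩⟩
  · rintro ⟨ψ, ⟨-, -, g, hg⟩, hψ⟩
    exact (h.2 P hP φ hφ).2 ⟨g, fun x => (hψ x).symm.trans (hg _)⟩

/-- A system realized on a Sylow subgroup is saturated. -/
theorem isSaturated_of_isRealizedBy {G : Type*} [Group G] [Finite G] [Finite S] {p : ℕ}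
    [Fact p.Prime] (hS : IsPGroup p S) {ι : S →* G} (h : F.IsRealizedBy ι) (T : Sylow p G)
    (hT : (T : Subgroup G) = ι.range) : F.IsSaturated p := by
  refine (transported_of_isRealizedBy h).isSaturated hS ?_
  rw [← hT]
  exact isSaturated_groupFusion (p := p) (S := T)

end CfsgLib.Fusion
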