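import Mathlib
import Cfsg.Agent.Lib.Fusion.Supersoluble
import Cfsg.Agent.Lib.Fusion.Transport
import Cfsg.Agent.Lib.Classical.SL2Quat
import Cfsg.Agent.Lib.Invol.GLTwoSylow
import Cfsg.Agent.Lib.Invol.QDW.Semidihedral
import Cfsg.Agent.S0071
import Cfsg.Agent.S1447

/-!
# Metacyclic groups of supersoluble type

If a finite group without normal 2-complement has a Sylow 2-subgroup isomorphic to `S`, then `S` is
not of supersoluble type; the dihedral, quasi-dihedral and generalized quaternion groups occur as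
such Sylow subgroups.
-/

set_option autoImplicit false
set_option linter.style.haveILetI false
set_option linter.unusedSectionVars false

open Cfsg Cfsg.FusionSystem Matrix

noncomputable section

namespace CfsgLib.Fusion.MetaSS

/-- A supersoluble type forces a normal 2-complement. -/
theorem complement_of_type {Ω : Type*} [Group Ω] {S : Subgroup Ω} [Finite S] (hS : IsPGroup 2 S)
    (hss : ∀ F : FusionSystem S, F.IsSaturated 2 → HasCyclicChain F) {G : Type*} [Group G] [Finite G]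
    (T : Sylow 2 G) (e : ↥S ≃* ↥(T : Subgroup G)) : Cfsg.HasNormalPComplement 2 G := by
  haveI : Fact (Nat.Prime 2) := ⟨Nat.prime_two⟩
  obtain ⟨hres, haut⟩ := (supersoluble_iff hS).1 hss
  set ι : ↥S →* G := (T : Subgroup G).subtype.comp e.toMonoidHom with hι
  have hinj : Function.Injective ι := Subtype.val_injective.comp e.injective
  have hrange : (T : Subgroup G) = ι.range := by
    rw [hι, MonoidHom.range_comp, MonoidHom.range_eq_top.2 e.surjective, ← MonoidHom.range_eq_map,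
      Subgroup.range_subtype]
  have hreal := isRealizedBy_realizedSys ι hinj
  set F := realizedSys ι hinj with hF
  have hnorm := hres F (isSaturated_of_isRealizedBy hS hreal T hrange)
  have hodd : ∀ α : MulAut ↥S, ∀ o : ℕ, Odd o → α ^ o = 1 → α = 1 := by
    intro α o ho hα
    have h := (haut (Subgroup.zpowers α) (by
      rw [Nat.card_zpowers]
      exact (Nat.coprime_two_right).2 (ho.of_dvd_nat (orderOf_dvd_of_pow_eq_one hα)))).2 α
      (Subgroup.mem_zpowers α)
    simpa using h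
  obtain ⟨N, hN, hc⟩ := (Cfsg.Agent.S0071.result T).2 fun Q hQ g hg hcop => by
    set P : Subgroup Ω := (Q.comap ι).map S.subtype with hP
    have hPS : P ≤ S := Subgroup.map_subtype_le _
    have hmemQ : ∀ x : ↥P, ι ⟨x, hPS x.2⟩ ∈ Q := by
      rintro ⟨_, y, hy, rfl⟩
      exact hy
    have hconj : ∀ x ∈ Q, g * x * g⁻¹ ∈ Q := fun x hx => (Subgroup.mem_normalizer_iff.1 hg x).1 hx
    have hin : ∀ x : ↥P, g * ι ⟨x, hPS x.2⟩ * g⁻¹ ∈ ι.range := fun x =>
      hrange.le (hQ (hconj _ (hmemQ x)))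
    choose φ₀ hφ₀ using hin
    let φ : ↥P →* Ω :=
      { toFun := fun x => (φ₀ x : Ω)
        map_one' := by
          have h : φ₀ 1 = 1 := hinj (by
            rw [hφ₀, map_one, show (⟨((1 : ↥P) : Ω), hPS (1 : ↥P).2⟩ : ↥S) = 1 from rfl, map_one,
              mul_one, mul_inv_cancel])
          rw [h]; rfl
        map_mul' := fun a b => by
          have h : φ₀ (a * b) = φ₀ a * φ₀ b := hinj (by
            rw [map_mul, hφ₀, hφ₀, hφ₀, show (⟨((a * b : ↥P) : Ω), hPS (a * b).2⟩ : ↥S) =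
              ⟨a, hPS a.2⟩ * ⟨b, hPS b.2⟩ from rfl, map_mul]
            group)
          rw [h]; rfl }
    have hφS : ∀ x, φ x ∈ S := fun x => (φ₀ x).2
    have hφF : φ ∈ F.Hom P := (hreal.2 P hPS φ hφS).2 ⟨g, fun x => hφ₀ x⟩
    obtain ⟨ψ, hψ, hψφ, -⟩ := hnorm.2 P φ hφF
    let f : ↥S →* ↥S :=
      (ψ.comp (Subgroup.inclusion (le_sup_right : S ≤ P ⊔ S))).codRestrict S
        fun y => apply_mem_S F hψ _
    have hf : Function.Injective f := fun a b h =>
      Subgroup.inclusion_injective _ (F.injective_of_mem hψ (congrArg Subtype.val h))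
    let α : MulAut ↥S := MulEquiv.ofBijective f (Finite.injective_iff_bijective.1 hf)
    have hα : ∀ x : ↥P, ι (α ⟨x, hPS x.2⟩) = g * ι ⟨x, hPS x.2⟩ * g⁻¹ := by
      intro x
      rw [← hφ₀ x]
      refine congrArg ι (Subtype.ext ?_)
      exact hψφ x
    obtain ⟨k, o, ho, hko⟩ := Nat.exists_eq_two_pow_mul_odd (n := orderOf α) (orderOf_pos α).ne'
    have hk : α ^ 2 ^ k = 1 := hodd _ o ho (by rw [← pow_mul, ← hko, pow_orderOf_eq_one])
    have hiter : ∀ (j : ℕ) (x : ↥P), ∃ y : ↥P, (α ^ j) ⟨x, hPS x.2⟩ = ⟨y, hPS y.2⟩ ∧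
        ι ((α ^ j) ⟨x, hPS x.2⟩) = g ^ j * ι ⟨x, hPS x.2⟩ * (g ^ j)⁻¹ := by
      intro j
      induction j with
      | zero => intro x; exact ⟨x, rfl, by simp⟩
      | succ j ih =>
        intro x
        obtain ⟨y, hy, hye⟩ := ih x
        rw [pow_succ' α, MulAut.mul_apply, hy]
        refine ⟨⟨(α ⟨y, hPS y.2⟩ : ↥S), ⟨α ⟨y, hPS y.2⟩, ?_, rfl⟩⟩, rfl, ?_⟩
        · show ι _ ∈ Q
          rw [hα]
          exact hconj _ (hmemQ y)
        · rw [hy] at hye
          rw [hα, hye, pow_succ']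
          group
    have hC : g ^ 2 ^ k ∈ Subgroup.centralizer (Q : Set G) := by
      refine Subgroup.mem_centralizer_iff.2 fun z hz => ?_
      obtain ⟨s, rfl⟩ : z ∈ ι.range := hrange.le (hQ hz)
      obtain ⟨-, -, h⟩ := hiter (2 ^ k) ⟨s, s, hz, rfl⟩
      rw [hk, MulAut.one_apply] at h
      exact eq_mul_inv_iff_mul_eq.1 h
    obtain ⟨m, hm⟩ := exists_pow_eq_self_of_coprime (Nat.Coprime.pow_left k hcop.symm)
    exact hm ▸ pow_mem hC m
  exact ⟨T, N, hN, hc⟩

/-- A group with an element of even order in every kernel has no complement. -/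
theorem no_complement {G : Type*} [Group G] [Finite G] {w : G} (hw : 2 ∣ orderOf w)
    (h : ∀ N : Subgroup G, N.Normal → (∀ t : G, ∀ n : ℕ, Odd n → t ^ n = 1 → t ∈ N) → w ∈ N) :
    ¬ Cfsg.HasNormalPComplement 2 G := by
  haveI : Fact (Nat.Prime 2) := ⟨Nat.prime_two⟩
  rintro ⟨P, N, hN, hc⟩
  haveI := hN
  have hidx : N.index = Nat.card (P : Subgroup G) := hc.symm.index_eq_card
  obtain ⟨k, hk⟩ := IsPGroup.iff_card.1 P.2
  have hmem : w ∈ N := h N hN fun t n hn ht => by
    rw [← QuotientGroup.eq_one_iff, ← orderOf_eq_one_iff]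
    refine Nat.eq_one_of_dvd_coprimes (Nat.Coprime.pow_right k (Nat.coprime_two_right.2 hn)) ?_ ?_
    · exact orderOf_dvd_of_pow_eq_one (by rw [← QuotientGroup.mk_pow, ht]; rfl)
    · rw [← hk, ← hidx, Subgroup.index_eq_card]
      exact orderOf_dvd_natCard _
  have hd : 2 ∣ Nat.card N := hw.trans (Subgroup.orderOf_dvd_natCard _ hmem)
  exact P.not_dvd_index (hc.index_eq_card ▸ hd)

variable {F : Type*} [Field F] [Fintype F]

/-- The upper transvection. -/
def upT : SpecialLinearGroup (Fin 2) F := ⟨!![1, 1; 0, 1], by simp [Matrix.det_fin_two]⟩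

/-- The lower transvection. -/
def loT : SpecialLinearGroup (Fin 2) F := ⟨!![1, 0; -1, 1], by simp [Matrix.det_fin_two]⟩

/-- The product of transvections of order four. -/
def wT : SpecialLinearGroup (Fin 2) F := upT * loT * upT

theorem sl_mul (a b : SpecialLinearGroup (Fin 2) F) : (a * b).1 = a.1 * b.1 := rfl

theorem sl_one : (1 : SpecialLinearGroup (Fin 2) F).1 = 1 := rfl

theorem transvection_pow {p : ℕ} [CharP F p] :
    (upT : SpecialLinearGroup (Fin 2) F) ^ p = 1 ∧ (loT : SpecialLinearGroup (Fin 2) F) ^ p = 1 := by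
  have h1 : ∀ n : ℕ, ((upT : SpecialLinearGroup (Fin 2) F) ^ n).1 = !![1, (n : F); 0, 1] := by
    intro n
    induction n with
    | zero => simp [Matrix.one_fin_two, sl_one]
    | succ n ih => rw [pow_succ, sl_mul, ih]; simp [upT, add_comm]
  have h2 : ∀ n : ℕ, ((loT : SpecialLinearGroup (Fin 2) F) ^ n).1 = !![1, 0; -(n : F), 1] := by
    intro n
    induction n with
    | zero => simp [Matrix.one_fin_two, sl_one]
    | succ n ih => rw [pow_succ, sl_mul, ih]; simp [loT]; ring
  exact ⟨Subtype.ext (by rw [h1, CharP.cast_eq_zero]; simp [Matrix.one_fin_two]),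
    Subtype.ext (by rw [h2, CharP.cast_eq_zero]; simp [Matrix.one_fin_two])⟩

theorem wT_sq : ((wT : SpecialLinearGroup (Fin 2) F) * wT).1 = !![-1, 0; 0, -1] := by
  rw [sl_mul, wT, sl_mul, sl_mul]
  simp [upT, loT]

theorem orderOf_wT (h2 : (2 : F) ≠ 0) : orderOf (wT : SpecialLinearGroup (Fin 2) F) = 4 := by
  haveI : Fact (Nat.Prime 2) := ⟨Nat.prime_two⟩
  refine orderOf_eq_prime_pow (p := 2) (n := 1) ?_ ?_
  · intro h
    have h' := congrArg Subtype.val h
    rw [pow_one, pow_two, wT_sq, sl_one] at h'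
    have := congrFun (congrFun h' 0) 0
    simp at this
    exact h2 (by linear_combination -this)
  · rw [show (2 : ℕ) ^ (1 + 1) = 2 + 2 from rfl, pow_add, pow_two]
    exact Subtype.ext (by rw [sl_mul, wT_sq]; simp [Matrix.one_fin_two])

theorem wT_mem {p : ℕ} [CharP F p] (hp : Odd p) {G : Type*} [Group G] (π : SpecialLinearGroup (Fin 2) F →* G)
    (N : Subgroup G) (h : ∀ t : G, ∀ n : ℕ, Odd n → t ^ n = 1 → t ∈ N) : π wT ∈ N := by
  rw [wT, map_mul, map_mul]
  refine mul_mem (mul_mem ?_ ?_) ?_ <;> refine h _ p hp ?_ <;> rw [← map_pow]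
  · rw [(transvection_pow (p := p)).1, map_one]
  · rw [(transvection_pow (p := p)).2, map_one]
  · rw [(transvection_pow (p := p)).1, map_one]

/-- A prime in a class of odd residues modulo a power of two. -/
theorem exists_prime_mod (k a : ℕ) (ha : Odd a) (hk : a < 2 ^ k) :
    ∃ p : ℕ, p.Prime ∧ 2 < p ∧ p % 2 ^ k = a := by
  haveI : NeZero (2 ^ k) := ⟨pow_ne_zero _ two_ne_zero⟩
  have hu : IsUnit ((a : ℕ) : ZMod (2 ^ k)) := by
    rw [ZMod.isUnit_iff_coprime]
    exact Nat.Coprime.pow_right k (Nat.coprime_two_right.2 ha)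
  obtain ⟨p, hp2, hp, he⟩ := Nat.forall_exists_prime_gt_and_eq_mod hu 2
  refine ⟨p, hp, hp2, ?_⟩
  have := congrArg ZMod.val he
  rwa [ZMod.val_natCast, ZMod.val_natCast, Nat.mod_eq_of_lt hk] at this

theorem card_split {G : Type*} [Group G] [Finite G] (P : Sylow 2 G) {e o : ℕ} (ho : Odd o)
    (hG : Nat.card G = 2 ^ e * o) : Nat.card (P : Subgroup G) = 2 ^ e :=
  CfsgLib.Invol.GLTwo.card_sylow_of_split P ho hG

omit F in
/-- Generalized quaternion groups as Sylow subgroups of `SL(2, p)`. -/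
theorem exists_sl_two (k : ℕ) (hk : 1 ≤ k) :
    ∃ (p : ℕ) (_ : Fact p.Prime) (P : Sylow 2 (SpecialLinearGroup (Fin 2) (ZMod p))), p ≠ 2 ∧
      Nonempty ((P : Subgroup (SpecialLinearGroup (Fin 2) (ZMod p))) ≃* QuaternionGroup (2 ^ k)) := by
  obtain ⟨p, hp, hp2, hmod⟩ := exists_prime_mod (k + 2) (2 ^ (k + 1) + 1)
    ((Nat.even_pow.2 ⟨even_two, by omega⟩).add_odd odd_one) (by
      have : 2 ^ 1 ≤ 2 ^ (k + 1) := Nat.pow_le_pow_right (by norm_num) (by omega)
      rw [pow_succ 2 (k + 1)]; omega)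
  haveI : Fact p.Prime := ⟨hp⟩
  have hodd : Odd p := hp.odd_of_ne_two (by omega)
  have h2 : (2 : ZMod p) ≠ 0 := CfsgLib.Classical.two_ne_zero_of_odd_card (by rw [ZMod.card]; exact hodd)
  refine ⟨p, ⟨hp⟩, default, by omega, ?_⟩
  set P : Sylow 2 (SpecialLinearGroup (Fin 2) (ZMod p)) := default
  obtain ⟨j, -, ⟨e⟩⟩ := CfsgLib.Classical.SL2Q.sylow_two_quaternion h2 P
  obtain ⟨d, hd⟩ : ∃ d, p = 2 ^ (k + 2) * d + (2 ^ (k + 1) + 1) := ⟨p / 2 ^ (k + 2), by
    conv_lhs => rw [← Nat.div_add_mod p (2 ^ (k + 2)), hmod]⟩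
  have hcard : Nat.card (SpecialLinearGroup (Fin 2) (ZMod p)) =
      2 ^ (k + 2) * (p * ((2 * d + 1) * (2 ^ k * (2 * d + 1) + 1))) := by
    rw [CfsgLib.Classical.card_SL_two (ZMod.card p)]
    have e1 : p - 1 = 2 ^ (k + 1) * (2 * d + 1) := by rw [hd, pow_succ 2 (k + 1)]; ring_nf; omega
    have e2 : p + 1 = 2 * (2 ^ k * (2 * d + 1) + 1) := by
      rw [hd, pow_succ 2 (k + 1), pow_succ 2 k]; ring
    rw [e1, e2, pow_succ 2 (k + 1)]
    ring
  have hP := card_split P ((hodd.mul ((odd_two_mul_add_one d).mul ((Nat.even_mul.2 (Or.inl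
    (Nat.even_pow.2 ⟨even_two, by omega⟩))).add_odd odd_one)))) hcard
  haveI : NeZero (2 ^ j) := ⟨pow_ne_zero _ two_ne_zero⟩
  rw [Nat.card_congr e.toEquiv, Nat.card_eq_fintype_card, QuaternionGroup.card,
    show (4 : ℕ) = 2 ^ 2 by norm_num, ← pow_add] at hP
  have hj : j = k := by have := Nat.pow_right_injective le_rfl hP; omega
  subst hj
  exact ⟨e⟩

omit F in
/-- The generalized quaternion case. -/
theorem quaternion_case (k : ℕ) (hk : 1 ≤ k) : ∃ (G : Type) (_ : Group G) (_ : Finite G) (T : Sylow 2 G),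
    Nonempty (QuaternionGroup (2 ^ k) ≃* ↥(T : Subgroup G)) ∧ ¬ Cfsg.HasNormalPComplement 2 G := by
  obtain ⟨p, hpF, P, hp2, ⟨e⟩⟩ := exists_sl_two k hk
  haveI := hpF
  have hodd : Odd p := hpF.out.odd_of_ne_two hp2
  have h2 : (2 : ZMod p) ≠ 0 := CfsgLib.Classical.two_ne_zero_of_odd_card (by rw [ZMod.card]; exact hodd)
  exact ⟨_, inferInstance, inferInstance, P, ⟨e.symm⟩, no_complement (w := wT)
    (by rw [orderOf_wT h2]; norm_num) fun N _ h => wT_mem (p := p) hodd (MonoidHom.id _) N h⟩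

omit F in
/-- The dihedral case. -/
theorem dihedral_case (k : ℕ) (hk : 1 ≤ k) : ∃ (G : Type) (_ : Group G) (_ : Finite G) (T : Sylow 2 G),
    Nonempty (DihedralGroup (2 ^ k) ≃* ↥(T : Subgroup G)) ∧ ¬ Cfsg.HasNormalPComplement 2 G := by
  classical
  obtain ⟨p, hpF, P, hp2, ⟨e⟩⟩ := exists_sl_two k hk
  haveI := hpF
  haveI : Fact (Nat.Prime 2) := ⟨Nat.prime_two⟩
  haveI : NeZero (2 ^ k) := ⟨pow_ne_zero _ two_ne_zero⟩
  have hodd : Odd p := hpF.out.odd_of_ne_two hp2
  have h2 : (2 : ZMod p) ≠ 0 := CfsgLib.Classical.two_ne_zero_of_odd_card (by rw [ZMod.card]; exact hodd)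
  set n := 2 ^ k with hn
  let c : ZMod (2 * n) →+* ZMod n := ZMod.castHom (Dvd.intro_left 2 rfl) (ZMod n)
  have hcn : c (n : ZMod (2 * n)) = 0 := by rw [map_natCast, ZMod.natCast_self]
  let toD : QuaternionGroup n → DihedralGroup n := fun q => match q with
    | .a i => .r (c i)
    | .xa i => .sr (c i)
  let ψ : QuaternionGroup n →* DihedralGroup n :=
    { toFun := toD
      map_one' := by
        show toD (.a 0) = .r 0
        show DihedralGroup.r (c 0) = _
        rw [map_zero]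
      map_mul' := by
        rintro (i | i) (j | j) <;>
          simp [toD, QuaternionGroup.a_mul_a, QuaternionGroup.a_mul_xa, QuaternionGroup.xa_mul_a,
            QuaternionGroup.xa_mul_xa, hcn] }
  have hψ : Function.Surjective ψ := by
    rintro (i | i)
    · obtain ⟨j, hj⟩ := ZMod.castHom_surjective (Dvd.intro_left 2 rfl) i
      exact ⟨.a j, congrArg DihedralGroup.r hj⟩
    · obtain ⟨j, hj⟩ := ZMod.castHom_surjective (Dvd.intro_left 2 rfl) i
      exact ⟨.xa j, congrArg DihedralGroup.sr hj⟩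
  have hne : (n : ZMod (2 * n)) ≠ 0 := by
    rw [Ne, ZMod.natCast_eq_zero_iff]
    intro h
    have := Nat.le_of_dvd (Nat.two_pow_pos k) h
    have := Nat.two_pow_pos k
    omega
  have hker : ψ.ker = Subgroup.zpowers (QuaternionGroup.a (n : ZMod (2 * n))) := by
    symm
    refine Subgroup.eq_of_le_of_card_ge (Subgroup.zpowers_le.2 (by
      rw [MonoidHom.mem_ker]; show DihedralGroup.r (c _) = _; rw [hcn]; rfl)) ?_
    have h := ψ.ker.card_mul_index
    rw [Subgroup.index_ker, MonoidHom.range_eq_top.2 hψ, Subgroup.card_top, DihedralGroup.nat_card,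
      Nat.card_eq_fintype_card (α := QuaternionGroup n), QuaternionGroup.card,
      show 4 * n = 2 * (2 * n) by ring] at h
    have hk2 := Nat.eq_of_mul_eq_mul_right (by positivity) h
    rw [hk2, Nat.card_zpowers]
    refine le_of_eq (orderOf_eq_prime ?_ fun h1 => hne ?_).symm
    · rw [pow_two, QuaternionGroup.a_mul_a, QuaternionGroup.one_def, ← two_mul,
        show (2 : ZMod (2 * n)) * (n : ZMod (2 * n)) = ((2 * n : ℕ) : ZMod (2 * n)) by push_cast; rfl,
        ZMod.natCast_self]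
    · rw [QuaternionGroup.one_def] at h1
      injection h1
  set Z := Subgroup.center (SpecialLinearGroup (Fin 2) (ZMod p))
  set π := QuotientGroup.mk' Z
  let θ : QuaternionGroup n →* SpecialLinearGroup (Fin 2) (ZMod p) ⧸ Z :=
    π.comp ((P : Subgroup (SpecialLinearGroup (Fin 2) (ZMod p))).subtype.comp e.symm.toMonoidHom)
  have hθker : θ.ker = ψ.ker := by
    rw [hker]
    have hval : ∀ q : QuaternionGroup n, q ∈ θ.ker ↔
        ((e.symm q : _) : SpecialLinearGroup (Fin 2) (ZMod p)) ∈ Z := fun q => QuotientGroup.eq_one_iff _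
    set z : QuaternionGroup n := QuaternionGroup.a (n : ZMod (2 * n)) with hz
    have hz2 : z * z = 1 := by
      rw [hz, QuaternionGroup.a_mul_a, QuaternionGroup.one_def, ← two_mul,
        show (2 : ZMod (2 * n)) * (n : ZMod (2 * n)) = ((2 * n : ℕ) : ZMod (2 * n)) by push_cast; rfl,
        ZMod.natCast_self]
    have hz1 : z ≠ 1 := fun h => hne (by
      rw [hz, QuaternionGroup.one_def] at h; injection h)
    have hzv : ((e.symm z : _) : SpecialLinearGroup (Fin 2) (ZMod p)) = CfsgLib.Fusion.PSL2.negOne := by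
      refine (CfsgLib.Classical.SL2Q.eq_of_mul_self h2 ?_).resolve_left fun h => hz1 ?_
      · rw [← Subgroup.coe_mul, ← map_mul, hz2, map_one]; rfl
      · exact e.symm.injective ((Subtype.ext h).trans (map_one _).symm)
    refine le_antisymm (fun q hq => ?_) (Subgroup.zpowers_le.2 ?_)
    · rcases CfsgLib.Fusion.PSL2.mem_center_iff'.1 ((hval q).1 hq) with h | h
      · rw [show q = 1 from e.symm.injective ((Subtype.ext h).trans (map_one _).symm)]
        exact one_mem _
      · rw [show q = z from e.symm.injective (Subtype.ext (h.trans hzv.symm))]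
        exact Subgroup.mem_zpowers z
    · rw [hval, hzv]
      exact CfsgLib.Fusion.PSL2.mem_center_iff'.2 (Or.inr rfl)
  have hrange : θ.range = ((P.mapSurjective (QuotientGroup.mk'_surjective Z) : Sylow 2 _) :
      Subgroup (SpecialLinearGroup (Fin 2) (ZMod p) ⧸ Z)) := by
    rw [Sylow.coe_mapSurjective]
    ext x
    constructor
    · rintro ⟨q, rfl⟩
      exact Subgroup.mem_map_of_mem _ (e.symm q).2
    · rintro ⟨y, hy, rfl⟩
      exact ⟨e ⟨y, hy⟩, show π ((e.symm (e ⟨y, hy⟩) : _) : SpecialLinearGroup (Fin 2) (ZMod p)) = _ by rw [e.symm_apply_apply]⟩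
  refine ⟨_, inferInstance, inferInstance, P.mapSurjective (QuotientGroup.mk'_surjective Z),
    ⟨(QuotientGroup.quotientKerEquivOfSurjective ψ hψ).symm.trans
      ((QuotientGroup.quotientMulEquivOfEq hθker.symm).trans
        ((QuotientGroup.quotientKerEquivRange θ).trans (MulEquiv.subgroupCongr hrange)))⟩,
    no_complement (w := π wT) ?_ fun N _ h => wT_mem (p := p) hodd π N h⟩
  haveI : Fact (Nat.Prime 2) := ⟨Nat.prime_two⟩
  have hw2 : (wT : SpecialLinearGroup (Fin 2) (ZMod p)) * wT ∈ Z :=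
    CfsgLib.Fusion.PSL2.mem_center_iff'.2 (Or.inr (Subtype.ext wT_sq))
  rw [show orderOf (π wT) = 2 from orderOf_eq_prime (by rw [pow_two, ← map_mul]; exact (QuotientGroup.eq_one_iff _).2 hw2)
    fun h => ?_]
  rcases CfsgLib.Fusion.PSL2.mem_center_iff'.1 ((QuotientGroup.eq_one_iff _).1 h) with h | h
  · have h' := orderOf_wT (F := ZMod p) h2
    rw [h, orderOf_one] at h'
    omega
  · have h' : (upT.1 * loT.1 * upT.1 : Matrix (Fin 2) (Fin 2) (ZMod p)) 0 0 = _ :=
      congrArg (fun m : SpecialLinearGroup (Fin 2) (ZMod p) => m.1 0 0) h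
    simp [upT, loT, CfsgLib.Fusion.PSL2.negOne] at h'

omit F in
/-- The quasi-dihedral case. -/
theorem quasi_case {D : Type*} [Group D] [Finite D] (hD : Cfsg.IsQuasiDihedral D) :
    ∃ (G : Type) (_ : Group G) (_ : Finite G) (T : Sylow 2 G),
      Nonempty (D ≃* ↥(T : Subgroup G)) ∧ ¬ Cfsg.HasNormalPComplement 2 G := by
  obtain ⟨k, -, ⟨e⟩⟩ := CfsgLib.Invol.QDW.exists_equiv_sd hD
  obtain ⟨p, hp, hp2, hmod⟩ := exists_prime_mod (k + 3) (2 ^ (k + 2) - 1)
    (Nat.Even.sub_odd Nat.one_le_two_pow (Nat.even_pow.2 ⟨even_two, by omega⟩) odd_one) (by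
      rw [pow_succ 2 (k + 2)]
      have := Nat.two_pow_pos (k + 2)
      omega)
  haveI : Fact p.Prime := ⟨hp⟩
  have hodd : Odd p := hp.odd_of_ne_two (by omega)
  obtain ⟨d, hd⟩ : ∃ d, p + 1 = 2 ^ (k + 2) * (2 * d + 1) := ⟨p / 2 ^ (k + 3), by
    have h := Nat.div_add_mod p (2 ^ (k + 3))
    rw [hmod, pow_succ 2 (k + 2)] at h
    have h1 := Nat.one_le_two_pow (n := k + 2)
    rw [pow_succ 2 (k + 2)]
    generalize p / (2 ^ (k + 2) * 2) = d at h ⊢
    have e1 : 2 ^ (k + 2) * (2 * d + 1) = 2 ^ (k + 2) * 2 * d + 2 ^ (k + 2) := by ring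
    omega⟩
  have h4 : p % 4 = 3 := by
    have e4 : 2 ^ (k + 2) = 4 * 2 ^ k := by rw [pow_add]; ring
    rw [e4] at hd
    have : p + 1 = 4 * (2 ^ k * (2 * d + 1)) := by rw [hd]; ring
    omega
  obtain ⟨o, hq1, ho⟩ : ∃ o, p - 1 = 2 * o ∧ Odd o :=
    ⟨(p - 1) / 2, by omega, Nat.odd_iff.2 (by omega)⟩
  set P : Sylow 2 (GL (Fin 2) (ZMod p)) := default
  have hQ : Cfsg.IsQuasiDihedral (P : Subgroup (GL (Fin 2) (ZMod p))) :=
    CfsgLib.Invol.GLTwo.gl_quasiDihedral P (by rw [ZMod.card]; exact h4)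
  obtain ⟨k', hk', ⟨e'⟩⟩ := CfsgLib.Invol.QDW.exists_equiv_sd hQ
  have hcard : Nat.card (GL (Fin 2) (ZMod p)) = 2 ^ (k + 4) * (p * (o * o * (2 * d + 1))) := by
    rw [CfsgLib.Classical.card_GL_two (ZMod.card p), hq1, hd,
      pow_succ 2 (k + 3), pow_succ 2 (k + 2)]
    ring
  rw [card_split P (hodd.mul ((ho.mul ho).mul (odd_two_mul_add_one d))) hcard] at hk'
  have hkk : k' = k := by have := Nat.pow_right_injective le_rfl hk'; omega
  subst hkk
  refine ⟨_, inferInstance, inferInstance, P, ⟨e.trans e'.symm⟩,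
    no_complement (w := Matrix.SpecialLinearGroup.toGL wT) ?_ fun N _ h => wT_mem (p := p) hodd _ N h⟩
  have h2 : (2 : ZMod p) ≠ 0 := CfsgLib.Classical.two_ne_zero_of_odd_card (by rw [ZMod.card]; exact hodd)
  rw [orderOf_injective Matrix.SpecialLinearGroup.toGL (fun a b hab => Subtype.ext (congrArg Units.val hab)),
    orderOf_wT h2]
  norm_num

/-- Coprime automorphisms of a nonabelian metacyclic group of odd order. -/
theorem aut_nonabelian {S : Type*} [Group S] [Finite S] {p : ℕ} [Fact p.Prime] (hp : p ≠ 2)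
    (hS : IsPGroup p S) (hm : Cfsg.IsMetacyclic S) (hab : ¬ IsMulCommutative S) (H : Subgroup (MulAut S))
    (hH : (Nat.card H).Coprime p) : IsMulCommutative H ∧ ∀ h ∈ H, h ^ (p - 1) = 1 := by
  classical
  let Γ := S ⋊[H.subtype] H
  haveI : Finite Γ := Finite.of_equiv _ SemidirectProduct.equivProd.symm
  set R : Subgroup Γ := (SemidirectProduct.inl : S →* Γ).range
  set A : Subgroup Γ := (SemidirectProduct.inr : H →* Γ).range
  let eR : S ≃* R := MonoidHom.ofInjective SemidirectProduct.inl_injective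
  have hRp : IsPGroup p R := hS.of_equiv eR
  have hRm : Cfsg.IsMetacyclic R := by
    obtain ⟨N, hN, hc, hq⟩ := hm
    refine ⟨N.map eR.toMonoidHom, hN.map _ eR.surjective, ?_, ?_⟩
    · exact isCyclic_of_surjective (N.equivMapOfInjective eR.toMonoidHom eR.injective)
        (MulEquiv.surjective _)
    · haveI := hN.map eR.toMonoidHom eR.surjective
      exact isCyclic_of_surjective (QuotientGroup.congr N (N.map eR.toMonoidHom) eR rfl) (MulEquiv.surjective _)
  have hA : A ≤ Subgroup.normalizer (R : Set Γ) := by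
    haveI : R.Normal := by rw [show R = _ from SemidirectProduct.range_inl_eq_ker_rightHom]; infer_instance
    rw [Subgroup.normalizer_eq_top]; exact le_top
  have hcop : (Nat.card A).Coprime p := by
    rwa [← Nat.card_congr (MonoidHom.ofInjective (f := (SemidirectProduct.inr : H →* Γ))
      SemidirectProduct.inr_injective).toEquiv]
  have hRab : ¬ IsMulCommutative R := fun h => hab ⟨⟨fun a b => eR.injective (by
    rw [map_mul, map_mul]; exact h.is_comm.comm _ _)⟩⟩
  obtain ⟨-, hsup, -, hrest⟩ := Cfsg.Agent.S1447.result p hp R A hRp hRm hA hcop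
  by_cases hAC : A ≤ Subgroup.centralizer (R : Set Γ)
  · have hbot : ∀ h ∈ H, h = 1 := fun h hh => MulEquiv.ext fun s => by
      have h1 := Subgroup.mem_centralizer_iff.1 (hAC ⟨⟨h, hh⟩, rfl⟩) (SemidirectProduct.inl s) ⟨s, rfl⟩
      have h2 := SemidirectProduct.inl_aut (φ := H.subtype) ⟨h, hh⟩ s
      rw [← h1, map_inv, mul_inv_cancel_right] at h2
      exact SemidirectProduct.inl_injective h2
    refine ⟨⟨⟨fun a b => Subtype.ext ?_⟩⟩, fun h hh => by rw [hbot h hh, one_pow]⟩
    simp [hbot a a.2, hbot b b.2]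
  obtain ⟨-, hcyc, -⟩ := hrest hRab hAC
  set C : Subgroup S := (⁅R, A⁆ : Subgroup Γ).comap SemidirectProduct.inl with hC
  haveI : IsCyclic C := by
    haveI := hcyc
    exact isCyclic_of_injective ((SemidirectProduct.inl.comp C.subtype).codRestrict ⁅R, A⁆ fun x => x.2)
      fun a b h => Subtype.ext (SemidirectProduct.inl_injective (congrArg Subtype.val h))
  have hinv : ∀ (h : H) (x : S), x ∈ C → (h : MulAut S) x ∈ C := by
    intro h x hx
    show SemidirectProduct.inl ((h : MulAut S) x) ∈ ⁅R, A⁆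
    rw [show SemidirectProduct.inl ((h : MulAut S) x) = _ from SemidirectProduct.inl_aut (φ := H.subtype) h x, map_inv]
    have hR' : R.map (MulAut.conj (SemidirectProduct.inr h : Γ)).toMonoidHom = R := by
      haveI : R.Normal := by rw [show R = _ from SemidirectProduct.range_inl_eq_ker_rightHom]; infer_instance
      exact Subgroup.Normal.map_conj_eq R _
    have hA' : A.map (MulAut.conj (SemidirectProduct.inr h : Γ)).toMonoidHom = A := by
      refine Subgroup.eq_of_le_of_card_ge ?_ (by rw [Subgroup.card_map_of_injective (MulEquiv.injective _)])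
      rintro _ ⟨_, ⟨a, rfl⟩, rfl⟩
      exact ⟨h * a * h⁻¹, by simp⟩
    have hx' : (SemidirectProduct.inl x : Γ) ∈ ⁅R, A⁆ := hx
    have := Subgroup.mem_map_of_mem (MulAut.conj (SemidirectProduct.inr h : Γ)).toMonoidHom hx'
    rw [Subgroup.map_commutator, hR', hA'] at this
    exact this
  have hinv' : ∀ (h : H) (x : S), x ∈ C ↔ (h : MulAut S) x ∈ C := fun h x =>
    ⟨hinv h x, fun hx => by simpa using hinv h⁻¹ _ hx⟩
  let res : H →* MulAut C :=
    { toFun := fun h =>
        { toFun := fun x => ⟨(h : MulAut S) x, hinv h x x.2⟩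
          invFun := fun x => ⟨(h : MulAut S).symm x, hinv h⁻¹ x x.2⟩
          left_inv := fun x => Subtype.ext ((h : MulAut S).symm_apply_apply x)
          right_inv := fun x => Subtype.ext ((h : MulAut S).apply_symm_apply x)
          map_mul' := fun a b => Subtype.ext (map_mul (h : MulAut S) (a : S) (b : S)) }
      map_one' := rfl
      map_mul' := fun a b => rfl }
  have hres : Function.Injective res := by
    rw [injective_iff_map_eq_one]
    intro h hh
    refine Subtype.ext (MulEquiv.ext fun s => SemidirectProduct.inl_injective (φ := H.subtype) ?_)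
    have hgen : R ≤ Subgroup.centralizer ({SemidirectProduct.inr h} : Set Γ) := by
      rw [← hsup]
      refine sup_le (fun y hy => ?_) fun y hy => ?_
      · obtain ⟨x, rfl⟩ : y ∈ R := (hsup ▸ Subgroup.mem_sup_left hy :)
        rw [Subgroup.mem_centralizer_singleton_iff]
        have hx : (h : MulAut S) x = x := congrArg Subtype.val (MulEquiv.ext_iff.1 hh ⟨x, hy⟩)
        have h2 := SemidirectProduct.inl_aut (φ := H.subtype) h x
        rw [show (H.subtype h) x = x from hx, map_inv] at h2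
        exact eq_mul_inv_iff_mul_eq.1 h2
      · rw [Subgroup.mem_centralizer_singleton_iff]
        exact (Subgroup.mem_centralizer_iff.1 hy.2 _ ⟨h, rfl⟩).symm
    have h2 := SemidirectProduct.inl_aut (φ := H.subtype) h s
    rw [show SemidirectProduct.inl ((h : MulAut S) s) = _ from h2, map_inv,
      ← Subgroup.mem_centralizer_singleton_iff.1 (hgen ⟨s, rfl⟩), mul_inv_cancel_right]
    rfl
  have hcommC : ∀ a b : MulAut C, a * b = b * a := fun a b => by
    refine MulEquiv.ext fun x => ?_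
    obtain ⟨g, hg⟩ := IsCyclic.exists_generator (α := C)
    obtain ⟨i, hi⟩ := Subgroup.mem_zpowers_iff.1 (hg (a g))
    obtain ⟨j, hj⟩ := Subgroup.mem_zpowers_iff.1 (hg (b g))
    obtain ⟨l, rfl⟩ := Subgroup.mem_zpowers_iff.1 (hg x)
    simp only [MulAut.mul_apply, map_zpow, ← hi, ← hj, ← _root_.zpow_mul]
    congr 1
    ring
  refine ⟨⟨⟨fun a b => hres (by rw [map_mul, map_mul, hcommC])⟩⟩, fun h hh => ?_⟩
  have hdvd : orderOf (⟨h, hh⟩ : H) ∣ Nat.card (MulAut C) := by
    rw [← orderOf_injective res hres]; exact orderOf_dvd_natCard _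
  rw [IsCyclic.card_mulAut] at hdvd
  obtain ⟨m, hm'⟩ := IsPGroup.iff_card.1 (hS.to_subgroup C)
  rw [hm'] at hdvd
  have hd1 : orderOf (⟨h, hh⟩ : H) ∣ p - 1 := by
    rcases Nat.eq_zero_or_pos m with h0 | h0
    · rw [h0, pow_zero, Nat.totient_one] at hdvd
      exact hdvd.trans (one_dvd _)
    · rw [Nat.totient_prime_pow Fact.out h0] at hdvd
      exact (Nat.Coprime.pow_right _ (Nat.Coprime.coprime_dvd_left (orderOf_dvd_natCard _) hH)).dvd_of_dvd_mul_left hdvd
  have h1 := orderOf_dvd_iff_pow_eq_one.1 hd1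
  exact congrArg Subtype.val h1

end CfsgLib.Fusion.MetaSS
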