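import Cfsg.Agent.Lib.Fusion.NormalSubgroupSystem

/-!
# A minimal realization of a simple system is by a simple group
-/

set_option autoImplicit false

open Cfsg Cfsg.FusionSystem

namespace CfsgLib.Fusion

universe u

variable {Ω : Type*} [Group Ω] {S : Subgroup Ω} {F : FusionSystem S} {p : ℕ} [Fact p.Prime]

/-- If a simple system is realized by `G` with trivial `p'`-core and by no proper overgroup of
the Sylow subgroup, then `G` is simple. -/
theorem isSimpleGroup_of_minimal [Finite S] {G : Type*} [Group G] [Finite G] {ι : S →* G}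
    (hS : IsPGroup p S) (hF : F.IsSimple p) (hι : F.IsRealizedBy ι) (P₀ : Sylow p G)
    (hP₀ : (P₀ : Subgroup G) = ι.range) (hcore : pPrimeCore p G = ⊥)
    (hmin : ∀ H : Subgroup G, ι.range ≤ H → H ≠ ⊤ → ∃ (P : Subgroup Ω) (hP : P ≤ S)
      (φ : P →* Ω) (hφ : ∀ x, φ x ∈ S), φ ∈ F.Hom P ∧
        ¬ ∃ h ∈ H, ∀ x : P, ι ⟨φ x, hφ x⟩ = h * ι ⟨x, hP x.2⟩ * h⁻¹) :
    IsSimpleGroup G := by
  obtain ⟨-, hS1, hsimp⟩ := hF
  have : Nontrivial G := by
    obtain ⟨x, hx, hx1⟩ := S.bot_or_exists_ne_one.resolve_left hS1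
    refine ⟨⟨ι ⟨x, hx⟩, 1, fun h => hx1 ?_⟩⟩
    exact congrArg Subtype.val (hι.1 (h.trans ι.map_one.symm))
  refine ⟨fun N hN => ?_⟩
  have := hN
  have hE := isSubgroupSystem_subgroupSystem hι N
  rcases hsimp _ _ (hE.isNormalIn hS hι P₀ hP₀) with h | ⟨hT, hhom⟩
  · left
    rw [← le_bot_iff, ← hcore]
    refine le_sSup ⟨hN, ?_⟩
    have hbot : ι.range ⊓ N = ⊥ := by
      rw [eq_bot_iff]
      rintro _ ⟨⟨s, rfl⟩, hs⟩
      have h1 : (s : Ω) = 1 := Subgroup.mem_bot.1 (h ▸ (hE.mem_iff s.2).2 hs)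
      rw [show s = 1 from Subtype.ext h1, map_one]
      exact one_mem _
    have hi : ¬ p ∣ (ι.range ⊓ N).relIndex N :=
      not_dvd_relIndex_inf (hP₀ ▸ P₀.2) le_top
        (by rw [Subgroup.relIndex_top_right, ← hP₀]; exact P₀.not_dvd_index) le_top
        (fun x _ => by rw [Subgroup.normalizer_eq_top N]; trivial)
    rw [hbot, Subgroup.relIndex_bot_left] at hi
    exact ((Nat.Prime.coprime_iff_not_dvd Fact.out).2 hi).symm
  · right
    by_contra htop
    have hr : ι.range ≤ N := by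
      rintro _ ⟨s, rfl⟩
      exact (hE.mem_iff s.2).1 (hT.ge s.2)
    obtain ⟨P, hP, φ, hφ, hφF, hno⟩ := hmin N hr htop
    rw [← hhom] at hφF
    exact hno (((hE.2 P φ).1 hφF).2.2 hP hφ)

/-- A realizable simple system is realized by a simple group. -/
theorem exists_simple_realization {Ω : Type u} [Group Ω] {S : Subgroup Ω} [Finite S]
    {F : FusionSystem S} (hS : IsPGroup p S) (hF : F.IsSimple p) (hreal : F.IsRealizable p) :
    ∃ (G : Type u) (_ : Group G) (_ : Finite G) (_ : IsSimpleGroup G) (ι : ↥S →* G),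
      F.IsRealizedBy ι ∧ ∃ T : Sylow p G, (T : Subgroup G) = ι.range := by
  classical
  have hex : ∃ n, ∃ (G : Type u) (_ : Group G) (_ : Finite G) (ι : ↥S →* G),
      Nat.card G = n ∧ F.IsRealizedBy ι ∧ ∃ T : Sylow p G, (T : Subgroup G) = ι.range := by
    obtain ⟨G, hG, hfin, ι, hι, hT⟩ := hreal
    exact ⟨_, G, hG, hfin, ι, rfl, hι, hT⟩
  obtain ⟨G, hG, hfin, ι, hcard, hι, P₀, hP₀⟩ := Nat.find_spec hex
  have hmin : ∀ (H : Type u) (_ : Group H) (_ : Finite H) (θ : ↥S →* H), F.IsRealizedBy θ →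
      (∃ T : Sylow p H, (T : Subgroup H) = θ.range) → Nat.card G ≤ Nat.card H := by
    intro H _ _ θ h1 h2
    rw [hcard]
    exact Nat.find_min' hex ⟨H, inferInstance, inferInstance, θ, rfl, h1, h2⟩
  have hiS : IsPGroup p ι.range := hP₀ ▸ P₀.2
  refine ⟨G, hG, hfin, isSimpleGroup_of_minimal hS hF hι P₀ hP₀ ?_ ?_, ι, hι, P₀, hP₀⟩
  · -- the quotient by the `p'`-core realizes the system
    by_contra hO
    set O := pPrimeCore p G
    have hOn : O.Normal := inferInstance
    have hOc : (Nat.card O).Coprime p := Cores.coprime_card_pPrimeCore p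
    have hdisj : ∀ s : S, ι s ∈ O → s = 1 := by
      intro s hs
      obtain ⟨k, hk⟩ := hS s
      have h1 : orderOf (ι s) ∣ Nat.card O := Subgroup.orderOf_dvd_natCard O hs
      have h2 : orderOf (ι s) ∣ p ^ k :=
        orderOf_dvd_of_pow_eq_one (by rw [← map_pow, hk, map_one])
      have h3 := Nat.dvd_gcd h1 h2
      rw [Nat.Coprime.gcd_eq_one (hOc.pow_right k), Nat.dvd_one, orderOf_eq_one_iff] at h3
      exact hι.1 (h3.trans ι.map_one.symm)
    let θ : S →* G ⧸ O := (QuotientGroup.mk' O).comp ι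
    have hθ : Function.Injective θ := by
      rw [injective_iff_map_eq_one]
      exact fun s hs => hdisj s ((QuotientGroup.eq_one_iff _).1 hs)
    have hreal' : F.IsRealizedBy θ := by
      refine ⟨hθ, fun P hP φ hφ => ⟨fun h => ?_, ?_⟩⟩
      · obtain ⟨g, hg⟩ := (hι.2 P hP φ hφ).1 h
        refine ⟨QuotientGroup.mk' O g, fun x => ?_⟩
        change QuotientGroup.mk' O (ι _) = _ * QuotientGroup.mk' O (ι _) * _
        rw [hg, map_mul, map_mul, map_inv]
      · rintro ⟨g', hg'⟩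
        obtain ⟨g, rfl⟩ := QuotientGroup.mk'_surjective O g'
        have hU : ∀ x : P, g * ι ⟨x, hP x.2⟩ * g⁻¹ ∈ ι.range ⊔ O := by
          intro x
          have h1 : (ι ⟨φ x, hφ x⟩)⁻¹ * (g * ι ⟨x, hP x.2⟩ * g⁻¹) ∈ O := by
            rw [← QuotientGroup.eq_one_iff]
            change QuotientGroup.mk' O _ = 1
            rw [map_mul, map_inv, inv_mul_eq_one, map_mul, map_mul, map_inv]
            exact hg' x
          have h2 := Subgroup.mul_mem_sup (show ι ⟨φ x, hφ x⟩ ∈ ι.range from ⟨_, rfl⟩) h1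
          rwa [mul_inv_cancel_left] at h2
        obtain ⟨n, hn, hne⟩ := exists_conj_mem_of_le (p := p)
          (U := ((P.subgroupOf S).map ι).map (MulAut.conj g).toMonoidHom) (T := ι.range)
          (N := ι.range ⊔ O) (((hS.to_subgroup _).map ι).map _) hiS
          (by rintro _ ⟨_, ⟨z, hz, rfl⟩, rfl⟩; exact hU ⟨z, hz⟩) le_sup_left
          (fun h => P₀.not_dvd_index (by
            rw [hP₀, ← Subgroup.relIndex_mul_index (le_sup_left : ι.range ≤ ι.range ⊔ O)]
            exact dvd_mul_of_dvd_left h _))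
        obtain ⟨s, hs, o, ho, rfl⟩ := Subgroup.mem_sup_of_normal_right.1 hn
        refine (hι.2 P hP φ hφ).2 ⟨o * g, fun x => ?_⟩
        have h1 := hne (g * ι ⟨x, hP x.2⟩ * g⁻¹) ⟨_, ⟨⟨x, hP x.2⟩, x.2, rfl⟩, rfl⟩
        have h2 : o * g * ι ⟨x, hP x.2⟩ * (o * g)⁻¹ ∈ ι.range := by
          have h3 := Subgroup.mul_mem _ (Subgroup.mul_mem _ (Subgroup.inv_mem _ hs) h1) hs
          convert h3 using 1
          group
        obtain ⟨t, ht⟩ := h2
        have h4 : θ t = θ ⟨φ x, hφ x⟩ := by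
          rw [hg' x]
          change QuotientGroup.mk' O (ι t) = _
          rw [ht, map_mul, map_mul, map_inv, map_mul,
            show QuotientGroup.mk' O o = 1 from (QuotientGroup.eq_one_iff o).2 ho, one_mul]
          rfl
        rw [← hθ h4, ht]
    have hTq : ∃ T : Sylow p (G ⧸ O), (T : Subgroup (G ⧸ O)) = θ.range := by
      have hr : θ.range = ι.range.map (QuotientGroup.mk' O) := MonoidHom.range_comp _ _
      rw [hr]
      refine ⟨(hiS.map _).toSylow fun h => ?_, IsPGroup.toSylow_coe _ _⟩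
      exact P₀.not_dvd_index (hP₀ ▸ h.trans (Subgroup.index_map_dvd _ (QuotientGroup.mk'_surjective O)))
    refine (hmin _ inferInstance inferInstance θ hreal' hTq).not_gt ?_
    rw [Subgroup.card_eq_card_quotient_mul_card_subgroup O]
    exact lt_mul_of_one_lt_right Nat.card_pos
      ((Subgroup.one_lt_card_iff_ne_bot O).2 hO)
  · intro H hrH hH
    by_contra hcon
    let θ : S →* H := ι.codRestrict H fun s => hrH ⟨s, rfl⟩
    have hreal' : F.IsRealizedBy θ := by
      refine ⟨fun a b h => hι.1 (congrArg Subtype.val h), fun P hP φ hφ => ⟨fun h => ?_, ?_⟩⟩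
      · obtain ⟨k, hk, hke⟩ : ∃ k ∈ H, ∀ x : P, ι ⟨φ x, hφ x⟩ = k * ι ⟨x, hP x.2⟩ * k⁻¹ := by
          by_contra h'
          exact hcon ⟨P, hP, φ, hφ, h, h'⟩
        exact ⟨⟨k, hk⟩, fun x => Subtype.ext (hke x)⟩
      · rintro ⟨k, hk⟩
        exact (hι.2 P hP φ hφ).2 ⟨k, fun x => congrArg Subtype.val (hk x)⟩
    have hTH : ∃ T : Sylow p H, (T : Subgroup H) = θ.range := by
      have hr : θ.range = ι.range.subgroupOf H := by
        ext y
        rw [Subgroup.mem_subgroupOf]
        constructor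
        · rintro ⟨s, rfl⟩; exact ⟨s, rfl⟩
        · rintro ⟨s, hs⟩; exact ⟨s, Subtype.ext hs⟩
      rw [hr]
      refine (exists_sylow_iff (N := H) hiS).2 fun h => P₀.not_dvd_index ?_
      rw [hP₀, ← Subgroup.relIndex_mul_index hrH]
      exact dvd_mul_of_dvd_left h _
    refine (hmin _ inferInstance inferInstance θ hreal' hTH).not_gt ?_
    rw [← Subgroup.card_mul_index H]
    exact lt_mul_of_one_lt_right Nat.card_pos (Subgroup.one_lt_index_of_ne_top hH)

end CfsgLib.Fusion
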