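import Mathlib

/-!
# The determinant of a monomial permutation

For a free action of a commutative group `Z` on a finite set, the product of the displacements of
a permutation commuting with the action, with respect to a section of the orbits.
-/

set_option autoImplicit false

namespace CfsgLib.Fusion

open MulAction

variable {Z : Type*} [CommGroup Z] {Y : Type*} [MulAction Z Y]
  (hfree : ∀ (z : Z) (y : Y), z • y = y → z = 1)

include hfree in
theorem smul_right_cancel_of_free {z w : Z} {y : Y} (h : z • y = w • y) : z = w := by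
  have h1 : (w⁻¹ * z) • y = y := by rw [mul_smul, h, inv_smul_smul]
  exact (inv_mul_eq_one.1 (hfree _ _ h1)).symm

theorem exists_disp {s : Quotient (orbitRel Z Y) → Y}
    (hs : ∀ ω, Quotient.mk (orbitRel Z Y) (s ω) = ω) (y : Y) :
    ∃ z : Z, y = z • s (Quotient.mk _ y) := by
  obtain ⟨z, hz⟩ := mem_orbit_iff.1 (Quotient.exact (hs (Quotient.mk _ y)).symm)
  exact ⟨z, hz.symm⟩

include hfree in
/-- The transfer of a permutation does not depend on the section. -/
theorem prod_disp_eq [Fintype (Quotient (orbitRel Z Y))] (c : Y ≃ Y)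
    (hc : ∀ (z : Z) y, c (z • y) = z • c y)
    {s s' : Quotient (orbitRel Z Y) → Y} (hs : ∀ ω, Quotient.mk (orbitRel Z Y) (s ω) = ω)
    (hs' : ∀ ω, Quotient.mk (orbitRel Z Y) (s' ω) = ω) {d d' : Y → Z}
    (hd : ∀ y, y = d y • s (Quotient.mk _ y)) (hd' : ∀ y, y = d' y • s' (Quotient.mk _ y)) :
    ∏ ω, d (c (s ω)) = ∏ ω, d' (c (s' ω)) := by
  choose u hu using fun ω => mem_orbit_iff.1 (Quotient.exact ((hs' ω).trans (hs ω).symm))
  let f : Quotient (orbitRel Z Y) → Quotient (orbitRel Z Y) := fun ω => Quotient.mk _ (c (s ω))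
  have hf : Function.Bijective f := by
    have hinj : Function.Injective f := fun a b hab => by
      obtain ⟨z, hz⟩ := mem_orbit_iff.1 (Quotient.exact hab)
      rw [← hc] at hz
      rw [← hs a, ← hs b, ← c.injective hz]
      exact Quotient.sound (mem_orbit_iff.2 ⟨z, rfl⟩)
    exact ⟨hinj, (Finite.injective_iff_surjective.1 hinj)⟩
  have hrel : ∀ ω, d' (c (s' ω)) * u (f ω) = u ω * d (c (s ω)) := by
    intro ω
    have hmk : Quotient.mk (orbitRel Z Y) (c (s' ω)) = f ω := by
      rw [← hu ω, hc]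
      exact Quotient.sound (mem_orbit_iff.2 ⟨u ω, rfl⟩)
    refine smul_right_cancel_of_free hfree (y := s (f ω)) ?_
    rw [mul_smul, hu, ← hmk, ← hd', hmk, mul_smul,
      show s (f ω) = s (Quotient.mk _ (c (s ω))) from rfl, ← hd, ← hu ω, hc]
  have h1 : (∏ ω, d' (c (s' ω))) * ∏ ω, u (f ω) = (∏ ω, u ω) * ∏ ω, d (c (s ω)) := by
    rw [← Finset.prod_mul_distrib, ← Finset.prod_mul_distrib]
    exact Finset.prod_congr rfl fun ω _ => hrel ω
  rw [hf.prod_comp u, mul_comm] at h1
  exact (mul_left_cancel h1).symm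

include hfree in
/-- The determinant of commuting permutations, with its naturality and its value on scalars. -/
theorem exists_det [Finite Y] {Γ : Type*} [Group Γ] [MulAction Γ Y]
    (hcomm : ∀ (g : Γ) (z : Z) (y : Y), g • z • y = z • g • y) :
    ∃ t : Γ →* Z,
      (∀ (g : Γ) (z : Z), (∀ y : Y, g • y = z • y) →
        t g = z ^ Nat.card (Quotient (orbitRel Z Y))) ∧
      ∀ (g g' : Γ) (a : Z ≃* Z) (e : Y ≃ Y), (∀ z y, e (z • y) = a z • e y) →
        (∀ y, e (g • y) = g' • e y) → t g' = a (t g) := by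
  classical
  have := Fintype.ofFinite (Quotient (orbitRel Z Y))
  let s : Quotient (orbitRel Z Y) → Y := Quotient.out
  have hs : ∀ ω, Quotient.mk (orbitRel Z Y) (s ω) = ω := Quotient.out_eq
  choose d hd using exists_disp hs
  have hone : ∀ ω, d (s ω) = 1 := fun ω => by
    refine smul_right_cancel_of_free hfree (y := s ω) ?_
    rw [one_smul]
    conv_lhs => rw [← hs ω]
    exact ((hd (s ω)).trans (by rw [hs])).symm.trans rfl
  have hdz : ∀ (z : Z) (y : Y), d (z • y) = z * d y := by
    intro z y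
    refine smul_right_cancel_of_free hfree (y := s (Quotient.mk _ y)) ?_
    have h1 : Quotient.mk (orbitRel Z Y) (z • y) = Quotient.mk _ y :=
      Quotient.sound (mem_orbit_iff.2 ⟨z, rfl⟩)
    rw [mul_smul, ← hd, ← h1, ← hd]
  let perm : Γ → Quotient (orbitRel Z Y) → Quotient (orbitRel Z Y) :=
    fun g ω => Quotient.mk _ (g • s ω)
  have hperm : ∀ g, Function.Bijective (perm g) := by
    intro g
    have hinj : Function.Injective (perm g) := fun a b hab => by
      obtain ⟨z, hz⟩ := mem_orbit_iff.1 (Quotient.exact hab)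
      change z • g • s b = g • s a at hz
      rw [← hcomm] at hz
      rw [← hs a, ← hs b, ← MulAction.injective g hz]
      exact Quotient.sound (mem_orbit_iff.2 ⟨z, rfl⟩)
    exact ⟨hinj, Finite.injective_iff_surjective.1 hinj⟩
  have hmul : ∀ g h : Γ, (∏ ω, d ((g * h) • s ω)) = (∏ ω, d (g • s ω)) * ∏ ω, d (h • s ω) := by
    intro g h
    rw [← (hperm h).prod_comp (fun ω => d (g • s ω)), ← Finset.prod_mul_distrib]
    refine Finset.prod_congr rfl fun ω _ => ?_
    rw [mul_comm, ← hdz, ← hcomm, ← hd, mul_smul]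
  refine ⟨MonoidHom.mk' (fun g => ∏ ω, d (g • s ω)) hmul, fun g z h => ?_,
    fun g g' a e he heg => ?_⟩
  · change ∏ ω, d (g • s ω) = _
    simp only [h, hdz, hone, mul_one, Finset.prod_const, Finset.card_univ,
      Nat.card_eq_fintype_card]
  change ∏ ω, d (g' • s ω) = a (∏ ω, d (g • s ω))
  have horb : ∀ x y : Y, (orbitRel Z Y).r x y ↔ (orbitRel Z Y).r (e x) (e y) := by
    intro x y
    change x ∈ orbit Z y ↔ e x ∈ orbit Z (e y)
    rw [mem_orbit_iff, mem_orbit_iff]
    constructor
    · rintro ⟨z, rfl⟩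
      exact ⟨a z, (he z y).symm⟩
    · rintro ⟨z, hz⟩
      exact ⟨a.symm z, e.injective (by rw [he, a.apply_symm_apply, hz])⟩
  let E : Quotient (orbitRel Z Y) ≃ Quotient (orbitRel Z Y) := Quotient.congr e horb
  have hE : ∀ y, E (Quotient.mk _ y) = Quotient.mk _ (e y) := fun y => rfl
  let s' : Quotient (orbitRel Z Y) → Y := fun ω => e (s (E.symm ω))
  have hs' : ∀ ω, Quotient.mk (orbitRel Z Y) (s' ω) = ω := fun ω => by
    change Quotient.mk _ (e _) = _
    rw [← hE, hs, E.apply_symm_apply]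
  let d' : Y → Z := fun y => a (d (e.symm y))
  have hd' : ∀ y, y = d' y • s' (Quotient.mk _ y) := fun y => by
    have h1 : E.symm (Quotient.mk _ y) = Quotient.mk _ (e.symm y) := by
      rw [Equiv.symm_apply_eq, hE, e.apply_symm_apply]
    change y = a (d (e.symm y)) • e (s (E.symm (Quotient.mk _ y)))
    rw [h1, ← he, ← hd, e.apply_symm_apply]
  rw [show (∏ ω, d (g' • s ω)) = ∏ ω, d ((MulAction.toPerm g' : Y ≃ Y) (s ω)) from rfl,
    prod_disp_eq hfree (MulAction.toPerm g') (hcomm g') hs hs' hd hd', map_prod,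
    ← E.prod_comp (fun ω => d' ((MulAction.toPerm g' : Y ≃ Y) (s' ω)))]
  refine Finset.prod_congr rfl fun ω _ => ?_
  change a (d (e.symm (g' • e (s (E.symm (E ω)))))) = a (d (g • s ω))
  rw [E.symm_apply_apply, ← heg, e.symm_apply_apply]

end CfsgLib.Fusion
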