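import Mathlib
import Cfsg.Agent.Lib.Fusion.Normal

/-!
# Normality from a central series of weakly closed subgroups
-/

set_option autoImplicit false

open Cfsg Cfsg.FusionSystem
open scoped commutatorElement

namespace CfsgLib.Fusion

variable {Ω : Type*} [Group Ω] {S : Subgroup Ω} {F : FusionSystem S}

theorem autGroup_apply_mem_weaklyClosed {W P : Subgroup Ω} (hW : F.WeaklyClosed W) (hWP : W ≤ P)
    (hP : P ≤ S) {α : MulAut P} (hα : α ∈ F.autGroup P) {x : P} (hx : (x : Ω) ∈ W) :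
    ((α x : P) : Ω) ∈ W := by
  have h1 := hW.2 _ (res_mem F ((mem_autGroup_iff F hP).1 hα) hWP)
  exact h1.le ⟨⟨x, hx⟩, rfl⟩

variable {p : ℕ} [Fact p.Prime] [Finite S]

/-- A strongly closed `Q` is normal if it has a central series of weakly closed subgroups above a
subgroup `C 0` in all essential subgroups with `Aut_F(C 0)` a `p`-group. -/
theorem isNormal_of_weak_series (hS : IsPGroup p S) (hF : F.IsSaturated p) {Q : Subgroup Ω}
    (hQ : F.StronglyClosed Q) (C : ℕ → Subgroup Ω) (n : ℕ) (hCn : C n = Q)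
    (hCQ : ∀ i ≤ n, C i ≤ Q) (hW : ∀ i < n, F.WeaklyClosed (C i))
    (hcomm : ∀ i < n, ⁅C (i + 1), Q⁆ ≤ C i)
    (hE : ∀ P, F.IsEssential p P → C 0 ≤ P)
    (h0 : IsPGroup p (F.autGroup (C 0))) : F.IsNormal Q := by
  refine isNormal_of_stronglyClosed hS hF hQ fun P hP => ?_
  have hPS := hP.1.1
  have := finite_of_le hPS
  suffices h : ∀ k ≤ n, C k ≤ P from hCn ▸ h n le_rfl
  intro k
  induction k using Nat.strong_induction_on with
  | _ k ih =>
  intro hk
  rcases Nat.eq_zero_or_pos k with rfl | hk0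
  · exact hE P hP
  obtain ⟨m, rfl⟩ : ∃ m, k = m + 1 := ⟨k - 1, by omega⟩
  let D : ℕ → Subgroup P := fun i =>
    if i ≤ m then (C i).subgroupOf P else if i = m + 1 then Q.subgroupOf P else ⊤
  have hD : ∀ i ≤ m, D i = (C i).subgroupOf P := fun i hi => if_pos hi
  have hD1 : D (m + 1) = Q.subgroupOf P := by simp [D]
  have hDtop : D (m + 2) = ⊤ := by simp [D]
  have hinv : ∀ β ∈ F.autGroup P, ∀ i ≤ m + 2, ∀ x ∈ D i, β x ∈ D i := by
    intro β hβ i hi x hx
    rcases Nat.le_succ_iff.1 hi with h | h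
    · rcases Nat.le_succ_iff.1 h with h | h
      · rw [hD i h, Subgroup.mem_subgroupOf] at hx ⊢
        exact autGroup_apply_mem_weaklyClosed (hW i (by omega)) (ih i (by omega) (by omega)) hPS hβ hx
      · rw [show i = m + 1 by omega, hD1, Subgroup.mem_subgroupOf] at hx ⊢
        exact autGroup_apply_mem hQ hβ hx
    · simp [show i = m + 2 by omega, hDtop]
  have hC0P : C 0 ≤ P := ih 0 (by omega) (Nat.zero_le n)
  have := finite_of_le (hC0P.trans hPS)
  have hw0 : F.WeaklyClosed (C 0) := hW 0 (by omega)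
  refine le_of_centric_radical hS hP.1 (isRadical_of_isEssential hS hP) ((hCQ _ hk).trans hQ.1)
    ?_ (stabSeries (F.autGroup P) D (m + 2))
    (fun α hα => hα.1) (normal_stabSeries_subgroupOf hinv) ?_ fun x hx hxn => ?_
  · rcases hk.lt_or_eq with h | h
    · exact le_normalizer_of_weaklyClosed (hW (m + 1) h)
    · rw [h, hCn]
      exact le_normalizer_of_stronglyClosed hQ
  · refine isPGroup_of_stabilizes (hS.to_le hPS) _ D (m + 2) (fun x => by simp [hDtop]) ?_
      fun α hα => hα.2.2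
    intro α hα hq hne x hx
    rw [hD 0 (Nat.zero_le m), Subgroup.mem_subgroupOf] at hx
    obtain ⟨β, hβ, hβe⟩ := exists_iso_of_range
      (res_mem F ((mem_autGroup_iff F hPS).1 hα.1) hC0P) (hw0.2 _ (res_mem F ((mem_autGroup_iff F hPS).1 hα.1) hC0P))
    have hβA : β ∈ F.autGroup (C 0) := (mem_autGroup_iff F (hC0P.trans hPS)).2 hβ
    have hpow : ∀ (i : ℕ) (y : C 0), (((β ^ i) y : C 0) : Ω) =
        (((α ^ i) (Subgroup.inclusion hC0P y) : P) : Ω) := by
      intro i
      induction i with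
      | zero => intro y; rfl
      | succ i ihp =>
        intro y
        rw [pow_succ', pow_succ', MulAut.mul_apply, MulAut.mul_apply, hβe]
        change ((α (Subgroup.inclusion hC0P ((β ^ i) y)) : P) : Ω) = _
        exact congrArg (fun t : P => ((α t : P) : Ω)) (Subtype.ext (ihp y))
    have hord : orderOf β ∣ orderOf α := orderOf_dvd_of_pow_eq_one (MulEquiv.ext fun y => Subtype.ext (by
      rw [hpow, pow_orderOf_eq_one]
      rfl))
    have hβ1 : β = 1 := by
      rcases hq.eq_one_or_self_of_dvd _ hord with h | h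
      · exact orderOf_eq_one_iff.1 h
      · exfalso
        obtain ⟨j, hj⟩ := IsPGroup.iff_orderOf.1 h0 ⟨β, hβA⟩
        rw [Subgroup.orderOf_mk, h] at hj
        rw [hj] at hq hne
        rw [hq.eq_one_of_pow, pow_one] at hne
        exact hne rfl
    have h1 := hβe ⟨x, hx⟩
    rw [hβ1] at h1
    exact Subtype.ext h1.symm
  · have hA : normAut x hxn ∈ F.autGroup P :=
      autInducedBy_le_autGroup hPS (mem_autInducedBy_iff.2 ⟨x, hQ.1 (hCQ _ hk hx), fun _ => rfl⟩)
    have hAiff : ∀ i ≤ m + 2, ∀ y, y ∈ D i ↔ normAut x hxn y ∈ D i := fun i hi y =>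
      ⟨hinv _ hA i hi y, fun h => by simpa using hinv _ (inv_mem hA) i hi _ h⟩
    refine ⟨hA, hAiff, fun i hi y hy => ?_⟩
    have h3 : ((y⁻¹ * normAut x hxn y : P) : Ω) = (⁅x, (y : Ω)⁻¹⁆)⁻¹ := by
      simp [commutatorElement_def, mul_assoc]
    rcases Nat.lt_succ_iff_lt_or_eq.1 hi with h | h
    · rcases Nat.lt_succ_iff_lt_or_eq.1 h with h | h
      · rw [hD i h.le, Subgroup.mem_subgroupOf, h3]
        rw [hD (i + 1) h, Subgroup.mem_subgroupOf] at hy
        -- `[C (i+1), Q] ≤ C i`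
        have h1 := hcomm i (by omega) (Subgroup.commutator_mem_commutator ((C (i + 1)).inv_mem hy) (hCQ _ hk hx))
        have h2 : ⁅x, (y : Ω)⁻¹⁆⁻¹ = ⁅(y : Ω)⁻¹, x⁆ := commutatorElement_inv _ _
        rw [h2]
        exact h1
      · subst h
        rw [hD i le_rfl, Subgroup.mem_subgroupOf, h3]
        rw [hD1, Subgroup.mem_subgroupOf] at hy
        exact (C i).inv_mem (hcomm i (by omega) (Subgroup.commutator_mem_commutator hx (Q.inv_mem hy)))
    · subst h
      rw [hD1, Subgroup.mem_subgroupOf, h3]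
      have h1 : (y : Ω)⁻¹ * x * (y : Ω)⁻¹⁻¹ ∈ Q :=
        conj_mem_of_mem_normalizer (mem_normalizer_of_stronglyClosed hQ
          (S.inv_mem (hPS y.2))) (hCQ _ hk hx)
      have h2 := Q.mul_mem h1 (Q.inv_mem (hCQ _ hk hx))
      simpa [commutatorElement_def, mul_assoc] using h2

end CfsgLib.Fusion
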