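import Cfsg.Agent.Lib.Fusion.SmallControl
import Cfsg.Agent.Lib.Fusion.FunctorCore
import Cfsg.Agent.Lib.Transfer.Critical

/-!
# Strongly closed subgroups and their elements of order `p`, `p` odd
-/

set_option autoImplicit false

open Cfsg Cfsg.FusionSystem
open scoped commutatorElement

namespace CfsgLib.Fusion

section

variable {V : Type*} [Group V] [Finite V] {p : ℕ} [hp : Fact p.Prime]

/-- A group of automorphisms of a plane containing a transvection and moving its line contains the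
inversion. -/
theorem exists_inversion_mem (hab : ∀ a b : V, Commute a b)
    (hexp : ∀ a : V, a ^ p = 1) (hcard : Nat.card V = p ^ 2) {Z : Subgroup V} (hZ : Nat.card Z = p)
    (A : Subgroup (MulAut V)) {τ : MulAut V} (hτ : τ ∈ A) (hτ1 : τ ≠ 1)
    (hfix : ∀ z ∈ Z, τ z = z) (hmov : ∀ w, τ w * w⁻¹ ∈ Z) {β : MulAut V} (hβ : β ∈ A)
    (hβZ : ∃ z ∈ Z, β z ∉ Z) : ∃ ι ∈ A, ∀ v, ι v = v⁻¹ := by
  have hZne : ∃ z0 ∈ Z, z0 ≠ 1 := by
    obtain ⟨z, hz, hzn⟩ := hβZ
    exact ⟨z, hz, fun h => hzn (by rw [h, map_one]; exact Z.one_mem)⟩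
  obtain ⟨z0, hz0, hz01⟩ := hZne
  have hpow : ∀ {w : V}, w ≠ 1 → orderOf w = p := fun hw => orderOf_eq_prime (hexp _) hw
  have hline : ∀ {w : V}, w ∈ Z → w ≠ 1 → Z = Subgroup.zpowers w := fun hwZ hw =>
    (Subgroup.eq_of_le_of_card_ge (Subgroup.zpowers_le.2 hwZ)
      (by rw [Nat.card_zpowers, hpow hw, hZ])).symm
  set b := β⁻¹ z0 with hbdef
  have hb : β b = z0 := MulAut.apply_inv_self V β z0
  have hb1 : b ≠ 1 := fun h => hz01 (by rw [← hb, h, map_one])
  have hbZ : b ∉ Z := by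
    intro h
    obtain ⟨z, hz, hzn⟩ := hβZ
    rw [hline h hb1] at hz
    obtain ⟨i, rfl⟩ := Subgroup.mem_zpowers_iff.1 hz
    exact hzn (by rw [map_zpow, hb]; exact Z.zpow_mem hz0 i)
  have hgen : ∀ (K : Subgroup V) (z : V), z ∈ Z → z ≠ 1 → z ∈ K → b ∈ K → ∀ v, v ∈ K := by
    intro K z hz hz1 hzK hbK
    have hle : Z < K := lt_of_le_of_ne (by rw [hline hz hz1]; exact Subgroup.zpowers_le.2 hzK)
      fun h => hbZ (h ▸ hbK)
    have hlt : Nat.card Z < Nat.card K :=
      lt_of_not_ge fun h => hle.ne (Subgroup.eq_of_le_of_card_ge hle.le h)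
    have hd := Subgroup.card_subgroup_dvd_card K
    rw [hcard] at hd
    obtain ⟨k, hk, hk'⟩ := (Nat.dvd_prime_pow hp.out).1 hd
    have hK : K = ⊤ := Subgroup.eq_top_of_card_eq K (by
      rw [hk', hcard]
      interval_cases k
      · rw [hk', hZ, pow_zero] at hlt; exact absurd hlt (by have := hp.out.one_lt; omega)
      · rw [hk', hZ, pow_one] at hlt; exact absurd hlt (lt_irrefl _)
      · rfl)
    intro v
    rw [hK]
    trivial
  obtain ⟨z, hzdef⟩ : ∃ z, z = τ b * b⁻¹ := ⟨_, rfl⟩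
  have hz : z ∈ Z := hzdef ▸ hmov b
  have hτb : τ b = z * b := by rw [hzdef, inv_mul_cancel_right]
  have hz1 : z ≠ 1 := by
    intro h
    refine hτ1 (MulEquiv.ext fun v => ?_)
    let K : Subgroup V :=
      { carrier := {v | τ v = v}
        one_mem' := map_one τ
        mul_mem' := fun {x y} (hx : τ x = x) (hy : τ y = y) => by
          show τ (x * y) = x * y
          rw [map_mul, hx, hy]
        inv_mem' := fun {x} (hx : τ x = x) => by
          show τ x⁻¹ = x⁻¹
          rw [map_inv, hx] }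
    exact hgen K z0 hz0 hz01 (hfix z0 hz0) (show τ b = b by rw [hτb, h, one_mul]) v
  set τ' := β⁻¹ * τ * β with hτ'def
  have hτ'b : τ' b = b := by
    rw [hτ'def, MulAut.mul_apply, MulAut.mul_apply, hb, hfix z0 hz0]
  have hτ'mov : τ' z * z⁻¹ ∈ Subgroup.zpowers b := by
    have h1 := hmov (β z)
    rw [hline hz0 hz01] at h1
    obtain ⟨i, hi⟩ := Subgroup.mem_zpowers_iff.1 h1
    refine Subgroup.mem_zpowers_iff.2 ⟨i, β.injective ?_⟩
    rw [map_zpow, hb, hi, map_mul, map_inv, hτ'def, MulAut.mul_apply, MulAut.mul_apply,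
      MulAut.apply_inv_self]
  set d := τ' z * z⁻¹ with hddef
  have hd1 : d ≠ 1 := by
    intro h
    refine hτ1 ?_
    have h' : τ' = 1 := MulEquiv.ext fun v => by
      let K : Subgroup V :=
        { carrier := {v | τ' v = v}
          one_mem' := map_one τ'
          mul_mem' := fun {x y} (hx : τ' x = x) (hy : τ' y = y) => by
            show τ' (x * y) = x * y
            rw [map_mul, hx, hy]
          inv_mem' := fun {x} (hx : τ' x = x) => by
            show τ' x⁻¹ = x⁻¹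
            rw [map_inv, hx] }
      exact hgen K z hz hz1 (show τ' z = z from mul_inv_eq_one.1 h) hτ'b v
    calc τ = β * τ' * β⁻¹ := by rw [hτ'def]; group
      _ = 1 := by rw [h', mul_one, mul_inv_cancel]
  have hbinv : b⁻¹ ∈ Subgroup.zpowers d := by
    rw [Subgroup.eq_of_le_of_card_ge (Subgroup.zpowers_le.2 hτ'mov)
      (by rw [Nat.card_zpowers, Nat.card_zpowers, hpow hd1, hpow hb1])]
    exact inv_mem (Subgroup.mem_zpowers b)
  rw [← mem_powers_iff_mem_zpowers] at hbinv
  obtain ⟨m, hm⟩ := hbinv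
  have hτ'd : τ' d = d := by
    obtain ⟨i, hi⟩ := Subgroup.mem_zpowers_iff.1 hτ'mov
    rw [← hi, map_zpow, hτ'b]
  have hiter : ∀ k : ℕ, (τ' ^ k) z = d ^ k * z ∧ (τ' ^ k) b = b := by
    intro k
    induction k with
    | zero => simp
    | succ k ih =>
      refine ⟨?_, ?_⟩
      · rw [pow_succ', MulAut.mul_apply, ih.1, map_mul, map_pow, hτ'd, pow_succ d k, mul_assoc,
          hddef, inv_mul_cancel_right]
      · rw [pow_succ', MulAut.mul_apply, ih.2, hτ'b]
  set g := τ' ^ m with hgdef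
  have hgA : g ∈ A := pow_mem (mul_mem (mul_mem (inv_mem hβ) hτ) hβ) m
  have hgz : g z = b⁻¹ * z := by rw [hgdef, (hiter m).1]; exact congrArg (· * z) hm
  have hgb : g b = b := (hiter m).2
  set w := τ * g * τ with hwdef
  have hwz : w z = b⁻¹ := by
    rw [hwdef, MulAut.mul_apply, MulAut.mul_apply, hfix z hz, hgz, map_mul, map_inv, hτb,
      hfix z hz, mul_inv_rev, inv_mul_cancel_right]
  have hwb : w b = z := by
    rw [hwdef, MulAut.mul_apply, MulAut.mul_apply, hτb, map_mul, hgz, hgb, map_mul, map_mul,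
      map_inv, hτb, hfix z hz, mul_inv_rev, inv_mul_cancel_right, (hab b⁻¹ (z * b)).eq,
      mul_inv_cancel_right]
  refine ⟨w * w, mul_mem (mul_mem (mul_mem hτ hgA) hτ) (mul_mem (mul_mem hτ hgA) hτ), ?_⟩
  let K : Subgroup V :=
    { carrier := {v | (w * w) v = v⁻¹}
      one_mem' := by simp
      mul_mem' := fun {x y} (hx : (w * w) x = x⁻¹) (hy : (w * w) y = y⁻¹) => by
        show (w * w) (x * y) = (x * y)⁻¹
        rw [map_mul, hx, hy, mul_inv_rev, (hab x⁻¹ y⁻¹).eq]
      inv_mem' := fun {x} (hx : (w * w) x = x⁻¹) => by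
        show (w * w) x⁻¹ = x⁻¹⁻¹
        rw [map_inv, hx] }
  exact hgen K z hz hz1 (show (w * w) z = z⁻¹ by rw [MulAut.mul_apply, hwz, map_inv, hwb])
    (show (w * w) b = b⁻¹ by rw [MulAut.mul_apply, hwb, hwz])

end

variable {Ω : Type*} [Group Ω] {S : Subgroup Ω} {F : FusionSystem S} {p : ℕ} [Fact p.Prime]
  [Finite S]

/-- For odd `p` a strongly closed subgroup is normal if its elements of order `p` have a central
series of strongly closed subgroups. -/
theorem isNormal_of_omega_series (hS : IsPGroup p S) (hF : F.IsSaturated p) (hp : p ≠ 2)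
    {P : Subgroup Ω} (hP : F.StronglyClosed P) (C : ℕ → Subgroup Ω) (n : ℕ) (hC0 : C 0 = ⊥)
    (htop : ∀ x ∈ P, x ^ p = 1 → x ∈ C n) (hC : ∀ i ≤ n, F.StronglyClosed (C i))
    (hcomm : ∀ i < n, ⁅C (i + 1), P⁆ ≤ C i) : F.IsNormal P := by
  refine isNormal_of_stronglyClosed hS hF hP fun E hE => ?_
  have hES := hE.1.1
  have := finite_of_le hES
  let D : ℕ → Subgroup E := fun i => (C i).subgroupOf E
  let D' : ℕ → Subgroup E := fun i => if i = 0 then P.subgroupOf E else ⊤
  have hinv : ∀ β ∈ F.autGroup E, ∀ i ≤ n, ∀ x ∈ D i, β x ∈ D i :=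
    fun β hβ i hi x hx => autGroup_apply_mem (hC i hi) hβ hx
  have hinv' : ∀ β ∈ F.autGroup E, ∀ i ≤ 1, ∀ x ∈ D' i, β x ∈ D' i := by
    intro β hβ i _ x hx
    rcases Nat.eq_zero_or_pos i with rfl | hi
    · exact autGroup_apply_mem hP hβ hx
    · simp [D', hi.ne']
  set K := stabSeries (F.autGroup E) D n ⊓ stabSeries (F.autGroup E) D' 1 with hKdef
  have hKn : (K.subgroupOf (F.autGroup E)).Normal := by
    have h1 := normal_stabSeries_subgroupOf hinv
    have h2 := normal_stabSeries_subgroupOf hinv'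
    exact Subgroup.normal_inf_normal ((stabSeries (F.autGroup E) D n).subgroupOf (F.autGroup E))
      ((stabSeries (F.autGroup E) D' 1).subgroupOf (F.autGroup E))
  have hEp := hS.to_le hES
  refine le_of_centric_radical hS hE.1 (isRadical_of_isEssential hS hE) hP.1
    (le_normalizer_of_stronglyClosed hP) K (fun α hα => hα.1.1) hKn ?_ fun x hx hxn => ?_
  · refine isPGroup_of_stabilizes hEp K D' 1 (fun x => by simp [D']) ?_ fun α hα => hα.2.2.2
    intro α hα hq hne x hx
    have hcop : (orderOf α).Coprime p := (Nat.coprime_primes hq Fact.out).2 hne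
    have hfix : ∀ i ≤ n, ∀ y ∈ D i, α y = y := by
      intro i
      induction i with
      | zero =>
        intro _ y hy
        have : y = 1 := Subtype.ext (Subgroup.mem_bot.1 (hC0.le hy))
        rw [this, map_one]
      | succ i ih =>
        intro hi y hy
        exact apply_eq_of_diff_fixed hEp hcop (ih (by omega) _ (hα.1.2.2 i hi y hy))
    -- the restriction to `P ∩ E`
    set U := P.subgroupOf E with hU
    have hmem : ∀ y : U, α y ∈ U := fun y => (hα.2.2.1 0 (by omega) y).1 y.2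
    let f : U →* U := (α.toMonoidHom.comp U.subtype).codRestrict U hmem
    have hfi : Function.Injective f := fun y z h =>
      Subtype.ext (α.injective (congrArg Subtype.val h))
    let b : MulAut U := MulEquiv.ofBijective f ⟨hfi, Finite.injective_iff_surjective.1 hfi⟩
    have hbpow : ∀ (k : ℕ) (y : U), ((b ^ k) y : E) = (α ^ k) y := by
      intro k
      induction k with
      | zero => intro y; simp
      | succ k ih =>
        intro y
        rw [pow_succ', MulAut.mul_apply, pow_succ', MulAut.mul_apply, ← ih]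
        rfl
    have hb1 : b ^ orderOf α = 1 := MulEquiv.ext fun y => Subtype.ext (by
      rw [hbpow, pow_orderOf_eq_one]; rfl)
    have hb : b = 1 := CfsgLib.Transfer.aut_eq_one_of_fix_omega hp (hEp.to_subgroup U) b
      (hcop.coprime_dvd_left (orderOf_dvd_of_pow_eq_one hb1)) fun y hy => by
        refine Subtype.ext (hfix n le_rfl (y : E) (htop _ y.2 ?_))
        exact congrArg (fun w : U => ((w : E) : Ω)) hy
    have hxU : x ∈ U := hx
    exact congrArg Subtype.val (DFunLike.congr_fun hb ⟨x, hxU⟩)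
  · have hA : normAut x hxn ∈ F.autGroup E :=
      autInducedBy_le_autGroup hES (mem_autInducedBy_iff.2 ⟨x, hP.1 hx, fun _ => rfl⟩)
    have hiff : ∀ i ≤ n, ∀ y, y ∈ D i ↔ normAut x hxn y ∈ D i := fun i hi y =>
      ⟨hinv _ hA i hi y, fun h => by simpa using hinv _ (inv_mem hA) i hi _ h⟩
    have hiff' : ∀ i ≤ 1, ∀ y, y ∈ D' i ↔ normAut x hxn y ∈ D' i := fun i hi y =>
      ⟨hinv' _ hA i hi y, fun h => by simpa using hinv' _ (inv_mem hA) i hi _ h⟩
    refine ⟨⟨hA, hiff, fun i hi y hy => ?_⟩, hA, hiff', fun i hi y hy => ?_⟩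
    · have h1 := hcomm i hi (Subgroup.commutator_mem_commutator ((C (i + 1)).inv_mem hy) hx)
      have h3 : ((y⁻¹ * normAut x hxn y : E) : Ω) = ⁅(y : Ω)⁻¹, x⁆ := by
        simp [commutatorElement_def, mul_assoc]
      show ((y⁻¹ * normAut x hxn y : E) : Ω) ∈ C i
      rw [h3]
      exact h1
    · obtain rfl : i = 0 := by omega
      show ((y⁻¹ * normAut x hxn y : E) : Ω) ∈ P
      have h1 : (y : Ω)⁻¹ * x * (y : Ω)⁻¹⁻¹ ∈ P :=
        conj_mem_of_mem_normalizer (mem_normalizer_of_stronglyClosed hP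
          (S.inv_mem (hES y.2))) hx
      have h2 := P.mul_mem h1 (P.inv_mem hx)
      simpa [mul_assoc] using h2

omit [Finite S] in
/-- For odd `p` a strongly closed subgroup whose elements of order `p` form an abelian subgroup of
order at most `p²` is normal. -/
theorem isNormal_of_small_omega [Finite S] (hS : IsPGroup p S) (hF : F.IsSaturated p) (hp : p ≠ 2)
    {P W : Subgroup Ω} (hP : F.StronglyClosed P) (hW : ∀ x, x ∈ W ↔ x ∈ P ∧ x ^ p = 1)
    (hab : ∀ a b : W, Commute a b) (hcard : Nat.card W ≤ p ^ 2) : F.IsNormal P := by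
  have hWP : W ≤ P := fun x hx => ((hW x).1 hx).1
  have hWS : W ≤ S := hWP.trans hP.1
  have := finite_of_le hWS
  have := finite_of_le hP.1
  have hWexp : ∀ w : W, w ^ p = 1 := fun w => Subtype.ext ((hW w).1 w.2).2
  have himg : ∀ {R : Subgroup Ω} {φ : R →* Ω}, φ ∈ F.Hom R → R ≤ S → ∀ x : R, (x : Ω) ∈ W →
      φ x ∈ W := by
    intro R φ hφ hRS x hx
    refine (hW _).2 ⟨?_, by rw [← map_pow, show x ^ p = 1 from Subtype.ext ((hW x).1 hx).2, map_one]⟩
    exact hP.2 _ inf_le_right _ (res_mem F hφ (inf_le_left : R ⊓ P ≤ R)) ⟨x, x.2, hWP hx⟩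
  have hWsc : F.StronglyClosed W :=
    ⟨hWS, fun R hR φ hφ x => himg hφ (hR.trans hWS) x (hR x.2)⟩
  have hSW : S ≤ Subgroup.normalizer (W : Set Ω) := le_normalizer_of_stronglyClosed hWsc
  by_cases hcen : ⁅W, P⁆ = ⊥
  · refine isNormal_of_omega_series hS hF hp hP (fun i => if i = 0 then ⊥ else W) 1 rfl
      (fun x hx hxp => (hW x).2 ⟨hx, hxp⟩) (fun i _ => ?_) ?_
    · split_ifs
      · exact stronglyClosed_of_isNormal isNormal_bot
      · exact hWsc
    · intro i hi
      obtain rfl : i = 0 := by omega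
      simpa using hcen.le
  obtain ⟨n, hn⟩ := (Subgroup.isNilpotent_iff_lowerCentralSeries S).1 hS.isNilpotent
  -- a normal subgroup of `S` fixed by commutation with `S` is trivial
  have hlt : ∀ M : Subgroup Ω, M ≤ S → M ≤ ⁅M, S⁆ → M = ⊥ := by
    intro M hMS hM
    refine le_bot_iff.1 (le_trans ?_ hn.le)
    have : ∀ k, M ≤ S.lowerCentralSeries k := by
      intro k
      induction k with
      | zero => rw [Subgroup.lowerCentralSeries_zero]; exact hMS
      | succ k ih =>
        rw [Subgroup.lowerCentralSeries_succ]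
        exact hM.trans (Subgroup.commutator_mono ih le_rfl)
    exact this n
  set Z := ⁅W, S⁆ with hZdef
  have hZW : Z ≤ W := Subgroup.commutator_le.2 fun a ha s hs => by
    rw [commutatorElement_def, mul_assoc a, mul_assoc a]
    exact W.mul_mem ha (conj_mem_of_mem_normalizer (hSW hs) (W.inv_mem ha))
  have hZS : Z ≤ S := hZW.trans hWS
  have hZfin := finite_of_le hZS
  have hWP' : ⁅W, P⁆ ≤ Z := Subgroup.commutator_mono le_rfl hP.1
  have hZne : Z ≠ ⊥ := fun h => hcen (le_bot_iff.1 (h ▸ hWP'))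
  have hWne : W ≠ ⊥ := fun h => hZne (le_bot_iff.1 (h ▸ hZW))
  have hZltW : Z < W := lt_of_le_of_ne hZW fun h => hWne (hlt W hWS h.ge)
  obtain ⟨k, hk⟩ := IsPGroup.iff_card.1 (hS.to_le hWS)
  obtain ⟨j, hj⟩ := IsPGroup.iff_card.1 (hS.to_le hZS)
  have hj1 : 1 ≤ j := by
    by_contra h
    exact hZne (Subgroup.eq_bot_of_card_eq Z (by rw [hj, show j = 0 by omega, pow_zero]))
  have hjk : j < k := by
    have h1 : Nat.card Z < Nat.card W :=
      lt_of_not_ge fun h => hZltW.ne (Subgroup.eq_of_le_of_card_ge hZW h)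
    rw [hj, hk] at h1
    exact (Nat.pow_lt_pow_iff_right (Fact.out : p.Prime).one_lt).1 h1
  have hk2 : k ≤ 2 := (Nat.pow_le_pow_iff_right (Fact.out : p.Prime).one_lt).1 (hk ▸ hcard)
  obtain rfl : k = 2 := by omega
  obtain rfl : j = 1 := by omega
  rw [pow_one] at hj
  have hZc : ⁅Z, S⁆ = ⊥ := by
    by_contra h
    have hle : ⁅Z, S⁆ ≤ Z := Subgroup.commutator_mono hZW le_rfl
    have hfin := finite_of_le (hle.trans hZS)
    rcases (Nat.dvd_prime (Fact.out : p.Prime)).1 (hj ▸ Subgroup.card_dvd_of_le hle) with h1 | h1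
    · exact h (Subgroup.eq_bot_of_card_eq _ h1)
    · exact hZne (hlt Z hZS (Subgroup.eq_of_le_of_card_ge hle (by rw [h1, hj])).ge)
  have hcomZ : ∀ z ∈ Z, ∀ s ∈ S, s * z * s⁻¹ = z := by
    intro z hz s hs
    have h1 : ⁅z, s⁆ = 1 := Subgroup.mem_bot.1 (hZc ▸ Subgroup.commutator_mem_commutator hz hs)
    rw [← (commutatorElement_eq_one_iff_mul_comm.1 h1), mul_inv_cancel_right]
  suffices hZsc : F.StronglyClosed Z by
    refine isNormal_of_omega_series hS hF hp hP
      (fun i => if i = 0 then ⊥ else if i = 1 then Z else W) 2 rfl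
      (fun x hx hxp => (hW x).2 ⟨hx, hxp⟩) (fun i _ => ?_) ?_
    · split_ifs
      · exact stronglyClosed_of_isNormal isNormal_bot
      · exact hZsc
      · exact hWsc
    · intro i hi
      interval_cases i
      · simpa using ((Subgroup.commutator_mono le_rfl hP.1).trans hZc.le : ⁅Z, P⁆ ≤ ⊥)
      · simpa using hWP'
  refine ⟨hZS, fun R hR φ hφ x => ?_⟩
  by_contra hx
  have hx1 : (x : Ω) ≠ 1 := fun h => hx (by
    rw [show x = 1 from Subtype.ext h, map_one]; exact Z.one_mem)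
  have hRZ : R = Z := by
    have := finite_of_le (hR.trans hZS)
    rcases (Nat.dvd_prime (Fact.out : p.Prime)).1 (hj ▸ Subgroup.card_dvd_of_le hR) with h1 | h1
    · exact absurd (Subgroup.mem_bot.1 ((Subgroup.eq_bot_of_card_eq R h1).le x.2)) hx1
    · exact Subgroup.eq_of_le_of_card_ge hR (by rw [h1, hj])
  subst hRZ
  obtain ⟨e, he, hee⟩ := exists_iso_of_mem hφ
  have hBW : φ.range ≤ W := by
    rintro _ ⟨y, rfl⟩
    exact himg hφ hZS y (hZW y.2)
  have hfc : F.IsFullyCentralized Z := by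
    have hfinC := finite_of_le (centralizerIn_le (S := S) Z)
    refine ⟨hZS, fun Q _ => Subgroup.card_le_of_le ((centralizerIn_le Q).trans
      (le_inf le_rfl fun s hs z hz => ?_))⟩
    exact (mul_inv_eq_iff_eq_mul.1 (hcomZ z hz s hs)).symm
  have hWc : W ≤ centralizerIn S φ.range :=
    le_inf hWS fun w hw y hy => congrArg Subtype.val (hab ⟨y, hBW hy⟩ ⟨w, hw⟩).eq
  obtain ⟨ψ, hψ, hψe⟩ := exists_extension (receptive_of_fullyCentralized hS hF hfc) he.symm hBW
    (hWc.trans (centralizerIn_le_extender _ _))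
  have hψW : ψ.range = W := by
    refine Subgroup.eq_of_le_of_card_ge ?_ ?_
    · rintro _ ⟨y, rfl⟩
      exact himg hψ hWS y y.2
    · rw [← Nat.card_congr (MonoidHom.ofInjective (F.injective_of_mem hψ)).toEquiv]
  obtain ⟨β, hβ, hβe⟩ := exists_iso_of_range hψ hψW
  have hβA : β ∈ F.autGroup W := (mem_autGroup_iff F hWS).2 hβ
  let β' : MulAut W := β
  set A := F.autGroup W with hAdef
  -- a transvection from `P`
  obtain ⟨u, hu, g, hg, hug⟩ : ∃ u ∈ W, ∃ g ∈ P, ⁅u, g⁆ ≠ 1 := by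
    by_contra h
    push_neg at h
    exact hcen (le_bot_iff.1 (Subgroup.commutator_le.2 fun a ha b hb =>
      Subgroup.mem_bot.2 (h a ha b hb)))
  set τ := normAut g (hSW (hP.1 hg)) with hτdef
  have hτA : τ ∈ A :=
    autInducedBy_le_autGroup hWS (mem_autInducedBy_iff.2 ⟨g, hP.1 hg, fun _ => rfl⟩)
  have hmv : β'⁻¹ ⟨(x : Ω), hZW x.2⟩ ∉ Z.subgroupOf W := fun h => hx (by
    have h2 : β ⟨φ x, hBW ⟨x, rfl⟩⟩ = ⟨(x : Ω), hZW x.2⟩ := by
      refine Subtype.ext ?_
      rw [hβe]
      have h3 := hψe (e x)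
      rw [MulEquiv.symm_apply_apply] at h3
      refine Eq.trans (congrArg ψ (Subtype.ext ?_)) h3
      exact (hee x).symm
    have h4 : β'⁻¹ ⟨(x : Ω), hZW x.2⟩ = ⟨φ x, hBW ⟨x, rfl⟩⟩ :=
      β'.injective (by rw [MulAut.apply_inv_self]; exact h2.symm)
    rw [h4] at h
    exact h)
  obtain ⟨ι, hιA, hι⟩ := exists_inversion_mem hab hWexp hk (Z := Z.subgroupOf W)
    (by rw [Nat.card_congr (Subgroup.subgroupOfEquivOfLe hZW).toEquiv, hj]) A hτA
    (fun h => hug (by
      have h1 : g * u * g⁻¹ = u :=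
        congrArg Subtype.val (DFunLike.congr_fun h (⟨u, hu⟩ : W) : τ ⟨u, hu⟩ = ⟨u, hu⟩)
      rw [commutatorElement_eq_one_iff_mul_comm]
      exact (mul_inv_eq_iff_eq_mul.1 h1).symm))
    (fun z hz => Subtype.ext (hcomZ z hz g (hP.1 hg)))
    (fun w => by
      show g * (w : Ω) * g⁻¹ * (w : Ω)⁻¹ ∈ Z
      have h1 : ⁅(w : Ω), g⁆ ∈ Z := hWP' (Subgroup.commutator_mem_commutator w.2 hg)
      simpa [commutatorElement_def, mul_assoc] using Z.inv_mem h1)
    (β := β'⁻¹) (inv_mem hβA)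
    ⟨⟨(x : Ω), hZW x.2⟩, x.2, hmv⟩
  · -- extend the inversion to `S`
    have hnorm : F.IsFullyNormalized W := isFullyNormalized_of_normal hWS hSW
    have hext : S ≤ extender S W (W.subtype.comp (ι : W ≃* W).toMonoidHom) := by
      intro s hs
      refine mem_extender_iso_iff.2 ⟨hs, hSW hs, mem_autInducedBy_iff.2 ⟨s, hs, fun w => ?_⟩⟩
      change ((ι (normAut s (hSW hs) ((ι : W ≃* W).symm w)) : W) : Ω) = _
      have h1 : (ι : W ≃* W).symm w = w⁻¹ := by
        rw [MulEquiv.symm_apply_eq]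
        exact (by rw [hι, inv_inv] : w = ι w⁻¹)
      rw [h1, hι]
      simp [mul_assoc]
    obtain ⟨χ, hχ, hχe⟩ := exists_extension
      (fullyAutomized_receptive_of_fullyNormalized hS hF hnorm).2
      ((mem_autGroup_iff F hWS).1 hιA) hWS hext
    have hχP : (χ.comp (Subgroup.inclusion hP.1)).range = P := by
      refine Subgroup.eq_of_le_of_card_ge ?_ ?_
      · rintro _ ⟨y, rfl⟩
        exact hP.2 P le_rfl _ (res_mem F hχ hP.1) y
      · rw [← Nat.card_congr (MonoidHom.ofInjective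
          (F.injective_of_mem (res_mem F hχ hP.1))).toEquiv]
    obtain ⟨a, -, hae⟩ := exists_iso_of_range (res_mem F hχ hP.1) hχP
    have haW : ∀ w : W, (a ⟨w, hWP w.2⟩ : Ω) = (w : Ω)⁻¹ := fun w => by
      rw [hae]
      exact (hχe w).trans (congrArg Subtype.val (hι w))
    have hfree : ∀ y : P, a y = y → y = 1 := by
      suffices ∀ (m : ℕ) (y : P), y ^ p ^ m = 1 → a y = y → y = 1 from fun y => by
        obtain ⟨m, hm⟩ := (hS.to_le hP.1) y
        exact this m y hm
      intro m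
      induction m with
      | zero => intro y hy _; simpa using hy
      | succ m ih =>
        intro y hy hay
        have h1 : y ^ p = 1 := ih _ (by rw [← pow_mul, ← pow_succ', hy]) (by rw [map_pow, hay])
        have h2 : (y : Ω) ∈ W := (hW _).2 ⟨y.2, congrArg Subtype.val h1⟩
        have h3 := haW ⟨y, h2⟩
        rw [show a ⟨(⟨(y : Ω), h2⟩ : W), hWP h2⟩ = y from hay] at h3
        have h4 : y ^ 2 = 1 := by
          rw [pow_two]
          exact Subtype.ext (by rw [Subgroup.coe_mul]; nth_rw 2 [h3]; simp)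
        have h5 : orderOf y ∣ Nat.gcd 2 p :=
          Nat.dvd_gcd (orderOf_dvd_of_pow_eq_one h4) (orderOf_dvd_of_pow_eq_one h1)
        rw [(Nat.coprime_primes Nat.prime_two Fact.out).2 (Ne.symm hp), Nat.dvd_one] at h5
        exact orderOf_eq_one_iff.1 h5
    let C : Subgroup P := (Subgroup.centralizer (W : Set Ω)).comap P.subtype
    have hCmem : ∀ c : P, c ∈ C ↔ ∀ w : W, (c : Ω) * w * (c : Ω)⁻¹ = w := fun c =>
      ⟨fun h w => mul_inv_eq_iff_eq_mul.2 (h w w.2).symm,
        fun h w hw => (mul_inv_eq_iff_eq_mul.1 (h ⟨w, hw⟩)).symm⟩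
    have hact : ∀ (c : P) (w : W), (a c : Ω) * (w : Ω)⁻¹ * (a c : Ω)⁻¹ =
        ((c : Ω) * w * (c : Ω)⁻¹)⁻¹ := by
      intro c w
      have h1 : (c : Ω) * w * (c : Ω)⁻¹ ∈ W := conj_mem_of_mem_normalizer (hSW (hP.1 c.2)) w.2
      rw [← haW ⟨_, h1⟩, ← haW w,
        show (⟨((⟨_, h1⟩ : W) : Ω), hWP h1⟩ : P) = c * ⟨w, hWP w.2⟩ * c⁻¹ from Subtype.ext rfl,
        map_mul, map_mul, map_inv]
      rfl
    have haC : ∀ c ∈ C, a c ∈ C := by
      intro c hc
      refine (hCmem _).2 fun w => ?_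
      have h1 := hact c w⁻¹
      rw [(hCmem c).1 hc w⁻¹] at h1
      simpa using h1
    have hdC : (⟨g, hg⟩ : P)⁻¹ * a ⟨g, hg⟩ ∈ C := by
      refine (hCmem _).2 fun w => ?_
      have h1 := hact ⟨g, hg⟩ w⁻¹
      simp only [Subgroup.coe_inv, inv_inv, mul_inv_rev] at h1
      rw [Subgroup.coe_mul, Subgroup.coe_inv]
      rw [show ((g : Ω))⁻¹ * (a ⟨g, hg⟩ : Ω) * w * (g⁻¹ * (a ⟨g, hg⟩ : Ω))⁻¹ =
        g⁻¹ * ((a ⟨g, hg⟩ : Ω) * w * (a ⟨g, hg⟩ : Ω)⁻¹) * g by group, h1]
      group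
    let f : C → C := fun c => ⟨(c : P)⁻¹ * a c, C.mul_mem (C.inv_mem c.2) (haC c c.2)⟩
    have hfi : Function.Injective f := by
      intro c d h
      have h1 : (c : P)⁻¹ * a c = (d : P)⁻¹ * a d := congrArg Subtype.val h
      have h2 : a ((d : P) * (c : P)⁻¹) = (d : P) * (c : P)⁻¹ := by
        rw [map_mul, map_inv, show a d = (d : P) * ((c : P)⁻¹ * a c) by rw [h1]; group]
        group
      exact Subtype.ext (mul_inv_eq_one.1 (hfree _ h2)).symm
    obtain ⟨c, hc⟩ := Finite.injective_iff_surjective.1 hfi ⟨_, hdC⟩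
    have h1 : (c : P)⁻¹ * a c = (⟨g, hg⟩ : P)⁻¹ * a ⟨g, hg⟩ := congrArg Subtype.val hc
    have h2 : a (⟨g, hg⟩ * (c : P)⁻¹) = ⟨g, hg⟩ * (c : P)⁻¹ := by
      rw [map_mul, map_inv, show a ⟨g, hg⟩ = (⟨g, hg⟩ : P) * ((c : P)⁻¹ * a c) by rw [h1]; group]
      group
    have h3 : (⟨g, hg⟩ : P) ∈ C := (mul_inv_eq_one.1 (hfree _ h2)) ▸ c.2
    exact hug (commutatorElement_eq_one_iff_mul_comm.2 (h3 u hu))

/-- The elements of order `p` of a normal subgroup have a central series of strongly closed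
subgroups. -/
theorem exists_omega_series_of_isNormal (hS : IsPGroup p S) {P : Subgroup Ω} (hP : F.IsNormal P) :
    ∃ (n : ℕ) (Q : Fin (n + 1) → Subgroup Ω), Q 0 = ⊥ ∧ Q (Fin.last n) = Cfsg.omegaOne p P ∧
      Monotone Q ∧ (∀ i : Fin (n + 1), F.StronglyClosed (Q i)) ∧
      ∀ i : Fin n, ⁅Q i.succ, P⁆ ≤ Q i.castSucc := by
  have := finite_of_le hP.1
  obtain ⟨n, hn⟩ := exists_upperSeries_eq (hS.to_le hP.1)
  set O := Cfsg.omegaOne p P with hOdef
  have hOP : O ≤ P := (Subgroup.closure_le _).2 fun x hx => hx.1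
  have hstep : ∀ i : ℕ, upperSeries P i ≤ upperSeries P (i + 1) := fun i =>
    Subgroup.map_mono (Subgroup.upperCentralSeries_mono P (Nat.le_succ i))
  refine ⟨n, fun i => O ⊓ upperSeries P i, ?_, ?_, ?_, fun i => ?_, fun i => ?_⟩
  · simp [upperSeries]
  · simp [hn, hOP]
  · intro i j hij
    exact inf_le_inf_left _ ((monotone_nat_of_le_succ hstep) hij)
  · refine stronglyClosed_of_isNormal (isNormal_of_characteristic hP (inf_le_left.trans hOP) ?_)
    rw [Subgroup.characteristic_iff_map_le]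
    rintro φ _ ⟨y, hy, rfl⟩
    obtain ⟨hyO, hyU⟩ := hy
    refine ⟨?_, ?_⟩
    · have hmap : ∀ w : Ω, w ∈ O → ∀ hw : w ∈ P, ((φ ⟨w, hw⟩ : P) : Ω) ∈ O := by
        intro w hwO
        induction hwO using Subgroup.closure_induction with
        | mem w hw =>
          intro hwP
          refine Subgroup.subset_closure ⟨(φ _).2, ?_⟩
          rw [← Subgroup.coe_pow, ← map_pow, show (⟨w, hwP⟩ : P) ^ p = 1 from Subtype.ext hw.2,
            map_one, Subgroup.coe_one]
        | one =>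
          intro hw
          rw [show (⟨1, hw⟩ : P) = 1 from rfl, map_one]
          exact O.one_mem
        | mul a b ha hb iha ihb =>
          intro hw
          rw [show (⟨a * b, hw⟩ : P) = ⟨a, hOP ha⟩ * ⟨b, hOP hb⟩ from rfl, map_mul]
          exact O.mul_mem (iha _) (ihb _)
        | inv a ha iha =>
          intro hw
          rw [show (⟨a⁻¹, hw⟩ : P) = ⟨a, hOP ha⟩⁻¹ from rfl, map_inv]
          exact O.inv_mem (iha _)
      exact hmap _ hyO y.2
    · obtain ⟨w, hw, hwy⟩ := hyU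
      have hc : (Subgroup.upperCentralSeries ↥P (i : ℕ)).Characteristic := inferInstance
      exact ⟨φ w, Subgroup.characteristic_iff_map_le.1 hc φ ⟨w, hw, rfl⟩,
        congrArg (fun t => ((φ t : P) : Ω)) (Subtype.ext hwy)⟩
  · have hPn : P ≤ Subgroup.normalizer (O : Set Ω) := by
      intro g hg
      have hmap : O.map (MulAut.conj g).toMonoidHom ≤ O := by
        rw [hOdef, Cfsg.omegaOne, MonoidHom.map_closure, Subgroup.closure_le]
        rintro _ ⟨y, hy, rfl⟩
        refine Subgroup.subset_closure ⟨P.mul_mem (P.mul_mem hg hy.1) (P.inv_mem hg), ?_⟩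
        change (g * y * g⁻¹) ^ p = 1
        rw [conj_pow, hy.2, mul_one, mul_inv_cancel]
      have := finite_of_le (hOP.trans hP.1)
      refine Subgroup.mem_normalizer_iff_map_conj_eq.2 (Subgroup.eq_of_le_of_card_ge hmap ?_)
      exact (Nat.card_congr
        (O.equivMapOfInjective (MulAut.conj g).toMonoidHom (MulAut.conj g).injective).toEquiv).le
    simp only [Fin.val_succ, Fin.coe_castSucc]
    refine le_inf (Subgroup.commutator_le.2 fun a ha b hb => ?_)
      ((Subgroup.commutator_mono inf_le_right le_rfl).trans (commutator_upperSeries_le i))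
    rw [commutatorElement_def, mul_assoc a, mul_assoc a]
    exact O.mul_mem ha.1 (conj_mem_of_mem_normalizer (hPn hb) (O.inv_mem ha.1))

end CfsgLib.Fusion
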