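import Cfsg.Agent.Lib.Fusion.BisetTransfer
import Cfsg.Agent.Lib.Fusion.Biset

/-!
# The degree of a map with respect to an invariant character of exponent `p`

For a saturated system `F` over `S` and a homomorphism `θ : S →* A` into an abelian group of
exponent `p` invariant under `F`, the maps of `F` whose source has all centralizers inside the
kernel get a multiplicative degree extending a power of `θ`.
-/

set_option autoImplicit false

open MulAction

namespace CfsgLib.Fusion

section General

variable {p : ℕ} [Fact p.Prime]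

/-- An invariant function into a group of exponent `p` on a set acted on by a `p`-group has the
product of its values at the fixed points. -/
theorem prod_eq_prod_fixed_of_exponent {P Y A : Type*} [Group P] [MulAction P Y] [Fintype Y]
    [CommGroup A] [DecidablePred (· ∈ fixedPoints P Y)] (hP : IsPGroup p P)
    (hA : ∀ a : A, a ^ p = 1) (f : Y → A) (hf : ∀ (g : P) y, f (g • y) = f y) :
    ∏ y, f y = ∏ y, if y ∈ fixedPoints P Y then f y else 1 := by
  classical
  rw [← div_eq_one, ← Finset.prod_div_distrib, Finset.prod_partition (orbitRel P Y)]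
  refine Finset.prod_eq_one fun c _ => ?_
  induction c using Quotient.inductionOn with
  | h y₀ =>
  have hmem : ∀ y : Y, Quotient.mk (orbitRel P Y) y = Quotient.mk _ y₀ ↔ y ∈ orbit P y₀ := fun y =>
    Quotient.eq.trans orbitRel_apply
  by_cases hy : y₀ ∈ fixedPoints P Y
  · refine Finset.prod_eq_one fun y hy' => ?_
    obtain ⟨g, rfl⟩ := (hmem y).1 (Finset.mem_filter.1 hy').2
    change f (g • y₀) / (if g • y₀ ∈ fixedPoints P Y then f (g • y₀) else 1) = 1
    rw [mem_fixedPoints.1 hy g, if_pos hy, div_self']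
  · have hv : ∀ y ∈ Finset.univ.filter (fun y => Quotient.mk (orbitRel P Y) y = Quotient.mk _ y₀),
        f y / (if y ∈ fixedPoints P Y then f y else 1) = f y₀ := by
      intro y hy'
      obtain ⟨g, rfl⟩ := (hmem y).1 (Finset.mem_filter.1 hy').2
      change f (g • y₀) / (if g • y₀ ∈ fixedPoints P Y then f (g • y₀) else 1) = _
      rw [if_neg, div_one, hf]
      intro h
      apply hy
      have h1 := mem_fixedPoints.1 h g⁻¹
      rw [inv_smul_smul] at h1
      rw [h1]
      exact h
    rw [Finset.prod_congr rfl hv, Finset.prod_const]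
    obtain ⟨k, hk⟩ := hP.card_orbit (a := y₀)
    have hcard : (Finset.univ.filter
        (fun y => Quotient.mk (orbitRel P Y) y = Quotient.mk _ y₀)).card = p ^ k := by
      rw [← hk, Nat.card_eq_fintype_card, ← Set.toFinset_card]
      congr 1
      ext y
      simp only [Finset.mem_filter, Finset.mem_univ, true_and, Set.mem_toFinset, hmem]
    rw [hcard]
    rcases k with _ | k
    · refine absurd ?_ hy
      intro g
      have : Subsingleton (orbit P y₀) := (Nat.card_eq_one_iff_unique.1 (by simpa using hk)).1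
      exact congrArg Subtype.val (Subsingleton.elim
        (⟨g • y₀, mem_orbit y₀ g⟩ : orbit P y₀) ⟨y₀, mem_orbit_self y₀⟩)
    · rw [pow_succ', pow_mul, hA, one_pow]

variable {G : Type*} [Group G] {X : Type*} [MulAction (G × G) X] {A : Type*} [CommGroup A]

/-- The product over the right orbits of the ratios of an equivariant function along a
bijection. -/
noncomputable def orbitDet [Fintype (RightOrbits G X)] (h : X → A) (α : X ≃ X) : A :=
  ∏ ω : RightOrbits G X, h (α (Quotient.out ω)) / h (Quotient.out ω)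

variable {θ : G →* A} {h : X → A}

theorem ratio_right_invariant
    (hh : ∀ (a b : G) (x : X), h ((a, b) • x) = θ a * h x * (θ b)⁻¹) {α : X ≃ X}
    (hα : ∀ (b : G) (x : X), α (((1 : G), b) • x) = ((1 : G), b) • α x) {x y : X}
    (hxy : rmk (G := G) x = rmk y) : h (α x) / h x = h (α y) / h y := by
  obtain ⟨b, rfl⟩ := Quotient.exact hxy
  rw [hα, hh, hh, map_one, one_mul, one_mul]
  exact (mul_div_mul_right_eq_div _ _ _).symm

theorem orbitDet_mul [Fintype (RightOrbits G X)]
    (hh : ∀ (a b : G) (x : X), h ((a, b) • x) = θ a * h x * (θ b)⁻¹) {α β : X ≃ X}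
    (hα : ∀ (b : G) (x : X), α (((1 : G), b) • x) = ((1 : G), b) • α x)
    (hβ : ∀ (b : G) (x : X), β (((1 : G), b) • x) = ((1 : G), b) • β x) :
    orbitDet (G := G) h (α.trans β) = orbitDet (G := G) h β * orbitDet (G := G) h α := by
  let σ : RightOrbits G X ≃ RightOrbits G X :=
    Quotient.congr α fun x y => exists_congr fun b => by rw [← hα, α.injective.eq_iff]
  unfold orbitDet
  rw [← Equiv.prod_comp σ (fun ω => h (β (Quotient.out ω)) / h (Quotient.out ω)),
    ← Finset.prod_mul_distrib]
  refine Finset.prod_congr rfl fun ω _ => ?_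
  have h1 : rmk (G := G) (Quotient.out (σ ω)) = rmk (α (Quotient.out ω)) := by
    refine (Quotient.out_eq _).trans ?_
    conv_lhs => rw [← Quotient.out_eq ω]
    rfl
  rw [ratio_right_invariant hh hβ h1, Equiv.trans_apply, div_mul_div_cancel]

theorem orbitDet_left [Fintype (RightOrbits G X)]
    (hh : ∀ (a b : G) (x : X), h ((a, b) • x) = θ a * h x * (θ b)⁻¹) (g : G) :
    orbitDet (G := G) h (MulAction.toPerm ((g, (1 : G)) : G × G) : X ≃ X) =
      θ g ^ Nat.card (RightOrbits G X) := by
  unfold orbitDet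
  rw [Finset.prod_congr rfl (g := fun _ => θ g) fun ω _ => ?_, Finset.prod_const, Finset.card_univ,
    Nat.card_eq_fintype_card]
  rw [MulAction.toPerm_apply, hh, map_one, inv_one, mul_one, mul_div_cancel_right]

/-- A bijection commuting with the right action and with a `p`-subgroup `P` of the left action
has trivial determinant when, at the points fixed by `P` modulo the right action, the right
elements commuting with the image of `P` lie in the kernel. -/
theorem orbitDet_centralizer [Fintype (RightOrbits G X)]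
    (hh : ∀ (a b : G) (x : X), h ((a, b) • x) = θ a * h x * (θ b)⁻¹) (hA : ∀ a : A, a ^ p = 1)
    (hfree : ∀ (b : G) (x : X), ((1 : G), b) • x = x → b = 1) {P : Subgroup G}
    (hP : IsPGroup p P) {γ : X ≃ X}
    (hγ : ∀ a ∈ P, ∀ (b : G) (x : X), γ ((a, b) • x) = (a, b) • γ x)
    (hC : ∀ x : X, (∀ a ∈ P, ∃ b : G, (a, b) • x = x) → ∀ c : G,
      (∀ a ∈ P, ∀ b : G, (a, b) • x = x → c * b = b * c) → θ c = 1) :
    orbitDet (G := G) h γ = 1 := by
  classical
  let K : Subgroup (Equiv.Perm X) :=
    { carrier := {α | ∀ a ∈ P, ∀ (b : G) (x : X), α ((a, b) • x) = (a, b) • α x}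
      one_mem' := fun _ _ _ _ => rfl
      mul_mem' := fun {α β} hα hβ a ha b x => by
        rw [Equiv.Perm.mul_apply, hβ a ha, hα a ha, Equiv.Perm.mul_apply]
      inv_mem' := fun {α} hα a ha b x => by
        apply α.injective
        rw [hα a ha, Equiv.Perm.coe_inv, Equiv.apply_symm_apply, Equiv.apply_symm_apply] }
  have hγ' : ∀ (b : G) (x : X), γ (((1 : G), b) • x) = ((1 : G), b) • γ x :=
    fun b x => hγ 1 P.one_mem b x
  let Fx : X → Prop := fun x => ∀ a ∈ P, ∃ b : G, (a, b) • x = x
  have hFxr : ∀ (b : G) (x : X), Fx x → Fx (((1 : G), b) • x) := by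
    intro b x hx a ha
    obtain ⟨c, hc⟩ := hx a ha
    refine ⟨b * c * b⁻¹, ?_⟩
    rw [smul_smul, show ((a, b * c * b⁻¹) : G × G) * (1, b) = (1, b) * (a, c) by simp, mul_smul, hc]
  have hFxK : ∀ α ∈ K, ∀ x : X, Fx x → Fx (α x) := fun α hα x hx a ha => by
    obtain ⟨c, hc⟩ := hx a ha
    exact ⟨c, by rw [← hα a ha, hc]⟩
  let _ : MulAction P (RightOrbits G X) :=
    { smul := fun a ω => actR (a : G) ω
      one_smul := fun ω => actR_one ω
      mul_smul := fun a b ω => (actR_actR (a : G) b ω).symm }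
  have hfix : ∀ x : X, rmk (G := G) x ∈ fixedPoints P (RightOrbits G X) ↔ Fx x := by
    intro x
    constructor
    · intro hx a ha
      have h1 : rmk (G := G) ((a, (1 : G)) • x) = rmk x := mem_fixedPoints.1 hx ⟨a, ha⟩
      obtain ⟨b, hb⟩ := Quotient.exact h1
      refine ⟨b, ?_⟩
      rw [smul_smul, Prod.mk_mul_mk, one_mul, mul_one] at hb
      exact hb
    · rintro hx ⟨a, ha⟩
      obtain ⟨b, hb⟩ := hx a ha
      change rmk (G := G) ((a, (1 : G)) • x) = rmk x
      rw [← rmk_smul a b, hb]
  -- the function trivializing the ratios at the fixed points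
  let X₀ := {x : X // Fx x}
  let H := Subgroup.zpowers (γ : Equiv.Perm X) × G
  have hHK : Subgroup.zpowers (γ : Equiv.Perm X) ≤ K := Subgroup.zpowers_le.2 hγ
  let _ : MulAction H X₀ :=
    { smul := fun c x => ⟨((1 : G), c.2) • (c.1 : Equiv.Perm X) x.1,
        hFxr _ _ (hFxK _ (hHK c.1.2) _ x.2)⟩
      one_smul := fun x => Subtype.ext (one_smul (G × G) x.1)
      mul_smul := fun c d x => Subtype.ext (by
        change ((1 : G), c.2 * d.2) • ((c.1 : Equiv.Perm X) * d.1) x.1 =
          ((1 : G), c.2) • (c.1 : Equiv.Perm X) (((1 : G), d.2) • (d.1 : Equiv.Perm X) x.1)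
        rw [hHK c.1.2 1 P.one_mem, smul_smul, Prod.mk_mul_mk, one_mul, Equiv.Perm.mul_apply]) }
  let _ : MulAction H A :=
    { smul := fun c y => y * (θ c.2)⁻¹
      one_smul := fun y => by change y * (θ 1)⁻¹ = y; simp
      mul_smul := fun c d y => by
        change y * (θ (c.2 * d.2))⁻¹ = y * (θ d.2)⁻¹ * (θ c.2)⁻¹
        rw [map_mul, mul_inv_rev, ← mul_assoc] }
  obtain ⟨k, hk⟩ := exists_equivariant (G := H) X₀ A (fun x => ⟨1, fun c hc => by
    have h1 : ((1 : G), c.2) • (c.1 : Equiv.Perm X) x.1 = x.1 :=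
      congrArg Subtype.val (mem_stabilizer_iff.1 hc)
    have h2 : θ c.2 = 1 := hC x.1 x.2 c.2 fun a ha b hb => by
      have h3 : (a, c.2 * b * c.2⁻¹) • x.1 = x.1 := by
        conv_lhs => rw [← h1]
        rw [smul_smul, show ((a, c.2 * b * c.2⁻¹) : G × G) * (1, c.2) = (1, c.2) * (a, b) by simp,
          mul_smul, ← hHK c.1.2 a ha, hb, h1]
      have h4 := right_cancel hfree (h3.trans hb.symm)
      exact mul_inv_eq_iff_eq_mul.1 h4
    rw [mem_stabilizer_iff]
    change (1 : A) * (θ c.2)⁻¹ = 1
    rw [h2, inv_one, mul_one]⟩)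
  have hkr : ∀ (b : G) (x : X₀), k ⟨((1 : G), b) • x.1, hFxr b _ x.2⟩ = k x * (θ b)⁻¹ :=
    fun b x => hk ((1 : Subgroup.zpowers (γ : Equiv.Perm X)), b) x
  have hkγ : ∀ x : X₀, k ⟨γ x.1, hFxK γ hγ _ x.2⟩ = k x := fun x => by
    have h1 := hk (⟨γ, Subgroup.mem_zpowers _⟩, (1 : G)) x
    have h2 : ((⟨γ, Subgroup.mem_zpowers _⟩, (1 : G)) : H) • x = ⟨γ x.1, hFxK γ hγ _ x.2⟩ :=
      Subtype.ext (one_smul (G × G) _)
    rw [h2] at h1
    rw [h1]
    change k x * (θ 1)⁻¹ = _
    rw [map_one, inv_one, mul_one]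
  let σ : RightOrbits G X ≃ RightOrbits G X :=
    Quotient.congr γ fun x y => exists_congr fun b => by rw [← hγ', γ.injective.eq_iff]
  let U : RightOrbits G X → A := fun ω =>
    if hx : Fx (Quotient.out ω) then h (Quotient.out ω) / k ⟨_, hx⟩ else 1
  have hU : ∀ x (hx : Fx x), U (rmk (G := G) x) = h x / k ⟨x, hx⟩ := by
    intro x hx
    obtain ⟨b, hb⟩ := Quotient.exact (Quotient.out_eq (rmk (G := G) x)).symm
    have hout : Fx (Quotient.out (rmk (G := G) x)) := hb ▸ hFxr b x hx
    change dite _ _ _ = _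
    rw [dif_pos hout]
    have h1 : k ⟨Quotient.out (rmk (G := G) x), hout⟩ = k ⟨x, hx⟩ * (θ b)⁻¹ := by
      rw [← hkr b ⟨x, hx⟩]
      exact congrArg k (Subtype.ext hb.symm)
    rw [h1, ← hb, hh, map_one, one_mul]
    exact mul_div_mul_right_eq_div _ _ _
  have hinv : ∀ (a : P) (ω : RightOrbits G X),
      h (γ (Quotient.out (a • ω))) / h (Quotient.out (a • ω)) =
        h (γ (Quotient.out ω)) / h (Quotient.out ω) := by
    intro a ω
    have h1 : rmk (G := G) (Quotient.out (a • ω)) = rmk (((a : G), (1 : G)) • Quotient.out ω) := by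
      refine (Quotient.out_eq _).trans ?_
      change actR (a : G) ω = _
      conv_lhs => rw [← Quotient.out_eq ω]
      rfl
    rw [ratio_right_invariant hh hγ' h1, hγ a a.2, hh, hh, map_one, inv_one, mul_one, mul_one,
      mul_div_mul_left_eq_div]
  unfold orbitDet
  rw [prod_eq_prod_fixed_of_exponent hP hA _ hinv]
  calc ∏ ω, (if ω ∈ fixedPoints P (RightOrbits G X) then
        h (γ (Quotient.out ω)) / h (Quotient.out ω) else 1)
      = ∏ ω, U (σ ω) / U ω := Finset.prod_congr rfl fun ω _ => ?_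
    _ = 1 := by rw [Finset.prod_div_distrib, Equiv.prod_comp σ U, div_self']
  have hσ : σ ω = rmk (γ (Quotient.out ω)) := by
    conv_lhs => rw [← Quotient.out_eq ω]
    rfl
  have hω : rmk (G := G) (Quotient.out ω) = ω := Quotient.out_eq ω
  by_cases hx : Fx (Quotient.out ω)
  · rw [if_pos (hω ▸ (hfix _).2 hx), hσ, hU _ (hFxK γ hγ _ hx)]
    have hUω : U ω = h (Quotient.out ω) / k ⟨_, hx⟩ := (congrArg U hω).symm.trans (hU _ hx)
    rw [hUω, hkγ ⟨_, hx⟩, div_div_div_cancel_right]
  · rw [if_neg fun hf => hx ((hfix _).1 (hω.symm ▸ hf))]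
    have hx' : ¬ Fx (Quotient.out (σ ω)) := by
      intro h1
      obtain ⟨b, hb⟩ := Quotient.exact
        ((Quotient.out_eq (σ ω)).trans hσ : rmk (G := G) (Quotient.out (σ ω)) = rmk (γ _))
      have h2 := hFxr b _ h1
      rw [hb] at h2
      have h3 := hFxK γ⁻¹ (K.inv_mem hγ) _ h2
      rw [Equiv.Perm.coe_inv, Equiv.symm_apply_apply] at h3
      exact hx h3
    change (1 : A) = dite _ _ _ / dite _ _ _
    rw [dif_neg hx', dif_neg hx, div_one]

end General

end CfsgLib.Fusion
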