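import Cfsg.Agent.Lib.Fusion.PPowerIndexNormal

/-!
# Subsystems contained in a subsystem of `p`-power index
-/

set_option autoImplicit false

open Cfsg Cfsg.FusionSystem

namespace CfsgLib.Fusion

variable {Ω : Type*} [Group Ω] {S T U : Subgroup Ω} [Finite S] {F : FusionSystem S}
  {p : ℕ} [Fact p.Prime]

/-- The maps of a system between subgroups of a subgroup. -/
def restrictSubSys (F₀ : FusionSystem U) (hTU : T ≤ U) : FusionSystem T where
  Hom P := {φ | φ ∈ F₀.Hom P ∧ P ≤ T ∧ ∀ x : P, φ x ∈ T}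
  le_of_mem := fun h => h.2
  injective_of_mem := fun h => F₀.injective_of_mem h.1
  conj_mem := fun {P g} hP hg => ⟨F₀.conj_mem (hP.trans hTU) (hTU hg), hP, fun x =>
    T.mul_mem (T.mul_mem hg (hP x.2)) (T.inv_mem hg)⟩
  comp_mem := by
    intro P Q φ ψ hφ hψ h
    exact ⟨F₀.comp_mem hφ.1 hψ.1 h, hφ.2.1, fun x => hψ.2.2 _⟩
  inv_mem := by
    intro P φ hφ
    obtain ⟨ψ, hψ, hψe⟩ := F₀.inv_mem hφ.1
    refine ⟨ψ, ⟨hψ, ?_, ?_⟩, hψe⟩
    · rintro _ ⟨x, rfl⟩
      exact hφ.2.2 x
    · rintro ⟨_, x, rfl⟩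
      rw [hψe]
      exact hφ.2.1 x.2

/-- A saturated subsystem lies in every subsystem of `p`-power index whose group contains its
group. -/
theorem isSubsystemOf_of_hasPPowerIndex (hS : IsPGroup p S) {E : FusionSystem T}
    {F₀ : FusionSystem U} (hEs : E.IsSaturated p) (hE : E.IsSubsystemOf F)
    (hF₀ : F₀.HasPPowerIndexIn F p) (hTU : T ≤ U) : E.IsSubsystemOf F₀ := by
  have hTS : T ≤ S := le_S_of_isSubsystemOf hE
  have := finite_of_le hTS
  suffices h : E ≤ restrictSubSys F₀ hTU from fun P φ hφ => (h P hφ).1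
  refine alperin (hS.to_le hTS) hEs _ fun R hR => ?_
  have hRT : R ≤ T := by
    rcases hR with rfl | hR
    · exact le_rfl
    · exact hR.1.1
  have hn : E.IsFullyNormalized R := by
    rcases hR with rfl | hR
    · exact isFullyNormalized_self
    · exact hR.2.1
  refine autGroup_le_of_coprime_of_induced (hS.to_le hTS) hEs hn ?_
    fun b hb => autInducedBy_le_autGroup hRT hb
  intro b hb hco
  refine mem_autGroup_of_mem (φ := R.subtype.comp b.toMonoidHom) _ ⟨?_, hRT, fun x => hRT (b x).2⟩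
    fun x => rfl
  exact (mem_autGroup_iff F₀ (hRT.trans hTU)).1
    (mem_autGroup_of_coprime_pPowerIndex hF₀ (hRT.trans hTU) (autGroup_mono hE R hb) hco)

end CfsgLib.Fusion
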