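import Cfsg.Agent.Lib.Fusion.PPrimeResidual

/-!
# The `p'`-residual of an invariant subsystem lies in every invariant subsystem over the same group
-/

set_option autoImplicit false

open Cfsg Cfsg.FusionSystem

namespace CfsgLib.Fusion

variable {Ω : Type*} [Group Ω] {S T : Subgroup Ω} [Finite S] {F : FusionSystem S}
  {E D : FusionSystem T} {p : ℕ} [Fact p.Prime]

/-- Every conjugate in `F` of `Q` contains its centralizer in `T`. -/
def IsCentricRelTo (F : FusionSystem S) (T Q : Subgroup Ω) : Prop :=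
  Q ≤ T ∧ ∀ R, F.IsConj Q R → centralizerIn T R ≤ R

omit [Finite S] [Fact p.Prime] in
theorem IsCentricRelTo.isCentric_sub (h : D.IsSubsystemOf F) {Q : Subgroup Ω}
    (hQ : IsCentricRelTo F T Q) : D.IsCentric Q :=
  ⟨hQ.1, fun R hR => hQ.2 R (isConj_of_isSubsystemOf h hR)⟩

/-- Centricity in an invariant subsystem is relative centricity. -/
theorem isCentricRelTo_of_isCentric (hE : E.IsInvariantIn F) {Q : Subgroup Ω}
    (hQ : E.IsCentric Q) : IsCentricRelTo F T Q := by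
  refine ⟨hQ.1, fun R hR c hc => ?_⟩
  obtain ⟨φ, hφ, rfl⟩ := hR
  obtain ⟨α, hα, φ₀, hφ₀, he⟩ := hE.2.2.2 Q hQ.1 φ hφ
  have h1 := hQ.2 φ₀.range ⟨φ₀, hφ₀, rfl⟩
  have hc' : ((α⁻¹ ⟨c, hc.1⟩ : T) : Ω) ∈ centralizerIn T φ₀.range := by
    refine ⟨(α⁻¹ ⟨c, hc.1⟩).2, ?_⟩
    rintro _ ⟨x, rfl⟩
    have h2 := hc.2 (φ x) ⟨x, rfl⟩
    rw [he x (apply_mem_S _ hφ₀ x)] at h2
    have h3 : α ⟨φ₀ x, apply_mem_S _ hφ₀ x⟩ * ⟨c, hc.1⟩ =
        ⟨c, hc.1⟩ * α ⟨φ₀ x, apply_mem_S _ hφ₀ x⟩ := Subtype.ext h2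
    have h4 := congrArg (fun t => ((α⁻¹ t : T) : Ω)) h3
    simpa [map_mul] using h4
  obtain ⟨x, hx⟩ := h1 hc'
  refine ⟨x, (he x (apply_mem_S _ hφ₀ x)).trans ?_⟩
  rw [show (⟨φ₀ x, apply_mem_S _ hφ₀ x⟩ : T) = α⁻¹ ⟨c, hc.1⟩ from Subtype.ext hx,
    MulAut.apply_inv_self]

omit [Finite S] [Fact p.Prime] in
/-- An overgroup of a relatively centric subgroup is relatively centric. -/
theorem IsCentricRelTo.mono {Q N : Subgroup Ω} (hQ : IsCentricRelTo F T Q) (hQN : Q ≤ N)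
    (hN : N ≤ T) : IsCentricRelTo F T N := by
  refine ⟨hN, fun R hR c hc => ?_⟩
  obtain ⟨φ, hφ, rfl⟩ := hR
  have hle : (φ.comp (Subgroup.inclusion hQN)).range ≤ φ.range := by
    rintro _ ⟨x, rfl⟩; exact ⟨_, rfl⟩
  exact hle (hQ.2 _ ⟨_, res_mem F hφ hQN, rfl⟩ ⟨hc.1, fun y hy => hc.2 y (hle hy)⟩)

/-- An element of `Aut_E(R)` of `p`-power order, `R ≤ T`, lies in every invariant subsystem over
`T`. -/
theorem mem_autGroup_of_pElement_invariant (hS : IsPGroup p S) (hF : F.IsSaturated p)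
    (hEs : E.IsSaturated p) (hE : E.IsInvariantIn F) (hD : D.IsInvariantIn F)
    {R : Subgroup Ω} (hRT : R ≤ T) {β : MulAut R} (hβ : β ∈ E.autGroup R)
    (hk : ∃ k : ℕ, orderOf β = p ^ k) : β ∈ D.autGroup R := by
  obtain ⟨k, hk⟩ := hk
  have hTS : T ≤ S := hE.2.1.1
  have hRS := hRT.trans hTS
  have := finite_of_le hRS
  have := finite_of_le hTS
  obtain ⟨R', hRR', hn⟩ := exists_fullyNormalized F hRS
  obtain ⟨e, he⟩ := isConj_iff.1 hRR'
  have hR'T : R' ≤ T := by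
    intro y hy
    have := hE.2.1.2 R hRT _ he (e.symm ⟨y, hy⟩)
    simpa using this
  have hR'S := hn.1
  have := finite_of_le hR'S
  have hEcc := conjClosed_of_isInvariantIn hE
  have hDcc := conjClosed_of_isInvariantIn hD
  -- `R'` is fully normalized in `E`
  have hnE : E.IsFullyNormalized R' := by
    refine ⟨hR'T, fun Q hQ => ?_⟩
    have hQT : Q ≤ T := le_right_of_isConj hQ
    obtain ⟨f, hl, hf, ψ, hψ, hψf, hψn⟩ := exists_hom_normalizerIn_of_fullyNormalized hS hF hn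
      (isConj_symm (isConj_of_isSubsystemOf hE.1 hQ))
    have hle : normalizerIn T Q ≤ normalizerIn S Q := inf_le_inf_right _ hTS
    have := finite_of_le ((normalizerIn_le (S := T) R').trans hTS)
    refine Nat.card_le_card_of_injective (fun g : normalizerIn T Q =>
      (⟨ψ (Subgroup.inclusion hle g), hE.2.1.2 (normalizerIn T Q) inf_le_left _
        (res_mem F hψ hle) g, (hψn _).2⟩ : normalizerIn T R')) ?_
    intro a b hab
    exact Subtype.ext (congrArg Subtype.val (F.injective_of_mem hψ (congrArg Subtype.val hab :) :) :)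
  obtain ⟨-, hi⟩ := (isFullyAutomized_iff (hS.to_le hTS)).1
    (fullyAutomized_receptive_of_fullyNormalized (hS.to_le hTS) hEs hnE).1
  obtain ⟨-, hiS⟩ := (isFullyAutomized_iff hS).1
    (fullyAutomized_receptive_of_fullyNormalized hS hF hn).1
  -- the transported element
  obtain ⟨χ, hχ, hχe⟩ := hEcc R R le_rfl hRT _ ((mem_autGroup_iff E hRT).1 hβ)
    (fun x => (β x).2) _ he
  have hr : (R.subgroupOf R).map (R'.subtype.comp e.toMonoidHom) = R' :=
    (img_self _).trans (range_subtype_comp e)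
  have hγE : (MulAut.congr e β : MulAut R') ∈ E.autGroup R' := by
    refine (mem_autGroup_iff E hR'T).2 (mem_of_eq hr hχ ?_)
    rintro ⟨_, y, hy, rfl⟩
    refine Eq.trans ?_ (hχe y _).symm
    change ((e (β (e.symm (e y))) : R') : Ω) = ((e (β y) : R') : Ω)
    rw [MulEquiv.symm_apply_apply]
  set γ : MulAut R' := MulAut.congr e β with hγ
  have hγpow : γ ^ p ^ k = 1 := by
    rw [hγ, ← map_pow, ← hk, pow_orderOf_eq_one, map_one]
  have hγp : IsPGroup p (Subgroup.zpowers γ) := by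
    obtain ⟨j, -, hj⟩ := (Nat.dvd_prime_pow Fact.out).1 (orderOf_dvd_of_pow_eq_one hγpow)
    exact IsPGroup.of_card (n := j) (by rw [Nat.card_zpowers, hj])
  obtain ⟨b, hb, hbγ⟩ := exists_conj_mem_of_le hγp (isPGroup_autInducedBy hS R')
    (Subgroup.zpowers_le.2 (autGroup_mono hE.1 R' hγE)) (autInducedBy_le_autGroup hR'S) hiS
  -- `Aut_S(R') ∩ Aut_E(R') = Aut_T(R')`
  have heq : autInducedBy T R' = autInducedBy S R' ⊓ E.autGroup R' :=
    eq_of_le_of_not_dvd ((isPGroup_autInducedBy hS R').to_le inf_le_left)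
      (le_inf (autInducedBy_mono hTS) (autInducedBy_le_autGroup hR'T)) inf_le_right hi
  have hbE : b * γ * b⁻¹ ∈ E.autGroup R' :=
    congr_mem_autGroup_of_conjClosed hEcc hR'T hE.1 hγE hb
  have h1 : b * γ * b⁻¹ ∈ D.autGroup R' := autInducedBy_le_autGroup hR'T
    (heq.symm.le ⟨hbγ γ (Subgroup.mem_zpowers γ), hbE⟩)
  have h2 : γ ∈ D.autGroup R' := by
    simpa [mul_assoc] using congr_mem_autGroup_of_conjClosed hDcc hR'T hD.1 h1 (inv_mem hb)
  obtain ⟨χ', hχ', hχ'e⟩ := hDcc R' R' le_rfl hR'T _ ((mem_autGroup_iff D hR'T).1 h2)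
    (fun x => (γ x).2) _ he.symm
  have hr' : (R'.subgroupOf R').map (R.subtype.comp e.symm.toMonoidHom) = R :=
    (img_self _).trans (range_subtype_comp e.symm)
  refine (mem_autGroup_iff D hRT).2 (mem_of_eq hr' hχ' ?_)
  rintro ⟨_, y, hy, rfl⟩
  refine Eq.trans ?_ (hχ'e y _).symm
  change ((β (e.symm y) : R) : Ω) = ((e.symm (e (β (e.symm y))) : R) : Ω)
  rw [MulEquiv.symm_apply_apply]

/-- An automorphism fixing pointwise a normal subgroup containing its centralizer has `p`-power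
order. -/
theorem exists_pow_eq_one_of_fix (hS : IsPGroup p S) (hTS : T ≤ S) {Q N : Subgroup Ω} (hN : N ≤ T)
    (hQN : Q ≤ N) (hQn : N ≤ Subgroup.normalizer (Q : Set Ω)) (hC : centralizerIn T Q ≤ Q)
    {δ : MulAut N} (hfix : ∀ x : Q, δ (Subgroup.inclusion hQN x) = Subgroup.inclusion hQN x) :
    ∃ m : ℕ, δ ^ p ^ m = 1 := by
  have hQS : Q ≤ S := (hQN.trans hN).trans hTS
  have := finite_of_le hQS
  obtain ⟨m, hm⟩ := IsPGroup.iff_card.1 (hS.to_le hQS)
  refine ⟨m, MulEquiv.ext fun g => ?_⟩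
  have hz : (((g⁻¹ * δ g : N)) : Ω) ∈ Q := by
    refine hC ⟨hN (g⁻¹ * δ g).2, fun y hy => ?_⟩
    have hy' : (g : Ω) * y * (g : Ω)⁻¹ ∈ Q := conj_mem_of_mem_normalizer (hQn g.2) hy
    have h1 := hfix ⟨_, hy'⟩
    have h2 : Subgroup.inclusion hQN ⟨_, hy'⟩ =
        g * Subgroup.inclusion hQN ⟨y, hy⟩ * g⁻¹ := Subtype.ext (by simp)
    rw [h2, map_mul, map_mul, map_inv, hfix] at h1
    have h3 := congrArg Subtype.val h1
    simp only [Subgroup.coe_mul, Subgroup.coe_inv, Subgroup.coe_inclusion] at h3 ⊢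
    have h4 : ((δ g : N) : Ω) * y = (g : Ω) * y * (g : Ω)⁻¹ * ((δ g : N) : Ω) :=
      mul_inv_eq_iff_eq_mul.1 h3
    calc y * ((g : Ω)⁻¹ * ((δ g : N) : Ω))
        = (g : Ω)⁻¹ * ((g : Ω) * y * (g : Ω)⁻¹ * ((δ g : N) : Ω)) := by group
      _ = (g : Ω)⁻¹ * (((δ g : N) : Ω) * y) := by rw [h4]
      _ = (g : Ω)⁻¹ * ((δ g : N) : Ω) * y := by group
  set z : Q := ⟨_, hz⟩
  have hzN : Subgroup.inclusion hQN z = g⁻¹ * δ g := rfl
  have hpow : ∀ i : ℕ, (δ ^ i) g = g * (g⁻¹ * δ g) ^ i := by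
    intro i
    induction i with
    | zero => simp
    | succ i ih =>
      rw [pow_succ', MulAut.mul_apply, ih, map_mul, map_pow, ← hzN, hfix, hzN, pow_succ',
        ← mul_assoc, mul_inv_cancel_left]
  rw [hpow, ← hzN, ← map_pow, ← hm, pow_card_eq_one', map_one, mul_one]
  rfl

/-- `γ` followed by a map of `D` is the inclusion of `Q`. -/
def IsFusedToIncl (D : FusionSystem T) (Q : Subgroup Ω) (γ : MulAut T) : Prop :=
  ∃ φ ∈ D.Hom Q, ∀ (x : Q) (hx : φ x ∈ T), ((γ ⟨φ x, hx⟩ : T) : Ω) = x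

/-- A power of `γ` lies in `Aut_D(T)`. -/
theorem exists_pow_mem_of_fused (hS : IsPGroup p S) (hF : F.IsSaturated p) (hDs : D.IsSaturated p)
    (hD : D.IsInvariantIn F) {Q : Subgroup Ω} (hQ : IsCentricRelTo F T Q) {γ : MulAut T}
    (hγ : γ ∈ F.autGroup T) (hf : IsFusedToIncl D Q γ) : ∃ m : ℕ, γ ^ p ^ m ∈ D.autGroup T := by
  have hTS : T ≤ S := hD.2.1.1
  have := finite_of_le hTS
  suffices H : ∀ (n : ℕ) (Q : Subgroup Ω), IsCentricRelTo F T Q → Nat.card T - Nat.card Q ≤ n →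
      ∀ γ : MulAut T, γ ∈ F.autGroup T → IsFusedToIncl D Q γ →
        ∃ m : ℕ, γ ^ p ^ m ∈ D.autGroup T from H _ Q hQ le_rfl γ hγ hf
  intro n
  induction n using Nat.strong_induction_on with
  | _ n ih =>
  intro Q hQ hn γ hγ hf
  obtain ⟨φ, hφ, hφe⟩ := hf
  rcases eq_or_lt_of_le hQ.1 with rfl | hlt
  · refine ⟨0, ?_⟩
    have h1 : γ⁻¹ ∈ D.autGroup Q := (mem_autGroup_iff D le_rfl).2 (mem_of_eq rfl hφ fun x => by
      change ((γ⁻¹ x : Q) : Ω) = φ x
      have h2 : γ ⟨φ x, apply_mem_S D hφ x⟩ = x := Subtype.ext (hφe x _)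
      conv_lhs => rw [← h2, MulAut.inv_apply_self])
    simpa using inv_mem h1
  set N := normalizerIn T Q with hNdef
  have hQN : Q < N := lt_normalizerIn (hS.to_le hTS) hlt
  have hNT : N ≤ T := normalizerIn_le Q
  have hNS := hNT.trans hTS
  have := finite_of_le hNS
  set Q₁ := φ.range with hQ₁
  obtain ⟨e, he, hee⟩ : ∃ e : Q ≃* Q₁, IsIso D e ∧ ∀ x, (e x : Ω) = φ x := exists_iso_of_mem hφ
  have hQ₁c : D.IsCentric Q₁ := isCentric_of_isConj_centric (hQ.isCentric_sub hD.1) ⟨φ, hφ, rfl⟩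
  have hext : N ≤ extender T Q (Q₁.subtype.comp e.toMonoidHom) := by
    intro g hg
    refine mem_extender_iff.2 ⟨hg.1, hg.2, ((γ⁻¹ ⟨g, hg.1⟩ : T) : Ω), (γ⁻¹ ⟨g, hg.1⟩).2, fun x => ?_⟩
    change (e (normAut g hg.2 x) : Ω) = ((γ⁻¹ ⟨g, hg.1⟩ : T) : Ω) * e x * ((γ⁻¹ ⟨g, hg.1⟩ : T) : Ω)⁻¹
    have hval : ∀ y : Q, (⟨φ y, apply_mem_S D hφ y⟩ : T) = γ⁻¹ ⟨y, hQ.1 y.2⟩ := fun y => by
      rw [show (⟨y, hQ.1 y.2⟩ : T) = γ ⟨φ y, apply_mem_S D hφ y⟩ from Subtype.ext (hφe y _).symm,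
        MulAut.inv_apply_self]
    have h1 : (⟨φ (normAut g hg.2 x), apply_mem_S D hφ _⟩ : T) = γ⁻¹ ⟨g, hg.1⟩ *
        ⟨φ x, apply_mem_S D hφ x⟩ * (γ⁻¹ ⟨g, hg.1⟩)⁻¹ := by
      rw [hval, hval, ← map_inv, ← map_mul, ← map_mul]
      exact congrArg _ (Subtype.ext (by simp))
    rw [hee, hee]
    exact congrArg Subtype.val h1
  obtain ⟨ψ, hψ, hψe⟩ := exists_extension (receptive_of_isCentric (hS.to_le hTS) hDs hQ₁c) he
    hQN.le hext
  -- the automorphism `δ = γ ψ` of `N`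
  have hψT : ∀ g : N, ψ g ∈ T := fun g => apply_mem_S D hψ g
  have hγF := (mem_autGroup_iff F hTS).1 hγ
  set dh : N →* Ω := (T.subtype.comp γ.toMonoidHom).comp (ψ.codRestrict T hψT) with hdh
  have hdF : dh ∈ F.Hom N := F.comp_mem (hD.1 N hψ) hγF hψT
  have hdQ : ∀ x : Q, dh (Subgroup.inclusion hQN.le x) = x := by
    intro x
    change ((γ ⟨ψ (Subgroup.inclusion hQN.le x), hψT _⟩ : T) : Ω) = x
    rw [show (⟨ψ (Subgroup.inclusion hQN.le x), hψT _⟩ : T) = ⟨φ x, apply_mem_S D hφ x⟩ from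
      Subtype.ext ((hψe x).trans (hee x))]
    exact hφe x _
  have hdN : ∀ g : N, dh g ∈ N := fun g => by
    refine ⟨(γ ⟨ψ g, hψT g⟩).2, ?_⟩
    exact (apply_mem_normalizerIn (e := MulEquiv.refl Q) hdF hQN.le hdQ (fun y hy => hy.2) g).2
  obtain ⟨δ, hδ, hδe⟩ := exists_iso_of_range hdF (Subgroup.eq_of_le_of_card_ge
    (by rintro _ ⟨g, rfl⟩; exact hdN g)
    (Nat.card_congr (MonoidHom.ofInjective (F.injective_of_mem hdF)).toEquiv).le)
  obtain ⟨m, hm⟩ := exists_pow_eq_one_of_fix hS hTS hNT hQN.le (fun y hy => hy.2)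
    (hQ.2 Q (isConj_refl (hQ.1.trans hTS))) (δ := δ)
    (fun x => Subtype.ext ((hδe _).trans (hdQ x)))
  have hpowers : ∀ i : ℕ, ∃ φi ∈ D.Hom N, ∀ (g : N) (hg : φi g ∈ T),
      (((γ ^ i) ⟨φi g, hg⟩ : T) : Ω) = (δ ^ i) g := by
    intro i
    induction i with
    | zero => exact ⟨N.subtype, id_mem D hNT, fun g hg => rfl⟩
    | succ i hi =>
      obtain ⟨φi, hφi, hφie⟩ := hi
      obtain ⟨χ, hχ, hχe⟩ := hD.2.2.1 N hNT φi hφi γ⁻¹ (inv_mem hγ)
      have hval : ∀ g : N, ψ g ∈ (N.subgroupOf T).map (T.subtype.comp (γ⁻¹).toMonoidHom) := by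
        intro g
        refine ⟨γ ⟨ψ g, hψT g⟩, hdN g, ?_⟩
        change ((γ⁻¹ (γ ⟨ψ g, hψT g⟩) : T) : Ω) = ψ g
        rw [MulAut.inv_apply_self]
      refine ⟨χ.comp (ψ.codRestrict _ hval), D.comp_mem hψ hχ hval, fun g hg => ?_⟩
      have h1 : (⟨(δ g : Ω), hNT (δ g).2⟩ : T) = γ ⟨ψ g, hψT g⟩ := Subtype.ext (hδe g)
      have h2 : ψ g = ((γ⁻¹ ⟨(δ g : Ω), hNT (δ g).2⟩ : T) : Ω) := by
        rw [h1, MulAut.inv_apply_self]
      have h3 : χ.comp (ψ.codRestrict _ hval) g =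
          ((γ⁻¹ ⟨φi (δ g), apply_mem_S D hφi _⟩ : T) : Ω) := by
        refine Eq.trans ?_ (hχe (δ g) (apply_mem_S D hφi _) (h2 ▸ hval g))
        exact congrArg χ (Subtype.ext h2)
      rw [show (⟨χ.comp (ψ.codRestrict _ hval) g, hg⟩ : T) =
        γ⁻¹ ⟨φi (δ g), apply_mem_S D hφi _⟩ from Subtype.ext h3, pow_succ, MulAut.mul_apply,
        MulAut.apply_inv_self, hφie, pow_succ, MulAut.mul_apply]
  obtain ⟨φm, hφm, hφme⟩ := hpowers (p ^ m)
  have hc : Nat.card Q < Nat.card N :=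
    lt_of_not_ge fun h => hQN.ne (Subgroup.eq_of_le_of_card_ge hQN.le h)
  have hc2 : Nat.card N ≤ Nat.card T := Subgroup.card_le_of_le hNT
  obtain ⟨l, hl⟩ := ih (Nat.card T - Nat.card N) (by omega) N (hQ.mono hQN.le hNT) le_rfl
    (γ ^ p ^ m) (pow_mem hγ _) ⟨φm, hφm, fun g hg => by rw [hφme g hg, hm]; rfl⟩
  exact ⟨m + l, by rwa [pow_add, pow_mul]⟩

/-- The residual of an invariant saturated subsystem lies in every other one over the same
group. -/
theorem pPrimeResidualSys_le_of_invariant (hS : IsPGroup p S) (hF : F.IsSaturated p) [Finite T]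
    (hEs : E.IsSaturated p) (hE : E.IsInvariantIn F) (hDs : D.IsSaturated p)
    (hD : D.IsInvariantIn F) : (pPrimeResidualSys E p).IsSubsystemOf D := by
  have hTS : T ≤ S := hE.2.1.1
  have hT := hS.to_le hTS
  have hDc : ∀ (R : Subgroup Ω) (φ : R →* Ω), φ ∈ (centricPElementSys E p).Hom R → φ ∈ D.Hom R := by
    intro R φ hφ
    let D' : FusionSystem T :=
      { Hom := fun P => {φ | φ ∈ D.Hom P}
        le_of_mem := fun h => D.le_of_mem h
        injective_of_mem := fun h => D.injective_of_mem h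
        conj_mem := fun hP hg => D.conj_mem hP hg
        comp_mem := fun hφ hψ h => D.comp_mem hφ hψ h
        inv_mem := fun h => D.inv_mem h }
    exact hφ.2 D' fun P hP β hβ hk => (mem_autGroup_iff D' hP.1).2
      ((mem_autGroup_iff D hP.1).1 (mem_autGroup_of_pElement_invariant hS hF hEs hE hD hP.1 hβ hk))
  intro P φ hφ
  obtain ⟨-, α, hα, φ₀, hφ₀, he⟩ := hφ
  have hαD : α ∈ D.autGroup T := by
    refine (Subgroup.closure_le _).2 ?_ hα
    rintro a ⟨ha, R, hRT, hRc, hres⟩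
    have haF : a ∈ F.autGroup T := autGroup_mono hE.1 T ha
    have hres' := hDc R _ hres
    have hinv := D.inv_mem hres'
    set Q := ((T.subtype.comp a.toMonoidHom).comp (Subgroup.inclusion hRT)).range with hQ
    obtain ⟨θ, hθ, hθe⟩ := hinv
    have hQc : IsCentricRelTo F T Q := isCentricRelTo_of_isCentric hE
      (isCentric_of_isConj_centric hRc ⟨_, res_mem E ((mem_autGroup_iff E le_rfl).1 ha) hRT, rfl⟩)
    obtain ⟨m, hm⟩ := exists_pow_mem_of_fused hS hF hDs hD hQc haF ⟨θ, hθ, by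
      rintro ⟨_, x, rfl⟩ hx
      rw [show (⟨θ ⟨_, x, rfl⟩, hx⟩ : T) = Subgroup.inclusion hRT x from Subtype.ext (hθe x)]
      rfl⟩
    -- `a` has order prime to `p` modulo the inner automorphisms
    have hTn : E.IsFullyNormalized T := isFullyNormalized_self
    obtain ⟨-, hi⟩ := (isFullyAutomized_iff hT).1
      (fullyAutomized_receptive_of_fullyNormalized hT hEs hTn).1
    set I := autInducedBy T T with hI
    have hIn : (I.subgroupOf (E.autGroup T)).Normal := by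
      rw [hI, ← inn_eq]
      exact inn_subgroupOf_normal E T
    have hid : orderOf (QuotientGroup.mk' (I.subgroupOf (E.autGroup T))
        (⟨a, ha⟩ : E.autGroup T)) ∣ I.relIndex (E.autGroup T) := by
      rw [Subgroup.relIndex, Subgroup.index]
      exact orderOf_dvd_natCard _
    set π := QuotientGroup.mk' (I.subgroupOf (E.autGroup T)) with hπ
    have hco : (p ^ m).Coprime (orderOf (π ⟨a, ha⟩)) := Nat.Coprime.pow_left m
      ((Fact.out : p.Prime).coprime_iff_not_dvd.2 fun h => hi (h.trans hid))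
    obtain ⟨j, hj⟩ := exists_pow_eq_self_of_coprime hco
    rw [← map_pow, ← map_pow] at hj
    have h2 : ((((⟨a, ha⟩ : E.autGroup T) ^ p ^ m) ^ j)⁻¹ * ⟨a, ha⟩ : E.autGroup T) ∈
        I.subgroupOf (E.autGroup T) := QuotientGroup.eq.1 hj
    have h3 : ((a ^ p ^ m) ^ j)⁻¹ * a ∈ I := h2
    have h4 := mul_mem (pow_mem hm j) (autInducedBy_le_autGroup (F := D) le_rfl h3)
    rwa [mul_inv_cancel_left] at h4
  exact mem_of_eq rfl (D.comp_mem (hDc P φ₀ hφ₀) ((mem_autGroup_iff D le_rfl).1 hαD)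
    fun x => apply_mem_S _ hφ₀ x) fun x => he x _

end CfsgLib.Fusion
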