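import Cfsg.Agent.Lib.Fusion.MinimalRealization
import Cfsg.Agent.Lib.Fusion.ModelUnique
import Cfsg.Agent.Lib.Fusion.ModelExists
import Cfsg.Agent.Lib.Fusion.ModelConstrained
import Cfsg.Agent.Lib.Transfer.PSolvable

/-!
# Realization by `p`-solvable groups
-/

set_option autoImplicit false

open Cfsg Cfsg.FusionSystem

namespace CfsgLib.Fusion

universe u

/-- An extension of a `p`-group by a `p`-solvable group is `p`-solvable. -/
theorem isPSolvable_of_ker_pGroup {p : ℕ} [Fact p.Prime] {G Q : Type*} [Group G] [Finite G] [Group Q]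
    {f : G →* Q} (hf : Function.Surjective f) (hk : IsPGroup p f.ker) (hQ : IsPSolvable p Q) :
    IsPSolvable p G := by
  obtain ⟨n, A, h0, hl, hm, hn, hstep⟩ := hQ
  refine ⟨n + 1, Fin.cons ⊥ fun i => (A i).comap f, rfl, ?_, ?_, ?_, ?_⟩
  · rw [← Fin.succ_last, Fin.cons_succ, hl, Subgroup.comap_top]
  · refine Fin.monotone_iff_le_succ.2 fun i => ?_
    refine Fin.cases ?_ (fun j => ?_) i
    · exact bot_le
    · rw [Fin.cons_succ, ← Fin.succ_castSucc, Fin.cons_succ]
      exact Subgroup.comap_mono (hm (Fin.castSucc_lt_succ).le)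
  · intro i
    refine Fin.cases ?_ (fun j => ?_) i
    · exact (inferInstance : (⊥ : Subgroup G).Normal)
    · rw [Fin.cons_succ]; exact (hn j).comap f
  · intro i
    refine Fin.cases ?_ (fun j => ?_) i
    · left
      obtain ⟨k, hk'⟩ := hk.exists_card_eq
      refine ⟨k, ?_⟩
      change (⊥ : Subgroup G).relIndex ((A 0).comap f) = p ^ k
      rw [Subgroup.relIndex_bot_left, h0, MonoidHom.comap_bot, hk']
    · rw [Fin.cons_succ, ← Fin.succ_castSucc, Fin.cons_succ, Subgroup.relIndex_comap,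
        Subgroup.map_comap_eq_self_of_surjective hf]
      exact hstep j

variable {Ω : Type u} [Group Ω] {S : Subgroup Ω} [Finite S] {F : FusionSystem S} {p : ℕ}
  [Fact p.Prime]

/-- The quotient by a normal subgroup of order prime to `p` realizes the same system. -/
theorem isRealizedBy_mk_of_coprime {G : Type*} [Group G] [Finite G] {ι : S →* G}
    (hS : IsPGroup p S) (hι : F.IsRealizedBy ι) (P₀ : Sylow p G)
    (hP₀ : (P₀ : Subgroup G) = ι.range) (O : Subgroup G) [O.Normal]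
    (hOc : (Nat.card O).Coprime p) :
    F.IsRealizedBy ((QuotientGroup.mk' O).comp ι) ∧
      ∃ T : Sylow p (G ⧸ O), (T : Subgroup (G ⧸ O)) = ((QuotientGroup.mk' O).comp ι).range := by
  have hiS : IsPGroup p ι.range := hP₀ ▸ P₀.2
  have hdisj : ∀ s : S, ι s ∈ O → s = 1 := by
    intro s hs
    obtain ⟨k, hk⟩ := hS s
    have h1 : orderOf (ι s) ∣ Nat.card O := Subgroup.orderOf_dvd_natCard O hs
    have h2 : orderOf (ι s) ∣ p ^ k :=
      orderOf_dvd_of_pow_eq_one (by rw [← map_pow, hk, map_one])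
    have h3 := Nat.dvd_gcd h1 h2
    rw [Nat.Coprime.gcd_eq_one (hOc.pow_right k), Nat.dvd_one, orderOf_eq_one_iff] at h3
    exact hι.1 (h3.trans ι.map_one.symm)
  let θ : S →* G ⧸ O := (QuotientGroup.mk' O).comp ι
  have hθ : Function.Injective θ := by
    rw [injective_iff_map_eq_one]
    exact fun s hs => hdisj s ((QuotientGroup.eq_one_iff _).1 hs)
  have hreal' : F.IsRealizedBy θ := by
    refine ⟨hθ, fun P hP φ hφ => ⟨fun h => ?_, ?_⟩⟩
    · obtain ⟨g, hg⟩ := (hι.2 P hP φ hφ).1 h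
      refine ⟨QuotientGroup.mk' O g, fun x => ?_⟩
      change QuotientGroup.mk' O (ι _) = _ * QuotientGroup.mk' O (ι _) * _
      rw [hg, map_mul, map_mul, map_inv]
    · rintro ⟨g', hg'⟩
      obtain ⟨g, rfl⟩ := QuotientGroup.mk'_surjective O g'
      have hU : ∀ x : P, g * ι ⟨x, hP x.2⟩ * g⁻¹ ∈ ι.range ⊔ O := by
        intro x
        have h1 : (ι ⟨φ x, hφ x⟩)⁻¹ * (g * ι ⟨x, hP x.2⟩ * g⁻¹) ∈ O := by
          rw [← QuotientGroup.eq_one_iff]
          change QuotientGroup.mk' O _ = 1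
          rw [map_mul, map_inv, inv_mul_eq_one, map_mul, map_mul, map_inv]
          exact hg' x
        have h2 := Subgroup.mul_mem_sup (show ι ⟨φ x, hφ x⟩ ∈ ι.range from ⟨_, rfl⟩) h1
        rwa [mul_inv_cancel_left] at h2
      obtain ⟨n, hn, hne⟩ := exists_conj_mem_of_le (p := p)
        (U := ((P.subgroupOf S).map ι).map (MulAut.conj g).toMonoidHom) (T := ι.range)
        (N := ι.range ⊔ O) (((hS.to_subgroup _).map ι).map _) hiS
        (by rintro _ ⟨_, ⟨z, hz, rfl⟩, rfl⟩; exact hU ⟨z, hz⟩) le_sup_left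
        (fun h => P₀.not_dvd_index (by
          rw [hP₀, ← Subgroup.relIndex_mul_index (le_sup_left : ι.range ≤ ι.range ⊔ O)]
          exact dvd_mul_of_dvd_left h _))
      obtain ⟨s, hs, o, ho, rfl⟩ := Subgroup.mem_sup_of_normal_right.1 hn
      refine (hι.2 P hP φ hφ).2 ⟨o * g, fun x => ?_⟩
      have h1 := hne (g * ι ⟨x, hP x.2⟩ * g⁻¹) ⟨_, ⟨⟨x, hP x.2⟩, x.2, rfl⟩, rfl⟩
      have h2 : o * g * ι ⟨x, hP x.2⟩ * (o * g)⁻¹ ∈ ι.range := by
        have h3 := Subgroup.mul_mem _ (Subgroup.mul_mem _ (Subgroup.inv_mem _ hs) h1) hs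
        convert h3 using 1
        group
      obtain ⟨t, ht⟩ := h2
      have h4 : θ t = θ ⟨φ x, hφ x⟩ := by
        rw [hg' x]
        change QuotientGroup.mk' O (ι t) = _
        rw [ht, map_mul, map_mul, map_inv, map_mul,
          show QuotientGroup.mk' O o = 1 from (QuotientGroup.eq_one_iff o).2 ho, one_mul]
        rfl
      rw [← hθ h4, ht]
  have hTq : ∃ T : Sylow p (G ⧸ O), (T : Subgroup (G ⧸ O)) = θ.range := by
    have hr : θ.range = ι.range.map (QuotientGroup.mk' O) := MonoidHom.range_comp _ _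
    rw [hr]
    refine ⟨(hiS.map _).toSylow fun h => ?_, IsPGroup.toSylow_coe _ _⟩
    exact P₀.not_dvd_index (hP₀ ▸ h.trans (Subgroup.index_map_dvd _ (QuotientGroup.mk'_surjective O)))
  exact ⟨hreal', hTq⟩

/-- The action of a model on its normal subgroups is `Aut_F`. -/
theorem exists_hom_autGroup (hS : IsPGroup p S) {G : Type u} [Group G] {ι : S →* G}
    (hM : F.IsModel p G ι) {Q : Subgroup Ω} (hQ : F.IsNormal Q) :
    ∃ f : G →* F.autGroup Q, Function.Surjective f ∧
      f.ker ≤ Subgroup.centralizer (((Q.subgroupOf S).map ι : Subgroup G) : Set G) := by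
  have hQn := map_normal_of_isModel hM hQ
  obtain ⟨hfin, hreal, -, -⟩ := hM
  have hQS := hQ.1
  set N : Subgroup G := (Q.subgroupOf S).map ι
  have := hQn
  let η : Q →* N := (ι.comp (Subgroup.inclusion hQS)).codRestrict N fun x =>
    ⟨⟨x, hQS x.2⟩, x.2, rfl⟩
  have hη : Function.Bijective η := by
    refine ⟨fun a b h => Subgroup.inclusion_injective hQS (hreal.1 (congrArg Subtype.val h)), ?_⟩
    rintro ⟨_, s, hs, rfl⟩
    exact ⟨⟨s, hs⟩, rfl⟩
  let η' : Q ≃* N := MulEquiv.ofBijective η hη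
  let f₀ : G →* MulAut Q := (MulAut.congr η'.symm).toMonoidHom.comp MulAut.conjNormal
  have hf₀ : ∀ (g : G) (x : Q), ι ⟨f₀ g x, hQS (f₀ g x).2⟩ = g * ι ⟨x, hQS x.2⟩ * g⁻¹ := by
    intro g x
    have h1 : η' (f₀ g x) = MulAut.conjNormal g (η' x) := by
      change η' (η'.symm (MulAut.conjNormal g (η' x))) = _
      rw [η'.apply_symm_apply]
    have h2 := congrArg Subtype.val h1
    rw [MulAut.conjNormal_apply] at h2
    exact h2
  have hmem : ∀ g, f₀ g ∈ F.autGroup Q := fun g =>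
    (mem_autGroup_iff F hQS).2 ((hreal.2 Q hQS _ fun x => hQS (f₀ g x).2).2 ⟨g, hf₀ g⟩)
  refine ⟨f₀.codRestrict _ hmem, fun α => ?_, fun g hg => ?_⟩
  · obtain ⟨g, hg⟩ := (hreal.2 Q hQS _ fun x => hQS ((α : MulAut Q) x).2).1
      ((mem_autGroup_iff F hQS).1 α.2)
    refine ⟨g, Subtype.ext (MulEquiv.ext fun x => Subgroup.inclusion_injective hQS
      (hreal.1 ?_))⟩
    exact (hf₀ g x).trans (hg x).symm
  · rw [Subgroup.mem_centralizer_iff]
    rintro _ ⟨s, hs, rfl⟩
    have h1 := hf₀ g ⟨s, hs⟩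
    rw [show f₀ g = 1 from congrArg Subtype.val hg] at h1
    exact eq_mul_inv_iff_mul_eq.1 h1

/-- Systems of `p`-solvable groups. -/
theorem realizable_pSolvable_iff (hS : IsPGroup p S) (hF : F.IsSaturated p) :
    (∃ (G : Type u) (_ : Group G) (_ : Finite G) (ι : S →* G), Cfsg.IsPSolvable p G ∧
        F.IsRealizedBy ι ∧ ∃ T : Sylow p G, (T : Subgroup G) = ι.range) ↔
      (F.IsConstrained p ∧ Cfsg.IsPSolvable p ↥(F.autGroup F.core)) := by
  constructor
  · rintro ⟨G, _, _, ι, hsol, hι, P₀, hP₀⟩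
    obtain ⟨hr, hT⟩ := isRealizedBy_mk_of_coprime hS hι P₀ hP₀ (pPrimeCore p G)
      (Cores.coprime_card_pPrimeCore p)
    have hsol' := Transfer.isPSolvable_quotient hsol (pPrimeCore p G)
    have hM : F.IsModel p (G ⧸ pPrimeCore p G) ((QuotientGroup.mk' (pPrimeCore p G)).comp ι) :=
      ⟨inferInstance, hr, hT, Transfer.centralizer_pCore_le_of_isPSolvable hsol'
        (Cores.pPrimeCore_quotient_self p)⟩
    refine ⟨isConstrained_of_isModel hS hM, ?_⟩
    obtain ⟨f, hf, -⟩ := exists_hom_autGroup hS hM (isNormal_core (F := F))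
    exact Transfer.isPSolvable_of_surjective hsol' hf
  · rintro ⟨hC, hsol⟩
    obtain ⟨G, _, ι, hM⟩ := exists_model hS hC
    have hcore : F.IsNormal F.core := isNormal_core
    have hcc : F.IsCentric F.core := by
      obtain ⟨-, Q₀, hQ₀, hQ₀c⟩ := hC
      exact isCentric_of_le (le_sSup hQ₀) hcore.1 hQ₀c
    obtain ⟨f, hf, hker⟩ := exists_hom_autGroup hS hM hcore
    have hle := hker.trans (centralizer_img_le_of_isModel hS hM hcore hcc)
    have : Finite G := hM.1
    exact ⟨G, inferInstance, hM.1, ι, isPSolvable_of_ker_pGroup hf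
      (((hS.to_subgroup _).map ι).to_le hle) hsol, hM.2.1, hM.2.2.1⟩

end CfsgLib.Fusion
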