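import Cfsg.Agent.Lib.Fusion.Fused
import Cfsg.Agent.Lib.Golay.Code

/-!
# Checked certificates for simplicity of fusion systems of groups of permutations of 24 points

A Sylow `p`-subgroup (here `p = 2`) is given by generators along a series with factors of order 2,
its elements are enumerated, and the normaliser is controlled by the orbits of the terms of its
lower central series.
-/

set_option autoImplicit false

open Cfsg Cfsg.FusionSystem

open scoped Pointwise

namespace CfsgLib.Fusion.PermCert

open CfsgLib.Golay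

/-- The permutation of a list. -/
noncomputable abbrev pOf (L : List ℕ) : Equiv.Perm GolayPt := permOf ptEquiv L

section lists

theorem validL_compL {n : ℕ} {A B : List ℕ} (hA : validL n A = true) (hB : validL n B = true) :
    validL n (compL A B) = true := by
  refine validL_iff.2 ⟨?_, ?_, fun j hj => ?_⟩
  · rw [compL_length, (validL_iff.1 hB).1]
  · intro x hx
    obtain ⟨i, hi, rfl⟩ := List.mem_map.1 hx
    exact validL_getD_lt hA ((validL_iff.1 hB).2.1 i hi)
  · obtain ⟨k, hk⟩ := validL_surj hA ⟨j, hj⟩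
    exact List.mem_map.2 ⟨k.val, (validL_iff.1 hB).2.2 k.val k.isLt, hk⟩

theorem pOf_compL {A B : List ℕ} (hA : validL 24 A = true) (hB : validL 24 B = true) :
    pOf (compL A B) = pOf A * pOf B :=
  permOf_comp ptEquiv hA hB (validL_compL hA hB)

theorem pOf_range : pOf (List.range 24) = 1 := permOf_id ptEquiv (by decide)

theorem eq_of_pOf_eq {A B : List ℕ} (hA : validL 24 A = true) (hB : validL 24 B = true)
    (h : pOf A = pOf B) : A = B := by
  refine List.ext_getElem (by rw [(validL_iff.1 hA).1, (validL_iff.1 hB).1]) fun i h1 h2 => ?_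
  have hi : i < 24 := by rw [(validL_iff.1 hA).1] at h1; exact h1
  have h3 := permOf_apply ptEquiv hA (pt i)
  have h4 := permOf_apply ptEquiv hB (pt i)
  rw [show permOf ptEquiv A = permOf ptEquiv B from h] at h3
  rw [h3, ptEquiv_pt hi] at h4
  rwa [List.getD_eq_getElem _ _ h1, List.getD_eq_getElem _ _ h2] at h4

end lists

/-! ### Enumeration of a group along a series -/

/-- The candidate for `x y x⁻¹`. -/
def conjL (x y : List ℕ) : List ℕ := compL (compL x y) (invL x)

/-- `c` is checked to be `x y x⁻¹`. -/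
def conjOk (x y c : List ℕ) : Bool :=
  validL 24 c && decide (compL c x = compL x y)

theorem conjOk_spec {x y c : List ℕ} (hx : validL 24 x = true) (hy : validL 24 y = true)
    (h : conjOk x y c = true) : pOf c = pOf x * pOf y * (pOf x)⁻¹ := by
  simp only [conjOk, Bool.and_eq_true, decide_eq_true_eq] at h
  rw [← pOf_compL hx hy, ← h.2, pOf_compL h.1 hx, mul_inv_cancel_right]

/-- One more generator: the list of elements is doubled. -/
def extend (E : List (List ℕ)) (x : List ℕ) : List (List ℕ) := E ++ E.map fun a => compL a x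

/-- The elements of the group generated along a series. -/
def polyList : List (List ℕ) → List (List ℕ) → List (List ℕ)
  | E, [] => E
  | E, x :: xs => polyList (extend E x) xs

/-- The check of a series: each generator normalises the group of the previous ones, lies outside
it and has its square inside. -/
def polyOk : List (List ℕ) → List (List ℕ) → List (List ℕ) → Bool
  | _, _, [] => true
  | E, pre, x :: xs =>
    validL 24 x && !E.contains x && E.contains (compL x x) &&
      (pre.all fun y => conjOk x y (conjL x y) && E.contains (conjL x y)) &&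
      polyOk (extend E x) (pre ++ [x]) xs

/-- A list of permutation lists that is exactly a subgroup. -/
def Enum (E : List (List ℕ)) (H : Subgroup (Equiv.Perm GolayPt)) : Prop :=
  (∀ a ∈ E, validL 24 a = true) ∧ ∀ g, g ∈ H ↔ ∃ a ∈ E, pOf a = g

theorem Enum.mem {E : List (List ℕ)} {H : Subgroup (Equiv.Perm GolayPt)} (hE : Enum E H)
    {a : List ℕ} (h : E.contains a = true) : pOf a ∈ H :=
  (hE.2 _).2 ⟨a, List.contains_iff_mem.1 h, rfl⟩

/-- The subgroup generated by a list. -/
noncomputable def genBy (gens : List (List ℕ)) : Subgroup (Equiv.Perm GolayPt) :=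
  Subgroup.closure {g | ∃ a ∈ gens, pOf a = g}

theorem genBy_le {gens : List (List ℕ)} {H : Subgroup (Equiv.Perm GolayPt)}
    (h : ∀ a ∈ gens, pOf a ∈ H) : genBy gens ≤ H := by
  rw [genBy, Subgroup.closure_le]
  rintro _ ⟨a, ha, rfl⟩
  exact h a ha

theorem mem_genBy {gens : List (List ℕ)} {a : List ℕ} (h : a ∈ gens) : pOf a ∈ genBy gens :=
  Subgroup.subset_closure ⟨a, h, rfl⟩

theorem extend_spec {E pre : List (List ℕ)} {x : List ℕ} (hE : Enum E (genBy pre))
    (hcard : Nat.card (genBy pre) = 2 ^ pre.length)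
    (hx : validL 24 x = true) (hnot : E.contains x = false)
    (hsq : E.contains (compL x x) = true)
    (hconj : ∀ y ∈ pre, pOf x * pOf y * (pOf x)⁻¹ ∈ genBy pre) :
    Enum (extend E x) (genBy (pre ++ [x])) ∧
      Nat.card (genBy (pre ++ [x])) = 2 ^ (pre ++ [x]).length := by
  set H := genBy pre with hH
  set X := pOf x with hX
  have hx2 : X * X ∈ H := by
    rw [hX, ← pOf_compL hx hx]
    exact hE.mem hsq
  have hxH : X ∉ H := by
    intro h
    obtain ⟨a, ha, hae⟩ := (hE.2 _).1 h
    have := eq_of_pOf_eq (hE.1 a ha) hx hae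
    subst this
    rw [List.contains_iff_mem.2 ha] at hnot
    cases hnot
  have hc : ∀ h ∈ H, X * h * X⁻¹ ∈ H := by
    have h1 : H ≤ H.comap (MulAut.conj X).toMonoidHom :=
      genBy_le fun a ha => hconj a ha
    exact fun h hh => h1 hh
  have hc' : ∀ h ∈ H, X⁻¹ * h * X ∈ H := by
    intro h hh
    have h1 := mul_mem (mul_mem (inv_mem hx2) (hc h hh)) hx2
    rwa [show (X * X)⁻¹ * (X * h * X⁻¹) * (X * X) = X⁻¹ * h * X by group] at h1
  let U : Subgroup (Equiv.Perm GolayPt) :=
    { carrier := {g | g ∈ H ∨ g * X⁻¹ ∈ H}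
      one_mem' := Or.inl H.one_mem
      mul_mem' := fun {a b} ha hb => by
        rcases ha with ha | ha <;> rcases hb with hb | hb
        · exact Or.inl (mul_mem ha hb)
        · refine Or.inr ?_
          rw [mul_assoc]
          exact mul_mem ha hb
        · refine Or.inr ?_
          have h1 := mul_mem ha (hc b hb)
          rwa [show a * X⁻¹ * (X * b * X⁻¹) = a * b * X⁻¹ by group] at h1
        · refine Or.inl ?_
          have h1 := mul_mem (mul_mem ha (hc _ hb)) hx2
          rwa [show a * X⁻¹ * (X * (b * X⁻¹) * X⁻¹) * (X * X) = a * b by group] at h1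
      inv_mem' := fun {a} ha => by
        rcases ha with ha | ha
        · exact Or.inl (inv_mem ha)
        · refine Or.inr ?_
          have h1 := mul_mem (hc' _ (inv_mem ha)) (inv_mem hx2)
          rwa [show X⁻¹ * (a * X⁻¹)⁻¹ * X * (X * X)⁻¹ = a⁻¹ * X⁻¹ by group] at h1 }
  have hle : H ≤ genBy (pre ++ [x]) :=
    genBy_le fun a ha => mem_genBy (List.mem_append_left _ ha)
  have hXm : X ∈ genBy (pre ++ [x]) :=
    mem_genBy (List.mem_append_right _ (List.mem_singleton_self x))
  have hmem : ∀ g, g ∈ genBy (pre ++ [x]) ↔ g ∈ H ∨ g * X⁻¹ ∈ H := by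
    intro g
    constructor
    · intro hg
      refine genBy_le (H := U) ?_ hg
      intro a ha
      rcases List.mem_append.1 ha with ha | ha
      · exact Or.inl (mem_genBy ha)
      · rw [List.mem_singleton] at ha
        subst ha
        exact Or.inr (by rw [← hX, mul_inv_cancel]; exact H.one_mem)
    · rintro (h | h)
      · exact hle h
      · simpa using mul_mem (hle h) hXm
  refine ⟨⟨?_, fun g => ?_⟩, ?_⟩
  · intro a ha
    rcases List.mem_append.1 ha with ha | ha
    · exact hE.1 a ha
    · obtain ⟨b, hb, rfl⟩ := List.mem_map.1 ha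
      exact validL_compL (hE.1 b hb) hx
  · rw [hmem]
    constructor
    · rintro (h | h)
      · obtain ⟨a, ha, hae⟩ := (hE.2 _).1 h
        exact ⟨a, List.mem_append_left _ ha, hae⟩
      · obtain ⟨a, ha, hae⟩ := (hE.2 _).1 h
        refine ⟨compL a x, List.mem_append_right _ (List.mem_map.2 ⟨a, ha, rfl⟩), ?_⟩
        rw [pOf_compL (hE.1 a ha) hx, hae, ← hX, inv_mul_cancel_right]
    · rintro ⟨a, ha, rfl⟩
      rcases List.mem_append.1 ha with ha | ha
      · exact Or.inl ((hE.2 _).2 ⟨a, ha, rfl⟩)
      · obtain ⟨b, hb, rfl⟩ := List.mem_map.1 ha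
        refine Or.inr ?_
        rw [pOf_compL (hE.1 b hb) hx, ← hX, mul_inv_cancel_right]
        exact (hE.2 _).2 ⟨b, hb, rfl⟩
  · have hf : Function.Bijective (fun u : H ⊕ H => (Sum.elim
        (fun h => (⟨h.1, hle h.2⟩ : genBy (pre ++ [x])))
        (fun h => ⟨h.1 * X, mul_mem (hle h.2) hXm⟩) u)) := by
      constructor
      · rintro (a | a) (b | b) h <;> have h' := congrArg Subtype.val h <;>
          simp only [Sum.elim_inl, Sum.elim_inr] at h'
        · exact congrArg Sum.inl (Subtype.ext h')
        · exact absurd (eq_inv_mul_of_mul_eq h'.symm ▸ mul_mem (inv_mem b.2) a.2) hxH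
        · exact absurd (eq_inv_mul_of_mul_eq h' ▸ mul_mem (inv_mem a.2) b.2) hxH
        · exact congrArg Sum.inr (Subtype.ext (mul_right_cancel h'))
      · rintro ⟨g, hg⟩
        rcases (hmem g).1 hg with h | h
        · exact ⟨Sum.inl ⟨g, h⟩, rfl⟩
        · exact ⟨Sum.inr ⟨g * X⁻¹, h⟩, Subtype.ext (inv_mul_cancel_right g X)⟩
    rw [← Nat.card_eq_of_bijective _ hf, Nat.card_sum, hcard, List.length_append,
      List.length_singleton, pow_succ]
    ring

theorem poly_spec : ∀ {xs E pre : List (List ℕ)}, polyOk E pre xs = true →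
    Enum E (genBy pre) → (∀ a ∈ pre, validL 24 a = true) →
    Nat.card (genBy pre) = 2 ^ pre.length →
    Enum (polyList E xs) (genBy (pre ++ xs)) ∧ (∀ a ∈ pre ++ xs, validL 24 a = true) ∧
      Nat.card (genBy (pre ++ xs)) = 2 ^ (pre ++ xs).length
  | [], E, pre, _, hE, hv, hc => by simpa [polyList] using ⟨hE, hv, hc⟩
  | x :: xs, E, pre, h, hE, hv, hc => by
    simp only [polyOk, Bool.and_eq_true, Bool.not_eq_true', List.all_eq_true] at h
    obtain ⟨⟨⟨⟨hx, hnot⟩, hsq⟩, hconj⟩, hrec⟩ := h
    obtain ⟨hE', hc'⟩ := extend_spec hE hc hx hnot hsq fun y hy => by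
      rw [← conjOk_spec hx (hv y hy) (hconj y hy).1]
      exact hE.mem (hconj y hy).2
    have := poly_spec hrec hE' (fun a ha => by
      rcases List.mem_append.1 ha with ha | ha
      · exact hv a ha
      · rw [List.mem_singleton] at ha; exact ha ▸ hx) hc'
    rw [List.append_assoc] at this
    simpa [polyList] using this

/-- The elements of the group of a series. -/
def elems (gens : List (List ℕ)) : List (List ℕ) := polyList [List.range 24] gens

theorem elems_spec {gens : List (List ℕ)} (h : polyOk [List.range 24] [] gens = true) :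
    Enum (elems gens) (genBy gens) ∧ (∀ a ∈ gens, validL 24 a = true) ∧
      Nat.card (genBy gens) = 2 ^ gens.length := by
  have hbot : genBy [] = ⊥ := le_bot_iff.1 (genBy_le (by simp))
  simpa [elems] using poly_spec h ⟨by simp +decide, fun g => by
      rw [hbot, Subgroup.mem_bot]
      simp [pOf_range, eq_comm]⟩ (by simp) (by rw [hbot]; simp)

/-! ### Fusion chains -/

/-- A step: `(y, g, i, j)` says that `y` is the product of the entries `i` and `j` if `g` is
empty, and otherwise the conjugate of entry `i` by `g`. -/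
abbrev FStep := List ℕ × List ℕ × ℕ × ℕ

/-- The check of a fusion chain. -/
def fusedOk (test : List ℕ → Bool) (E : List (List ℕ)) :
    List (List ℕ) → List FStep → List (List ℕ) → Bool
  | T, [], goal => goal.all fun a => T.contains a
  | T, (y, g, i, j) :: rest, goal =>
    (if g = [] then decide (i < T.length) && decide (j < T.length) &&
        decide (y = compL (T.getD i []) (T.getD j []))
      else validL 24 g && test g && decide (i < T.length) && E.contains y &&
        decide (compL g (T.getD i []) = compL y g)) &&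
      fusedOk test E (T ++ [y]) rest goal

/-- Fusion inside a subgroup `K` of the symmetric group. -/
inductive FusedIn (K S : Subgroup (Equiv.Perm GolayPt)) (z : Equiv.Perm GolayPt) :
    Equiv.Perm GolayPt → Prop
  | base : FusedIn K S z z
  | one : FusedIn K S z 1
  | mul {a b : Equiv.Perm GolayPt} : FusedIn K S z a → FusedIn K S z b → FusedIn K S z (a * b)
  | conj {a : Equiv.Perm GolayPt} (g : Equiv.Perm GolayPt) : g ∈ K → FusedIn K S z a →
      g * a * g⁻¹ ∈ S → FusedIn K S z (g * a * g⁻¹)

theorem fusedOk_spec {K S : Subgroup (Equiv.Perm GolayPt)} {z : Equiv.Perm GolayPt}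
    {test : List ℕ → Bool} (htest : ∀ L, validL 24 L = true → test L = true → pOf L ∈ K)
    {E : List (List ℕ)} (hE : Enum E S) :
    ∀ {T : List (List ℕ)} {steps : List FStep} {goal : List (List ℕ)},
      fusedOk test E T steps goal = true →
      (∀ a ∈ T, validL 24 a = true ∧ FusedIn K S z (pOf a)) →
      ∀ a ∈ goal, FusedIn K S z (pOf a)
  | T, [], goal, h, hT, a, ha => by
    simp only [fusedOk, List.all_eq_true] at h
    exact (hT a (List.contains_iff_mem.1 (h a ha))).2
  | T, (y, g, i, j) :: rest, goal, h, hT, a, ha => by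
    simp only [fusedOk, Bool.and_eq_true] at h
    have hget : ∀ k < T.length, T.getD k [] ∈ T := fun k hk => by
      rw [List.getD_eq_getElem _ _ hk]; exact List.getElem_mem hk
    refine fusedOk_spec htest hE h.2 (fun b hb => ?_) a ha
    rcases List.mem_append.1 hb with hb | hb
    · exact hT b hb
    rw [List.mem_singleton] at hb
    subst hb
    have h1 := h.1
    split at h1
    · simp only [Bool.and_eq_true, decide_eq_true_eq] at h1
      obtain ⟨⟨hi, hj⟩, rfl⟩ := h1
      obtain ⟨hvi, hfi⟩ := hT _ (hget i hi)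
      obtain ⟨hvj, hfj⟩ := hT _ (hget j hj)
      exact ⟨validL_compL hvi hvj, pOf_compL hvi hvj ▸ hfi.mul hfj⟩
    · simp only [Bool.and_eq_true, decide_eq_true_eq] at h1
      obtain ⟨⟨⟨⟨hg, htg⟩, hi⟩, hyE⟩, heq⟩ := h1
      obtain ⟨hvi, hfi⟩ := hT _ (hget i hi)
      have hy := hE.1 b (List.contains_iff_mem.1 hyE)
      have h2 : pOf b = pOf g * pOf (T.getD i []) * (pOf g)⁻¹ := by
        rw [← pOf_compL hg hvi, heq, pOf_compL hy hg, mul_inv_cancel_right]
      refine ⟨hy, h2 ▸ FusedIn.conj (pOf g) (htest g hg htg) hfi ?_⟩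
      rw [← h2]
      exact hE.mem hyE

/-! ### Partitions of the 24 points -/

/-- The label of a point. -/
def lab (l : List ℕ) (p : GolayPt) : ℕ := l.getD (ptEquiv p).val 0

theorem lab_pt {l : List ℕ} {i : ℕ} (h : i < 24) : lab l (pt i) = l.getD i 0 := by
  simp [lab, ptEquiv_pt h]

/-- `g` permutes the blocks of a labelling. -/
def Respects (l : List ℕ) (g : Equiv.Perm GolayPt) : Prop :=
  ∀ p q, lab l p = lab l q ↔ lab l (g p) = lab l (g q)

/-- `g` fixes every block of a labelling. -/
def Fixes (l : List ℕ) (g : Equiv.Perm GolayPt) : Prop := ∀ p, lab l (g p) = lab l p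

/-- The subgroup fixing every block. -/
def fixSub (l : List ℕ) : Subgroup (Equiv.Perm GolayPt) where
  carrier := {g | Fixes l g}
  one_mem' := fun _ => rfl
  mul_mem' := fun {a b} ha hb p => (ha (b p)).trans (hb p)
  inv_mem' := fun {a} ha p => by
    have := ha (a⁻¹ p)
    simpa using this.symm

/-- The check that a permutation list fixes every block. -/
def fixLabOk (l : List ℕ) (L : List ℕ) : Bool :=
  (List.range 24).all fun i => decide (l.getD (L.getD i 0) 0 = l.getD i 0)

theorem fixLabOk_spec {l L : List ℕ} (hL : validL 24 L = true) (h : fixLabOk l L = true) :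
    pOf L ∈ fixSub l := by
  simp only [fixLabOk, List.all_eq_true, List.mem_range, decide_eq_true_eq] at h
  intro p
  change l.getD (ptEquiv (permOf ptEquiv L p)).val 0 = _
  rw [permOf_apply ptEquiv hL p]
  exact h _ (ptEquiv p).isLt

/-- One step of the orbit computation on masks. -/
def orbStep (C : List (List ℕ)) (m : ℕ) : ℕ := C.foldl (fun m L => m ||| imgMask L m) m

/-- Iterated steps. -/
def orbIter (C : List (List ℕ)) : ℕ → ℕ → ℕ
  | 0, m => m
  | k + 1, m => orbIter C k (orbStep C m)

/-- The check that every block lies inside one orbit. -/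
def orbOk (C : List (List ℕ)) (l : List ℕ) : Bool :=
  (List.range 24).all fun i => (List.range 24).all fun j =>
    if l.getD i 0 = l.getD j 0 ∧ i < j ∧ ((List.range i).all fun k => l.getD k 0 != l.getD i 0) then
      (orbIter C 6 (2 ^ i)).testBit j else true

theorem toSet_lor (a b : ℕ) : toSet (a ||| b) = toSet a ∪ toSet b := by
  ext p
  simp [mem_toSet, Nat.testBit_or]

theorem toSet_two_pow {i : ℕ} (h : i < 24) : toSet (2 ^ i) = {pt i} := by
  ext p
  rw [mem_toSet, Finset.mem_singleton, Nat.testBit_two_pow, decide_eq_true_eq]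
  constructor
  · intro hp
    rw [← pt_ptEquiv p, hp]
  · rintro rfl
    rw [ptEquiv_pt h]

theorem orbIter_spec {C : List (List ℕ)} {H : Subgroup (Equiv.Perm GolayPt)}
    (hC : ∀ L ∈ C, validL 24 L = true ∧ pOf L ∈ H) (p₀ : GolayPt) :
    ∀ (k : ℕ) (m : ℕ), (∀ p ∈ toSet m, ∃ h ∈ H, h p₀ = p) →
      ∀ p ∈ toSet (orbIter C k m), ∃ h ∈ H, h p₀ = p
  | 0, _, hm => hm
  | k + 1, m, hm => by
    refine orbIter_spec hC p₀ k _ ?_
    suffices H' : ∀ (C' : List (List ℕ)) (m : ℕ), (∀ L ∈ C', L ∈ C) →
        (∀ p ∈ toSet m, ∃ h ∈ H, h p₀ = p) →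
        ∀ p ∈ toSet (C'.foldl (fun m L => m ||| imgMask L m) m), ∃ h ∈ H, h p₀ = p from
      H' C m (fun _ h => h) hm
    intro C'
    induction C' with
    | nil => exact fun m _ hm => hm
    | cons L Ls ih =>
      intro m hsub hm
      refine ih _ (fun M hM => hsub M (List.mem_cons_of_mem _ hM)) fun p hp => ?_
      rw [toSet_lor, Finset.mem_union] at hp
      obtain ⟨hv, hLH⟩ := hC L (hsub L List.mem_cons_self)
      rcases hp with hp | hp
      · exact hm p hp
      · rw [← smul_toSet hv m] at hp
        obtain ⟨q, hq, rfl⟩ := Finset.mem_smul_finset.1 hp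
        obtain ⟨h, hh, rfl⟩ := hm q hq
        exact ⟨pOf L * h, mul_mem hLH hh, rfl⟩

theorem orbOk_spec {C : List (List ℕ)} {l : List ℕ} {H : Subgroup (Equiv.Perm GolayPt)}
    (hC : ∀ L ∈ C, validL 24 L = true ∧ pOf L ∈ H) (h : orbOk C l = true) (p q : GolayPt)
    (hpq : lab l p = lab l q) : ∃ t ∈ H, t p = q := by
  simp only [orbOk, List.all_eq_true, List.mem_range] at h
  -- the first point of the block
  classical
  have hex : ∃ k, k < 24 ∧ l.getD k 0 = lab l p := ⟨_, (ptEquiv p).isLt, rfl⟩
  let i := Nat.find hex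
  obtain ⟨hi, hil⟩ : i < 24 ∧ l.getD i 0 = lab l p := Nat.find_spec hex
  have hfirst : ∀ k < i, (l.getD k 0 != l.getD i 0) = true := by
    intro k hk
    rw [bne_iff_ne]
    exact fun he => Nat.find_min hex hk ⟨hk.trans hi, he.trans hil⟩
  have key : ∀ r : GolayPt, lab l r = lab l p → ∃ t ∈ H, t (pt i) = r := by
    intro r hr
    have hle : i ≤ (ptEquiv r).val := Nat.find_le ⟨(ptEquiv r).isLt, hr⟩
    rcases eq_or_lt_of_le hle with he | hlt
    · exact ⟨1, H.one_mem, by rw [he, pt_ptEquiv]; rfl⟩
    have := h i hi (ptEquiv r).val (ptEquiv r).isLt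
    rw [if_pos ⟨hil.trans hr.symm, hlt, hfirst⟩] at this
    refine orbIter_spec hC (pt i) 6 _ (fun x hx => ?_) r (mem_toSet.2 this)
    rw [toSet_two_pow hi, Finset.mem_singleton] at hx
    exact ⟨1, H.one_mem, hx.symm⟩
  obtain ⟨t, ht, htp⟩ := key p rfl
  obtain ⟨s, hs, hsq⟩ := key q hpq.symm
  refine ⟨s * t⁻¹, mul_mem hs (inv_mem ht), ?_⟩
  rw [Equiv.Perm.mul_apply, ← htp]
  simp [hsq]

/-- An element normalising a subgroup permutes its orbits. -/
theorem respects_of_normalizer {H : Subgroup (Equiv.Perm GolayPt)} {g : Equiv.Perm GolayPt}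
    (hg : g ∈ Subgroup.normalizer (H : Set (Equiv.Perm GolayPt))) {l : List ℕ}
    (hfix : H ≤ fixSub l) (horb : ∀ p q, lab l p = lab l q → ∃ h ∈ H, h p = q) :
    Respects l g := by
  have key : ∀ g ∈ Subgroup.normalizer (H : Set (Equiv.Perm GolayPt)), ∀ p q,
      lab l p = lab l q → lab l (g p) = lab l (g q) := by
    intro g hg p q hpq
    obtain ⟨h, hh, rfl⟩ := horb p q hpq
    have h1 := hfix (conj_mem_of_mem_normalizer hg hh) (g p)
    simpa [Equiv.Perm.mul_apply] using h1.symm
  refine fun p q => ⟨key g hg p q, fun hpq => ?_⟩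
  simpa using key g⁻¹ (inv_mem hg) _ _ hpq

/-- The check that each block contains at most two blocks of the next labelling. -/
def binaryOk (l l' : List ℕ) : Bool :=
  (List.range 24).all fun i => (List.range 24).all fun j =>
    decide (l'.getD i 0 = l'.getD j 0 → l.getD i 0 = l.getD j 0) &&
      if l.getD i 0 = l.getD j 0 then
        (List.range 24).all fun k =>
          decide (l.getD i 0 = l.getD k 0 →
            l'.getD i 0 = l'.getD j 0 ∨ l'.getD i 0 = l'.getD k 0 ∨ l'.getD j 0 = l'.getD k 0)
      else true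

theorem fixes_sq {l l' : List ℕ} (hb : binaryOk l l' = true) {g : Equiv.Perm GolayPt}
    (hg : Fixes l g) (hg' : Respects l' g) : Fixes l' (g * g) := by
  intro p
  simp only [binaryOk, List.all_eq_true, List.mem_range, Bool.and_eq_true,
    decide_eq_true_eq] at hb
  have h1 := (hb _ (ptEquiv p).isLt _ (ptEquiv (g p)).isLt).2
  rw [if_pos (show l.getD (ptEquiv p).val 0 = l.getD (ptEquiv (g p)).val 0 from (hg p).symm)] at h1
  simp only [List.all_eq_true, List.mem_range, decide_eq_true_eq] at h1
  have h2 := h1 _ (ptEquiv (g (g p))).isLt ((hg p).symm.trans (hg (g p)).symm)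
  rw [Equiv.Perm.mul_apply]
  rcases h2 with h | h | h
  · exact ((hg' p (g p)).1 h).symm.trans h.symm
  · exact h.symm
  · exact (((hg' p (g p)).2 h).trans h).symm

end CfsgLib.Fusion.PermCert
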