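import Cfsg.Agent.Lib.Fusion.PermCert

/-!
# The certificate theorem for simplicity of fusion systems of permutation groups of 24 points
-/

set_option autoImplicit false

open Cfsg Cfsg.FusionSystem

open scoped Pointwise commutatorElement

namespace CfsgLib.Fusion.PermCert

open CfsgLib.Golay

/-- Commutators of generators control the commutator of two generated subgroups. -/
theorem commutator_closure_le {G : Type*} [Group G] {A B : Set G} {N : Subgroup G}
    (hA : ∀ a ∈ A, a ∈ Subgroup.normalizer (N : Set G))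
    (hB : ∀ b ∈ B, b ∈ Subgroup.normalizer (N : Set G))
    (h : ∀ a ∈ A, ∀ b ∈ B, ⁅a, b⁆ ∈ N) : ⁅Subgroup.closure A, Subgroup.closure B⁆ ≤ N := by
  have key : ∀ (X : Set G) (y : G), (∀ x ∈ X, x ∈ Subgroup.normalizer (N : Set G)) →
      (∀ x ∈ X, ⁅x, y⁆ ∈ N) → ∀ g ∈ Subgroup.closure X,
      g ∈ Subgroup.normalizer (N : Set G) ∧ ⁅g, y⁆ ∈ N := by
    intro X y hX hXy g hg
    induction hg using Subgroup.closure_induction with
    | mem x hx => exact ⟨hX x hx, hXy x hx⟩
    | one => exact ⟨one_mem _, by simp⟩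
    | mul a b _ _ iha ihb =>
      refine ⟨mul_mem iha.1 ihb.1, ?_⟩
      have h1 := mul_mem (CfsgLib.Fusion.conj_mem_of_mem_normalizer iha.1 ihb.2) iha.2
      rwa [show a * ⁅b, y⁆ * a⁻¹ * ⁅a, y⁆ = ⁅a * b, y⁆ by
        simp only [commutatorElement_def]; group] at h1
    | inv a _ iha =>
      refine ⟨inv_mem iha.1, ?_⟩
      have h1 := CfsgLib.Fusion.conj_mem_of_mem_normalizer (inv_mem iha.1) (inv_mem iha.2)
      rwa [show a⁻¹ * ⁅a, y⁆⁻¹ * a⁻¹⁻¹ = ⁅a⁻¹, y⁆ by
        simp only [commutatorElement_def]; group] at h1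
  rw [Subgroup.commutator_le]
  intro g hg k hk
  have h1 : ∀ b ∈ B, ⁅b, g⁆ ∈ N := fun b hb => by
    rw [← commutatorElement_inv g b]
    exact inv_mem (key A b hA (fun a ha => h a ha b hb) g hg).2
  rw [← commutatorElement_inv k g]
  exact inv_mem (key B g hB h1 k hk).2

theorem mem_normalizer_genBy {D : List (List ℕ)} {x : Equiv.Perm GolayPt}
    (h : ∀ d ∈ D, x * pOf d * x⁻¹ ∈ genBy D) :
    x ∈ Subgroup.normalizer (genBy D : Set (Equiv.Perm GolayPt)) := by
  have h1 : genBy D ≤ (genBy D).comap (MulAut.conj x).toMonoidHom := genBy_le h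
  exact CfsgLib.Fusion.mem_normalizer_of_forall fun _ hy => h1 hy

/-- The candidate for `x y x⁻¹ y⁻¹`. -/
def commL (x y : List ℕ) : List ℕ := compL (conjL x y) (invL y)

/-- `c` is checked to be the commutator of `x` and `y`. -/
def commOk (x y c : List ℕ) : Bool := validL 24 c && decide (compL c (compL y x) = compL x y)

theorem commOk_spec {x y c : List ℕ} (hx : validL 24 x = true) (hy : validL 24 y = true)
    (h : commOk x y c = true) : validL 24 c = true ∧ pOf c = ⁅pOf x, pOf y⁆ := by
  simp only [commOk, Bool.and_eq_true, decide_eq_true_eq] at h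
  refine ⟨h.1, ?_⟩
  have h1 : pOf c * (pOf y * pOf x) = pOf x * pOf y := by
    rw [← pOf_compL hy hx, ← pOf_compL h.1 (validL_compL hy hx), h.2, pOf_compL hx hy]
  rw [commutatorElement_def, eq_mul_inv_of_mul_eq h1, mul_inv_rev, ← mul_assoc]

/-- The selected iterated commutators. -/
def commsL (C gens : List (List ℕ)) (sel : List (ℕ × ℕ)) : List (List ℕ) :=
  sel.map fun ij => commL (C.getD ij.1 []) (gens.getD ij.2 [])

/-- The check of the levels below a labelling. -/
def levelsOk (gens : List (List ℕ)) :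
    List (List ℕ) → List (List ℕ) → List ℕ → List (List (List ℕ) × List ℕ × List (ℕ × ℕ)) → Bool
  | _, _, l, [] => binaryOk l (List.range 24)
  | pg, C, l, (D, l', sel) :: rest =>
    polyOk [List.range 24] [] D &&
      D.all (fixLabOk l') &&
      (gens.all fun x => D.all fun d => conjOk x d (conjL x d) && (elems D).contains (conjL x d)) &&
      (pg.all fun x => gens.all fun y => commOk x y (commL x y) &&
        (elems D).contains (commL x y)) &&
      (pg.all fun x => D.all fun d => conjOk x d (conjL x d) && (elems D).contains (conjL x d)) &&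
      (sel.all fun ij => decide (ij.1 < C.length) && decide (ij.2 < gens.length) &&
        commOk (C.getD ij.1 []) (gens.getD ij.2 []) (commL (C.getD ij.1 []) (gens.getD ij.2 []))) &&
      orbOk (commsL C gens sel) l' && binaryOk l l' &&
      levelsOk gens D (commsL C gens sel) l' rest

theorem levels_spec {gens : List (List ℕ)} (hg : ∀ a ∈ gens, validL 24 a = true) :
    ∀ {levels : List (List (List ℕ) × List ℕ × List (ℕ × ℕ))} {pg C : List (List ℕ)} {l : List ℕ}
      {H : Subgroup (Equiv.Perm GolayPt)}, levelsOk gens pg C l levels = true →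
      (∀ a ∈ pg, validL 24 a = true) → H ≤ genBy pg →
      (∀ c ∈ C, validL 24 c = true ∧ pOf c ∈ H) →
      ∀ h ∈ Subgroup.normalizer (genBy gens : Set (Equiv.Perm GolayPt)),
        h ∈ Subgroup.normalizer (H : Set (Equiv.Perm GolayPt)) → Fixes l h →
        h ^ 2 ^ (levels.length + 1) = 1
  | [], pg, C, l, H, hok, _, _, _, h, _, _, hfix => by
    simp only [levelsOk] at hok
    have h1 : Respects (List.range 24) h := by
      intro p q
      have hv : ∀ r : GolayPt, lab (List.range 24) r = (ptEquiv r).val := fun r => by simp [lab]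
      rw [hv, hv, hv, hv]
      constructor
      · intro he
        rw [ptEquiv.injective (Fin.ext he)]
      · intro he
        rw [h.injective (ptEquiv.injective (Fin.ext he))]
    have h2 := fixes_sq hok hfix h1
    rw [show h ^ 2 ^ (([] : List (List (List ℕ) × List ℕ × List (ℕ × ℕ))).length + 1) = h * h by simp [sq]]
    refine Equiv.ext fun p => ?_
    have h3 : lab (List.range 24) ((h * h) p) = lab (List.range 24) p := h2 p
    simp only [lab] at h3
    rw [List.getD_eq_getElem _ _ (by simp), List.getD_eq_getElem _ _ (by simp)] at h3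
    simp only [List.getElem_range] at h3
    exact ptEquiv.injective (Fin.ext ((List.getElem_range _).symm.trans h3))
  | (D, l', sel) :: rest, pg, C, l, H, hok, hpg, hH, hC, h, hS, hN, hfix => by
    simp only [levelsOk, Bool.and_eq_true, List.all_eq_true, decide_eq_true_eq] at hok
    obtain ⟨⟨⟨⟨⟨⟨⟨⟨hpoly, hfixD⟩, hconjS⟩, hcomm⟩, hconjP⟩, hC'⟩, horb⟩, hbin⟩, hrec⟩ := hok
    obtain ⟨hE, hDv, -⟩ := elems_spec hpoly
    set H' := ⁅H, genBy gens⁆ with hH'
    have hH'le : H' ≤ genBy D := by
      refine (Subgroup.commutator_mono hH le_rfl).trans (commutator_closure_le ?_ ?_ ?_)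
      · rintro _ ⟨x, hx, rfl⟩
        refine mem_normalizer_genBy fun d hd => ?_
        rw [← conjOk_spec (hpg x hx) (hDv d hd) (hconjP x hx d hd).1]
        exact hE.mem (hconjP x hx d hd).2
      · rintro _ ⟨x, hx, rfl⟩
        refine mem_normalizer_genBy fun d hd => ?_
        rw [← conjOk_spec (hg x hx) (hDv d hd) (hconjS x hx d hd).1]
        exact hE.mem (hconjS x hx d hd).2
      · rintro _ ⟨x, hx, rfl⟩ _ ⟨y, hy, rfl⟩
        rw [← (commOk_spec (hpg x hx) (hg y hy) (hcomm x hx y hy).1).2]
        exact hE.mem (hcomm x hx y hy).2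
    have hCm : ∀ c ∈ commsL C gens sel, validL 24 c = true ∧ pOf c ∈ H' := by
      intro c hc
      obtain ⟨⟨i, j⟩, hij, rfl⟩ := List.mem_map.1 hc
      obtain ⟨⟨hi, hj⟩, hck⟩ := hC' _ hij
      dsimp only at hi hj hck ⊢
      have ha : C.getD i [] ∈ C := by
        rw [List.getD_eq_getElem _ _ hi]; exact List.getElem_mem hi
      have hx : gens.getD j [] ∈ gens := by
        rw [List.getD_eq_getElem _ _ hj]; exact List.getElem_mem hj
      obtain ⟨hv, he⟩ := commOk_spec (hC _ ha).1 (hg _ hx) hck
      exact ⟨hv, he ▸ Subgroup.commutator_mem_commutator (hC _ ha).2 (mem_genBy hx)⟩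
    have hN' : h ∈ Subgroup.normalizer (H' : Set (Equiv.Perm GolayPt)) := by
      rw [← CfsgLib.Fusion.conjSub_eq_iff_mem_normalizer] at hS hN ⊢
      rw [hH', CfsgLib.Fusion.conjSub, Subgroup.map_commutator]
      rw [CfsgLib.Fusion.conjSub] at hS hN
      rw [hS, hN]
    have hfixle : H' ≤ fixSub l' :=
      hH'le.trans (genBy_le fun d hd => fixLabOk_spec (hDv d hd) (hfixD d hd))
    have hresp : Respects l' h :=
      respects_of_normalizer hN' hfixle (orbOk_spec hCm horb)
    have := levels_spec hg hrec hDv hH'le hCm (h * h) (mul_mem hS hS) (mul_mem hN' hN')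
      (fixes_sq hbin hfix hresp)
    rw [← sq, ← pow_mul, ← pow_succ'] at this
    simpa using this

/-- The number of points of the block of a point. -/
def blockSize (l : List ℕ) (i : ℕ) : ℕ :=
  ((List.range 24).filter fun j => l.getD j 0 == l.getD i 0).length

/-- The check that the blocks of the top labelling are told apart by size and invariant masks. -/
def topOk (l : List ℕ) (masks : List ℕ) : Bool :=
  (List.range 24).all fun i => (List.range 24).all fun j =>
    decide (l.getD i 0 = l.getD j 0) || decide (blockSize l i ≠ blockSize l j) ||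
      masks.any fun m => m.testBit i != m.testBit j

theorem blockSize_eq (l : List ℕ) (p : GolayPt) :
    blockSize l (ptEquiv p).val = (Finset.univ.filter fun q => lab l q = lab l p).card := by
  classical
  rw [blockSize, ← List.toFinset_card_of_nodup (List.nodup_range.filter _)]
  refine (Finset.card_bij' (fun q _ => (ptEquiv q).val) (fun i _ => pt i) ?_ ?_ ?_ ?_).symm
  · intro q hq
    rw [List.mem_toFinset, List.mem_filter, List.mem_range, beq_iff_eq]
    exact ⟨(ptEquiv q).isLt, (Finset.mem_filter.1 hq).2⟩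
  · intro i hi
    simp only [List.mem_toFinset, List.mem_filter, List.mem_range, beq_iff_eq] at hi
    exact Finset.mem_filter.2 ⟨Finset.mem_univ _, (lab_pt hi.1).trans hi.2⟩
  · intro q _
    exact pt_ptEquiv q
  · intro i hi
    simp only [List.mem_toFinset, List.mem_filter, List.mem_range] at hi
    exact ptEquiv_pt hi.1

theorem top_fixes {l : List ℕ} {masks : List ℕ} (h : topOk l masks = true)
    {g : Equiv.Perm GolayPt} (hg : Respects l g) (hm : ∀ m ∈ masks, g • toSet m = toSet m) :
    Fixes l g := by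
  intro p
  simp only [topOk, List.all_eq_true, List.mem_range, Bool.or_eq_true, decide_eq_true_eq,
    List.any_eq_true, bne_iff_ne] at h
  rcases h _ (ptEquiv p).isLt _ (ptEquiv (g p)).isLt with (h1 | h1) | ⟨m, hmm, h1⟩
  · exact h1.symm
  · exfalso
    apply h1
    rw [blockSize_eq, blockSize_eq]
    refine Finset.card_equiv g fun q => ?_
    simp only [Finset.mem_filter, Finset.mem_univ, true_and]
    exact hg q p
  · exfalso
    apply h1
    rw [Bool.eq_iff_iff, ← mem_toSet, ← mem_toSet]
    conv_rhs => rw [← hm m hmm, ← Equiv.Perm.smul_def, Finset.smul_mem_smul_finset_iff]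

/-- A certificate of simplicity. -/
def certOk (test : List ℕ → Bool) (gens : List (List ℕ)) (z : List ℕ) (steps : List FStep)
    (masks : List ℕ) (l₀ : List ℕ) (levels : List (List (List ℕ) × List ℕ × List (ℕ × ℕ))) : Bool :=
  polyOk [List.range 24] [] gens && gens.all test && validL 24 z &&
    (elems gens).contains z && decide (compL z z = List.range 24) && decide (z ≠ List.range 24) &&
    ((elems gens).all fun c => decide (c = z) || decide (c = List.range 24) ||
      gens.any fun x => decide (compL c x ≠ compL x c)) &&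
    fusedOk test (elems gens) [z] steps gens &&
    gens.all (fixLabOk l₀) && orbOk gens l₀ && topOk l₀ masks &&
    levelsOk gens gens gens l₀ levels

/-- Simplicity of the `2`-fusion system from a checked certificate. -/
theorem isSimple_of_cert (K : Subgroup (Equiv.Perm GolayPt)) {test : List ℕ → Bool}
    (htest : ∀ L, validL 24 L = true → test L = true → pOf L ∈ K) {gens : List (List ℕ)}
    {z : List ℕ} {steps : List FStep} {masks : List ℕ} {l₀ : List ℕ}
    {levels : List (List (List ℕ) × List ℕ × List (ℕ × ℕ))}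
    (hmasks : ∀ g ∈ K, ∀ m ∈ masks, g • toSet m = toSet m)
    (hok : certOk test gens z steps masks l₀ levels = true) {m : ℕ}
    (hcard : Nat.card K = 2 ^ gens.length * m) (hm : ¬ 2 ∣ m) (S : Sylow 2 K) :
    (groupFusionSystem (S : Subgroup K)).IsSimple 2 := by
  simp only [certOk, Bool.and_eq_true, List.all_eq_true, decide_eq_true_eq, Bool.or_eq_true,
    List.any_eq_true] at hok
  obtain ⟨⟨⟨⟨⟨⟨⟨⟨⟨⟨⟨hpoly, hgt⟩, hzv⟩, hzE⟩, hz2⟩, hz1⟩, hcen⟩, hfus⟩, hfix0⟩, horb0⟩, htop⟩,
    hlev⟩ := hok
  obtain ⟨hE, hgv, hcardS⟩ := elems_spec hpoly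
  set S₀ := genBy gens with hS₀
  have hS₀K : S₀ ≤ K := genBy_le fun a ha => htest a (hgv a ha) (hgt a ha)
  set T : Subgroup K := S₀.subgroupOf K with hT
  have hTcard : Nat.card T = 2 ^ gens.length :=
    (Nat.card_congr (Subgroup.subgroupOfEquivOfLe hS₀K).toEquiv).trans hcardS
  have hTp : IsPGroup 2 T := IsPGroup.of_card hTcard
  have hTi : ¬ 2 ∣ T.index := by
    have h1 := T.card_mul_index
    rw [hTcard, hcard] at h1
    rwa [Nat.eq_of_mul_eq_mul_left (by positivity) h1]
  set S₁ := hTp.toSylow hTi with hS₁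
  obtain ⟨k, hk⟩ := MulAction.exists_smul_eq K S₁ S
  have hSconj : (S : Subgroup K) = CfsgLib.Fusion.conjSub k T := by
    rw [← hk]
    rfl
  let zK : K := ⟨pOf z, hS₀K (hE.mem hzE)⟩
  refine CfsgLib.Fusion.isSimple_of_fused S (k * zK * k⁻¹) ?_ ?_ ?_ ?_ ?_ ?_
  · intro h
    rw [conj_eq_one_iff] at h
    have h1 : pOf z = pOf (List.range 24) := by
      rw [pOf_range]; exact congrArg Subtype.val h
    exact hz1 (eq_of_pOf_eq hzv (by decide) h1)
  · rw [hSconj]
    exact CfsgLib.Fusion.conj_mem_conjSub (g := k) (x := zK) (hE.mem hzE)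
  · intro c hc hcomm
    rw [hSconj] at hc hcomm
    obtain ⟨c₀, hc₀, rfl⟩ := Subgroup.mem_map.1 hc
    obtain ⟨a, ha, hae⟩ := (hE.2 _).1 (show (c₀ : Equiv.Perm GolayPt) ∈ S₀ from hc₀)
    rcases hcen a ha with (rfl | rfl) | ⟨x, hx, hne⟩
    · have : c₀ = zK := Subtype.ext hae.symm
      subst this
      exact Subgroup.mem_zpowers _
    · have : c₀ = 1 := Subtype.ext (hae.symm.trans pOf_range)
      subst this
      simp
    · exfalso
      apply hne
      have hxK : pOf x ∈ K := hS₀K (mem_genBy hx)
      have h1 := hcomm _ (CfsgLib.Fusion.conj_mem_conjSub (g := k) (x := ⟨pOf x, hxK⟩)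
        (show (⟨pOf x, hxK⟩ : K) ∈ T from mem_genBy hx))
      have h2 : (⟨pOf x, hxK⟩ : K) * c₀ = c₀ * ⟨pOf x, hxK⟩ := by
        apply (MulAut.conj k).injective
        simpa [MulAut.conj_apply] using h1
      have h3 := congrArg Subtype.val h2
      simp only [Subgroup.coe_mul] at h3
      refine eq_of_pOf_eq (validL_compL (hE.1 a ha) (hgv x hx))
        (validL_compL (hgv x hx) (hE.1 a ha)) ?_
      rw [pOf_compL (hE.1 a ha) (hgv x hx), pOf_compL (hgv x hx) (hE.1 a ha), hae]
      exact h3.symm
  · rw [conj_pow, conj_eq_one_iff, sq]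
    refine Subtype.ext ?_
    change pOf z * pOf z = 1
    rw [← pOf_compL hzv hzv, hz2, pOf_range]
  · have hgenF : ∀ a ∈ gens, FusedIn K S₀ (pOf z) (pOf a) :=
      fusedOk_spec htest hE hfus fun b hb => by
        rw [List.mem_singleton] at hb
        subst hb
        exact ⟨hzv, .base⟩
    have lift : ∀ y, FusedIn K S₀ (pOf z) y → ∀ hy : y ∈ K, CfsgLib.Fusion.Fused T zK ⟨y, hy⟩ := by
      intro y hy
      suffices H : ∃ hy : y ∈ K, CfsgLib.Fusion.Fused T zK ⟨y, hy⟩ from fun _ => H.2
      induction hy with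
      | base => exact ⟨hS₀K (hE.mem hzE), .base⟩
      | one => exact ⟨K.one_mem, .one⟩
      | mul _ _ iha ihb => exact ⟨K.mul_mem iha.1 ihb.1, iha.2.mul ihb.2⟩
      | @conj a g hg _ hgs ih =>
        refine ⟨hS₀K hgs, ?_⟩
        exact ih.2.conj (⟨g, hg⟩ : K) (show _ ∈ T from hgs)
    have hclos : ∀ y ∈ S₀, FusedIn K S₀ (pOf z) y := by
      intro y hy
      rw [hS₀, genBy, ← SetLike.mem_coe, ← Subgroup.coe_toSubmonoid,
        Subgroup.closure_toSubmonoid_of_finite] at hy
      induction hy using Submonoid.closure_induction with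
      | mem w hw =>
        obtain ⟨a, ha, rfl⟩ := hw
        exact hgenF a ha
      | one => exact .one
      | mul a b _ _ iha ihb => exact iha.mul ihb
    intro x hx
    rw [hSconj] at hx ⊢
    obtain ⟨x₀, hx₀, rfl⟩ := Subgroup.mem_map.1 hx
    exact (lift _ (hclos _ hx₀) x₀.2).conjSub k
  · intro g hg
    rw [hSconj, ← CfsgLib.Fusion.conjSub_eq_iff_mem_normalizer] at hg
    set h : K := k⁻¹ * g * k with hh
    have h1 : CfsgLib.Fusion.conjSub h T = T := by
      rw [hh, mul_assoc, ← CfsgLib.Fusion.conjSub_conjSub, ← CfsgLib.Fusion.conjSub_conjSub, hg,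
        CfsgLib.Fusion.conjSub_conjSub, inv_mul_cancel, CfsgLib.Fusion.conjSub_one]
    have hN : (h : Equiv.Perm GolayPt) ∈ Subgroup.normalizer (S₀ : Set (Equiv.Perm GolayPt)) := by
      refine CfsgLib.Fusion.mem_normalizer_of_forall fun y hy => ?_
      have h2 : h * ⟨y, hS₀K hy⟩ * h⁻¹ ∈ CfsgLib.Fusion.conjSub h T :=
        CfsgLib.Fusion.conj_mem_conjSub (show _ ∈ T from hy)
      rw [h1] at h2
      exact h2
    have hfixle : S₀ ≤ fixSub l₀ := genBy_le fun d hd => fixLabOk_spec (hgv d hd) (hfix0 d hd)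
    have hC : ∀ c ∈ gens, validL 24 c = true ∧ pOf c ∈ S₀ := fun c hc => ⟨hgv c hc, mem_genBy hc⟩
    have hresp : Respects l₀ (h : Equiv.Perm GolayPt) :=
      respects_of_normalizer hN hfixle (orbOk_spec hC horb0)
    have h3 := levels_spec hgv hlev hgv le_rfl hC _ hN hN
      (top_fixes htop hresp fun m hm => hmasks _ h.2 m hm)
    refine ⟨levels.length + 1, ?_⟩
    have h4 : h ^ 2 ^ (levels.length + 1) = 1 := Subtype.ext (by simpa using h3)
    have h5 : g = k * h * k⁻¹ := by rw [hh]; group
    rw [h5, conj_pow, h4, mul_one, mul_inv_cancel]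

end CfsgLib.Fusion.PermCert
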