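import Cfsg.Agent.Lib.Fusion.Stabilizer

/-!
# Automorphism groups of abelian p-groups generated by transvections, with Sylow subgroups of order p
-/

set_option autoImplicit false

namespace CfsgLib.Fusion.PlaneTransvection

variable {V : Type*} [CommGroup V] [Finite V] {p : ℕ} [Fact p.Prime]

/-- `σ` fixes exactly `Z` and moves every element by a power of `c`. -/
structure IsTr (σ : MulAut V) (Z : Subgroup V) (c : V) : Prop where
  fix : ∀ z, σ z = z ↔ z ∈ Z
  im : ∀ v, v⁻¹ * σ v ∈ Subgroup.zpowers c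
  mem : c ∈ Z
  idx : Z.index = p
  ord : orderOf c = p

variable {σ τ : MulAut V} {Z Z' : Subgroup V} {c c' : V}

theorem IsTr.ne_one (h : IsTr (p := p) σ Z c) : σ ≠ 1 := by
  intro e
  have ht : Z = ⊤ := eq_top_iff.2 fun v _ => (h.fix v).1 (by rw [e]; rfl)
  have := h.idx
  rw [ht, Subgroup.index_top] at this
  exact (Fact.out : p.Prime).one_lt.ne this

/-- The conjugate of a transvection. -/
theorem IsTr.conj (h : IsTr (p := p) σ Z c) (α : MulAut V) :
    IsTr (p := p) (α * σ * α⁻¹) (Z.map α.toMonoidHom) (α c) := by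
  constructor
  · intro z
    show α (σ (α⁻¹ z)) = z ↔ _
    constructor
    · intro e
      refine ⟨α⁻¹ z, (h.fix _).1 ?_, MulAut.apply_inv_self V α z⟩
      apply α.injective
      rw [e, MulAut.apply_inv_self]
    · rintro ⟨y, hy, rfl⟩
      show α (σ (α⁻¹ (α y))) = α y
      rw [MulAut.inv_apply_self, (h.fix y).2 hy]
  · intro v
    obtain ⟨k, hk⟩ := Subgroup.mem_zpowers_iff.1 (h.im (α⁻¹ v))
    refine Subgroup.mem_zpowers_iff.2 ⟨k, ?_⟩
    rw [← map_zpow, hk, map_mul, map_inv, MulAut.apply_inv_self]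
    rfl
  · exact ⟨c, h.mem, rfl⟩
  · exact (Subgroup.index_map_of_bijective α.bijective Z).trans h.idx
  · exact (orderOf_injective α.toMonoidHom α.injective c).trans h.ord

theorem IsTr.mem_fix_of_mem_zpowers (h : IsTr (p := p) σ Z c) {v : V} (hv : v ∈ Subgroup.zpowers c) :
    v ∈ Z := Subgroup.zpowers_le.2 h.mem hv

theorem IsTr.eq_sup (h : IsTr (p := p) σ Z c) {m : V} (hm : m ∉ Z) (v : V) :
    ∃ i : ℤ, v * (m ^ i)⁻¹ ∈ Z := by
  have hlt : Z < Z ⊔ Subgroup.zpowers m := lt_of_le_not_ge le_sup_left fun e =>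
    hm (e (Subgroup.mem_sup_right (Subgroup.mem_zpowers m)))
  have htop : Z ⊔ Subgroup.zpowers m = ⊤ := by
    have hd := Subgroup.index_dvd_of_le hlt.le
    rw [h.idx, Nat.dvd_prime (Fact.out : p.Prime)] at hd
    rcases hd with e | e
    · exact Subgroup.index_eq_one.1 e
    · exfalso
      refine hlt.ne ?_
      refine Subgroup.eq_of_le_of_card_ge hlt.le ?_
      have h1 := Z.card_mul_index
      have h2 := (Z ⊔ Subgroup.zpowers m).card_mul_index
      rw [h.idx] at h1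
      rw [e] at h2
      exact (Nat.eq_of_mul_eq_mul_right (Fact.out : p.Prime).pos (h2.trans h1.symm)).le
  have hv : v ∈ Z ⊔ Subgroup.zpowers m := htop ▸ Subgroup.mem_top v
  obtain ⟨z, hz, _, ⟨i, rfl⟩, rfl⟩ := Subgroup.mem_sup.1 hv
  exact ⟨i, by simpa using hz⟩

variable {A : Subgroup (MulAut V)} (hV : IsPGroup p V)
  (hsyl : ∀ H : Subgroup (MulAut V), H ≤ A → IsPGroup p H → Nat.card H ≤ p)

theorem IsTr.pow_eq_one (h : IsTr (p := p) σ Z c) : σ ^ p = 1 := by
  refine MulEquiv.ext fun v => ?_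
  have hit : ∀ i : ℕ, (σ ^ i) v = v * (v⁻¹ * σ v) ^ i := by
    intro i
    induction i with
    | zero => simp
    | succ i ih =>
      have hf : σ (v⁻¹ * σ v) = v⁻¹ * σ v := (h.fix _).2 (h.mem_fix_of_mem_zpowers (h.im v))
      rw [pow_succ', MulAut.mul_apply, ih, map_mul, map_pow, hf, pow_succ', ← mul_assoc,
        mul_inv_cancel_left]
  obtain ⟨k, hk⟩ := Subgroup.mem_zpowers_iff.1 (h.im v)
  rw [hit, ← hk, ← zpow_natCast, ← zpow_mul, mul_comm k, zpow_mul, zpow_natCast, ← h.ord,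
    pow_orderOf_eq_one, one_zpow, mul_one]
  rfl

include hV hsyl in
/-- Two transvections with compatible axes generate the same subgroup. -/
theorem same (h : IsTr (p := p) σ Z c) (h' : IsTr (p := p) τ Z' c') (hσ : σ ∈ A) (hτ : τ ∈ A)
    (hc : c' ∈ Z) : τ ∈ Subgroup.zpowers σ ∧ Z' = Z ∧ c' ∈ Subgroup.zpowers c := by
  classical
  -- the series `V > Z > ⟨c'⟩`
  let D : ℕ → Subgroup V := fun i => if i = 0 then ⊥ else if i = 1 then Subgroup.zpowers c' else
    if i = 2 then Z else ⊤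
  let H := Subgroup.closure ({σ, τ} : Set (MulAut V))
  have hs : H ≤ stabSeries A D 3 := by
    have key : ∀ {g : MulAut V}, g ∈ A → (∀ v, v⁻¹ * g v ∈ Z) →
        (∀ z ∈ Z, z⁻¹ * g z ∈ Subgroup.zpowers c') → g c' = c' → g ∈ stabSeries A D 3 := by
      intro g hg h1 h2 h3
      have hcl : ∀ x ∈ Subgroup.zpowers c', g x = x := by
        rintro _ ⟨k, rfl⟩
        rw [map_zpow, h3]
      refine mem_stabSeries.2 ⟨hg, fun i hi x => ?_, fun i hi x hx => ?_⟩
      · interval_cases i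
        · simp [D]
        · constructor
          · intro hx; rw [hcl x hx]; exact hx
          · intro hx
            have e : g x = g (g x) := (hcl _ hx).symm
            rwa [← g.injective e] at hx
        · constructor
          · intro hx
            have := mul_mem hx (h1 x)
            rwa [mul_inv_cancel_left] at this
          · intro hx
            have := mul_mem hx (inv_mem (h1 x))
            rwa [mul_inv_rev, inv_inv, mul_inv_cancel_left] at this
        · simp [D]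
      · interval_cases i
        · simp only [D, Nat.zero_add, one_ne_zero, ↓reduceIte, Subgroup.mem_bot] at hx ⊢
          rw [hcl x hx, inv_mul_cancel]
        · exact h2 x hx
        · exact h1 x
    refine (Subgroup.closure_le _).2 ?_
    rintro g (rfl | rfl)
    · exact key hσ (fun v => h.mem_fix_of_mem_zpowers (h.im v))
        (fun z hz => by rw [(h.fix z).2 hz, inv_mul_cancel]; exact one_mem _) ((h.fix c').2 hc)
    · exact key hτ (fun v => (Subgroup.zpowers_le.2 hc) (h'.im v)) (fun z _ => h'.im z)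
        ((h'.fix c').2 h'.mem)
  have hHp : IsPGroup p H := by
    refine IsPGroup.to_le ?_ hs
    refine isPGroup_of_stabilizes hV _ D 3 (fun x => by simp [D]) ?_ fun a ha => ha.2.2
    intro a _ _ _ x hx
    simp only [D, ↓reduceIte, Subgroup.mem_bot] at hx
    rw [hx, map_one]
  have hcard := hsyl H (hs.trans fun g hg => hg.1) hHp
  have hoσ : orderOf σ = p := orderOf_eq_prime h.pow_eq_one h.ne_one
  have heq : Subgroup.zpowers σ = H :=
    Subgroup.eq_of_le_of_card_ge (Subgroup.zpowers_le.2 (Subgroup.subset_closure (by simp)))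
      (by rw [Nat.card_zpowers, hoσ]; exact hcard)
  have hmem : τ ∈ Subgroup.zpowers σ := heq ▸ Subgroup.subset_closure (by simp)
  refine ⟨hmem, ?_, ?_⟩
  · have hle : Z ≤ Z' := fun z hz => (h'.fix z).1 (by
      obtain ⟨k, rfl⟩ := hmem
      have : Subgroup.zpowers σ ≤ MulAction.stabilizer (MulAut V) z :=
        Subgroup.zpowers_le.2 ((h.fix z).2 hz)
      exact this ⟨k, rfl⟩)
    refine (Subgroup.eq_of_le_of_card_ge hle ?_).symm
    have h1 := Z.card_mul_index
    have h2 := Z'.card_mul_index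
    rw [h.idx] at h1
    rw [h'.idx] at h2
    exact (Nat.eq_of_mul_eq_mul_right (Fact.out : p.Prime).pos (h2.trans h1.symm)).le
  · -- the displacements of a power of `σ` are powers of `c`
    obtain ⟨v, hv⟩ : ∃ v, τ v ≠ v := by
      by_contra hno
      push Not at hno
      exact h'.ne_one (MulEquiv.ext hno)
    have hin : v⁻¹ * τ v ∈ Subgroup.zpowers c := by
      have hS : Subgroup.zpowers σ ≤ stabSeries (⊤ : Subgroup (MulAut V))
          (fun i => if i = 0 then Subgroup.zpowers c else ⊤) 1 := by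
        refine Subgroup.zpowers_le.2 (mem_stabSeries.2 ⟨Subgroup.mem_top _, fun i hi x => ?_,
          fun i hi x _ => ?_⟩)
        · interval_cases i
          · simp only [↓reduceIte]
            constructor
            · intro hx; rw [(h.fix x).2 (h.mem_fix_of_mem_zpowers hx)]; exact hx
            · intro hx
              have e : σ x = σ (σ x) := ((h.fix _).2 (h.mem_fix_of_mem_zpowers hx)).symm
              rwa [← σ.injective e] at hx
          · simp
        · interval_cases i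
          simpa using h.im x
      simpa using (hS hmem).2.2 0 one_pos v (by simp)
    obtain ⟨i, hi⟩ := Subgroup.mem_zpowers_iff.1 (h'.im v)
    have hne : c' ^ i ≠ 1 := fun e => hv (inv_mul_eq_one.1 (hi.symm.trans e)).symm
    have hcard : Nat.card (Subgroup.zpowers c') = p := by rw [Nat.card_zpowers, h'.ord]
    have hgen := zpowers_eq_top_of_prime_card (G := Subgroup.zpowers c') hcard
      (g := ⟨c' ^ i, zpow_mem (Subgroup.mem_zpowers c') i⟩) (fun e => hne (congrArg Subtype.val e))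
    have : (⟨c', Subgroup.mem_zpowers c'⟩ : Subgroup.zpowers c') ∈
        Subgroup.zpowers (⟨c' ^ i, zpow_mem (Subgroup.mem_zpowers c') i⟩ : Subgroup.zpowers c') := by
      rw [hgen]; trivial
    obtain ⟨j, hj⟩ := this
    have hj' : (c' ^ i) ^ j = c' := congrArg Subtype.val hj
    rw [← hj', hi]
    exact zpow_mem hin j

/-- Some power of the transvection moves `m` by any given power of `c`. -/
theorem exists_pow_move (h : IsTr (p := p) σ Z c) {m z : V} (hm : m ∉ Z)
    (hz : z ∈ Subgroup.zpowers c) : ∃ k : ℕ, (σ ^ k) m = m * z := by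
  set d := m⁻¹ * σ m with hd
  have hd1 : d ≠ 1 := fun e => hm ((h.fix m).1 (inv_mul_eq_one.1 e).symm)
  have hfd : σ d = d := (h.fix _).2 (h.mem_fix_of_mem_zpowers (h.im m))
  have hit : ∀ i : ℕ, (σ ^ i) m = m * d ^ i := by
    intro i
    induction i with
    | zero => simp
    | succ i ih =>
      rw [pow_succ', MulAut.mul_apply, ih, map_mul, map_pow, hfd, pow_succ', ← mul_assoc, hd,
        mul_inv_cancel_left]
  have hcard : Nat.card (Subgroup.zpowers c) = p := by rw [Nat.card_zpowers, h.ord]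
  have hgen := zpowers_eq_top_of_prime_card (G := Subgroup.zpowers c) hcard
    (g := ⟨d, h.im m⟩) (fun e => hd1 (congrArg Subtype.val e))
  obtain ⟨k, hk⟩ := (isOfFinOrder_of_finite (⟨d, h.im m⟩ : Subgroup.zpowers c)).mem_powers_iff_mem_zpowers.2
    (hgen ▸ Subgroup.mem_top (⟨z, hz⟩ : Subgroup.zpowers c))
  exact ⟨k, by rw [hit]; exact congrArg (m * ·) (congrArg Subtype.val hk)⟩

include hV hsyl in
/-- The decomposition of `V` and of `A`. -/
theorem structure_thm (h : IsTr (p := p) σ Z c) (hσ : σ ∈ A)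
    (hnn : ∃ β ∈ A, β * σ * β⁻¹ ∉ Subgroup.zpowers σ) :
    ∃ (M K : Subgroup V) (m : V), M = Subgroup.closure {c, m} ∧ m ∉ Z ∧ m ^ p = 1 ∧
      K ≤ Z ∧ c ∉ K ∧ (∀ z ∈ Z, ∃ i : ℤ, z * (c ^ i)⁻¹ ∈ K) ∧
      (∀ α ∈ A, ∀ x ∈ K, α x ∈ K) ∧ (∀ α ∈ A, ∀ x ∈ M, α x ∈ M) ∧
      (∀ α ∈ A, ∃ n ∈ A, (∀ v, (n v)⁻¹ * α v ∈ M) ∧ n * σ * n⁻¹ ∈ Subgroup.zpowers σ) ∧
      ∃ g ∈ A, (∀ x ∈ K, g x = x) ∧ g c = c⁻¹ ∧ g * σ * g⁻¹ = σ := by
  classical
  obtain ⟨β, hβ, hβn⟩ := hnn
  set τ := β * σ * β⁻¹ with hτdef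
  have hτA : τ ∈ A := mul_mem (mul_mem hβ hσ) (inv_mem hβ)
  have h' := h.conj β
  rw [← hτdef] at h'
  set m := β c with hmdef
  set Z' := Z.map β.toMonoidHom with hZ'
  have hmZ : m ∉ Z := fun e => hβn (same hV hsyl h h' hσ hτA e).1
  have hcZ' : c ∉ Z' := fun e => by
    obtain ⟨h1, -, h3⟩ := same hV hsyl h' h hτA hσ e
    exact hmZ (by
      have hh := same hV hsyl h' h hτA hσ e
      rw [hh.2.1]
      exact h'.mem)
  set M := Subgroup.closure ({c, m} : Set V) with hM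
  set K := Z ⊓ Z' with hK
  have hcM : c ∈ M := Subgroup.subset_closure (by simp)
  have hmM : m ∈ M := Subgroup.subset_closure (by simp)
  have hZdec : ∀ z ∈ Z, ∃ i : ℤ, z * (c ^ i)⁻¹ ∈ K := fun z hz => by
    obtain ⟨i, hi⟩ := h'.eq_sup hcZ' z
    exact ⟨i, Subgroup.mem_inf.2 ⟨Z.mul_mem hz (Z.inv_mem (Z.zpow_mem h.mem i)), hi⟩⟩
  have hdec : ∀ v, ∃ x ∈ M, ∃ k ∈ K, v = x * k := fun v => by
    obtain ⟨i, hi⟩ := h.eq_sup hmZ v
    obtain ⟨j, hj⟩ := hZdec _ hi
    exact ⟨c ^ j * m ^ i, mul_mem (zpow_mem hcM j) (zpow_mem hmM i), _, hj, by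
      rw [mul_comm (c ^ j) (m ^ i)]
      rw [mul_assoc (m ^ i), mul_comm (c ^ j), inv_mul_cancel_right, mul_comm, inv_mul_cancel_right]⟩
  -- the group of elements of `A` fixing `K` and preserving `M`
  let L : Subgroup (MulAut V) :=
    { carrier := {g | g ∈ A ∧ (∀ x ∈ K, g x = x) ∧ ∀ x, x ∈ M ↔ g x ∈ M}
      one_mem' := ⟨one_mem _, fun _ _ => rfl, fun _ => Iff.rfl⟩
      mul_mem' := by
        rintro a b ⟨ha, ha1, ha2⟩ ⟨hb, hb1, hb2⟩
        exact ⟨mul_mem ha hb, fun x hx => by rw [MulAut.mul_apply, hb1 x hx, ha1 x hx],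
          fun x => (hb2 x).trans (ha2 (b x))⟩
      inv_mem' := by
        rintro a ⟨ha, ha1, ha2⟩
        refine ⟨inv_mem ha, fun x hx => ?_, fun x => ?_⟩
        · conv_lhs => rw [← ha1 x hx]
          exact MulAut.inv_apply_self V a x
        · rw [ha2 (a⁻¹ x), MulAut.apply_inv_self] }
  have hLmem : ∀ {g : MulAut V} {ζ : V}, g ∈ A → (∀ x ∈ K, g x = x) → ζ ∈ M →
      (∀ v, v⁻¹ * g v ∈ Subgroup.zpowers ζ) → g ∈ L := fun {g ζ} hg h1 hζ h2 => by
    refine ⟨hg, h1, fun x => ⟨fun hx => ?_, fun hx => ?_⟩⟩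
    · have := mul_mem hx (Subgroup.zpowers_le.2 hζ (h2 x))
      rwa [mul_inv_cancel_left] at this
    · have := mul_mem hx (inv_mem (Subgroup.zpowers_le.2 hζ (h2 x)))
      rwa [mul_inv_rev, inv_inv, mul_inv_cancel_left] at this
  have hσL : σ ∈ L := hLmem hσ (fun x hx => (h.fix x).2 hx.1) hcM h.im
  have hτL : τ ∈ L := hLmem hτA (fun x hx => (h'.fix x).2 hx.2) hmM h'.im
  have hLmove : ∀ g ∈ L, ∀ v, v⁻¹ * g v ∈ M := by
    rintro g ⟨hg, h1, h2⟩ v
    obtain ⟨x, hx, k, hk, rfl⟩ := hdec v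
    rw [map_mul, h1 k hk, mul_inv_rev, mul_assoc, ← mul_assoc x⁻¹, mul_comm (x⁻¹ * g x) k,
      inv_mul_cancel_left]
    exact mul_mem (inv_mem hx) ((h2 x).1 hx)
  -- special elements
  have hσpow : ∀ z ∈ Subgroup.zpowers c, ∃ g ∈ L, g c = c ∧ g m = m * z := fun z hz => by
    obtain ⟨k, hk⟩ := exists_pow_move h hmZ hz
    refine ⟨σ ^ k, pow_mem hσL k, ?_, hk⟩
    exact (MulAction.stabilizer (MulAut V) c).pow_mem ((h.fix c).2 h.mem) k
  have hτpow : ∀ z ∈ Subgroup.zpowers m, ∃ g ∈ L, g m = m ∧ g c = c * z := fun z hz => by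
    obtain ⟨k, hk⟩ := exists_pow_move h' hcZ' hz
    refine ⟨τ ^ k, pow_mem hτL k, ?_, hk⟩
    exact (MulAction.stabilizer (MulAut V) m).pow_mem ((h'.fix m).2 h'.mem) k
  -- a map carrying `c` to `m`
  obtain ⟨t₁, ht₁, ht₁m, ht₁c⟩ := hτpow m (Subgroup.mem_zpowers m)
  obtain ⟨u₁, hu₁, hu₁c, hu₁m⟩ := hσpow c⁻¹ (inv_mem (Subgroup.mem_zpowers c))
  set w := u₁ * t₁ with hw
  have hwL : w ∈ L := mul_mem hu₁ ht₁
  have hwc : w c = m := by
    rw [hw, MulAut.mul_apply, ht₁c, map_mul, hu₁c, hu₁m, mul_comm, inv_mul_cancel_right]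
  -- every conjugate transvection has its axis in `M`
  have hclass : ∀ α ∈ A, K ≤ Z.map α.toMonoidHom ∧
      ∃ l ∈ L, l⁻¹ * α * σ * (l⁻¹ * α)⁻¹ ∈ Subgroup.zpowers σ ∧
        Z.map α.toMonoidHom = Z.map l.toMonoidHom := by
    intro α hα
    have hα' := h.conj α
    set Za := Z.map α.toMonoidHom with hZa
    -- a nontrivial element of `M` on the hyperplane
    obtain ⟨x, hxM, hx1, hxZ⟩ : ∃ x ∈ M, x ≠ 1 ∧ x ∈ Za := by
      by_cases hc : c ∈ Za
      · exact ⟨c, hcM, fun e => (Fact.out : p.Prime).one_lt.ne (by rw [← h.ord, e, orderOf_one]), hc⟩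
      obtain ⟨i, hi⟩ := hα'.eq_sup hc m
      refine ⟨m * (c ^ i)⁻¹, mul_mem hmM (inv_mem (zpow_mem hcM i)), fun e => ?_, hi⟩
      exact hmZ (by rw [mul_inv_eq_one.1 e]; exact zpow_mem h.mem i)
    obtain ⟨l, hl, hlx⟩ : ∃ l ∈ L, l⁻¹ x ∈ Subgroup.zpowers c := by
      obtain ⟨a, b, hab⟩ := Subgroup.mem_closure_pair.1 hxM
      by_cases hb : m ^ b = 1
      · refine ⟨1, one_mem _, ?_⟩
        rw [hb, mul_one] at hab
        exact ⟨a, by rw [inv_one]; exact hab⟩
      · have hcard : Nat.card (Subgroup.zpowers m) = p := by rw [Nat.card_zpowers, h'.ord]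
        obtain ⟨j, hj⟩ : ∃ j : ℤ, (m ^ b) ^ j = m := by
          have hgen := zpowers_eq_top_of_prime_card (G := Subgroup.zpowers m) hcard
            (g := ⟨m ^ b, zpow_mem (Subgroup.mem_zpowers m) b⟩) (fun e => hb (congrArg Subtype.val e))
          obtain ⟨j, hj⟩ := (hgen ▸ Subgroup.mem_top (⟨m, Subgroup.mem_zpowers m⟩ : Subgroup.zpowers m) :
            (⟨m, Subgroup.mem_zpowers m⟩ : Subgroup.zpowers m) ∈
              Subgroup.zpowers (⟨m ^ b, zpow_mem (Subgroup.mem_zpowers m) b⟩ : Subgroup.zpowers m))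
          exact ⟨j, congrArg Subtype.val hj⟩
        obtain ⟨u, hu, -, hum⟩ := hσpow ((c ^ a) ^ j) (zpow_mem (zpow_mem (Subgroup.mem_zpowers c) a) j)
        refine ⟨u * w, mul_mem hu hwL, ?_⟩
        -- `x` is a power of `(u * w) c = m * (c ^ a) ^ j`
        have hxj : x ^ j = (u * w) c := by
          rw [← hab, mul_zpow, hj, MulAut.mul_apply, hwc, hum, mul_comm]
        have hxp : x = ((u * w) c) ^ b := by
          obtain ⟨q, hq⟩ : ∃ q : ℤ, j * b - 1 = p * q := by
            have e : m ^ (j * b - 1) = 1 := by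
              rw [zpow_sub_one, mul_comm j, zpow_mul, hj, mul_inv_cancel]
            have := orderOf_dvd_iff_zpow_eq_one.2 e
            rwa [h'.ord] at this
          have hxp1 : x ^ (p : ℤ) = 1 := by
            rw [← hab, mul_zpow, ← zpow_mul, ← zpow_mul, mul_comm a, mul_comm b, zpow_mul, zpow_mul]
            simp only [zpow_natCast]
            rw [← h.ord, pow_orderOf_eq_one, h.ord, ← h'.ord, pow_orderOf_eq_one, one_zpow, one_zpow,
              mul_one]
          rw [← hxj, ← zpow_mul, show j * b = p * q + 1 by omega, zpow_add, zpow_mul, hxp1, one_zpow,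
            one_mul, zpow_one]
        exact ⟨b, by rw [hxp, map_zpow, MulAut.inv_apply_self]⟩
    have hl' := h.conj l
    obtain ⟨k, hk⟩ := Subgroup.mem_zpowers_iff.1 hlx
    have hxl : x ∈ Subgroup.zpowers (l c) := ⟨k, by
      show (l c) ^ k = x
      rw [← map_zpow, hk, MulAut.apply_inv_self]⟩
    have hlcZ : l c ∈ Za := by
      have hcard : Nat.card (Subgroup.zpowers (l c)) = p := by rw [Nat.card_zpowers, hl'.ord]
      have hgen := zpowers_eq_top_of_prime_card (G := Subgroup.zpowers (l c)) hcard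
        (g := ⟨x, hxl⟩) (fun e => hx1 (congrArg Subtype.val e))
      obtain ⟨j, hj⟩ := (hgen ▸ Subgroup.mem_top (⟨l c, Subgroup.mem_zpowers _⟩ : Subgroup.zpowers (l c)) :
        (⟨l c, Subgroup.mem_zpowers _⟩ : Subgroup.zpowers (l c)) ∈
          Subgroup.zpowers (⟨x, hxl⟩ : Subgroup.zpowers (l c)))
      have hj' : x ^ j = l c := congrArg Subtype.val hj
      rw [← hj']; exact zpow_mem hxZ j
    have hlA : l ∈ A := hl.1
    obtain ⟨h1, h2, -⟩ := same hV hsyl hα' hl' (mul_mem (mul_mem hα hσ) (inv_mem hα))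
      (mul_mem (mul_mem hlA hσ) (inv_mem hlA)) hlcZ
    refine ⟨fun y hy => ?_, l, hl, ?_, h2.symm⟩
    · rw [← h2]
      exact ⟨y, hy.1, hl.2.1 y hy⟩
    · have ho : ∀ g : MulAut V, orderOf (g * σ * g⁻¹) = p := fun g => by
        rw [← MulAut.conj_apply]
        exact (orderOf_injective (MulAut.conj g).toMonoidHom (MulAut.conj g).injective σ).trans
          (orderOf_eq_prime h.pow_eq_one h.ne_one)
      have heq : Subgroup.zpowers (l * σ * l⁻¹) = Subgroup.zpowers (α * σ * α⁻¹) :=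
        Subgroup.eq_of_le_of_card_ge (Subgroup.zpowers_le.2 h1)
          (by rw [Nat.card_zpowers, Nat.card_zpowers, ho, ho])
      obtain ⟨j, hj⟩ := (heq ▸ Subgroup.mem_zpowers (α * σ * α⁻¹) :
        α * σ * α⁻¹ ∈ Subgroup.zpowers (l * σ * l⁻¹))
      change (l * σ * l⁻¹) ^ j = α * σ * α⁻¹ at hj
      refine ⟨j, ?_⟩
      rw [show l⁻¹ * α * σ * (l⁻¹ * α)⁻¹ = l⁻¹ * (α * σ * α⁻¹) * l by group, ← hj, conj_zpow]
      group
  have hnorm : ∀ n ∈ A, n * σ * n⁻¹ ∈ Subgroup.zpowers σ → n c ∈ Subgroup.zpowers c := by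
    intro n hn hnσ
    have hn' := h.conj n
    have hfix : ∀ z ∈ Z, (n * σ * n⁻¹) z = z := fun z hz => by
      have : Subgroup.zpowers σ ≤ MulAction.stabilizer (MulAut V) z :=
        Subgroup.zpowers_le.2 ((h.fix z).2 hz)
      exact this hnσ
    have hle : Z ≤ Z.map n.toMonoidHom := fun z hz => (hn'.fix z).1 (hfix z hz)
    have heqZ : Z = Z.map n.toMonoidHom := Subgroup.eq_of_le_of_card_ge hle
      (by rw [Subgroup.card_map_of_injective n.injective])
    have hncZ : n c ∈ Z := by rw [heqZ]; exact hn'.mem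
    exact (same hV hsyl h hn' hσ (mul_mem (mul_mem hn hσ) (inv_mem hn)) hncZ).2.2
  have hdecomp : ∀ α ∈ A, ∃ l ∈ L, l⁻¹ * α * σ * (l⁻¹ * α)⁻¹ ∈ Subgroup.zpowers σ := fun α hα => by
    obtain ⟨-, l, hl, h1, -⟩ := hclass α hα
    exact ⟨l, hl, h1⟩
  have hαc : ∀ α ∈ A, α c ∈ M := fun α hα => by
    obtain ⟨l, hl, h1⟩ := hdecomp α hα
    have := hnorm _ (mul_mem (inv_mem hl.1) hα) h1
    have h2 : (l⁻¹ * α) c ∈ M := Subgroup.zpowers_le.2 hcM this
    rw [hl.2.2, MulAut.mul_apply, MulAut.apply_inv_self] at h2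
    exact h2
  have hMinv : ∀ α ∈ A, ∀ x ∈ M, α x ∈ M := by
    intro α hα x hx
    suffices M ≤ M.comap α.toMonoidHom from this hx
    rw [hM, Subgroup.closure_le]
    rintro y (rfl | rfl)
    · exact hαc α hα
    · show α (β c) ∈ M
      rw [← MulAut.mul_apply]
      exact hαc _ (mul_mem hα hβ)
  refine ⟨M, K, m, rfl, hmZ, by rw [← h'.ord]; exact pow_orderOf_eq_one _, inf_le_left,
    fun e => hcZ' e.2, hZdec, ?_, hMinv, fun α hα => ?_, ?_⟩
  · intro α hα x hx
    constructor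
    · obtain ⟨hle, -⟩ := hclass α⁻¹ (inv_mem hα)
      obtain ⟨z, hz, hzx⟩ := hle hx
      rw [← hzx]
      show α (α⁻¹ z) ∈ Z
      rw [MulAut.apply_inv_self]
      exact hz
    · obtain ⟨hle, -⟩ := hclass (α⁻¹ * β) (mul_mem (inv_mem hα) hβ)
      obtain ⟨z, hz, hzx⟩ := hle hx
      rw [← hzx]
      refine ⟨z, hz, ?_⟩
      show β z = α ((α⁻¹ * β) z)
      rw [MulAut.mul_apply, MulAut.apply_inv_self]
  · obtain ⟨l, hl, h1⟩ := hdecomp α hα
    refine ⟨l⁻¹ * α, mul_mem (inv_mem hl.1) hα, fun v => ?_, h1⟩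
    have := hLmove l hl ((l⁻¹ * α) v)
    conv at this => rw [MulAut.mul_apply, MulAut.apply_inv_self]
    exact this
  · -- minus the identity on `M`
    obtain ⟨U, hU, hUc, hUm⟩ := hσpow c (Subgroup.mem_zpowers c)
    obtain ⟨T, hT, hTm, hTc⟩ := hτpow m⁻¹ (inv_mem (Subgroup.mem_zpowers m))
    set g₀ := U * T * U with hg₀
    have e1 : g₀ c = m⁻¹ := by
      rw [hg₀, MulAut.mul_apply, MulAut.mul_apply, hUc, hTc, map_mul, map_inv, hUc, hUm, mul_inv_rev,
        mul_inv_cancel_left]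
    have e2 : g₀ m = c := by
      rw [hg₀, MulAut.mul_apply, MulAut.mul_apply, hUm, map_mul, hTm, hTc, mul_comm c m⁻¹,
        mul_inv_cancel_left, hUc]
    have hgL : g₀ * g₀ ∈ L := mul_mem (mul_mem (mul_mem hU hT) hU) (mul_mem (mul_mem hU hT) hU)
    have f1 : (g₀ * g₀) c = c⁻¹ := by rw [MulAut.mul_apply, e1, map_inv, e2]
    have f2 : (g₀ * g₀) m = m⁻¹ := by rw [MulAut.mul_apply, e2, e1]
    refine ⟨g₀ * g₀, hgL.1, hgL.2.1, f1, ?_⟩
    -- the commutation holds on `c`, `m` and `K`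
    suffices hh : ∀ v, (g₀ * g₀) (σ v) = σ ((g₀ * g₀) v) by
      refine MulEquiv.ext fun v => ?_
      show (g₀ * g₀) (σ ((g₀ * g₀)⁻¹ v)) = σ v
      rw [hh, MulAut.apply_inv_self]
    intro v
    obtain ⟨x, hx, k, hk, rfl⟩ := hdec v
    have hM' : ∀ y ∈ M, (g₀ * g₀) y = y⁻¹ := fun y hy => by
      obtain ⟨a, b, rfl⟩ := Subgroup.mem_closure_pair.1 hy
      rw [map_mul, map_zpow, map_zpow, f1, f2, mul_inv_rev, inv_zpow, inv_zpow, mul_comm]
    have hk' : (g₀ * g₀) k = k := hgL.2.1 k hk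
    simp only [map_mul, (h.fix k).2 hk.1, hk', hM' x hx, hM' (σ x) ((hσL.2.2 x).1 hx), map_inv]

end CfsgLib.Fusion.PlaneTransvection
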