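import Cfsg.Agent.Lib.Fusion.Product
import Cfsg.Agent.Lib.Fusion.Extender
import Cfsg.Agent.Lib.Fusion.SylowTools

/-!
# The product of two saturated systems is saturated
-/

set_option autoImplicit false

open Cfsg Cfsg.FusionSystem
open scoped Pointwise

namespace CfsgLib.Fusion

section Stab

variable {A B : Type*} [Group A] [Group B]

/-- Componentwise automorphisms of a product, as a homomorphism. -/
def prodAut (A B : Type*) [Group A] [Group B] : MulAut A × MulAut B →* MulAut (A × B) where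
  toFun a := a.1.prodCongr a.2
  map_one' := rfl
  map_mul' _ _ := rfl

@[simp] theorem prodAut_apply (a : MulAut A × MulAut B) (x : A × B) :
    prodAut A B a x = (a.1 x.1, a.2 x.2) := rfl

/-- The componentwise automorphisms stabilizing a subgroup of a product. -/
def prodStab (W : Subgroup (A × B)) : Subgroup (MulAut A × MulAut B) :=
  (MulAction.stabilizer (MulAut (A × B)) W).comap (prodAut A B)

theorem mem_prodStab_of_forall [Finite A] [Finite B] {W : Subgroup (A × B)}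
    {a : MulAut A × MulAut B} (h : ∀ w ∈ W, prodAut A B a w ∈ W) : a ∈ prodStab W := by
  rw [prodStab, Subgroup.mem_comap, MulAction.mem_stabilizer_iff]
  refine Subgroup.eq_of_le_of_card_ge ?_ ?_
  · rintro _ ⟨w, hw, rfl⟩
    exact h w hw
  · exact (Subgroup.card_map_of_injective (prodAut A B a).injective).ge

theorem apply_mem_of_mem_prodStab {W : Subgroup (A × B)} {a : MulAut A × MulAut B}
    (ha : a ∈ prodStab W) {w : A × B} (hw : w ∈ W) : prodAut A B a w ∈ W :=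
  (MulAction.mem_stabilizer_iff.1 (Subgroup.mem_comap.1 ha)).le ⟨w, hw, rfl⟩

/-- Restriction to the stabilized subgroup. -/
def resW (W : Subgroup (A × B)) : prodStab W →* MulAut W where
  toFun a :=
    { toFun := fun w => ⟨prodAut A B (a : MulAut A × MulAut B) w, apply_mem_of_mem_prodStab a.2 w.2⟩
      invFun := fun w => ⟨prodAut A B ((a⁻¹ : prodStab W) : MulAut A × MulAut B) w,
        apply_mem_of_mem_prodStab (a⁻¹).2 w.2⟩
      left_inv := fun w => Subtype.ext (by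
        change prodAut A B ((a : MulAut A × MulAut B)⁻¹) (prodAut A B (a : MulAut A × MulAut B) w) = w
        rw [map_inv, ← MulAut.mul_apply, inv_mul_cancel, MulAut.one_apply])
      right_inv := fun w => Subtype.ext (by
        change prodAut A B (a : MulAut A × MulAut B) (prodAut A B ((a : MulAut A × MulAut B)⁻¹) w) = w
        rw [map_inv, ← MulAut.mul_apply, mul_inv_cancel, MulAut.one_apply])
      map_mul' := fun _ _ => Subtype.ext (map_mul _ _ _) }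
  map_one' := rfl
  map_mul' _ _ := rfl

theorem isPGroup_prod {p : ℕ} (ha : IsPGroup p A) (hb : IsPGroup p B) : IsPGroup p (A × B) := by
  rintro ⟨x, y⟩
  obtain ⟨k, hk⟩ := ha x
  obtain ⟨l, hl⟩ := hb y
  refine ⟨k + l, Prod.ext ?_ ?_⟩
  · change x ^ p ^ (k + l) = 1
    rw [pow_add, pow_mul, hk, one_pow]
  · change y ^ p ^ (k + l) = 1
    rw [pow_add, mul_comm, pow_mul, hl, one_pow]

theorem card_mul_relIndex' {X Y : Subgroup A} (h : X ≤ Y) :
    Nat.card X * X.relIndex Y = Nat.card Y := by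
  rw [← Subgroup.relIndex_bot_left X, ← Subgroup.relIndex_bot_left Y]
  exact Subgroup.relIndex_mul_relIndex ⊥ X Y bot_le h

end Stab

variable {Ω₁ Ω₂ : Type*} [Group Ω₁] [Group Ω₂] {S₁ : Subgroup Ω₁} {S₂ : Subgroup Ω₂}
  {p : ℕ} [Fact p.Prime] [Finite S₁] [Finite S₂]
  {F₁ : FusionSystem S₁} {F₂ : FusionSystem S₂} {E : FusionSystem (S₁.prod S₂)}

omit [Finite S₁] [Finite S₂] in
theorem isReceptive_product (hE : IsProductSystem F₁ F₂ E) {Q : Subgroup (Ω₁ × Ω₂)}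
    (hQ : Q ≤ S₁.prod S₂) {Q₁ : Subgroup Ω₁} {Q₂ : Subgroup Ω₂} (e₁ : fstSub Q = Q₁)
    (e₂ : sndSub Q = Q₂) (r₁ : F₁.IsReceptive Q₁) (r₂ : F₂.IsReceptive Q₂) :
    E.IsReceptive Q := by
  subst e₁ e₂
  refine ⟨hQ, fun R φ hφ hr => ?_⟩
  obtain ⟨hR, φ₁, h₁, φ₂, h₂, he⟩ := (hE R φ).1 hφ
  have hr₁ : φ₁.range = fstSub Q := by
    rw [← hr]
    ext y
    constructor
    · rintro ⟨⟨_, x, hx, rfl⟩, rfl⟩
      exact ⟨_, ⟨⟨x, hx⟩, rfl⟩, congrArg Prod.fst (he ⟨x, hx⟩ (mem_fstSub _) (mem_sndSub _))⟩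
    · rintro ⟨_, ⟨x, rfl⟩, rfl⟩
      exact ⟨⟨_, mem_fstSub x⟩, (congrArg Prod.fst (he x (mem_fstSub x) (mem_sndSub x))).symm⟩
  have hr₂ : φ₂.range = sndSub Q := by
    rw [← hr]
    ext y
    constructor
    · rintro ⟨⟨_, x, hx, rfl⟩, rfl⟩
      exact ⟨_, ⟨⟨x, hx⟩, rfl⟩, congrArg Prod.snd (he ⟨x, hx⟩ (mem_fstSub _) (mem_sndSub _))⟩
    · rintro ⟨_, ⟨x, rfl⟩, rfl⟩
      exact ⟨⟨_, mem_sndSub x⟩, (congrArg Prod.snd (he x (mem_fstSub x) (mem_sndSub x))).symm⟩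
  obtain ⟨ψ₁, k₁, f₁⟩ := r₁.2 _ φ₁ h₁ hr₁
  obtain ⟨ψ₂, k₂, f₂⟩ := r₂.2 _ φ₂ h₂ hr₂
  set N := extender (S₁.prod S₂) R φ
  have hN : ∀ g ∈ N, g.1 ∈ extender S₁ (fstSub R) φ₁ ∧ g.2 ∈ extender S₂ (sndSub R) φ₂ := by
    intro g hg
    obtain ⟨hgS, hgn, h, hh, hge⟩ := mem_extender_iff.1 hg
    have hn₁ : g.1 ∈ Subgroup.normalizer (fstSub R : Set Ω₁) := by
      have hh' := Subgroup.le_normalizer_map (MonoidHom.fst Ω₁ Ω₂) ⟨g, hgn, rfl⟩
      exact hh'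
    have hn₂ : g.2 ∈ Subgroup.normalizer (sndSub R : Set Ω₂) := by
      have hh' := Subgroup.le_normalizer_map (MonoidHom.snd Ω₁ Ω₂) ⟨g, hgn, rfl⟩
      exact hh'
    constructor
    · refine mem_extender_iff.2 ⟨hgS.1, hn₁, h.1, hh.1, ?_⟩
      rintro ⟨_, x, hx, rfl⟩
      have h3 := congrArg Prod.fst (hge ⟨x, hx⟩)
      rw [he _ (mem_fstSub _) (mem_sndSub _)] at h3
      simp only [Prod.fst_mul, Prod.fst_inv] at h3
      rw [he ⟨x, hx⟩ (mem_fstSub _) (mem_sndSub _)] at h3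
      exact h3
    · refine mem_extender_iff.2 ⟨hgS.2, hn₂, h.2, hh.2, ?_⟩
      rintro ⟨_, x, hx, rfl⟩
      have h3 := congrArg Prod.snd (hge ⟨x, hx⟩)
      rw [he _ (mem_fstSub _) (mem_sndSub _)] at h3
      simp only [Prod.snd_mul, Prod.snd_inv] at h3
      rw [he ⟨x, hx⟩ (mem_fstSub _) (mem_sndSub _)] at h3
      exact h3
  have hN₁ : fstSub N ≤ extender S₁ (fstSub R) φ₁ := by
    rintro _ ⟨g, hg, rfl⟩; exact (hN g hg).1
  have hN₂ : sndSub N ≤ extender S₂ (sndSub R) φ₂ := by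
    rintro _ ⟨g, hg, rfl⟩; exact (hN g hg).2
  refine ⟨pairMap N (ψ₁.comp (Subgroup.inclusion hN₁)) (ψ₂.comp (Subgroup.inclusion hN₂)),
    (hE N _).2 ⟨(extender_le_normalizerIn R φ).trans (normalizerIn_le R), _, res_mem F₁ k₁ hN₁,
      _, res_mem F₂ k₂ hN₂, fun x _ _ => rfl⟩, fun x hxR hxN => ?_⟩
  rw [he ⟨x, hxR⟩ (mem_fstSub _) (mem_sndSub _)]
  exact Prod.ext (f₁ _ (mem_fstSub ⟨x, hxR⟩) _) (f₂ _ (mem_sndSub ⟨x, hxR⟩) _)

/-- The direct product of saturated systems is saturated. -/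
theorem isSaturated_product (h₁ : IsPGroup p S₁) (h₂ : IsPGroup p S₂) (hF₁ : F₁.IsSaturated p)
    (hF₂ : F₂.IsSaturated p) (hE : IsProductSystem F₁ F₂ E) : E.IsSaturated p := by
  classical
  have hSfin : Finite (S₁.prod S₂) := Finite.of_equiv _ (S₁.prodEquiv S₂).toEquiv.symm
  have hSp : IsPGroup p (S₁.prod S₂) := (isPGroup_prod h₁ h₂).of_equiv (S₁.prodEquiv S₂).symm
  intro P hP
  have hP₁ : fstSub P ≤ S₁ := by rintro _ ⟨x, hx, rfl⟩; exact (hP hx).1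
  have hP₂ : sndSub P ≤ S₂ := by rintro _ ⟨x, hx, rfl⟩; exact (hP hx).2
  obtain ⟨Q₁, hc₁, ha₁, hr₁⟩ := hF₁ _ hP₁
  obtain ⟨Q₂, hc₂, ha₂, hr₂⟩ := hF₂ _ hP₂
  obtain ⟨e₁, he₁⟩ := isConj_iff.1 hc₁
  obtain ⟨e₂, he₂⟩ := isConj_iff.1 hc₂
  have := finite_of_le hr₁.1
  have := finite_of_le hr₂.1
  let j : P →* Q₁ × Q₂ := (e₁.toMonoidHom.comp ((MonoidHom.fst Ω₁ Ω₂).subgroupMap P)).prod
    (e₂.toMonoidHom.comp ((MonoidHom.snd Ω₁ Ω₂).subgroupMap P))
  -- make the stabilizer of the image meet `Aut_S` in a Sylow subgroup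
  set A : Subgroup (MulAut Q₁ × MulAut Q₂) := (F₁.autGroup Q₁).prod (F₂.autGroup Q₂) with hA
  set U : Subgroup (MulAut Q₁ × MulAut Q₂) := (autInducedBy S₁ Q₁).prod (autInducedBy S₂ Q₂)
    with hU
  have hUA : U ≤ A :=
    Subgroup.prod_mono (autInducedBy_le_autGroup hr₁.1) (autInducedBy_le_autGroup hr₂.1)
  have hUp : IsPGroup p U :=
    (isPGroup_prod (isPGroup_autInducedBy h₁ Q₁) (isPGroup_autInducedBy h₂ Q₂)).of_equiv
      (Subgroup.prodEquiv _ _).symm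
  have hUi : ¬ p ∣ U.relIndex A := by
    have i₁ := ((isFullyAutomized_iff h₁).1 ha₁).2
    have i₂ := ((isFullyAutomized_iff h₂).1 ha₂).2
    have hcA : Nat.card A = Nat.card (F₁.autGroup Q₁) * Nat.card (F₂.autGroup Q₂) := by
      rw [hA, Nat.card_congr (Subgroup.prodEquiv _ _).toEquiv, Nat.card_prod]
    have hcU : Nat.card U = Nat.card (autInducedBy S₁ Q₁) * Nat.card (autInducedBy S₂ Q₂) := by
      rw [hU, Nat.card_congr (Subgroup.prodEquiv _ _).toEquiv, Nat.card_prod]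
    intro hdvd
    have key : U.relIndex A =
        (autInducedBy S₁ Q₁).relIndex (F₁.autGroup Q₁) * (autInducedBy S₂ Q₂).relIndex (F₂.autGroup Q₂) := by
      have hpos : 0 < Nat.card U := Nat.card_pos
      refine Nat.eq_of_mul_eq_mul_left hpos ?_
      rw [card_mul_relIndex' hUA, hcA, hcU, ← card_mul_relIndex' (autInducedBy_le_autGroup (F := F₁) hr₁.1),
        ← card_mul_relIndex' (autInducedBy_le_autGroup (F := F₂) hr₂.1)]
      ring
    rw [key] at hdvd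
    rcases (Fact.out : p.Prime).dvd_mul.1 hdvd with h | h
    exacts [i₁ h, i₂ h]
  obtain ⟨R⟩ : Nonempty (Sylow p ↥(prodStab j.range ⊓ A)) := inferInstance
  obtain ⟨a, haA, haU⟩ := exists_conj_mem_of_le (p := p)
    (U := (R : Subgroup ↥(prodStab j.range ⊓ A)).map (prodStab j.range ⊓ A).subtype)
    (R.2.map _) hUp ((Subgroup.map_subtype_le _).trans inf_le_right) hUA hUi
  let j' : P →* Q₁ × Q₂ := (prodAut Q₁ Q₂ a).toMonoidHom.comp j
  set W := j'.range with hW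
  have hWeq : W = prodAut Q₁ Q₂ a • j.range := MonoidHom.range_comp _ _
  let i : Q₁ × Q₂ →* Ω₁ × Ω₂ := Q₁.subtype.prodMap Q₂.subtype
  have hi : Function.Injective i := Q₁.subtype_injective.prodMap Q₂.subtype_injective
  have hjfst : ∀ q : Q₁, ∃ x : P, (j' x).1 = q := by
    intro q
    obtain ⟨x, hx⟩ := (MonoidHom.fst Ω₁ Ω₂).subgroupMap_surjective P (e₁.symm (a.1.symm q))
    exact ⟨x, by simp [j', j, hx]⟩
  have hjsnd : ∀ q : Q₂, ∃ x : P, (j' x).2 = q := by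
    intro q
    obtain ⟨x, hx⟩ := (MonoidHom.snd Ω₁ Ω₂).subgroupMap_surjective P (e₂.symm (a.2.symm q))
    exact ⟨x, by simp [j', j, hx]⟩
  set Q := W.map i with hQdef
  have hQS : Q ≤ S₁.prod S₂ := by
    rintro _ ⟨w, -, rfl⟩
    exact ⟨hr₁.1 w.1.2, hr₂.1 w.2.2⟩
  have hQ₁ : fstSub Q = Q₁ := by
    ext y
    constructor
    · rintro ⟨_, ⟨w, -, rfl⟩, rfl⟩
      exact w.1.2
    · intro hy
      obtain ⟨x, hx⟩ := hjfst ⟨y, hy⟩
      exact ⟨i (j' x), ⟨_, ⟨x, rfl⟩, rfl⟩, congrArg Subtype.val hx⟩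
  have hQ₂ : sndSub Q = Q₂ := by
    ext y
    constructor
    · rintro ⟨_, ⟨w, -, rfl⟩, rfl⟩
      exact w.2.2
    · intro hy
      obtain ⟨x, hx⟩ := hjsnd ⟨y, hy⟩
      exact ⟨i (j' x), ⟨_, ⟨x, rfl⟩, rfl⟩, congrArg Subtype.val hx⟩
  refine ⟨Q, ⟨i.comp j', (hE P _).2 ⟨hP, _, he₁.trans ((mem_autGroup_iff F₁ hr₁.1).1 haA.1),
    _, he₂.trans ((mem_autGroup_iff F₂ hr₂.1).1 haA.2), fun x _ _ => rfl⟩,
    MonoidHom.range_comp _ _⟩, ?_, isReceptive_product hE hQS hQ₁ hQ₂ hr₁ hr₂⟩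
  -- fully automized
  rw [isFullyAutomized_iff hSp]
  refine ⟨hQS, ?_⟩
  set H := prodStab W ⊓ A with hH
  let eW : W ≃* Q := Subgroup.equivMapOfInjective W i hi
  let res : ↥(prodStab W) →* MulAut Q := (MulAut.congr eW).toMonoidHom.comp (resW W)
  have hres : ∀ (t : prodStab W) (w : W), ((res t (eW w) : Q) : Ω₁ × Ω₂) =
      i (prodAut Q₁ Q₂ (t : MulAut Q₁ × MulAut Q₂) w) := by
    intro t w
    change ((eW (resW W t (eW.symm (eW w))) : Q) : Ω₁ × Ω₂) = _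
    rw [MulEquiv.symm_apply_apply]
    rfl
  have hUH : (U ⊓ prodStab W).subgroupOf (prodStab W) ≤ (autInducedBy (S₁.prod S₂) Q).comap res := by
    rintro ⟨t, ht⟩ hmem
    obtain ⟨⟨hu₁, hu₂⟩, -⟩ := (show t ∈ U ⊓ prodStab W from hmem)
    obtain ⟨g₁, hg₁, hge₁⟩ := mem_autInducedBy_iff.1 hu₁
    obtain ⟨g₂, hg₂, hge₂⟩ := mem_autInducedBy_iff.1 hu₂
    refine mem_autInducedBy_iff.2 ⟨(g₁, g₂), ⟨hg₁, hg₂⟩, fun y => ?_⟩
    obtain ⟨w, rfl⟩ := eW.surjective y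
    rw [hres]
    exact Prod.ext (hge₁ _) (hge₂ _)
  have hauto : E.autGroup Q ≤ (H.subgroupOf (prodStab W)).map res := by
    intro α hα
    obtain ⟨-, α₁, k₁, α₂, k₂, hαe⟩ := (hE Q _).1 ((mem_autGroup_iff E hQS).1 hα)
    have hb₁ : ∀ y, α₁ y ∈ Q₁ := by
      rintro ⟨_, z, hz, rfl⟩
      exact hQ₁.le ⟨_, (α ⟨z, hz⟩).2, congrArg Prod.fst (hαe ⟨z, hz⟩ (mem_fstSub _) (mem_sndSub _))⟩
    have hb₂ : ∀ y, α₂ y ∈ Q₂ := by
      rintro ⟨_, z, hz, rfl⟩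
      exact hQ₂.le ⟨_, (α ⟨z, hz⟩).2, congrArg Prod.snd (hαe ⟨z, hz⟩ (mem_fstSub _) (mem_sndSub _))⟩
    obtain ⟨β₁, hβ₁, hβe₁⟩ := exists_iso_of_range (res_mem F₁ k₁ hQ₁.ge) (Q := Q₁) (by
      refine Subgroup.eq_of_le_of_card_ge (by rintro _ ⟨y, rfl⟩; exact hb₁ _) ?_
      exact (Nat.card_congr (MonoidHom.ofInjective
        (F₁.injective_of_mem (res_mem F₁ k₁ hQ₁.ge))).toEquiv).le)
    obtain ⟨β₂, hβ₂, hβe₂⟩ := exists_iso_of_range (res_mem F₂ k₂ hQ₂.ge) (Q := Q₂) (by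
      refine Subgroup.eq_of_le_of_card_ge (by rintro _ ⟨y, rfl⟩; exact hb₂ _) ?_
      exact (Nat.card_congr (MonoidHom.ofInjective
        (F₂.injective_of_mem (res_mem F₂ k₂ hQ₂.ge))).toEquiv).le)
    have hpair : ∀ w : W, i (prodAut Q₁ Q₂ (β₁, β₂) w) = ((α (eW w) : Q) : Ω₁ × Ω₂) := by
      intro w
      refine Eq.trans ?_ (hαe (eW w) (mem_fstSub _) (mem_sndSub _)).symm
      exact Prod.ext (hβe₁ _) (hβe₂ _)
    have hst : (β₁, β₂) ∈ prodStab W := mem_prodStab_of_forall fun w hw => by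
      obtain ⟨w', hw', hwe⟩ := (α (eW ⟨w, hw⟩)).2
      rw [← hpair ⟨w, hw⟩] at hwe
      exact hi hwe ▸ hw'
    refine ⟨⟨_, hst⟩, ⟨hst, (mem_autGroup_iff F₁ hr₁.1).2 hβ₁, (mem_autGroup_iff F₂ hr₂.1).2 hβ₂⟩,
      MulEquiv.ext fun y => Subtype.ext ?_⟩
    obtain ⟨w, rfl⟩ := eW.surjective y
    rw [hres]
    exact hpair w
  have hHi : ¬ p ∣ (U ⊓ prodStab W).relIndex H := by
    have hconj : H = (prodStab j.range ⊓ A).map (MulAut.conj a).toMonoidHom := by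
      ext t
      constructor
      · rintro ⟨h1, h2⟩
        refine ⟨a⁻¹ * t * a, ⟨?_, A.mul_mem (A.mul_mem (A.inv_mem haA) h2) haA⟩, by simp [mul_assoc]⟩
        change prodAut Q₁ Q₂ (a⁻¹ * t * a) • j.range = j.range
        have h1' : prodAut Q₁ Q₂ t • W = W := h1
        rw [map_mul, map_mul, map_inv, mul_smul, mul_smul, ← hWeq, h1', hWeq, inv_smul_smul]
      · rintro ⟨s, ⟨h1, h2⟩, rfl⟩
        refine ⟨?_, A.mul_mem (A.mul_mem haA h2) (A.inv_mem haA)⟩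
        change prodAut Q₁ Q₂ (a * s * a⁻¹) • W = W
        have h1' : prodAut Q₁ Q₂ s • j.range = j.range := h1
        rw [map_mul, map_mul, map_inv, hWeq, mul_smul, inv_smul_smul, mul_smul, h1']
    set f := (MulAut.conj a).toMonoidHom with hf
    set R' := (R : Subgroup ↥(prodStab j.range ⊓ A)).map (prodStab j.range ⊓ A).subtype with hR'
    have hR'i : ¬ p ∣ R'.relIndex (prodStab j.range ⊓ A) := by
      rw [hR', Subgroup.relIndex, Subgroup.subgroupOf,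
        Subgroup.comap_map_eq_self_of_injective (Subgroup.subtype_injective _)]
      exact R.not_dvd_index
    have h3 := not_dvd_relIndex_map f (Subgroup.map_subtype_le _) hR'i
    rw [← hconj] at h3
    have h5 : R'.map f ≤ H := by
      rw [hconj]
      exact Subgroup.map_mono (Subgroup.map_subtype_le _)
    have h4 : R'.map f ≤ U ⊓ prodStab W := le_inf (by
      rintro _ ⟨s, hs, rfl⟩; exact haU s hs) (h5.trans inf_le_left)
    exact fun h => h3 (h.trans (Subgroup.relIndex_dvd_of_le_left _ h4))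
  intro hdvd
  have h6 : ((U ⊓ prodStab W).subgroupOf (prodStab W)).map res ≤ autInducedBy (S₁.prod S₂) Q :=
    Subgroup.map_le_iff_le_comap.2 hUH
  have h7 : (U ⊓ prodStab W).subgroupOf (prodStab W) ≤ H.subgroupOf (prodStab W) :=
    Subgroup.comap_mono (le_inf inf_le_right (inf_le_left.trans hUA))
  have h8 : ¬ p ∣ ((U ⊓ prodStab W).subgroupOf (prodStab W)).relIndex (H.subgroupOf (prodStab W)) := by
    rwa [Subgroup.relIndex_subgroupOf inf_le_left]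
  refine not_dvd_relIndex_map res h7 h8 (hdvd.trans ?_)
  refine (Subgroup.relIndex_dvd_of_le_left _ h6).trans ?_
  refine dvd_of_eq ?_
  congr 1
  refine le_antisymm hauto ?_
  rintro _ ⟨⟨t, ht⟩, ⟨-, hA₁, hA₂⟩, rfl⟩
  rw [mem_autGroup_iff E hQS]
  refine (hE Q _).2 ⟨hQS, _, mem_of_eq hQ₁.symm ((mem_autGroup_iff F₁ hr₁.1).1 hA₁)
      (φ' := (Q₁.subtype.comp t.1.toMonoidHom).comp (Subgroup.inclusion hQ₁.le)) (fun _ => rfl),
    _, mem_of_eq hQ₂.symm ((mem_autGroup_iff F₂ hr₂.1).1 hA₂)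
      (φ' := (Q₂.subtype.comp t.2.toMonoidHom).comp (Subgroup.inclusion hQ₂.le)) (fun _ => rfl),
    fun y _ _ => ?_⟩
  obtain ⟨w, rfl⟩ := eW.surjective y
  exact hres ⟨t, ht⟩ w

end CfsgLib.Fusion
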