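import Cfsg.Agent.Lib.Fusion.HomocyclicEssential
import Cfsg.Agent.Lib.Fusion.Centric
import Cfsg.Agent.Lib.Fusion.FunctorCore
import Cfsg.Agent.Lib.PGroup.BlackburnThird

/-!
# Saturated fusion systems on the groups `G(p, n; s)`, `p ≥ 5`

No subgroup is essential.
-/

set_option autoImplicit false

open Cfsg Cfsg.FusionSystem
open scoped commutatorElement

namespace CfsgLib.Fusion.RankTwoThree

/-- From a map moving the fixed line of a transvection: an element acting diagonally by `2` and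
its inverse. -/
theorem exists_diag {V : Type*} [Group V] (p : ℕ) [hp : Fact p.Prime] (hp2 : p ≠ 2)
    (hab : ∀ u v : V, Commute u v) (hexp : ∀ v : V, v ^ p = 1) (A : Subgroup (MulAut V)) {c m : V}
    (hgen : ∀ v : V, ∃ i j : ℤ, v = c ^ i * m ^ j)
    (hind : ∀ i j : ℤ, c ^ i * m ^ j = 1 → (p : ℤ) ∣ i ∧ (p : ℤ) ∣ j)
    {σ : MulAut V} (hσ : σ ∈ A) {d : ℤ} (hd : ¬ (p : ℤ) ∣ d) (hσc : σ c = c)
    (hσm : σ m = m * c ^ d)
    {α : MulAut V} (hα : α ∈ A) {a b : ℤ} (hαc : α c = c ^ a * m ^ b) (hb : ¬ (p : ℤ) ∣ b) :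
    ∃ h ∈ A, ∃ q : ℕ, 2 * q = p + 1 ∧ h c = c ^ 2 ∧ h m = m ^ q := by
  have hp' := hp.out
  have hz : ∀ (v : V) (k : ℤ), (p : ℤ) ∣ k → v ^ k = 1 := by
    rintro v k ⟨l, rfl⟩
    rw [zpow_mul, zpow_natCast, hexp, one_zpow]
  have hinv : ∀ k : ℤ, ¬ (p : ℤ) ∣ k → ∃ l : ℤ, ∀ v : V, v ^ (k * l) = v := by
    intro k hk
    obtain ⟨u, l, hul⟩ := (Nat.prime_iff_prime_int.1 hp').coprime_iff_not_dvd.2 hk
    refine ⟨l, fun v => ?_⟩
    rw [show k * l = 1 + (p : ℤ) * (-u) by linarith, zpow_add, zpow_one,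
      hz v _ (dvd_mul_right _ _), mul_one]
  have hx : ∀ r : ℤ, ∃ g ∈ A, g c = c ∧ g m = m * c ^ r := by
    obtain ⟨l, hl⟩ := hinv d hd
    intro r
    have key : ∀ k : ℤ, (σ ^ k) c = c ∧ (σ ^ k) m = m * c ^ (d * k) := by
      intro k
      induction k using Int.induction_on with
      | zero => simp
      | succ i ih =>
        rw [zpow_add_one]
        constructor
        · show (σ ^ (i : ℤ)) (σ c) = c
          rw [hσc, ih.1]
        · show (σ ^ (i : ℤ)) (σ m) = _
          rw [hσm, map_mul, map_zpow, ih.1, ih.2, mul_assoc, ← zpow_add, mul_add, mul_one]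
      | pred i ih =>
        have hc' : σ⁻¹ c = c := by
          conv_lhs => rw [← hσc]
          exact MulAut.inv_apply_self V σ c
        have hm' : σ⁻¹ m = m * c ^ (-d) := by
          apply σ.injective
          rw [MulAut.apply_inv_self, map_mul, map_zpow, hσc, hσm, mul_assoc, ← zpow_add,
            add_neg_cancel, zpow_zero, mul_one]
        rw [zpow_sub_one]
        constructor
        · show (σ ^ (-(i : ℤ))) (σ⁻¹ c) = c
          rw [hc', ih.1]
        · show (σ ^ (-(i : ℤ))) (σ⁻¹ m) = _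
          rw [hm', map_mul, map_zpow, ih.1, ih.2, mul_assoc, ← zpow_add, mul_sub, mul_one,
            sub_eq_add_neg]
    refine ⟨σ ^ (l * r), zpow_mem hσ _, (key _).1, ?_⟩
    rw [(key _).2, ← mul_assoc, zpow_mul, hl]
  obtain ⟨b', hb'⟩ := hinv b hb
  -- a conjugate fixing `m`
  obtain ⟨g₀, hg₀, hg₀c, hg₀m⟩ := hx (-(a * b'))
  set β := g₀ * α with hβ
  have hβA : β ∈ A := mul_mem hg₀ hα
  have hβc : β c = m ^ b := by
    show g₀ (α c) = m ^ b
    rw [hαc, map_mul, map_zpow, map_zpow, hg₀c, hg₀m, (hab m _).mul_zpow, ← zpow_mul,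
      (hab (m ^ b) _).eq, ← mul_assoc, ← zpow_add]
    rw [show c ^ (a + -(a * b') * b) = 1 by
      rw [zpow_add, show -(a * b') * b = -(a * (b * b')) by ring, zpow_neg, zpow_mul,
        hb', mul_inv_cancel]]
    rw [one_mul]
  set τ := β * σ * β⁻¹ with hτ
  have hτA : τ ∈ A := mul_mem (mul_mem hβA hσ) (inv_mem hβA)
  have hτm : τ m = m := by
    have hm : β⁻¹ m = c ^ b' := by
      apply β.injective
      rw [MulAut.apply_inv_self, map_zpow, hβc, ← zpow_mul, hb']
    show β (σ (β⁻¹ m)) = m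
    rw [hm, map_zpow, hσc, map_zpow, hβc, ← zpow_mul, hb']
  obtain ⟨i, j, hij⟩ := hgen (β⁻¹ c)
  have hj : ¬ (p : ℤ) ∣ j := by
    intro hdj
    rw [hz m j hdj, mul_one] at hij
    have h1 : c ^ (1 : ℤ) * m ^ (-(b * i)) = 1 := by
      rw [zpow_one, zpow_neg, zpow_mul, ← hβc, ← map_zpow, ← hij, MulAut.apply_inv_self,
        mul_inv_cancel]
    have := (hind _ _ h1).1
    exact hp'.one_lt.ne' (by exact_mod_cast Int.eq_one_of_dvd_one (by positivity) this)
  have he : ¬ (p : ℤ) ∣ b * (d * j) := fun h => by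
    rcases (Nat.prime_iff_prime_int.1 hp').dvd_or_dvd h with h | h
    · exact hb h
    · rcases (Nat.prime_iff_prime_int.1 hp').dvd_or_dvd h with h | h
      · exact hd h
      · exact hj h
  have hτc : τ c = c * m ^ (b * (d * j)) := by
    show β (σ (β⁻¹ c)) = _
    rw [hij, map_mul σ, map_zpow σ, map_zpow σ, hσc, hσm, (hab m _).mul_zpow, ← zpow_mul,
      ← mul_assoc, ← hij, map_mul, MulAut.apply_inv_self, map_zpow, hβc, ← zpow_mul]
  have hy : ∀ r : ℤ, ∃ g ∈ A, g m = m ∧ g c = c * m ^ r := by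
    obtain ⟨l, hl⟩ := hinv _ he
    intro r
    have key : ∀ k : ℕ, (τ ^ k) m = m ∧ (τ ^ k) c = c * m ^ (b * (d * j) * k) := by
      intro k
      induction k with
      | zero => simp
      | succ k ih =>
        rw [pow_succ]
        constructor
        · show (τ ^ k) (τ m) = m
          rw [hτm, ih.1]
        · show (τ ^ k) (τ c) = _
          rw [hτc, map_mul, map_zpow, ih.1, ih.2, mul_assoc, ← zpow_add, Nat.cast_succ, mul_add,
            mul_one]
    have hpos : (0 : ℤ) < p := by exact_mod_cast hp'.pos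
    refine ⟨τ ^ ((l * r) % (p : ℤ)).toNat, pow_mem hτA _, (key _).1, ?_⟩
    rw [(key _).2, Int.toNat_of_nonneg (Int.emod_nonneg _ hpos.ne')]
    congr 1
    rw [Int.emod_def, mul_sub, zpow_sub, ← mul_assoc (b * (d * j)) l r, zpow_mul, hl,
      hz m (b * (d * j) * ((p : ℤ) * _)) (dvd_mul_of_dvd_right (dvd_mul_right _ _) _), inv_one,
      mul_one]
  obtain ⟨q, hq⟩ : ∃ q : ℕ, 2 * q = p + 1 := by
    obtain ⟨k, hk⟩ := hp'.odd_of_ne_two hp2
    exact ⟨k + 1, by omega⟩
  -- the maps on exponents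
  have hX : ∀ {g : MulAut V} {r : ℤ}, g c = c → g m = m * c ^ r →
      ∀ i j : ℤ, g (c ^ i * m ^ j) = c ^ (i + r * j) * m ^ j := fun {g r} h1 h2 i j => by
    rw [map_mul, map_zpow, map_zpow, h1, h2, (hab m _).eq, (hab (c ^ r) m).mul_zpow, ← mul_assoc,
      ← zpow_mul, ← zpow_add]
  have hY : ∀ {g : MulAut V} {r : ℤ}, g m = m → g c = c * m ^ r →
      ∀ i j : ℤ, g (c ^ i * m ^ j) = c ^ i * m ^ (j + r * i) := fun {g r} h1 h2 i j => by
    rw [map_mul, map_zpow, map_zpow, h1, h2, (hab c _).mul_zpow, mul_assoc, ← zpow_mul, ← zpow_add,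
      add_comm (r * i)]
  have hcong : ∀ (v : V) (k l : ℤ), (p : ℤ) ∣ k - l → v ^ k = v ^ l := fun v k l h => by
    rw [show k = (k - l) + l by ring, zpow_add, hz v _ h, one_mul]
  obtain ⟨y1, hy1, hy1m, hy1c⟩ := hy (-2)
  obtain ⟨x1, hx1, hx1c, hx1m⟩ := hx (-(q : ℤ))
  obtain ⟨y2, hy2, hy2m, hy2c⟩ := hy 1
  obtain ⟨x2, hx2, hx2c, hx2m⟩ := hx 1
  have hall : ∀ i j : ℤ, (x2 * y2 * x1 * y1) (c ^ i * m ^ j) =
      c ^ ((i + -(q : ℤ) * (j + -2 * i)) + 1 * ((j + -2 * i) + 1 * (i + -(q : ℤ) * (j + -2 * i)))) *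
        m ^ ((j + -2 * i) + 1 * (i + -(q : ℤ) * (j + -2 * i))) := fun i j => by
    show x2 (y2 (x1 (y1 (c ^ i * m ^ j)))) = _
    rw [hY hy1m hy1c, hX hx1c hx1m, hY hy2m hy2c, hX hx2c hx2m]
  have hq' : (2 * q : ℤ) = p + 1 := by exact_mod_cast hq
  refine ⟨x2 * y2 * x1 * y1, mul_mem (mul_mem (mul_mem hx2 hy2) hx1) hy1, q, hq, ?_, ?_⟩
  · have h1 := hall 1 0
    rw [zpow_one, zpow_zero, mul_one] at h1
    rw [h1, hcong c _ 2 ⟨2, by linarith⟩, hcong m _ 0 ⟨1, by linarith⟩]
    rw [zpow_zero, mul_one]; norm_cast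
  · have h1 := hall 0 1
    rw [zpow_zero, zpow_one, one_mul] at h1
    rw [h1, hcong c _ 0 ⟨-1, by linarith⟩, hcong m _ (q : ℤ) ⟨-1, by linarith⟩]
    rw [zpow_zero, one_mul, zpow_natCast]

variable {Ω : Type*} [Group Ω] {S : Subgroup Ω} [Finite S] {p : ℕ} [hp : Fact p.Prime]
  {F : FusionSystem S}

/-- A two-generated abelian essential subgroup has order `p ^ 2` when `p ≥ 5`. -/
theorem card_of_two_generated (hS : IsPGroup p S) (hF : F.IsSaturated p) (hp5 : 5 ≤ p)
    {H : Subgroup Ω} (hH : F.IsEssential p H) (hab : IsMulCommutative H) {a b : H}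
    (hgen : Subgroup.closure ({a, b} : Set H) = ⊤) :
    Cfsg.IsElementaryAbelian p H ∧ Nat.card H = p ^ 2 := by
  have := finite_of_le hH.1.1
  refine (essential_rank_two hS hF hH hab ?_).resolve_right fun h => by omega
  set Φ := frattini H with hΦ
  have hN : Φ.Normal := inferInstance
  set π := QuotientGroup.mk' Φ with hπ
  have hk : ∀ u : H, π u ^ p = 1 := fun u => by
    rw [← map_pow]
    exact (QuotientGroup.eq_one_iff _).2
      (CfsgLib.PGroup.pow_mem_frattini (hS.to_le hH.1.1) u)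
  have hcard : Nat.card (Fin p × Fin p) = p ^ 2 := by simp [sq]
  rw [Subgroup.index_eq_card, ← hcard]
  refine Nat.card_le_card_of_surjective (fun v => π a ^ (v.1 : ℕ) * π b ^ (v.2 : ℕ)) fun q => ?_
  obtain ⟨u, rfl⟩ := QuotientGroup.mk'_surjective Φ q
  let K : Subgroup H :=
    { carrier := {u | ∃ i j : ℤ, u = a ^ i * b ^ j}
      one_mem' := ⟨0, 0, by simp⟩
      mul_mem' := by
        rintro _ _ ⟨i, j, rfl⟩ ⟨i', j', rfl⟩
        refine ⟨i + i', j + j', ?_⟩
        rw [zpow_add, zpow_add]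
        exact (show Commute (b ^ j) (a ^ i') from hab.is_comm.comm _ _).mul_mul_mul_comm _ _
      inv_mem' := by
        rintro _ ⟨i, j, rfl⟩
        refine ⟨-i, -j, ?_⟩
        rw [mul_inv_rev, zpow_neg, zpow_neg]
        exact hab.is_comm.comm _ _ }
  have hK : Subgroup.closure ({a, b} : Set H) ≤ K := by
    rw [Subgroup.closure_le]
    rintro w (rfl | rfl)
    · exact ⟨1, 0, by simp⟩
    · exact ⟨0, 1, by simp⟩
  obtain ⟨i, j, rfl⟩ := hK (hgen ▸ Subgroup.mem_top u)
  have hfin : ∀ (w : H) (i : ℤ), ∃ k : Fin p, π w ^ (k : ℕ) = π w ^ i := fun w i => by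
    have hpos : (0 : ℤ) < p := by exact_mod_cast hp.out.pos
    refine ⟨⟨(i % (p : ℤ)).toNat, ?_⟩, ?_⟩
    · have := Int.emod_lt_of_pos i hpos
      omega
    · rw [← zpow_natCast]
      show π w ^ (((i % (p : ℤ)).toNat : ℕ) : ℤ) = π w ^ i
      rw [Int.toNat_of_nonneg (Int.emod_nonneg _ hpos.ne'), Int.emod_def, zpow_sub, zpow_mul,
        zpow_natCast, hk, one_zpow, inv_one, mul_one]
  obtain ⟨k, hka⟩ := hfin a i
  obtain ⟨l, hlb⟩ := hfin b j
  exact ⟨(k, l), by simp only [map_mul, map_zpow, hka, hlb]; rfl⟩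

/-- The automorphisms induced on the central quotient. -/
def centerQuotAut (E : Type*) [Group E] : MulAut E →* MulAut (E ⧸ Subgroup.center E) where
  toFun α := QuotientGroup.congr _ _ α
    (Subgroup.characteristic_iff_map_eq.1 inferInstance α)
  map_one' := by
    ext q
    induction q using QuotientGroup.induction_on with | _ e => rfl
  map_mul' α β := by
    ext q
    induction q using QuotientGroup.induction_on with | _ e => rfl

@[simp] theorem centerQuotAut_mk {E : Type*} [Group E] (α : MulAut E) (e : E) :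
    centerQuotAut E α (e : E ⧸ Subgroup.center E) = ((α e : E) : E ⧸ Subgroup.center E) := rfl

/-- The members of `S` whose conjugation is transported by `α` into a conjugation are in the
extender. -/
theorem mem_extender_of_conj {E : Subgroup Ω} (hES : E ≤ S) {α : MulAut E} {g g' : S}
    (hg : (g : Ω) ∈ Subgroup.normalizer (E : Set Ω))
    (h : ∀ r : E, ∀ hr : (g : Ω) * (α⁻¹ r : E) * (g : Ω)⁻¹ ∈ E,
      Subgroup.inclusion hES (α ⟨_, hr⟩) = g' * Subgroup.inclusion hES r * g'⁻¹) :
    (g : Ω) ∈ extender S E (E.subtype.comp (α : E ≃* E).toMonoidHom) := by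
  refine mem_extender_iso_iff.2 ⟨g.2, hg, mem_autInducedBy_iff.2 ⟨g', g'.2, fun r => ?_⟩⟩
  exact congrArg Subtype.val (h r (conj_mem_of_mem_normalizer hg (α⁻¹ r : E).2))

variable {n s : ℕ} {x y z : S}

open CfsgLib.PGroup in
/-- No automorphism of `⟨x, y, z ^ p⟩` in the system acts diagonally with `b ^ 2 ≢ 1`. -/
theorem false_of_diag (hS : IsPGroup p S) (h : BlackburnThird p n s x y z) {E : Subgroup Ω}
    (hES : E ≤ S) (hE : E.subgroupOf S = Subgroup.closure {x, y, z ^ p})
    (hrec : F.IsReceptive E) {α : MulAut E} (hα : α ∈ F.autGroup E) {X Y : E}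
    (hX : Subgroup.inclusion hES X = x) (hY : Subgroup.inclusion hES Y = y)
    (hαy : Subgroup.inclusion hES (α Y) ∈ Subgroup.closure ({y, z} : Set S)) {b : ℕ}
    (hαx : ∃ m ∈ Subgroup.closure ({y, z} : Set S),
      Subgroup.inclusion hES (α X) = m * x ^ b) (hb : ¬ (p : ℤ) ∣ (b : ℤ) * b - 1) : False := by
  classical
  have := finite_of_le hES
  have hn := h.hn
  have hMn := h.normal_pair
  set inc := Subgroup.inclusion hES with hinc
  set M := Subgroup.closure ({y, z} : Set S) with hM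
  set B := Subgroup.closure ({y, z ^ p} : Set S) with hB
  set W := Subgroup.zpowers (z ^ p) with hW
  set Q := Subgroup.closure ({x, y, z ^ p} : Set S) with hQ
  have hWc : W ≤ Subgroup.center S := Subgroup.zpowers_le.2 h.zpow_p_central
  have hWn : W.Normal := ⟨fun w hw g => by
    rwa [Subgroup.mem_center_iff.1 (hWc hw) g, mul_inv_cancel_right]⟩
  have hyM : y ∈ M := Subgroup.subset_closure (Set.mem_insert _ _)
  have hzM : z ∈ M := Subgroup.subset_closure (Set.mem_insert_of_mem _ (Set.mem_singleton z))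
  have hyB : y ∈ B := Subgroup.subset_closure (Set.mem_insert _ _)
  have hzpB : z ^ p ∈ B := Subgroup.subset_closure (Set.mem_insert_of_mem _ (Set.mem_singleton _))
  have hWB : W ≤ B := Subgroup.zpowers_le.2 hzpB
  have hBM : B ≤ M := (Subgroup.closure_le _).2
    (Set.insert_subset hyM (Set.singleton_subset_iff.2 (pow_mem hzM p)))
  have hz0B : ∀ g g' : S, ⁅g, g'⁆ ∈ B := h.commutator_mem_pair_p
  have hBn : B.Normal := h.normal_pair_p
  have hxM : x ∉ M := h.orders.2.2.2
  have hrange : ∀ g : S, g ∈ Q ↔ g ∈ inc.range := fun g => by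
    rw [← hE, Subgroup.mem_subgroupOf]
    exact ⟨fun hg => ⟨⟨g, hg⟩, rfl⟩, fun ⟨e, he⟩ => he ▸ e.2⟩
  have hinj : Function.Injective inc := Subgroup.inclusion_injective hES
  have hBQ : B ≤ Q := Subgroup.closure_mono (Set.subset_insert _ _)
  -- `Q = B ⟨x⟩`
  have hQdec : ∀ g ∈ Q, ∃ u ∈ B, ∃ i : ℕ, g = u * x ^ i := fun g hg => h.mem_triple_p hg
  have hQM : ∀ g ∈ Q, g ∈ M → g ∈ B := by
    intro g hg hgM
    obtain ⟨u, hu, i, rfl⟩ := hQdec g hg
    have hxi : x ^ i ∈ M := by
      have := mul_mem (inv_mem (hBM hu)) hgM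
      rwa [inv_mul_cancel_left] at this
    obtain ⟨k, rfl⟩ := h.pow_x_mem_pair.1 hxi
    rw [pow_mul, h.xp, one_pow, mul_one]
    exact hu
  have hBdec : ∀ u ∈ B, ∃ j k : ℤ, u = y ^ j * (z ^ p) ^ k := fun u hu => h.mem_pair_p hu
  have hz0 : orderOf (z ^ p ^ (n - 3)) = p := h.orderOf_z0
  -- the centre of `E`
  have hcen : ∀ u : E, u ∈ Subgroup.center E → inc u ∈ W := fun u hu =>
    h.mem_zpowers_of_commute ((hrange _).2 ⟨u, rfl⟩)
      (hX ▸ (show Commute X u from Subgroup.mem_center_iff.1 hu X).map inc)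
      (hY ▸ (show Commute Y u from Subgroup.mem_center_iff.1 hu Y).map inc)
  obtain ⟨Zp, hZp⟩ := (hrange (z ^ p)).1 (hBQ hzpB)
  have hZpc : Zp ∈ Subgroup.center E := Subgroup.mem_center_iff.2 fun e => hinj (by
    rw [map_mul, map_mul, hZp]; exact Subgroup.mem_center_iff.1 h.zpow_p_central _)
  have hZpW : inc (α Zp) ∈ W := hcen _ (Subgroup.mem_center_iff.2 fun e => by
    have h1 := congrArg α (Subgroup.mem_center_iff.1 hZpc (α⁻¹ e))
    rwa [map_mul, map_mul, MulAut.apply_inv_self] at h1)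
  -- `α` preserves `B`
  have hBα : ∀ u : E, inc u ∈ B → inc (α u) ∈ B := by
    intro u hu
    refine hQM _ ((hrange _).2 ⟨_, rfl⟩) ?_
    have hle : B ≤ (M.comap (inc.comp α.toMonoidHom)).map inc := by
      rw [hB, Subgroup.closure_le]
      rintro a (rfl | rfl)
      · exact ⟨Y, hαy, hY⟩
      · exact ⟨Zp, hBM (hWB hZpW), hZp⟩
    obtain ⟨v, hv, hvu⟩ := hle hu
    rw [← hinj hvu]
    exact hv
  have hBα' : ∀ u : E, inc u ∈ B → inc (α⁻¹ u) ∈ B := by
    intro u hu
    set BE := B.comap inc with hBE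
    have heq : BE.map α.toMonoidHom = BE := Subgroup.eq_of_le_of_card_ge
      (by rintro _ ⟨v, hv, rfl⟩; exact hBα v hv)
      (by rw [Subgroup.card_map_of_injective α.injective])
    obtain ⟨v, hv, hvu⟩ := heq.ge (show u ∈ BE from hu)
    rw [← hvu]
    simpa [BE] using (by simpa using hv : v ∈ BE)
  -- the extender is `S`
  have hN : ∀ g : S, (g : Ω) ∈ Subgroup.normalizer (E : Set Ω) := by
    intro g
    have hQn : Q.Normal := h.normal_triple_p
    refine mem_normalizer_of_forall fun w hw => ?_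
    have h1 := hQn.conj_mem ⟨w, hES hw⟩ (hE ▸ (hw : (⟨w, hES hw⟩ : S) ∈ E.subgroupOf S)) g
    rw [← hE] at h1
    exact h1
  have hmem : (z : Ω) ∈ extender S E (E.subtype.comp (α : E ≃* E).toMonoidHom) := by
    -- the action of `z` transported to `x`
    obtain ⟨v, hv, i, hvi⟩ := hQdec (inc (α⁻¹ X)) ((hrange _).2 ⟨_, rfl⟩)
    set e := α⁻¹ X with he
    have hnz : ∀ r : E, (z : Ω) * (r : Ω) * (z : Ω)⁻¹ ∈ E := fun r =>
      conj_mem_of_mem_normalizer (hN z) r.2
    set d : E := e⁻¹ * ⟨_, hnz e⟩ with hd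
    have hdB : inc d ∈ B := by
      have h1 : inc d = ⁅(inc e)⁻¹, z⁆ := by
        rw [hd, map_mul, map_inv, commutatorElement_def, inv_inv]
        show (inc e)⁻¹ * (z * inc e * z⁻¹) = _
        group
      rw [h1]; exact hz0B _ _
    obtain ⟨j, k, hjk⟩ := hBdec _ (hBα d hdB)
    have hcd : inc (α ⟨_, hnz e⟩) = x * inc (α d) := by
      rw [← hX, ← map_mul inc, show X = α e by rw [he, MulAut.apply_inv_self], ← map_mul α, hd,
        mul_inv_cancel_left]
    have hpz : (inc (α d)) ^ p = 1 := by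
      have h0 : (inc e) ^ p = 1 := by
        rw [← map_pow, show e ^ p = 1 by
          apply α.injective
          rw [map_pow, he, MulAut.apply_inv_self, map_one]
          exact hinj (by rw [map_pow, map_one, hX, h.xp]), map_one]
      have h1 : (x * inc (α d)) ^ p = 1 := by
        rw [← hcd, ← map_pow, ← map_pow]
        have : (⟨_, hnz e⟩ : E) ^ p = 1 := hinj (by
          rw [map_pow, map_one]
          show (z * inc e * z⁻¹) ^ p = 1
          rw [conj_pow, h0, mul_one, mul_inv_cancel])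
        rw [this, map_one, map_one]
      rw [show x * inc (α d) = x * inc (α d) * x⁻¹ * x by group,
        h.mul_pow_prime (hMn.conj_mem _ (hBM (hBα d hdB)) x) h.xp, conj_pow] at h1
      calc inc (α d) ^ p = x⁻¹ * (x * inc (α d) ^ p * x⁻¹) * x := by group
        _ = 1 := by rw [h1]; group
    obtain ⟨l, hl⟩ : ∃ l : ℤ, inc (α d) = y ^ j * (z ^ p ^ (n - 3)) ^ l := by
      have hyz : Commute (y ^ j) ((z ^ p) ^ k) :=
        h.commute_pair (M.zpow_mem hyM j) (M.zpow_mem (pow_mem hzM p) k)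
      rw [hjk, hyz.mul_pow, ← zpow_natCast (y ^ j), ← zpow_mul, mul_comm j, zpow_mul, zpow_natCast,
        h.yp, one_zpow, one_mul, ← zpow_natCast z, ← zpow_mul, ← zpow_natCast, ← zpow_mul] at hpz
      have h1 := orderOf_dvd_iff_zpow_eq_one.2 hpz
      rw [h.orders.1, show (p : ℤ) * k * p = (p : ℤ) ^ 2 * k by ring,
        show n - 2 = 2 + (n - 4) by omega, pow_add] at h1
      push_cast at h1
      obtain ⟨l, rfl⟩ := (mul_dvd_mul_iff_left
        (pow_ne_zero 2 (show (p : ℤ) ≠ 0 by exact_mod_cast hp.out.pos.ne'))).1 h1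
      refine ⟨l, ?_⟩
      rw [hjk, ← zpow_natCast z p, ← zpow_mul, ← zpow_natCast z (p ^ (n - 3)), ← zpow_mul,
        ← mul_assoc, show n - 3 = n - 4 + 1 by omega]
      push_cast
      ring_nf
    obtain ⟨u, t, hut⟩ := (Nat.prime_iff_prime_int.1 hp.out).coprime_iff_not_dvd.2
      (show ¬ (p : ℤ) ∣ (s : ℤ) by exact_mod_cast h.s_ndvd)
    set g' : S := z ^ j * y ^ (t * l) with hg'
    have hg'M : g' ∈ M := mul_mem (M.zpow_mem hzM j) (M.zpow_mem hyM _)
    have hgx : g' * x * g'⁻¹ = x * inc (α d) := by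
      have hc : Commute y z := h.comm
      have e1 : x⁻¹ * g' * x = (y * z) ^ j * (y * z ^ (s * p ^ (n - 3))) ^ (t * l) := by
        rw [← h.cz, ← h.cy, hg']
        conv_rhs => rw [show x⁻¹ * z * x = x⁻¹ * z * x⁻¹⁻¹ by group,
          show x⁻¹ * y * x = x⁻¹ * y * x⁻¹⁻¹ by group, conj_zpow, conj_zpow]
        group
      calc g' * x * g'⁻¹ = x * ((x⁻¹ * g' * x) * g'⁻¹) := by group
        _ = x * inc (α d) := by
          rw [e1, hc.mul_zpow, (hc.pow_right _).mul_zpow, hl, hg']
          congr 1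
          have hz0 : (z ^ (s * p ^ (n - 3))) ^ (t * l) = (z ^ p ^ (n - 3)) ^ l := by
            rw [mul_comm s, pow_mul, ← zpow_natCast _ s, ← zpow_mul,
              show (s : ℤ) * (t * l) = l + (p : ℤ) * (-u * l) by linear_combination l * hut,
              zpow_add, zpow_mul, zpow_natCast (z ^ p ^ (n - 3)) p, h.z0_pow, one_zpow, mul_one]
          rw [hz0]
          have hM' : ∀ {a b : S}, a ∈ M → b ∈ M → a * b = b * a := fun ha hb =>
            (h.commute_pair ha hb).eq
          have a1 : y ^ (t * l) ∈ M := M.zpow_mem hyM _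
          have a2 : z ^ j ∈ M := M.zpow_mem hzM _
          have a3 : (z ^ p ^ (n - 3)) ^ l ∈ M := M.zpow_mem (pow_mem hzM _) _
          rw [mul_inv_rev]
          calc y ^ j * z ^ j * (y ^ (t * l) * (z ^ p ^ (n - 3)) ^ l) *
                ((y ^ (t * l))⁻¹ * (z ^ j)⁻¹)
              = y ^ j * z ^ j * ((z ^ p ^ (n - 3)) ^ l * y ^ (t * l)) *
                  ((y ^ (t * l))⁻¹ * (z ^ j)⁻¹) := by rw [hM' a1 a3]
            _ = y ^ j * (z ^ j * (z ^ p ^ (n - 3)) ^ l) * (z ^ j)⁻¹ := by group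
            _ = y ^ j * ((z ^ p ^ (n - 3)) ^ l * z ^ j) * (z ^ j)⁻¹ := by rw [hM' a2 a3]
            _ = y ^ j * (z ^ p ^ (n - 3)) ^ l := by group
    refine mem_extender_of_conj hES (g := z) (g' := g') (hN z) fun r hr => ?_
    -- both sides are homomorphisms in `r`
    let φ₁ : E →* S := inc.comp (α.toMonoidHom.comp
      ((normAut (z : Ω) (hN z)).toMonoidHom.comp (α⁻¹ : MulAut E).toMonoidHom))
    let φ₂ : E →* S := (MulAut.conj g').toMonoidHom.comp inc
    have heqφ : φ₁ = φ₂ := by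
      refine MonoidHom.eq_of_eqOn_dense (s := ({X, Y, Zp} : Set E)) ?_ ?_
      · apply Subgroup.map_injective hinj
        rw [MonoidHom.map_closure, Set.image_insert_eq, Set.image_insert_eq, Set.image_singleton,
          hX, hY, hZp, ← MonoidHom.range_eq_map]
        exact Subgroup.ext hrange
      · have hfix : ∀ w : E, inc w ∈ B → φ₁ w = φ₂ w := by
          intro w hw
          have h1 : (normAut (z : Ω) (hN z)) (α⁻¹ w) = α⁻¹ w := hinj (by
            show z * inc (α⁻¹ w) * z⁻¹ = inc (α⁻¹ w)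
            rw [(h.commute_pair hzM (hBM (hBα' w hw))).eq, mul_inv_cancel_right])
          show inc (α ((normAut (z : Ω) (hN z)) (α⁻¹ w))) = g' * inc w * g'⁻¹
          rw [h1, MulAut.apply_inv_self, (h.commute_pair hg'M (hBM hw)).eq, mul_inv_cancel_right]
        rintro w (rfl | rfl | rfl)
        · show inc (α ⟨_, hnz e⟩) = g' * inc w * g'⁻¹
          rw [hcd, hX, hgx]
        · exact hfix _ (hY ▸ hyB)
        · exact hfix _ (hZp ▸ hzpB)
    exact DFunLike.congr_fun heqφ r
  have hext : S ≤ extender S E (E.subtype.comp (α : E ≃* E).toMonoidHom) := by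
    have hle : Subgroup.closure ({x, y, z} : Set S) ≤
        (extender S E (E.subtype.comp (α : E ≃* E).toMonoidHom)).comap S.subtype := by
      rw [Subgroup.closure_le]
      rintro a (rfl | rfl | rfl)
      · exact le_extender ((mem_autGroup_iff F hES).1 hα) (hX ▸ X.2)
      · exact le_extender ((mem_autGroup_iff F hES).1 hα) (hY ▸ Y.2)
      · exact hmem
    exact fun g hg => hle (h.gen ▸ Subgroup.mem_top (⟨g, hg⟩ : S))
  obtain ⟨χ, hχ, hχe⟩ := exists_extension hrec ((mem_autGroup_iff F hES).1 hα) hES hext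
  let β : S →* S := χ.codRestrict S fun g => (F.le_of_mem hχ).2 g
  have hβ : ∀ u : E, β (inc u) = inc (α u) := fun u => Subtype.ext (hχe u)
  -- the image of `z`
  obtain ⟨m₁, hm₁, r, hr⟩ := h.exists_mul_pow (β z)
  obtain ⟨l, k, hlk⟩ := h.mem_abelian_pair hm₁
  obtain ⟨a, c, hac⟩ := hBdec _ (hBα Y (hY ▸ hyB))
  obtain ⟨m₂, hm₂, hm₂x⟩ := hαx
  have hm₂B : m₂ ∈ B := by
    refine hQM _ ?_ hm₂
    have h1 : inc (α X) ∈ Q := (hrange _).2 ⟨_, rfl⟩
    rw [hm₂x] at h1
    have := mul_mem h1 (inv_mem (pow_mem (Subgroup.subset_closure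
      (Set.mem_insert x ({y, z ^ p} : Set S))) b))
    rwa [mul_inv_cancel_right] at this
  -- powers: `β (z ^ p) = z ^ (k p)`
  have hzk : β (z ^ p) = (z ^ p) ^ k := by
    have hyz : Commute (y ^ l) (z ^ k) := (show Commute y z from h.comm).zpow_zpow l k
    rw [map_pow, hr, h.mul_pow_prime hm₁ (by rw [← pow_mul, mul_comm, pow_mul, h.xp, one_pow]),
      hlk, hyz.mul_pow, ← zpow_natCast (y ^ l), ← zpow_mul, mul_comm l, zpow_mul, zpow_natCast,
      h.yp, one_zpow, one_mul, ← zpow_natCast, ← zpow_mul, mul_comm k, zpow_mul, zpow_natCast]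
  set π := QuotientGroup.mk' W with hπ
  have hker : ∀ {g : S}, g ∈ W → π g = 1 := fun hg => (QuotientGroup.eq_one_iff _).2 hg
  have hπW : ∀ q : ℤ, π ((z ^ p) ^ q) = 1 := fun q =>
    hker (Subgroup.zpow_mem _ (Subgroup.mem_zpowers _) q)
  have hzk' : (p : ℤ) ∣ k - (a : ℤ) * b := by
    -- `z0` is mapped to its `k`-th and to its `a b`-th power
    have h1 : β (z ^ p ^ (n - 3)) = (z ^ p ^ (n - 3)) ^ k := by
      rw [show p ^ (n - 3) = p * p ^ (n - 4) by rw [← pow_succ']; congr 1; omega, pow_mul,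
        map_pow, hzk, ← zpow_natCast, ← zpow_natCast ((z ^ p)), ← zpow_mul, ← zpow_mul,
        mul_comm k]
    have h2 : β ⁅x⁻¹, y⁆ = ⁅(β x)⁻¹, β y⁆ := by rw [map_commutatorElement, map_inv]
    have h3 : ⁅x⁻¹, y⁆ = (z ^ p ^ (n - 3)) ^ (s : ℤ) := by
      rw [zpow_natCast, ← pow_mul, mul_comm (p ^ (n - 3)), commutatorElement_def, inv_inv, h.cy,
        (show Commute y z from h.comm).pow_right _ |>.eq, mul_inv_cancel_right]
    have hy1 : ∀ i : ℕ, (x ^ i)⁻¹ * y * x ^ i = y * (z ^ p ^ (n - 3)) ^ ((s : ℤ) * i) := by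
      intro i
      induction i with
      | zero => simp
      | succ i ih =>
        have hz0x : Commute x ((z ^ p ^ (n - 3)) ^ ((s : ℤ) * i)) :=
          Subgroup.mem_center_iff.1 (Subgroup.zpow_mem _ h.z0_central _) x
        calc (x ^ (i + 1))⁻¹ * y * x ^ (i + 1) = x⁻¹ * ((x ^ i)⁻¹ * y * x ^ i) * x := by
              rw [pow_succ, mul_inv_rev]; group
          _ = x⁻¹ * y * ((z ^ p ^ (n - 3)) ^ ((s : ℤ) * i) * x) := by rw [ih]; group
          _ = (x⁻¹ * y * x) * (z ^ p ^ (n - 3)) ^ ((s : ℤ) * i) := by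
              rw [← hz0x.eq]; group
          _ = _ := by
              rw [h.cy, mul_comm s, pow_mul, ← zpow_natCast _ s, mul_assoc, ← zpow_add]
              congr 2
              push_cast
              ring
    have h4 : ⁅(β x)⁻¹, β y⁆ = (z ^ p ^ (n - 3)) ^ ((s : ℤ) * (a * b)) := by
      rw [← hX, ← hY, hβ, hβ, hm₂x, hac]
      have hwc := Subgroup.mem_center_iff.1 (hWc (Subgroup.zpow_mem _ (Subgroup.mem_zpowers (z ^ p)) c))
      have hm₂y := h.commute_pair (hBM hm₂B) (M.zpow_mem hyM a)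
      have hxb : (x ^ b)⁻¹ * y ^ a * x ^ b = y ^ a * (z ^ p ^ (n - 3)) ^ ((s : ℤ) * b * a) := by
        have hc' : Commute y ((z ^ p ^ (n - 3)) ^ ((s : ℤ) * b)) :=
          ((show Commute y z from h.comm).pow_right _).zpow_right _
        calc (x ^ b)⁻¹ * y ^ a * x ^ b = ((x ^ b)⁻¹ * y * (x ^ b)⁻¹⁻¹) ^ a := by
              rw [conj_zpow, inv_inv]
          _ = _ := by rw [inv_inv, hy1, hc'.mul_zpow, ← zpow_mul]
      set v := (z ^ p) ^ c
      calc ⁅(m₂ * x ^ b)⁻¹, y ^ a * v⁆
          = (x ^ b)⁻¹ * (m₂⁻¹ * ((y ^ a * v) * m₂)) * x ^ b * (y ^ a * v)⁻¹ := by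
            rw [commutatorElement_def]; group
        _ = (x ^ b)⁻¹ * (m₂⁻¹ * (m₂ * (y ^ a * v))) * x ^ b * (y ^ a * v)⁻¹ := by
            rw [(hm₂y.mul_right (hwc m₂)).eq]
        _ = (x ^ b)⁻¹ * y ^ a * (v * x ^ b) * (y ^ a * v)⁻¹ := by group
        _ = ((x ^ b)⁻¹ * y ^ a * x ^ b) * (v * v⁻¹) * (y ^ a)⁻¹ := by
            rw [← hwc (x ^ b)]; group
        _ = y ^ a * (z ^ p ^ (n - 3)) ^ ((s : ℤ) * b * a) * (y ^ a)⁻¹ := by
            rw [hxb, mul_inv_cancel, mul_one]
        _ = _ := by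
            rw [Subgroup.mem_center_iff.1 (Subgroup.zpow_mem _ h.z0_central _) (y ^ a),
              mul_inv_cancel_right]
            congr 1; ring
    have h5 : (p : ℤ) ∣ k * s - s * (a * b) := Int.modEq_iff_dvd.1 (by
      have := h2
      rw [h3, map_zpow, h1, ← zpow_mul, h4, zpow_eq_zpow_iff_modEq, hz0] at this
      exact this.symm)
    rw [show k * (s : ℤ) - s * (a * b) = s * (k - a * b) by ring] at h5
    exact ((Nat.prime_iff_prime_int.1 hp.out).dvd_or_dvd h5).resolve_left
      (by exact_mod_cast h.s_ndvd)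
  have hak : (p : ℤ) ∣ a - (b : ℤ) * k := by
    have hz' : π (β (x⁻¹ * z * x)) = π (β (y * z)) := by rw [h.cz]
    rw [map_mul β, map_mul β, map_inv β, map_mul β y] at hz'
    have hβx : π (β x) = π m₂ * π x ^ b := by rw [← hX, hβ, hm₂x, map_mul, map_pow, hX]
    have hβy : π (β y) = π y ^ a := by
      rw [← hY, hβ, hac, map_mul, hπW, mul_one, map_zpow, hY]
    -- `y` is central modulo `W`
    have hyc : ∀ q, Commute q (π y) := by
      intro q
      obtain ⟨g, rfl⟩ := QuotientGroup.mk'_surjective _ q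
      refine commutatorElement_eq_one_iff_mul_comm.1 ?_
      rw [← map_commutatorElement]
      exact hker (Subgroup.zpowers_le.2 h.z0_mem_zpowers
        (h.commutator_small_mem g (Subgroup.subset_closure (Set.mem_insert _ _))))
    have hm₂c : Commute (π (β z)) (π m₂) := by
      obtain ⟨i, q, rfl⟩ := hBdec m₂ hm₂B
      rw [map_mul π (y ^ i), hπW, mul_one, map_zpow]
      exact (hyc _).zpow_right _
    have hxz : ∀ i : ℕ, (π x ^ i)⁻¹ * π z * π x ^ i = π y ^ i * π z := by
      intro i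
      induction i with
      | zero => simp
      | succ i ih =>
        calc (π x ^ (i + 1))⁻¹ * π z * π x ^ (i + 1)
            = (π x)⁻¹ * ((π x ^ i)⁻¹ * π z * π x ^ i) * π x := by
              rw [pow_succ, mul_inv_rev]; group
          _ = (π x)⁻¹ * π y ^ i * π z * π x := by rw [ih]; group
          _ = π y ^ i * π (x⁻¹ * z * x) := by
              rw [((hyc (π x)⁻¹).pow_right i).eq, map_mul, map_mul, map_inv]; group
          _ = _ := by rw [h.cz, map_mul, pow_succ]; group
    have hxzk : (π x ^ b)⁻¹ * π z ^ k * π x ^ b = π y ^ ((b : ℤ) * k) * π z ^ k := by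
      calc (π x ^ b)⁻¹ * π z ^ k * π x ^ b = ((π x ^ b)⁻¹ * π z * (π x ^ b)⁻¹⁻¹) ^ k := by
            rw [conj_zpow, inv_inv]
        _ = _ := by
            rw [inv_inv, hxz, ((hyc (π z)).symm.pow_left b).mul_zpow, ← zpow_natCast, ← zpow_mul]
    have hβz : π (β z) = π y ^ l * π z ^ k * π x ^ r := by
      rw [hr, hlk, map_mul, map_mul, map_zpow, map_zpow, map_pow]
    have h6 : (π (β x))⁻¹ * π (β z) * π (β x) = π y ^ ((b : ℤ) * k) * π (β z) := by
      calc (π (β x))⁻¹ * π (β z) * π (β x)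
          = (π x ^ b)⁻¹ * ((π m₂)⁻¹ * (π (β z) * π m₂)) * π x ^ b := by rw [hβx]; group
        _ = (π x ^ b)⁻¹ * π y ^ l * π z ^ k * π x ^ r * π x ^ b := by
            rw [hm₂c.eq, inv_mul_cancel_left, hβz]; group
        _ = π y ^ l * (π x ^ b)⁻¹ * π z ^ k * (π x ^ r * π x ^ b) := by
            rw [((hyc (π x ^ b)⁻¹).zpow_right l).eq]; group
        _ = π y ^ l * ((π x ^ b)⁻¹ * π z ^ k * π x ^ b) * π x ^ r := by
            rw [← pow_add, add_comm, pow_add]; group
        _ = π y ^ ((b : ℤ) * k) * π (β z) := by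
            rw [hxzk, ← mul_assoc, ((Commute.refl (π y)).zpow_zpow l _).eq, hβz]; group
    rw [map_mul π, map_mul π, map_mul π, map_inv π, hβy, h6] at hz'
    have h7 : π y ^ ((b : ℤ) * k) = π y ^ (a : ℤ) := mul_right_cancel hz'
    have h8 : y ^ (a - (b : ℤ) * k) * z ^ (0 : ℤ) ∈ W := by
      rw [zpow_zero, mul_one, ← QuotientGroup.eq_one_iff]
      show π (y ^ (a - (b : ℤ) * k)) = 1
      rw [map_zpow, zpow_sub, h7, mul_inv_cancel]
    exact (h.mem_zpowers_p_iff.1 h8).1
  -- conclusion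
  refine hb ?_
  have h2 : (p : ℤ) ∣ (a : ℤ) * (1 - b * b) := by
    have := dvd_add hak (dvd_mul_of_dvd_right hzk' (b : ℤ))
    rwa [show a - (b : ℤ) * k + b * (k - a * b) = a * (1 - b * b) by ring] at this
  rcases (Nat.prime_iff_prime_int.1 hp.out).dvd_or_dvd h2 with ha | ha
  · -- `α y` would be central
    obtain ⟨a', rfl⟩ := ha
    exfalso
    have : α Y ∈ Subgroup.center E := Subgroup.mem_center_iff.2 fun e => hinj (by
      rw [map_mul, map_mul, hac, zpow_mul, zpow_natCast, h.yp, one_zpow, one_mul]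
      exact Subgroup.mem_center_iff.1
        (hWc (Subgroup.zpow_mem _ (Subgroup.mem_zpowers _) c)) _)
    have hYc : Y ∈ Subgroup.center E := Subgroup.mem_center_iff.2 fun e => α.injective (by
      rw [map_mul, map_mul]; exact Subgroup.mem_center_iff.1 this (α e))
    obtain ⟨q, hq⟩ := hcen Y hYc
    have := (h.mem_zpowers_p_iff (i := 1) (j := 0)).1 (by
      rw [zpow_one, zpow_zero, mul_one, ← hY]; exact ⟨q, hq⟩)
    exact hp.out.one_lt.ne' (by exact_mod_cast Int.eq_one_of_dvd_one (by positivity) this.1)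
  · exact (dvd_neg.2 ha).trans (by rw [neg_sub])

theorem not_dvd_sq_sub_one (hp5 : 5 ≤ p) {q : ℕ} (hq : 2 * q = p + 1) :
    ¬ (p : ℤ) ∣ (q : ℤ) * q - 1 := by
  intro h
  have h2 : (2 * q : ℤ) = p + 1 := by exact_mod_cast hq
  have h3 : (p : ℤ) ∣ 3 := by
    have := dvd_sub (dvd_mul_right (p : ℤ) ((p : ℤ) + 2)) (h.mul_left 4)
    rwa [show (p : ℤ) * (p + 2) - 4 * (q * q - 1) = 3 by
      linear_combination -(2 * q + p + 1 : ℤ) * h2] at this
  have := Int.le_of_dvd (by norm_num) h3
  omega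

open CfsgLib.PGroup in
/-- No automorphism of `⟨x, y, z ^ p⟩` in the system moves `y` out of `⟨y, z⟩`. -/
theorem false_of_moved (hS : IsPGroup p S) (hF : F.IsSaturated p)
    (h : BlackburnThird p n s x y z) {E : Subgroup Ω}
    (hES : E ≤ S) (hE : E.subgroupOf S = Subgroup.closure {x, y, z ^ p})
    {α : MulAut E} (hα : α ∈ F.autGroup E) {X Y : E}
    (hX : Subgroup.inclusion hES X = x) (hY : Subgroup.inclusion hES Y = y)
    (hαy : Subgroup.inclusion hES (α Y) ∉ Subgroup.closure ({y, z} : Set S)) : False := by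
  classical
  have := finite_of_le hES
  set inc := Subgroup.inclusion hES with hinc
  have hinj : Function.Injective inc := Subgroup.inclusion_injective hES
  have hrange : ∀ e : E, inc e ∈ Subgroup.closure ({x, y, z ^ p} : Set S) := fun e => by
    rw [← hE]; exact e.2
  have hzM : z ∈ Subgroup.closure ({y, z} : Set S) :=
    Subgroup.subset_closure (Set.mem_insert_of_mem _ (Set.mem_singleton z))
  have hyM : y ∈ Subgroup.closure ({y, z} : Set S) := Subgroup.subset_closure (Set.mem_insert _ _)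
  have hN : ∀ g : S, (g : Ω) ∈ Subgroup.normalizer (E : Set Ω) := by
    intro g
    refine mem_normalizer_of_forall fun w hw => ?_
    have h1 := h.normal_triple_p.conj_mem ⟨w, hES hw⟩
      (hE ▸ (hw : (⟨w, hES hw⟩ : S) ∈ E.subgroupOf S)) g
    rw [← hE] at h1
    exact h1
  have hrec : F.IsReceptive E := (fullyAutomized_receptive_of_fullyNormalized hS hF
    (isFullyNormalized_of_normal hES fun g hg => hN ⟨g, hg⟩)).2
  set Z := Subgroup.center E with hZ
  set π := QuotientGroup.mk' Z with hπ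
  have hcenW : ∀ u ∈ Z, inc u ∈ Subgroup.zpowers (z ^ p) := fun u hu =>
    h.mem_zpowers_of_commute (hrange u)
      (hX ▸ (show Commute X u from Subgroup.mem_center_iff.1 hu X).map inc)
      (hY ▸ (show Commute Y u from Subgroup.mem_center_iff.1 hu Y).map inc)
  have hWcen : ∀ u : E, inc u ∈ Subgroup.center S → u ∈ Z := fun u hu =>
    Subgroup.mem_center_iff.2 fun e => hinj (by
      rw [map_mul, map_mul]; exact Subgroup.mem_center_iff.1 hu _)
  have hcomm : Commute (π X) (π Y) := by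
    refine commutatorElement_eq_one_iff_mul_comm.1 ?_
    rw [← map_commutatorElement]
    refine (QuotientGroup.eq_one_iff _).2 (hWcen _ ?_)
    rw [map_commutatorElement, hX, hY]
    exact Subgroup.zpowers_le.2 h.z0_central
      (h.commutator_small_mem x (Subgroup.subset_closure (Set.mem_insert _ _)))
  have hdec : ∀ e : E, ∃ (i : ℤ) (j : ℕ), π e = π Y ^ i * π X ^ j ∧
      (inc e ∈ Subgroup.closure ({y, z} : Set S) ↔ p ∣ j) := by
    intro e
    obtain ⟨u, hu, j, hj⟩ := h.mem_triple_p (hrange e)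
    obtain ⟨i, k, rfl⟩ := h.mem_pair_p hu
    have hW : π (e * (Y ^ i * X ^ j)⁻¹) = 1 := by
      refine (QuotientGroup.eq_one_iff _).2 (hWcen _ ?_)
      rw [map_mul, map_inv, map_mul, map_zpow, map_pow, hX, hY, hj]
      have hw := Subgroup.mem_center_iff.1 (Subgroup.zpow_mem _ h.zpow_p_central k) (y ^ i)
      rw [show y ^ i * (z ^ p) ^ k * x ^ j * (y ^ i * x ^ j)⁻¹ =
        y ^ i * (z ^ p) ^ k * (y ^ i)⁻¹ by group, hw, mul_inv_cancel_right]
      exact Subgroup.zpow_mem _ h.zpow_p_central k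
    rw [map_mul, map_inv, mul_inv_eq_one, map_mul, map_zpow, map_pow] at hW
    refine ⟨i, j, hW, ?_⟩
    have hu' : y ^ i * (z ^ p) ^ k ∈ Subgroup.closure ({y, z} : Set S) :=
      mul_mem (Subgroup.zpow_mem _ hyM i) (Subgroup.zpow_mem _ (pow_mem hzM p) k)
    rw [← h.pow_x_mem_pair, hj]
    exact Subgroup.mul_mem_cancel_left _ hu'
  have hexpX : π X ^ p = 1 := by
    rw [← map_pow, show X ^ p = 1 from hinj (by rw [map_pow, map_one, hX, h.xp]), map_one]
  have hexpY : π Y ^ p = 1 := by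
    rw [← map_pow, show Y ^ p = 1 from hinj (by rw [map_pow, map_one, hY, h.yp]), map_one]
  have hgen : ∀ v : E ⧸ Z, ∃ i j : ℤ, v = π Y ^ i * π X ^ j := fun v => by
    obtain ⟨e, rfl⟩ := QuotientGroup.mk'_surjective Z v
    obtain ⟨i, j, hij, -⟩ := hdec e
    exact ⟨i, j, by rw [zpow_natCast]; exact hij⟩
  have hab : ∀ u v : E ⧸ Z, Commute u v := fun u v => by
    obtain ⟨i, j, rfl⟩ := hgen u
    obtain ⟨i', j', rfl⟩ := hgen v
    exact Commute.mul_left
      (Commute.mul_right ((Commute.refl (π Y)).zpow_zpow i i') (hcomm.symm.zpow_zpow i j'))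
      (Commute.mul_right (hcomm.zpow_zpow j i') ((Commute.refl (π X)).zpow_zpow j j'))
  have hexp : ∀ v : E ⧸ Z, v ^ p = 1 := fun v => by
    obtain ⟨i, j, rfl⟩ := hgen v
    rw [(hab _ _).mul_pow, ← zpow_natCast, ← zpow_natCast, ← zpow_mul, ← zpow_mul, mul_comm i,
      mul_comm j, zpow_mul, zpow_mul, zpow_natCast, zpow_natCast, hexpY, hexpX, one_zpow, one_zpow,
      one_mul]
  have hind : ∀ i j : ℤ, π Y ^ i * π X ^ j = 1 → (p : ℤ) ∣ i ∧ (p : ℤ) ∣ j := by
    intro i j hij
    rw [← map_zpow, ← map_zpow, ← map_mul] at hij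
    have h1 := hcenW _ ((QuotientGroup.eq_one_iff _).1 hij)
    rw [map_mul, map_zpow, map_zpow, hX, hY] at h1
    have hxj : x ^ j ∈ Subgroup.closure ({y, z} : Set S) := by
      have := mul_mem (inv_mem (Subgroup.zpow_mem _ hyM i))
        ((Subgroup.zpowers_le.2 (pow_mem hzM p)) h1)
      rwa [inv_mul_cancel_left] at this
    have hj : (p : ℤ) ∣ j := by
      by_contra hj
      obtain ⟨a, c, hac⟩ := (Nat.prime_iff_prime_int.1 hp.out).coprime_iff_not_dvd.2 hj
      refine h.orders.2.2.2 ?_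
      have : x = (x ^ (p : ℤ)) ^ a * (x ^ j) ^ c := by
        rw [← zpow_mul, ← zpow_mul, ← zpow_add, mul_comm _ a, mul_comm j c, hac, zpow_one]
      rw [this, zpow_natCast, h.xp, one_zpow, one_mul]
      exact Subgroup.zpow_mem _ hxj c
    refine ⟨?_, hj⟩
    obtain ⟨l, rfl⟩ := hj
    rw [zpow_mul, zpow_natCast, h.xp, one_zpow, mul_one] at h1
    exact ((h.mem_zpowers_p_iff (i := i) (j := 0)).1 (by rwa [zpow_zero, mul_one])).1
  set σ := normAut (z : Ω) (hN z) with hσdef
  have hσ : σ ∈ F.autGroup E :=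
    autInducedBy_le_autGroup hES (mem_autInducedBy_iff.2 ⟨z, z.2, fun _ => rfl⟩)
  have hσY : σ Y = Y := hinj (by
    show z * inc Y * z⁻¹ = inc Y
    rw [hY, ← h.comm, mul_inv_cancel_right])
  have hσX : σ X = X * Y := hinj (by
    show z * inc X * z⁻¹ = inc (X * Y)
    rw [map_mul, hX, hY]
    calc z * x * z⁻¹ = x * (x⁻¹ * z * x) * z⁻¹ := by group
      _ = x * y := by rw [h.cz]; group)
  obtain ⟨i, j, hij, hj⟩ := hdec (α Y)
  obtain ⟨g, hg, q, hq, hgc, hgm⟩ := exists_diag p (by have := h.hp5; omega) hab hexp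
    ((F.autGroup E).map (centerQuotAut E)) hgen hind
    (σ := centerQuotAut E σ) ⟨σ, hσ, rfl⟩ (d := 1)
    (fun h1 => hp.out.one_lt.ne' (by exact_mod_cast Int.eq_one_of_dvd_one (by positivity) h1))
    (by rw [hπ, QuotientGroup.mk'_apply, centerQuotAut_mk, hσY])
    (by rw [zpow_one, ← map_mul, ← hσX]; rfl)
    (α := centerQuotAut E α) ⟨α, hα, rfl⟩ (a := i) (b := j)
    (by rw [zpow_natCast, ← hij]; rfl)
    (fun hd => hαy (hj.2 (by exact_mod_cast hd)))
  obtain ⟨β, hβ, rfl⟩ := hg
  have hY2 : π (β Y) = π (Y ^ 2) := by rw [map_pow, ← hgc]; rfl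
  have hXq : π (β X) = π (X ^ q) := by rw [map_pow, ← hgm]; rfl
  have hW' : ∀ u v : E, π u = π v → inc (u⁻¹ * v) ∈ Subgroup.zpowers (z ^ p) :=
    fun u v huv => hcenW _ (QuotientGroup.eq.1 huv)
  refine false_of_diag hS h hES hE hrec hβ hX hY ?_ (b := q)
    ⟨inc ((X ^ q)⁻¹ * β X), (Subgroup.zpowers_le.2 (pow_mem hzM p)) (hW' _ _ hXq.symm), ?_⟩
    (not_dvd_sq_sub_one h.hp5 hq)
  · have h1 := hW' _ _ hY2.symm
    rw [map_mul, map_inv, map_pow, hY] at h1
    have := mul_mem (pow_mem hyM 2) ((Subgroup.zpowers_le.2 (pow_mem hzM p)) h1)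
    rwa [mul_inv_cancel_left] at this
  · have hw := Subgroup.mem_center_iff.1
      ((Subgroup.zpowers_le.2 h.zpow_p_central) (hW' _ _ hXq.symm)) (x ^ q)
    rw [← hinc, ← hw, map_mul, map_inv, map_pow, hX, mul_inv_cancel_left]

open CfsgLib.PGroup in
/-- `⟨x, z ^ p⟩` is not a pearl. -/
theorem false_of_pearl (hS : IsPGroup p S) (hF : F.IsSaturated p)
    (h : BlackburnThird p 4 s x y z) {E : Subgroup Ω} (hess : F.IsEssential p E)
    (hE : E.subgroupOf S = Subgroup.closure {x, z ^ p}) : False := by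
  classical
  have hES := hess.1.1
  have := finite_of_le hES
  set inc := Subgroup.inclusion hES with hinc
  have hinj : Function.Injective inc := Subgroup.inclusion_injective hES
  have hrange : ∀ g : S, g ∈ Subgroup.closure ({x, z ^ p} : Set S) ↔ g ∈ inc.range := fun g => by
    rw [← hE, Subgroup.mem_subgroupOf]
    exact ⟨fun hg => ⟨⟨g, hg⟩, rfl⟩, fun ⟨e, he⟩ => he ▸ e.2⟩
  obtain ⟨X, hX⟩ := (hrange x).1 (Subgroup.subset_closure (Set.mem_insert _ _))
  obtain ⟨C, hC⟩ := (hrange (z ^ p)).1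
    (Subgroup.subset_closure (Set.mem_insert_of_mem _ (Set.mem_singleton _)))
  have hzp2 : (z ^ p) ^ p = 1 := by rw [← pow_mul, ← sq]; exact h.zp
  have hxz : Commute (z ^ p) x := (Subgroup.mem_center_iff.1 h.zpow_p_central x).symm
  let K : Subgroup E :=
    { carrier := {e | ∃ i j : ℤ, inc e = (z ^ p) ^ i * x ^ j}
      one_mem' := ⟨0, 0, by simp⟩
      mul_mem' := by
        rintro a b ⟨i, j, ha⟩ ⟨i', j', hb⟩
        refine ⟨i + i', j + j', ?_⟩
        rw [map_mul, ha, hb, zpow_add, zpow_add]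
        exact (hxz.symm.zpow_zpow j i').mul_mul_mul_comm _ _
      inv_mem' := by
        rintro a ⟨i, j, ha⟩
        refine ⟨-i, -j, ?_⟩
        rw [map_inv, ha, mul_inv_rev, zpow_neg, zpow_neg]
        exact (hxz.zpow_zpow i j).inv_inv.symm.eq }
  have hKtop : ∀ e : E, e ∈ K := by
    intro e
    have hle : Subgroup.closure ({x, z ^ p} : Set S) ≤ K.map inc := by
      rw [Subgroup.closure_le]
      rintro a (rfl | rfl)
      · exact ⟨X, ⟨0, 1, by rw [hX]; simp⟩, hX⟩
      · exact ⟨C, ⟨1, 0, by rw [hC]; simp⟩, hC⟩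
    obtain ⟨e', he', hee⟩ := hle ((hrange _).2 ⟨e, rfl⟩)
    rwa [← hinj hee]
  have hgen : ∀ v : E, ∃ i j : ℤ, v = C ^ i * X ^ j := fun v => by
    obtain ⟨i, j, hij⟩ := hKtop v
    exact ⟨i, j, hinj (by rw [map_mul, map_zpow, map_zpow, hC, hX]; exact hij)⟩
  have hab : ∀ u v : E, Commute u v := fun u v => by
    have hc : Commute C X := hinj (by rw [map_mul, map_mul, hC, hX]; exact hxz.eq)
    obtain ⟨i, j, rfl⟩ := hgen u
    obtain ⟨i', j', rfl⟩ := hgen v
    exact Commute.mul_left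
      (Commute.mul_right ((Commute.refl C).zpow_zpow i i') (hc.zpow_zpow i j'))
      (Commute.mul_right (hc.symm.zpow_zpow j i') ((Commute.refl X).zpow_zpow j j'))
  have hexpC : C ^ p = 1 := hinj (by rw [map_pow, map_one, hC, hzp2])
  have hexpX : X ^ p = 1 := hinj (by rw [map_pow, map_one, hX, h.xp])
  have hexp : ∀ v : E, v ^ p = 1 := fun v => by
    obtain ⟨i, j, rfl⟩ := hgen v
    rw [(hab _ _).mul_pow, ← zpow_natCast, ← zpow_natCast, ← zpow_mul, ← zpow_mul, mul_comm i,
      mul_comm j, zpow_mul, zpow_mul, zpow_natCast, zpow_natCast, hexpC, hexpX, one_zpow, one_zpow,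
      one_mul]
  have hind : ∀ i j : ℤ, C ^ i * X ^ j = 1 → (p : ℤ) ∣ i ∧ (p : ℤ) ∣ j := by
    intro i j hij
    have h1 := congrArg inc hij
    rw [map_mul, map_zpow, map_zpow, hC, hX, map_one] at h1
    have hzM : z ∈ Subgroup.closure ({y, z} : Set S) :=
      Subgroup.subset_closure (Set.mem_insert_of_mem _ (Set.mem_singleton z))
    have hj : (p : ℤ) ∣ j := by
      by_contra hj
      obtain ⟨a, c, hac⟩ := (Nat.prime_iff_prime_int.1 hp.out).coprime_iff_not_dvd.2 hj
      refine h.orders.2.2.2 ?_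
      have : x = (x ^ (p : ℤ)) ^ a * (x ^ j) ^ c := by
        rw [← zpow_mul, ← zpow_mul, ← zpow_add, mul_comm _ a, mul_comm j c, hac, zpow_one]
      rw [this, zpow_natCast, h.xp, one_zpow, one_mul, (inv_eq_of_mul_eq_one_right h1).symm]
      exact Subgroup.zpow_mem _ (inv_mem (Subgroup.zpow_mem _ (pow_mem hzM p) i)) c
    refine ⟨?_, hj⟩
    obtain ⟨l, rfl⟩ := hj
    rw [zpow_mul, zpow_natCast, h.xp, one_zpow, mul_one] at h1
    have h2 := orderOf_dvd_iff_zpow_eq_one.2 h1
    rwa [show z ^ p = z ^ p ^ (4 - 3) by norm_num, h.orderOf_z0] at h2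
  -- `y` acts on `E`
  have hyx : y * x * y⁻¹ = x * (z ^ p) ^ s := by
    calc y * x * y⁻¹ = x * (x⁻¹ * y * x) * y⁻¹ := by group
      _ = x * (y * z ^ (s * p)) * y⁻¹ := by rw [h.cy]; norm_num
      _ = _ := by
        rw [((show Commute y z from h.comm).pow_right _).eq, mul_comm s, pow_mul]; group
  have hyz : y * z ^ p * y⁻¹ = z ^ p := by
    rw [((show Commute y z from h.comm).pow_right _).eq, mul_inv_cancel_right]
  have hyN : (y : Ω) ∈ Subgroup.normalizer (E : Set Ω) := by
    refine mem_normalizer_of_forall fun w hw => ?_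
    have hle : Subgroup.closure ({x, z ^ p} : Set S) ≤
        (Subgroup.closure ({x, z ^ p} : Set S)).comap (MulAut.conj y).toMonoidHom := by
      rw [Subgroup.closure_le]
      rintro a (rfl | rfl)
      · show y * a * y⁻¹ ∈ Subgroup.closure ({a, z ^ p} : Set S)
        rw [hyx]
        exact mul_mem (Subgroup.subset_closure (Set.mem_insert _ _))
          (pow_mem (Subgroup.subset_closure (Set.mem_insert_of_mem _ (Set.mem_singleton _))) s)
      · show y * z ^ p * y⁻¹ ∈ Subgroup.closure ({x, z ^ p} : Set S)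
        rw [hyz]
        exact Subgroup.subset_closure (Set.mem_insert_of_mem _ (Set.mem_singleton _))
    obtain ⟨e, he⟩ := (hrange _).1 (hle ((hrange _).2 ⟨⟨w, hw⟩, rfl⟩))
    have : (e : Ω) = (y : Ω) * w * (y : Ω)⁻¹ := congrArg Subtype.val he
    exact this ▸ e.2
  set σ := normAut (y : Ω) hyN with hσdef
  have hσ : σ ∈ F.autGroup E :=
    autInducedBy_le_autGroup hES (mem_autInducedBy_iff.2 ⟨y, y.2, fun _ => rfl⟩)
  have hσC : σ C = C := hinj (by show y * inc C * y⁻¹ = inc C; rw [hC, hyz])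
  have hσX : σ X = X * C ^ (s : ℤ) := hinj (by
    show y * inc X * y⁻¹ = inc (X * C ^ (s : ℤ))
    rw [map_mul, map_zpow, hX, hC, hyx, zpow_natCast])
  obtain ⟨α, hα, hαC⟩ : ∃ α ∈ F.autGroup E, α C ∉ Subgroup.zpowers C := by
    by_contra! hno
    have hyE : (y : Ω) ∈ E := by
      refine mem_of_normAut_mem_inn hES (hess.1.2 E (isConj_refl hES)) y.2 (hg := hyN)
        (mem_inn_of_stabilizes hS hess
          (fun i => if i = 0 then ⊥ else if i = 1 then Subgroup.zpowers C else ⊤) 2 rfl (by simp)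
          ?_ hσ ?_)
      · intro γ hγ i hi v hv
        interval_cases i
        · simp only [if_true, Subgroup.mem_bot] at hv ⊢
          rw [hv, map_one]
        · simp only [one_ne_zero, if_false, if_true] at hv ⊢
          obtain ⟨k, rfl⟩ := Subgroup.mem_zpowers_iff.1 hv
          rw [map_zpow]
          exact Subgroup.zpow_mem _ (hno γ hγ) k
        · simp
      · intro i hi v hv
        interval_cases i
        · simp only [if_true, zero_add, one_ne_zero, if_false, Subgroup.mem_bot] at hv ⊢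
          obtain ⟨k, rfl⟩ := Subgroup.mem_zpowers_iff.1 hv
          rw [map_zpow, hσC, inv_mul_cancel]
        · simp only [one_ne_zero, if_false, if_true]
          obtain ⟨k, l, rfl⟩ := hgen v
          rw [map_mul, map_zpow, map_zpow, hσC, hσX, (hab _ _).mul_zpow,
            ← mul_assoc (C ^ k), inv_mul_cancel_left]
          exact Subgroup.zpow_mem _ (Subgroup.zpow_mem _ (Subgroup.mem_zpowers C) _) _
    have hcomm : Commute x y := by
      have := (hab X ⟨(y : Ω), hyE⟩).map inc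
      rwa [hX] at this
    exact hp.out.one_lt.ne' (Nat.dvd_one.1 (h.dvd_of_commute (i := 1) (by
      rw [pow_one]; exact hcomm.eq)))
  obtain ⟨i, j, hij⟩ := hgen (α C)
  obtain ⟨g, hg, q, hq, hgC, hgX⟩ := exists_diag p (by have := h.hp5; omega) hab hexp
    (F.autGroup E) hgen hind hσ (d := s) (by exact_mod_cast h.s_ndvd) hσC hσX hα hij
    (fun hd => hαC (by
      obtain ⟨l, rfl⟩ := hd
      rw [hij, zpow_mul, zpow_natCast, hexpX, one_zpow, mul_one]
      exact Subgroup.zpow_mem _ (Subgroup.mem_zpowers C) i))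
  -- extend to `R = ⟨x, y, z ^ p⟩`
  set R := (Subgroup.closure ({x, y, z ^ p} : Set S)).map S.subtype with hR
  have hRS : R ≤ S := Subgroup.map_subtype_le _
  have := finite_of_le hRS
  have hR' : R.subgroupOf S = Subgroup.closure {x, y, z ^ p} :=
    Subgroup.comap_map_eq_self_of_injective S.subtype_injective _
  have hER : E ≤ R := fun e he => by
    refine ⟨⟨e, hES he⟩, ?_, rfl⟩
    exact Subgroup.closure_mono (Set.insert_subset_insert (Set.subset_insert _ _))
      ((hrange _).2 ⟨⟨e, he⟩, rfl⟩)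
  have hX2 : g⁻¹ X = X ^ 2 := by
    apply g.injective
    rw [MulAut.apply_inv_self, map_pow, hgX, ← pow_mul, mul_comm, hq, pow_succ, hexpX, one_mul]
  have hC2 : g⁻¹ C = C ^ q := by
    apply g.injective
    rw [MulAut.apply_inv_self, map_pow, hgC, ← pow_mul, hq, pow_succ, hexpC, one_mul]
  have hyext : (y : Ω) ∈ extender S E (E.subtype.comp (g : E ≃* E).toMonoidHom) := by
    refine mem_extender_of_conj hES (g := y) (g' := y ^ 4) hyN fun r hr => ?_
    have key : g * σ * g⁻¹ = σ ^ 4 := by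
      have e1 : ∀ k : ℕ, (σ ^ k) C = C ∧ (σ ^ k) X = X * C ^ ((s : ℤ) * k) := by
        intro k
        induction k with
        | zero => simp
        | succ k ih =>
          rw [pow_succ]
          constructor
          · show (σ ^ k) (σ C) = C
            rw [hσC, ih.1]
          · show (σ ^ k) (σ X) = _
            rw [hσX, map_mul, map_zpow, ih.1, ih.2, mul_assoc, ← zpow_add]
            congr 2
      ext v
      obtain ⟨k, l, rfl⟩ := hgen v
      have hc : (g * σ * g⁻¹) C = C := by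
        show g (σ (g⁻¹ C)) = C
        rw [hC2, map_pow, hσC, ← hC2, MulAut.apply_inv_self]
      have hx' : (g * σ * g⁻¹) X = X * C ^ ((s : ℤ) * 4) := by
        show g (σ (g⁻¹ X)) = _
        rw [hX2, map_pow, hσX, (hab _ _).mul_pow, map_mul, ← hX2, MulAut.apply_inv_self,
          ← zpow_natCast, ← zpow_mul, map_zpow, hgC, ← zpow_natCast, ← zpow_mul]
        congr 2
        push_cast
        ring
      rw [map_mul, map_mul, map_zpow, map_zpow, map_zpow, map_zpow, hc, hx', (e1 4).1, (e1 4).2]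
      norm_num
    have h1 : (g * σ * g⁻¹) r = (σ ^ 4) r := by rw [key]
    have h4 : ∀ (k : ℕ) (v : E), inc ((σ ^ k) v) = y ^ k * inc v * (y ^ k)⁻¹ := by
      intro k
      induction k with
      | zero => intro v; simp
      | succ k ih =>
        intro v
        rw [pow_succ]
        show inc ((σ ^ k) (σ v)) = _
        rw [ih, show inc (σ v) = y * inc v * y⁻¹ from rfl, pow_succ]
        group
    rw [← h4]
    exact congrArg inc h1
  have hext : R ≤ extender S E (E.subtype.comp (g : E ≃* E).toMonoidHom) := by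
    have hle : Subgroup.closure ({x, y, z ^ p} : Set S) ≤
        (extender S E (E.subtype.comp (g : E ≃* E).toMonoidHom)).comap S.subtype := by
      rw [Subgroup.closure_le]
      rintro a (rfl | rfl | rfl)
      · exact le_extender ((mem_autGroup_iff F hES).1 hg) (hX ▸ X.2)
      · exact hyext
      · exact le_extender ((mem_autGroup_iff F hES).1 hg) (hC ▸ C.2)
    rintro _ ⟨a, ha, rfl⟩
    exact hle ha
  obtain ⟨χ, hχ, hχe⟩ := exists_extension
    (fullyAutomized_receptive_of_fullyNormalized hS hF hess.2.1).2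
    ((mem_autGroup_iff F hES).1 hg) hER hext
  -- `R` consists of the elements of order dividing `p`
  have hΩ : ∀ a : S, a ^ p = 1 ↔ a ∈ Subgroup.closure ({x, y, z ^ p} : Set S) := by
    intro a
    obtain ⟨m, hm, r, rfl⟩ := h.exists_mul_pow a
    have hxr : (x ^ r) ^ p = 1 := by rw [← pow_mul, mul_comm, pow_mul, h.xp, one_pow]
    rw [h.mul_pow_prime hm hxr]
    obtain ⟨k, l, rfl⟩ := h.mem_abelian_pair hm
    have hyzc : Commute (y ^ k) (z ^ l) := (show Commute y z from h.comm).zpow_zpow k l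
    have hkp : (y ^ k) ^ p = 1 := by
      rw [← zpow_natCast, ← zpow_mul, mul_comm, zpow_mul, zpow_natCast, h.yp, one_zpow]
    rw [hyzc.mul_pow, hkp, one_mul]
    constructor
    · intro h1
      rw [← zpow_natCast, ← zpow_mul] at h1
      have h2 := orderOf_dvd_iff_zpow_eq_one.2 h1
      rw [h.orders.1] at h2
      obtain ⟨l', rfl⟩ : (p : ℤ) ∣ l := by
        have h3 : (p : ℤ) * p ∣ l * p := by
          refine dvd_trans ?_ h2
          norm_num [sq]
        exact (mul_dvd_mul_iff_right (by exact_mod_cast hp.out.pos.ne')).1 h3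
      rw [zpow_mul, zpow_natCast]
      exact mul_mem (mul_mem
        (Subgroup.zpow_mem _ (Subgroup.subset_closure (Set.mem_insert_of_mem _ (Set.mem_insert _ _))) _)
        (Subgroup.zpow_mem _ (Subgroup.subset_closure
          (Set.mem_insert_of_mem _ (Set.mem_insert_of_mem _ (Set.mem_singleton _)))) _))
        (pow_mem (Subgroup.subset_closure (Set.mem_insert _ _)) r)
    · intro ha
      obtain ⟨u, hu, i, hui⟩ := h.mem_triple_p ha
      obtain ⟨k', l', rfl⟩ := h.mem_pair_p hu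
      have hu' : y ^ k' * (z ^ p) ^ l' ∈ Subgroup.closure ({y, z} : Set S) :=
        mul_mem (Subgroup.zpow_mem _ (Subgroup.subset_closure (Set.mem_insert _ _)) _)
          (Subgroup.zpow_mem _ (pow_mem (Subgroup.subset_closure
            (Set.mem_insert_of_mem _ (Set.mem_singleton z))) p) _)
      have h1 : (y ^ k * z ^ l * x ^ r) ^ p = (y ^ k' * (z ^ p) ^ l' * x ^ i) ^ p := by rw [hui]
      rw [h.mul_pow_prime hm hxr, h.mul_pow_prime hu'
        (by rw [← pow_mul, mul_comm, pow_mul, h.xp, one_pow]),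
        hyzc.mul_pow, hkp, one_mul] at h1
      rw [h1, (Commute.zpow_zpow ((show Commute y z from h.comm).pow_right p) k' l').mul_pow,
        ← zpow_natCast, ← zpow_natCast ((z ^ p) ^ l'), ← zpow_mul, ← zpow_mul, mul_comm k',
        mul_comm l', zpow_mul, zpow_mul, zpow_natCast, zpow_natCast, h.yp, hzp2, one_zpow, one_zpow,
        one_mul]
  have hχR : χ.range = R := by
    refine Subgroup.eq_of_le_of_card_ge ?_ ?_
    · rintro _ ⟨a, rfl⟩
      refine ⟨⟨χ a, (F.le_of_mem hχ).2 a⟩, (hΩ _).1 (Subtype.ext ?_), rfl⟩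
      have ha : (⟨(a : Ω), hRS a.2⟩ : S) ^ p = 1 := (hΩ _).2 (by
        have := a.2
        rw [← Subgroup.mem_subgroupOf (K := S) (h := ⟨(a : Ω), hRS a.2⟩), hR'] at this
        exact this)
      have ha' : a ^ p = 1 := Subtype.ext (by simpa using congrArg Subtype.val ha)
      show χ a ^ p = 1
      rw [← map_pow, ha', map_one]
    · rw [← Nat.card_congr (MonoidHom.ofInjective (F.injective_of_mem hχ)).toEquiv]
  obtain ⟨β, hβ, hβe⟩ := exists_iso_of_range hχ hχR
  set β' : MulAut R := β with hβ'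
  have hmemR : ∀ a ∈ ({x, y, z ^ p} : Set S), (a : Ω) ∈ R :=
    fun a ha => ⟨a, Subgroup.subset_closure ha, rfl⟩
  set X' : R := ⟨(x : Ω), hmemR x (Set.mem_insert _ _)⟩ with hX'
  set Y' : R := ⟨(y : Ω), hmemR y (Set.mem_insert_of_mem _ (Set.mem_insert _ _))⟩ with hY'
  have hβA : β' ∈ F.autGroup R := (mem_autGroup_iff F hRS).2 hβ
  by_cases hmv : Subgroup.inclusion hRS (β' Y') ∈ Subgroup.closure ({y, z} : Set S)
  · refine false_of_diag hS h hRS hR' ?_ hβA (X := X') (Y := Y') rfl rfl hmv (b := q)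
      ⟨1, one_mem _, ?_⟩ (not_dvd_sq_sub_one h.hp5 hq)
    · refine (fullyAutomized_receptive_of_fullyNormalized hS hF
        (isFullyNormalized_of_normal hRS fun a ha => ?_)).2
      refine mem_normalizer_of_forall fun w hw => ?_
      have h1 := h.normal_triple_p.conj_mem ⟨w, hRS hw⟩
        (hR' ▸ (hw : (⟨w, hRS hw⟩ : S) ∈ R.subgroupOf S)) ⟨a, ha⟩
      rw [← hR'] at h1
      exact h1
    · rw [one_mul]
      refine Subtype.ext ?_
      show ((β X' : R) : Ω) = ((x ^ q : S) : Ω)
      rw [hβe, show X' = Subgroup.inclusion hER X from Subtype.ext (congrArg Subtype.val hX).symm,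
        hχe]
      show ((g X : E) : Ω) = _
      rw [hgX, ← hX]
      simp
      rfl
  · exact false_of_moved hS hF h hRS hR' hβA (X := X') (Y := Y') rfl rfl hmv

open CfsgLib.PGroup in
/-- A saturated fusion system on `G(p, n; s)` has no essential subgroup. -/
theorem not_essential (hS : IsPGroup p S) (hF : F.IsSaturated p)
    (h : BlackburnThird p n s x y z) (E : Subgroup Ω) : ¬ F.IsEssential p E := by
  classical
  intro hess
  have hES := hess.1.1
  have := finite_of_le hES
  have hn := h.hn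
  have hMn := h.normal_pair
  set E' := E.subgroupOf S with hE'
  set M := Subgroup.closure ({y, z} : Set S) with hM
  have hyM : y ∈ M := Subgroup.subset_closure (Set.mem_insert _ _)
  have hzM : z ∈ M := Subgroup.subset_closure (Set.mem_insert_of_mem _ (Set.mem_singleton z))
  have hcen : ∀ g : S, (∀ e ∈ E', e * g = g * e) → g ∈ E' := fun g hg =>
    hess.1.2 E (isConj_refl hES) ⟨g.2, fun w hw => congrArg Subtype.val (hg ⟨w, hES hw⟩ hw)⟩
  have hW : Subgroup.zpowers (z ^ p) ≤ E' := Subgroup.zpowers_le.2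
    (hcen _ fun e _ => Subgroup.mem_center_iff.1 h.zpow_p_central e)
  have hzp : z ^ p ∈ E' := hW (Subgroup.mem_zpowers _)
  set inc := Subgroup.inclusion hES with hinc
  have hinj : Function.Injective inc := Subgroup.inclusion_injective hES
  have hcardE : Nat.card E' = Nat.card E :=
    Nat.card_congr (Subgroup.subgroupOfEquivOfLe hES).toEquiv
  by_cases hEM : E' ≤ M
  · -- the abelian maximal subgroup
    have hEq : E' = M := le_antisymm hEM fun m hm => hcen m fun e he =>
      (h.commute_pair (hEM he) hm).eq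
    have hyE : (y : Ω) ∈ E := hEq.ge hyM
    have hzE : (z : Ω) ∈ E := hEq.ge hzM
    have hab : IsMulCommutative E := ⟨⟨fun a b => hinj (by
      rw [map_mul, map_mul]
      exact (h.commute_pair (hEq.le (a.2 : inc a ∈ E')) (hEq.le (b.2 : inc b ∈ E'))).eq)⟩⟩
    have hgen : Subgroup.closure ({⟨(y : Ω), hyE⟩, ⟨(z : Ω), hzE⟩} : Set E) = ⊤ := by
      apply Subgroup.map_injective hinj
      rw [MonoidHom.map_closure, Set.image_insert_eq, Set.image_singleton, ← MonoidHom.range_eq_map]
      show M = inc.range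
      rw [← hEq]
      exact Subgroup.ext fun g => ⟨fun hg => ⟨⟨g, hg⟩, rfl⟩, fun ⟨e, he⟩ => he ▸ e.2⟩
    have h2 := (card_of_two_generated hS hF h.hp5 hess hab hgen).2
    rw [← hcardE, hEq, h.orders.2.2.1] at h2
    have := Nat.pow_right_injective hp.out.two_le h2
    omega
  obtain ⟨g, hg, hgM⟩ := SetLike.not_le_iff_exists.1 hEM
  -- an element of `E'` in the coset of `x`
  obtain ⟨u, hu, m, hm, rfl⟩ : ∃ u ∈ E', ∃ m ∈ M, u = m * x := by
    obtain ⟨m, hm, i, rfl⟩ := h.exists_mul_pow g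
    have hi : ¬ p ∣ i := fun hi => hgM (mul_mem hm (h.pow_x_mem_pair.2 hi))
    obtain ⟨j, hj⟩ := exists_pow_eq_self_of_coprime (x := x) (n := i) (by
      rw [Nat.coprime_comm]
      exact Nat.Coprime.coprime_dvd_left (orderOf_dvd_of_pow_eq_one h.xp)
        (hp.out.coprime_iff_not_dvd.2 hi))
    refine ⟨(m * x ^ i) ^ j, pow_mem hg j, (m * x ^ i) ^ j * x⁻¹, ?_, by group⟩
    rw [← QuotientGroup.eq_one_iff]
    show QuotientGroup.mk' M ((m * x ^ i) ^ j * x⁻¹) = 1
    rw [map_mul, map_pow, map_mul, show QuotientGroup.mk' M m = 1 from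
      (QuotientGroup.eq_one_iff _).2 hm, one_mul, ← map_pow, hj, map_inv, mul_inv_cancel]
  have htop : ¬ z ∈ E' := by
    intro hzE
    have hyE : y ∈ E' := by
      have h1 : (m * x)⁻¹ * z * (m * x) * z⁻¹ ∈ E' :=
        mul_mem (mul_mem (mul_mem (inv_mem hu) hzE) hu) (inv_mem hzE)
      rwa [show (m * x)⁻¹ * z * (m * x) * z⁻¹ = x⁻¹ * (m⁻¹ * (z * m)) * x * z⁻¹ by group,
        (h.commute_pair hzM hm).eq, inv_mul_cancel_left, h.cz, mul_inv_cancel_right] at h1
    have hME : M ≤ E' := (Subgroup.closure_le _).2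
      (Set.insert_subset hyE (Set.singleton_subset_iff.2 hzE))
    have hxE : x ∈ E' := by
      have := mul_mem (inv_mem (hME hm)) hu
      rwa [inv_mul_cancel_left] at this
    have hall : (⊤ : Subgroup S) ≤ E' := by
      rw [← h.gen, Subgroup.closure_le]
      rintro a (rfl | rfl | rfl)
      · exact hxE
      · exact hyE
      · exact hzE
    exact (essential_lt hS hF hess).not_ge fun g hg => hall (Subgroup.mem_top (⟨g, hg⟩ : S))
  have hzk : ∀ k : ℤ, z ^ k ∈ E' → (p : ℤ) ∣ k := fun k hk => by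
    by_contra hd
    obtain ⟨a, c, hac⟩ := (Nat.prime_iff_prime_int.1 hp.out).coprime_iff_not_dvd.2 hd
    refine htop ?_
    have : z = (z ^ (p : ℤ)) ^ a * (z ^ k) ^ c := by
      rw [← zpow_mul, ← zpow_mul, ← zpow_add, mul_comm _ a, mul_comm k c, hac, zpow_one]
    rw [this, zpow_natCast]
    exact mul_mem (E'.zpow_mem hzp a) (E'.zpow_mem hk c)
  -- the part of an element of `E'` in `M`
  have hsplit : ∀ e ∈ E', ∃ i : ℕ, e * ((m * x) ^ i)⁻¹ ∈ E' ⊓ M := fun e he => by
    obtain ⟨m', hm', i, rfl⟩ := h.exists_mul_pow e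
    refine ⟨i, E'.mul_mem he (E'.inv_mem (pow_mem hu i)), ?_⟩
    refine (QuotientGroup.eq_one_iff _).1 ?_
    show QuotientGroup.mk' M (m' * x ^ i * ((m * x) ^ i)⁻¹) = 1
    rw [map_mul, map_inv, map_pow, map_mul, map_mul, map_pow,
      show QuotientGroup.mk' M m = 1 from (QuotientGroup.eq_one_iff _).2 hm,
      show QuotientGroup.mk' M m' = 1 from (QuotientGroup.eq_one_iff _).2 hm', one_mul, one_mul,
      mul_inv_cancel]
  by_cases hyE : y ∈ E'
  · -- index `p`
    have hinter : ∀ w ∈ E', w ∈ M → w ∈ Subgroup.closure ({y, z ^ p} : Set S) := by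
      intro w hw hwM
      obtain ⟨i, k, rfl⟩ := h.mem_abelian_pair hwM
      obtain ⟨l, rfl⟩ := hzk k (by
        have := mul_mem (inv_mem (E'.zpow_mem hyE i)) hw
        rwa [inv_mul_cancel_left] at this)
      rw [zpow_mul, zpow_natCast]
      exact mul_mem (Subgroup.zpow_mem _ (Subgroup.subset_closure (Set.mem_insert _ _)) i)
        (Subgroup.zpow_mem _ (Subgroup.subset_closure
          (Set.mem_insert_of_mem _ (Set.mem_singleton _))) l)
    set Y : E := ⟨(y : Ω), hyE⟩ with hY
    -- central elements of `E` lie in `M`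
    have hZM : ∀ w ∈ Subgroup.center E, inc w ∈ M := by
      intro w hw
      obtain ⟨m', hm', i, hi⟩ := h.exists_mul_pow (inc w)
      have h1 : y * inc w = inc w * y :=
        ((show Commute Y w from Subgroup.mem_center_iff.1 hw Y).map inc).eq
      rw [hi, ← mul_assoc, (h.commute_pair hyM hm').eq, mul_assoc, mul_assoc] at h1
      rw [hi]
      exact mul_mem hm' (h.pow_x_mem_pair.2 (h.dvd_of_commute (mul_left_cancel h1).symm))
    obtain ⟨α, hα, hαY⟩ : ∃ α ∈ F.autGroup E, inc (α Y) ∉ M := by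
      by_contra! hno
      have hzN : (z : Ω) ∈ Subgroup.normalizer (E : Set Ω) := by
        refine mem_normalizer_of_forall fun w hw => ?_
        have he : (⟨w, hES hw⟩ : S) ∈ E' := hw
        have hsm : ∀ a ∈ Subgroup.closure ({y, z ^ p} : Set S), a ∈ E' := fun a ha =>
          (Subgroup.closure_le _).2 (Set.insert_subset hyE (Set.singleton_subset_iff.2 hzp)) ha
        have := E'.mul_mem (hsm _ (h.commutator_mem_pair_p z ⟨w, hES hw⟩)) he
        rwa [commutatorElement_def, inv_mul_cancel_right] at this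
      set σ := normAut (z : Ω) hzN with hσdef
      have hσ : σ ∈ F.autGroup E :=
        autInducedBy_le_autGroup hES (mem_autInducedBy_iff.2 ⟨z, z.2, fun _ => rfl⟩)
      have hσM : ∀ w : E, inc w ∈ M → σ w = w := fun w hw => hinj (by
        show z * inc w * z⁻¹ = inc w
        rw [(h.commute_pair hzM hw).eq, mul_inv_cancel_right])
      refine htop (mem_of_normAut_mem_inn hES (hess.1.2 E (isConj_refl hES)) z.2 (hg := hzN)
        (mem_inn_of_stabilizes hS hess
          (fun i => if i = 0 then ⊥ else if i = 1 then Subgroup.center E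
            else if i = 2 then M.comap inc else ⊤) 3 rfl (by simp) ?_ hσ ?_))
      · intro γ hγ i hi w hw
        interval_cases i
        · simp only [if_true, Subgroup.mem_bot] at hw ⊢
          rw [hw, map_one]
        · simp only [one_ne_zero, if_false, if_true] at hw ⊢
          exact (Subgroup.characteristic_iff_le_comap.1 inferInstance γ) hw
        · simp only [show (2 : ℕ) ≠ 0 by norm_num, show (2 : ℕ) ≠ 1 by norm_num, if_false, if_true,
            Subgroup.mem_comap] at hw ⊢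
          obtain ⟨a, k, hak⟩ := h.mem_pair_p (hinter _ w.2 hw)
          set Zp : E := ⟨((z ^ p : S) : Ω), hzp⟩ with hZp
          have hw' : w = Y ^ a * Zp ^ k := hinj (by
            rw [map_mul, map_zpow, map_zpow]; exact hak)
          have hZc : Zp ∈ Subgroup.center E := Subgroup.mem_center_iff.2 fun e => hinj (by
            rw [map_mul, map_mul]; exact Subgroup.mem_center_iff.1 h.zpow_p_central _)
          rw [hw', map_mul, map_mul, map_zpow, map_zpow, map_zpow, map_zpow]
          exact mul_mem (M.zpow_mem (hno γ hγ) a) (M.zpow_mem (hZM _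
            ((Subgroup.characteristic_iff_le_comap.1 inferInstance γ) hZc)) k)
        · simp
      · intro i hi w hw
        interval_cases i
        · simp only [zero_add, one_ne_zero, if_false, if_true, Subgroup.mem_bot] at hw ⊢
          show w⁻¹ * σ w = 1
          rw [hσM w (hZM w hw), inv_mul_cancel]
        · simp only [one_ne_zero, if_false, if_true, show (1 + 1 : ℕ) ≠ 0 by norm_num,
            show (1 + 1 : ℕ) ≠ 1 by norm_num, Subgroup.mem_comap] at hw ⊢
          show w⁻¹ * σ w ∈ Subgroup.center E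
          rw [hσM w hw, inv_mul_cancel]
          exact one_mem _
        · simp only [show (2 : ℕ) ≠ 0 by norm_num, show (2 : ℕ) ≠ 1 by norm_num, if_false, if_true,
            Subgroup.mem_comap]
          rw [map_mul, map_inv]
          show (inc w)⁻¹ * (z * inc w * z⁻¹) ∈ M
          rw [show (inc w)⁻¹ * (z * inc w * z⁻¹) = ⁅(inc w)⁻¹, z⁆ by
            rw [commutatorElement_def, inv_inv]; group]
          exact ((Subgroup.closure_le _).2 (Set.insert_subset hyM (Set.singleton_subset_iff.2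
            (pow_mem hzM p))) : Subgroup.closure ({y, z ^ p} : Set S) ≤ M)
            (h.commutator_mem_pair_p _ _)
    -- an element of order `p`
    obtain ⟨m', hm', i, hv⟩ := h.exists_mul_pow (inc (α Y))
    have hi : ¬ p ∣ i := fun hi => hαY (hv ▸ mul_mem hm' (h.pow_x_mem_pair.2 hi))
    obtain ⟨j, hj⟩ := exists_pow_eq_self_of_coprime (x := x) (n := i) (by
      rw [Nat.coprime_comm]
      exact Nat.Coprime.coprime_dvd_left (orderOf_dvd_of_pow_eq_one h.xp)
        (hp.out.coprime_iff_not_dvd.2 hi))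
    set m₁ := inc (α Y) ^ j * x⁻¹ with hm₁
    have hm₁M : m₁ ∈ M := by
      rw [← QuotientGroup.eq_one_iff]
      show QuotientGroup.mk' M (inc (α Y) ^ j * x⁻¹) = 1
      rw [hv, map_mul, map_pow, map_mul, show QuotientGroup.mk' M m' = 1 from
        (QuotientGroup.eq_one_iff _).2 hm', one_mul, ← map_pow, hj, map_inv, mul_inv_cancel]
    have hu₁ : m₁ * x = inc (α Y ^ j) := by rw [hm₁, map_pow, inv_mul_cancel_right]
    have hu₁p : (m₁ * x) ^ p = 1 := by
      have hYp : Y ^ p = 1 := hinj (by rw [map_pow, map_one]; exact h.yp)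
      rw [hu₁, ← map_pow, ← pow_mul, mul_comm, pow_mul, ← map_pow, hYp, map_one, one_pow, map_one]
    have h' := h.replace hm₁M hu₁p
    have hEeq : E' = Subgroup.closure {m₁ * x, y, z ^ p} := by
      refine le_antisymm (fun e he => ?_) ((Subgroup.closure_le _).2 ?_)
      · obtain ⟨m'', hm'', r, rfl⟩ := h'.exists_mul_pow e
        have hm''E : m'' ∈ E' := by
          have := E'.mul_mem he (E'.inv_mem (pow_mem (hu₁ ▸ (α Y ^ j : E).2 : m₁ * x ∈ E') r))
          rwa [mul_inv_cancel_right] at this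
        exact mul_mem (Subgroup.closure_mono (Set.subset_insert _ _) (hinter _ hm''E hm''))
          (pow_mem (Subgroup.subset_closure (Set.mem_insert _ _)) r)
      · rintro a (rfl | rfl | rfl)
        · exact hu₁ ▸ (α Y ^ j : E).2
        · exact hyE
        · exact hzp
    exact false_of_moved hS hF h' hES hEeq hα (X := α Y ^ j) (Y := Y) hu₁.symm rfl hαY
  · -- a pearl
    have hyk : ∀ k : ℤ, y ^ k ∈ E' → (p : ℤ) ∣ k := fun k hk => by
      by_contra hd
      obtain ⟨a, c, hac⟩ := (Nat.prime_iff_prime_int.1 hp.out).coprime_iff_not_dvd.2 hd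
      refine hyE ?_
      have : y = (y ^ (p : ℤ)) ^ a * (y ^ k) ^ c := by
        rw [← zpow_mul, ← zpow_mul, ← zpow_add, mul_comm _ a, mul_comm k c, hac, zpow_one]
      rw [this, zpow_natCast, h.yp, one_zpow, one_mul]
      exact E'.zpow_mem hk c
    have hinter : ∀ w ∈ E', w ∈ M → w ∈ Subgroup.zpowers (z ^ p) := by
      intro w hw hwM
      obtain ⟨i, k, rfl⟩ := h.mem_abelian_pair hwM
      have h1 : (m * x)⁻¹ * (y ^ i * z ^ k) * (m * x) * (y ^ i * z ^ k)⁻¹ ∈ E' :=
        mul_mem (mul_mem (mul_mem (inv_mem hu) hw) hu) (inv_mem hw)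
      have hyz : Commute y z := h.comm
      have e : (m * x)⁻¹ * (y ^ i * z ^ k) * (m * x) * (y ^ i * z ^ k)⁻¹ =
          y ^ k * ((z ^ p ^ (n - 3)) ^ s) ^ i := by
        rw [show (m * x)⁻¹ * (y ^ i * z ^ k) * (m * x) =
          x⁻¹ * (m⁻¹ * ((y ^ i * z ^ k) * m)) * x by group, (h.commute_pair hwM hm).eq,
          inv_mul_cancel_left, show x⁻¹ * (y ^ i * z ^ k) * x =
          (x⁻¹ * y * x⁻¹⁻¹) ^ i * (x⁻¹ * z * x⁻¹⁻¹) ^ k by rw [conj_zpow, conj_zpow]; group,
          inv_inv, h.cy, h.cz, mul_comm s, pow_mul, hyz.mul_zpow,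
          ((hyz.pow_right _).pow_right _).mul_zpow, mul_inv_rev]
        have a1 : ((z ^ p ^ (n - 3)) ^ s) ^ i * y ^ k = y ^ k * ((z ^ p ^ (n - 3)) ^ s) ^ i :=
          (((hyz.pow_right _).pow_right _).symm.zpow_zpow i k).eq
        have a2 : y ^ i * (y ^ k * ((z ^ p ^ (n - 3)) ^ s) ^ i) =
            (y ^ k * ((z ^ p ^ (n - 3)) ^ s) ^ i) * y ^ i := by
          exact ((Commute.refl y).zpow_zpow i k |>.mul_right
            (((hyz.pow_right _).pow_right _).zpow_zpow i i)).eq
        calc y ^ i * ((z ^ p ^ (n - 3)) ^ s) ^ i * (y ^ k * z ^ k) * ((z ^ k)⁻¹ * (y ^ i)⁻¹)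
            = y ^ i * (((z ^ p ^ (n - 3)) ^ s) ^ i * y ^ k) * (y ^ i)⁻¹ := by group
          _ = _ := by rw [a1, a2, mul_inv_cancel_right]
      rw [e] at h1
      have hk : (p : ℤ) ∣ k := hyk k (by
        have h0 : ((z ^ p ^ (n - 3)) ^ s) ^ i ∈ E' :=
          E'.zpow_mem (pow_mem (hW h.z0_mem_zpowers) s) i
        have := mul_mem h1 (inv_mem h0)
        rwa [mul_inv_cancel_right] at this)
      refine h.mem_zpowers_p_iff.2 ⟨hyk i ?_, hk⟩
      obtain ⟨l, rfl⟩ := hk
      rw [zpow_mul, zpow_natCast] at hw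
      have := mul_mem hw (inv_mem (E'.zpow_mem hzp l))
      rwa [mul_inv_cancel_right] at this
    set u : E := ⟨((m * x : S) : Ω), hu⟩ with hudef
    set w : E := ⟨((z ^ p : S) : Ω), hzp⟩ with hwdef
    have hgen : Subgroup.closure ({u, w} : Set E) = ⊤ := by
      apply Subgroup.map_injective hinj
      rw [MonoidHom.map_closure, Set.image_insert_eq, Set.image_singleton,
        ← MonoidHom.range_eq_map]
      refine le_antisymm ((Subgroup.closure_le _).2 ?_) fun g hg => ?_
      · rintro a (rfl | rfl) <;> exact MonoidHom.mem_range.2 ⟨_, rfl⟩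
      · obtain ⟨e, rfl⟩ := hg
        obtain ⟨i, hi, hiM⟩ := hsplit (inc e) e.2
        have := mul_mem ((Subgroup.zpowers_le.2
          (Subgroup.subset_closure (Set.mem_insert_of_mem _ (Set.mem_singleton (inc w))))) (hinter _ hi hiM))
          (pow_mem (Subgroup.subset_closure (Set.mem_insert (inc u) ({inc w} : Set S))) i)
        rwa [show inc e * ((m * x) ^ i)⁻¹ * inc u ^ i = inc e from
          inv_mul_cancel_right (inc e) ((m * x) ^ i)] at this
    have hab : IsMulCommutative E := by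
      have hc : Commute u w := hinj (by
        rw [map_mul, map_mul]; exact Subgroup.mem_center_iff.1 h.zpow_p_central _)
      refine ⟨⟨fun a b => ?_⟩⟩
      have : ∀ a : E, Commute a u ∧ Commute a w := fun a => by
        have ha : a ∈ Subgroup.closure ({u, w} : Set E) := hgen ▸ Subgroup.mem_top a
        induction ha using Subgroup.closure_induction with
        | mem a ha =>
          rcases ha with rfl | rfl
          · exact ⟨Commute.refl _, hc⟩
          · exact ⟨hc.symm, Commute.refl _⟩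
        | one => exact ⟨Commute.one_left _, Commute.one_left _⟩
        | mul a b _ _ iha ihb => exact ⟨iha.1.mul_left ihb.1, iha.2.mul_left ihb.2⟩
        | inv a _ iha => exact ⟨iha.1.inv_left, iha.2.inv_left⟩
      have hb : b ∈ Subgroup.closure ({u, w} : Set E) := hgen ▸ Subgroup.mem_top b
      exact (Subgroup.mem_centralizer_singleton_iff.1
        (((Subgroup.closure_le (Subgroup.centralizer ({a} : Set E))).2 (by
          rintro v (rfl | rfl)
          · exact Subgroup.mem_centralizer_singleton_iff.2 (this a).1.symm.eq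
          · exact Subgroup.mem_centralizer_singleton_iff.2 (this a).2.symm.eq)) hb)).symm
    obtain ⟨hel, hc2⟩ := card_of_two_generated hS hF h.hp5 hess hab hgen
    have hup : (m * x) ^ p = 1 :=
      Subtype.ext ((SubmonoidClass.coe_pow (m * x) p).trans (hel.2 _ u.2))
    obtain rfl : n = 4 := by
      have hlt : Nat.card (Subgroup.zpowers (z ^ p)) < Nat.card E' :=
        lt_of_not_ge fun hle => by
          have h1 := (Subgroup.eq_of_le_of_card_ge hW hle).ge hu
          have h2 := mul_mem (inv_mem hm) ((Subgroup.zpowers_le.2 (pow_mem hzM p)) h1)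
          rw [inv_mul_cancel_left] at h2
          exact h.orders.2.2.2 h2
      rw [h.card_zpowers_p, hcardE, hc2] at hlt
      have := (Nat.pow_lt_pow_iff_right hp.out.one_lt).1 hlt
      omega
    refine false_of_pearl hS hF (h.replace hm hup) hess ?_
    refine le_antisymm (fun e he => ?_) ((Subgroup.closure_le _).2
      (Set.insert_subset hu (Set.singleton_subset_iff.2 hzp)))
    obtain ⟨i, hi, hiM⟩ := hsplit e he
    have := mul_mem ((Subgroup.zpowers_le.2
      (Subgroup.subset_closure (Set.mem_insert_of_mem _ (Set.mem_singleton (z ^ p))))) (hinter _ hi hiM))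
      (pow_mem (Subgroup.subset_closure (Set.mem_insert (m * x) ({z ^ p} : Set S))) i)
    rwa [inv_mul_cancel_right] at this

end CfsgLib.Fusion.RankTwoThree
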