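import Cfsg.Agent.Lib.Fusion.RankTwoTypeThree

/-!
# Saturated fusion systems on central products `p^{1+2} ∘ C`
-/

set_option autoImplicit false

open Cfsg Cfsg.FusionSystem
open scoped commutatorElement

namespace CfsgLib.Fusion.RankTwoTwo

variable {Ω : Type*} [Group Ω] {S : Subgroup Ω} [Finite S] {p : ℕ} [hp : Fact p.Prime]
  {F : FusionSystem S} {n : ℕ} {x y z : S}

theorem z_central (hgen : Subgroup.closure ({x, y, z} : Set S) = ⊤) (hxz : x * z = z * x)
    (hyz : y * z = z * y) : z ∈ Subgroup.center S := by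
  refine Subgroup.mem_center_iff.2 fun g => ?_
  have hle : Subgroup.closure ({x, y, z} : Set S) ≤ Subgroup.centralizer ({z} : Set S) := by
    rw [Subgroup.closure_le]
    rintro a (rfl | rfl | rfl)
    · exact Subgroup.mem_centralizer_singleton_iff.2 hxz
    · exact Subgroup.mem_centralizer_singleton_iff.2 hyz
    · exact Subgroup.mem_centralizer_singleton_iff.2 rfl
  exact Subgroup.mem_centralizer_singleton_iff.1 (hle (hgen ▸ Subgroup.mem_top g))

/-- Normal form. -/
theorem exists_form (hgen : Subgroup.closure ({x, y, z} : Set S) = ⊤) (hxz : x * z = z * x)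
    (hyz : y * z = z * y) (hcy : ∃ e : ℤ, x⁻¹ * y * x = y * z ^ e) (g : S) :
    ∃ a b c : ℤ, g = y ^ a * x ^ b * z ^ c := by
  obtain ⟨e, he⟩ := hcy
  have hzc := Subgroup.mem_center_iff.1 (z_central hgen hxz hyz)
  set W := Subgroup.zpowers z with hW
  have : W.Normal := ⟨fun w hw a => by
    rwa [Subgroup.mem_center_iff.1
      ((Subgroup.zpowers_le.2 (z_central hgen hxz hyz)) hw) a, mul_inv_cancel_right]⟩
  set π := QuotientGroup.mk' W
  have hxy : Commute (π x) (π y) := by
    have h1 := congrArg π he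
    rw [map_mul, map_mul, map_inv, map_mul, show π (z ^ e) = 1 from
      (QuotientGroup.eq_one_iff _).2 (Subgroup.zpow_mem _ (Subgroup.mem_zpowers z) e), mul_one] at h1
    show π x * π y = π y * π x
    calc π x * π y = π x * ((π x)⁻¹ * π y * π x) := by rw [h1]
      _ = π y * π x := by group
  let K : Subgroup (S ⧸ W) :=
    { carrier := {q | ∃ a b : ℤ, q = π y ^ a * π x ^ b}
      one_mem' := ⟨0, 0, by simp⟩
      mul_mem' := by
        rintro _ _ ⟨i, j, rfl⟩ ⟨i', j', rfl⟩
        refine ⟨i + i', j + j', ?_⟩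
        rw [zpow_add, zpow_add]
        exact (hxy.zpow_zpow j i').mul_mul_mul_comm _ _
      inv_mem' := by
        rintro _ ⟨i, j, rfl⟩
        refine ⟨-i, -j, ?_⟩
        rw [mul_inv_rev, zpow_neg, zpow_neg]
        exact (hxy.symm.zpow_zpow i j).inv_inv.symm.eq }
  have hK : Subgroup.closure ({x, y, z} : Set S) ≤ K.comap π := by
    rw [Subgroup.closure_le]
    rintro a (rfl | rfl | rfl)
    · exact ⟨0, 1, by simp⟩
    · exact ⟨1, 0, by simp⟩
    · exact ⟨0, 0, by
        rw [zpow_zero, zpow_zero, one_mul]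
        exact (QuotientGroup.eq_one_iff _).2 (Subgroup.mem_zpowers a)⟩
  obtain ⟨a, b, hab⟩ := hK (hgen ▸ Subgroup.mem_top g)
  rw [← map_zpow, ← map_zpow, ← map_mul] at hab
  obtain ⟨c, hc⟩ := Subgroup.mem_zpowers_iff.1 (QuotientGroup.eq.1 hab.symm)
  exact ⟨a, b, c, by rw [hc]; group⟩

theorem exponent_eq (hp2 : p ≠ 2) (hcard : Nat.card S = p ^ 3)
    (hgen : Subgroup.closure ({x, y, z} : Set S) = ⊤) (hxz : x * z = z * x)
    (hyz : y * z = z * y) (hcy : ∃ e : ℤ, x⁻¹ * y * x = y * z ^ e)
    (hxp : x ^ p = 1) (hyp : y ^ p = 1) (hzp : z ^ p = 1) : Monoid.exponent S = p := by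
  have hzc := z_central hgen hxz hyz
  obtain ⟨e, he⟩ := hcy
  have hz' : ∀ (w : S) (k : ℤ), w ^ p = 1 → (w ^ k) ^ p = 1 := fun w k hw => by
    rw [← zpow_natCast, ← zpow_mul, mul_comm, zpow_mul, zpow_natCast, hw, one_zpow]
  have hall : ∀ g : S, g ^ p = 1 := by
    intro g
    obtain ⟨a, b, c, rfl⟩ := exists_form hgen hxz hyz ⟨e, he⟩ g
    have hwc : ∀ u, Commute u (z ^ c) := fun u =>
      Subgroup.mem_center_iff.1 (Subgroup.zpow_mem _ hzc c) u
    rw [(hwc _).mul_pow, hz' z c hzp, mul_one]
    set A := y ^ a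
    set B := x ^ b
    set d := ⁅B, A⁆ with hd
    set W := Subgroup.zpowers z with hW
    have hWn : W.Normal := ⟨fun w hw u => by
      rwa [Subgroup.mem_center_iff.1 ((Subgroup.zpowers_le.2 hzc) hw) u, mul_inv_cancel_right]⟩
    have hxy : Commute (QuotientGroup.mk' W x) (QuotientGroup.mk' W y) := by
      have h1 := congrArg (QuotientGroup.mk' W) he
      rw [map_mul, map_mul, map_inv, map_mul, show QuotientGroup.mk' W (z ^ e) = 1 from
        (QuotientGroup.eq_one_iff _).2 (Subgroup.zpow_mem _ (Subgroup.mem_zpowers z) e), mul_one]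
        at h1
      show QuotientGroup.mk' W x * QuotientGroup.mk' W y = QuotientGroup.mk' W y * QuotientGroup.mk' W x
      calc _ = QuotientGroup.mk' W x * ((QuotientGroup.mk' W x)⁻¹ * QuotientGroup.mk' W y *
            QuotientGroup.mk' W x) := by rw [h1]
        _ = _ := by group
    have hdW : d ∈ W := by
      refine (QuotientGroup.eq_one_iff _).1 ?_
      show QuotientGroup.mk' W ⁅B, A⁆ = 1
      rw [map_commutatorElement, commutatorElement_eq_one_iff_mul_comm, map_zpow, map_zpow]
      exact (hxy.zpow_zpow b a).eq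
    have hdc : ∀ u, u * d = d * u := fun u =>
      Subgroup.mem_center_iff.1 ((Subgroup.zpowers_le.2 hzc) hdW) u
    have hdp : d ^ p = 1 := by
      obtain ⟨k, hk⟩ := Subgroup.mem_zpowers_iff.1 hdW
      rw [← hk]; exact hz' z k hzp
    have hBA : ∀ i : ℕ, B ^ i * A = d ^ i * A * B ^ i := by
      intro i
      induction i with
      | zero => simp
      | succ i ih =>
        calc B ^ (i + 1) * A = B * (B ^ i * A) := by rw [pow_succ', mul_assoc]
          _ = (B * d ^ i) * A * B ^ i := by rw [ih]; group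
          _ = d ^ i * (B * A) * B ^ i := by
              rw [((show Commute B d from hdc B).pow_right i).eq]; group
          _ = d ^ (i + 1) * A * B ^ (i + 1) := by
              rw [show B * A = d * A * B by rw [hd, commutatorElement_def]; group, pow_succ d,
                pow_succ' B]
              group
    have key : ∀ i : ℕ, (A * B) ^ i = A ^ i * d ^ i.choose 2 * B ^ i := by
      intro i
      induction i with
      | zero => simp
      | succ i ih =>
        calc (A * B) ^ (i + 1) = A ^ i * d ^ i.choose 2 * (B ^ i * A) * B := by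
              rw [pow_succ, ih]; group
          _ = A ^ i * (d ^ i.choose 2 * d ^ i * A) * (B ^ i * B) := by rw [hBA]; group
          _ = A ^ i * (A * (d ^ i.choose 2 * d ^ i)) * (B ^ i * B) := by
              rw [← pow_add, ((show Commute A d from hdc A).pow_right _).eq]
          _ = _ := by
              rw [← pow_add, ← pow_succ, ← mul_assoc (A ^ i), ← pow_succ,
                Nat.choose_succ_succ' i 1, Nat.choose_one_right, add_comm i (i.choose 2)]
    obtain ⟨q, hq⟩ := hp.out.dvd_choose_self (k := 2) (by norm_num)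
      (by have := hp.out.two_le; omega)
    rw [key, hq, pow_mul, hdp, one_pow, hz' y a hyp, hz' x b hxp, one_mul, one_mul]
  rcases (Nat.dvd_prime hp.out).1 (Monoid.exponent_dvd_of_forall_pow_eq_one hall) with h | h
  · have := Monoid.exp_eq_one_iff.1 h
    rw [Nat.card_of_subsingleton (1 : S)] at hcard
    have := Nat.one_lt_pow (show 3 ≠ 0 by norm_num) hp.out.one_lt
    omega
  · exact h

/-- No essential subgroup when `n ≥ 4`. -/
theorem not_essential (hS : IsPGroup p S) (hF : F.IsSaturated p) (hp5 : 5 ≤ p)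
    (hcard : Nat.card S = p ^ n) (hn : 4 ≤ n)
    (hgen : Subgroup.closure ({x, y, z} : Set S) = ⊤) (hxz : x * z = z * x)
    (hyz : y * z = z * y) (hcy : ∃ e : ℤ, x⁻¹ * y * x = y * z ^ e)
    (hxp : x ^ p = 1) (hyp : y ^ p = 1) (hzp : z ^ p ^ (n - 2) = 1) (E : Subgroup Ω) :
    ¬ F.IsEssential p E := by
  classical
  intro hess
  have hES := hess.1.1
  have := finite_of_le hES
  have hzc := z_central hgen hxz hyz
  set E' := E.subgroupOf S with hE'
  have hcen : ∀ g : S, (∀ e ∈ E', e * g = g * e) → g ∈ E' := fun g hg =>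
    hess.1.2 E (isConj_refl hES) ⟨g.2, fun w hw => congrArg Subtype.val (hg ⟨w, hES hw⟩ hw)⟩
  have hzE : z ∈ E' := hcen z fun e _ => Subgroup.mem_center_iff.1 hzc e
  set W := Subgroup.zpowers z with hW
  have hWE : W ≤ E' := Subgroup.zpowers_le.2 hzE
  have hzp' : orderOf z ≤ p ^ (n - 2) :=
    Nat.le_of_dvd (pow_pos hp.out.pos _) (orderOf_dvd_of_pow_eq_one hzp)
  -- orders
  have hSle : p ^ n ≤ orderOf y * orderOf x * orderOf z := by
    rw [← hcard, ← Nat.card_zpowers, ← Nat.card_zpowers, ← Nat.card_zpowers, ← Nat.card_prod,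
      ← Nat.card_prod]
    refine Nat.card_le_card_of_surjective
      (fun v : (Subgroup.zpowers y × Subgroup.zpowers x) × Subgroup.zpowers z =>
        (v.1.1 : S) * v.1.2 * v.2) fun g => ?_
    obtain ⟨a, b, c, rfl⟩ := exists_form hgen hxz hyz hcy g
    exact ⟨((⟨y ^ a, Subgroup.zpow_mem_zpowers y a⟩, ⟨x ^ b, Subgroup.zpow_mem_zpowers x b⟩),
      ⟨z ^ c, Subgroup.zpow_mem_zpowers z c⟩), rfl⟩
  have hWc : Nat.card W = p ^ (n - 2) := by
    rw [hW, Nat.card_zpowers]
    refine le_antisymm hzp' ?_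
    have hx : orderOf x ≤ p := Nat.le_of_dvd hp.out.pos (orderOf_dvd_of_pow_eq_one hxp)
    have hy : orderOf y ≤ p := Nat.le_of_dvd hp.out.pos (orderOf_dvd_of_pow_eq_one hyp)
    have h1 := hSle.trans (Nat.mul_le_mul_right _ (Nat.mul_le_mul hy hx))
    rw [show p ^ n = p * p * p ^ (n - 2) by rw [← sq, ← pow_add]; congr 1; omega] at h1
    exact Nat.le_of_mul_le_mul_left h1 (Nat.mul_pos hp.out.pos hp.out.pos)
  obtain ⟨u, huE, huW⟩ : ∃ u ∈ E', u ∉ W := by
    by_contra! hno
    refine (essential_lt hS hF hess).not_ge fun g hg => (hcen ⟨g, hg⟩ fun e he => ?_)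
    exact (Subgroup.mem_center_iff.1 ((Subgroup.zpowers_le.2 hzc) (hno e he)) _).symm
  have hEc : Nat.card E' ≤ p ^ (n - 1) := by
    obtain ⟨k, hk⟩ := (hS.to_subgroup E').exists_card_eq
    have hlt : Nat.card E' < Nat.card S := by
      refine lt_of_le_of_ne E'.card_le_card_group fun heq => ?_
      refine (essential_lt hS hF hess).not_ge fun g hg => ?_
      exact ((Subgroup.card_eq_iff_eq_top E').1 heq).ge (Subgroup.mem_top (⟨g, hg⟩ : S))
    rw [hk, hcard] at hlt
    have := (Nat.pow_lt_pow_iff_right hp.out.one_lt).1 hlt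
    rw [hk]
    exact Nat.pow_le_pow_right hp.out.pos (by omega)
  set K := Subgroup.closure ({u, z} : Set S) with hK
  have hKE : K ≤ E' := (Subgroup.closure_le _).2 (Set.insert_subset huE (Set.singleton_subset_iff.2 hzE))
  have hWK : W ≤ K :=
    Subgroup.zpowers_le.2 (Subgroup.subset_closure (Set.mem_insert_of_mem _ (Set.mem_singleton z)))
  have hlt : Nat.card W < Nat.card K := lt_of_not_ge fun hle =>
    huW ((Subgroup.eq_of_le_of_card_ge hWK hle).ge (Subgroup.subset_closure (Set.mem_insert _ _)))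
  obtain ⟨k, hk⟩ := (hS.to_subgroup K).exists_card_eq
  rw [hWc, hk] at hlt
  have hk1 := (Nat.pow_lt_pow_iff_right hp.out.one_lt).1 hlt
  have hKeq : K = E' := Subgroup.eq_of_le_of_card_ge hKE (hEc.trans
    (hk ▸ Nat.pow_le_pow_right hp.out.pos (by omega)))
  set inc := Subgroup.inclusion hES
  have hinj : Function.Injective inc := Subgroup.inclusion_injective hES
  have hKab : ∀ a ∈ K, ∀ b ∈ K, a * b = b * a := by
    intro a ha b hb
    have h1 : K ≤ Subgroup.centralizer ({u} : Set S) := by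
      rw [hK, Subgroup.closure_le]
      rintro w (rfl | rfl)
      · exact Subgroup.mem_centralizer_singleton_iff.2 rfl
      · exact Subgroup.mem_centralizer_singleton_iff.2 (Subgroup.mem_center_iff.1 hzc u).symm
    have h2 : K ≤ Subgroup.centralizer ({a} : Set S) := by
      rw [hK, Subgroup.closure_le]
      rintro w (rfl | rfl)
      · exact Subgroup.mem_centralizer_singleton_iff.2
          (Subgroup.mem_centralizer_singleton_iff.1 (h1 ha)).symm
      · exact Subgroup.mem_centralizer_singleton_iff.2 (Subgroup.mem_center_iff.1 hzc a).symm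
    exact (Subgroup.mem_centralizer_singleton_iff.1 (h2 hb)).symm
  have hab : IsMulCommutative E := ⟨⟨fun a b => hinj (by
    rw [map_mul, map_mul]
    exact hKab _ (hKeq.ge (a.2 : inc a ∈ E')) _ (hKeq.ge (b.2 : inc b ∈ E')))⟩⟩
  have hgen' : Subgroup.closure ({⟨(u : Ω), huE⟩, ⟨(z : Ω), hzE⟩} : Set E) = ⊤ := by
    apply Subgroup.map_injective hinj
    rw [MonoidHom.map_closure, Set.image_insert_eq, Set.image_singleton, ← MonoidHom.range_eq_map]
    show K = inc.range
    rw [hKeq]
    exact Subgroup.ext fun g => ⟨fun hg => ⟨⟨g, hg⟩, rfl⟩, fun ⟨e, he⟩ => he ▸ e.2⟩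
  have h2 := (CfsgLib.Fusion.RankTwoThree.card_of_two_generated hS hF hp5 hess hab hgen').2
  rw [← Nat.card_congr (Subgroup.subgroupOfEquivOfLe hES).toEquiv, ← hE', ← hKeq, hk] at h2
  have := Nat.pow_right_injective hp.out.two_le h2
  omega

end CfsgLib.Fusion.RankTwoTwo
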