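import Cfsg.Agent.Lib.Fusion.Biset

/-!
# Every fusion system on a finite group is realized inside a finite group

A multiple of the diagonal biset is completed, without any saturation hypothesis, to a biset
whose fixed point numbers are stable; the permutations commuting with the right action then
realize the system.
-/

set_option autoImplicit false

open Cfsg Cfsg.FusionSystem

namespace CfsgLib.Fusion

universe u

variable {Ω : Type u} [Group Ω] {S : Subgroup Ω} [Finite S] {F : FusionSystem S}

theorem markSum_smul (c : ℕ) (n : Subgroup (S × S) → ℕ) (K : Subgroup (S × S)) :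
    markSum (fun H => c * n H) K = c * markSum n K := by
  have := Fintype.ofFinite (Subgroup (S × S))
  simp only [markSum_eq, Finset.mul_sum, mul_assoc]

/-- The step of stabilization without saturation: scale, then add. -/
theorem stable_step_scale {n : Subgroup (S × S) → ℕ} {k : ℕ} (hn : Supp F n)
    (hst : Stable F n (k + 1)) :
    ∃ c : ℕ, ∃ δ : Subgroup (S × S) → ℕ, 0 < c ∧ (∀ H, δ H ≠ 0 → InF F H) ∧
      Stable F (fun H => c * n H + δ H) k := by
  classical
  have := Fintype.ofFinite (Subgroup (S × S))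
  let s : Setoid (Subgroup (S × S)) :=
    { r := fun K L => ∃ d : S × S, K.map (MulAut.conj d).toMonoidHom = L
      iseqv :=
        { refl := fun K => ⟨1, (conjSub_one K :)⟩
          symm := fun ⟨d, hd⟩ => ⟨d⁻¹, by
            change conjSub d⁻¹ _ = _
            rw [← hd]
            change conjSub d⁻¹ (conjSub d _) = _
            rw [conjSub_conjSub, inv_mul_cancel, conjSub_one]⟩
          trans := fun ⟨d, hd⟩ ⟨d', hd'⟩ => ⟨d' * d, by
            rw [← hd', ← hd]
            exact (conjSub_conjSub d' d _).symm⟩ } }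
  let rep : Subgroup (S × S) → Subgroup (S × S) := fun K => (Quotient.mk s K).out
  have hrep : ∀ K, ∃ d : S × S, (rep K).map (MulAut.conj d).toMonoidHom = K := fun K =>
    Quotient.exact (Quotient.out_eq (Quotient.mk s K))
  have hrep' : ∀ {K L : Subgroup (S × S)} (d : S × S), K.map (MulAut.conj d).toMonoidHom = L →
      rep K = rep L := fun {K L} d h => congrArg Quotient.out (Quotient.sound ⟨d, h⟩)
  let c : ℕ := ∏ K : Subgroup (S × S), wt K
  have hc : 0 < c := Finset.prod_pos fun K _ => wt_pos K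
  let B := ∑ H, markSum n H
  let δ : Subgroup (S × S) → ℕ := fun H =>
    if InF F H ∧ Nat.card H = k ∧ rep H = H then c * (B - markSum n H) / wt H else 0
  have hδ : ∀ H, δ H ≠ 0 → InF F H ∧ Nat.card H = k ∧ rep H = H := fun H hH => by
    by_contra h
    exact hH (if_neg h)
  have hzero : ∀ K : Subgroup (S × S), k ≤ Nat.card K → ∀ H, δ H * mark H K ≠ 0 →
      Nat.card K = k ∧ rep K = H := by
    intro K hk H hne
    obtain ⟨h1, h2⟩ := mul_ne_zero_iff.1 hne
    obtain ⟨d, hd⟩ := exists_of_mark_ne_zero h2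
    have hc : Nat.card (H.map (MulAut.conj d).toMonoidHom) = Nat.card H :=
      Subgroup.card_map_of_injective (MulAut.conj d).injective
    have hle := Subgroup.card_le_of_le hd
    have hcardH := (hδ H h1).2.1
    refine ⟨by omega, ?_⟩
    rw [← (hδ H h1).2.2]
    exact (hrep' d (Subgroup.eq_of_le_of_card_ge hd (by omega)).symm).symm
  refine ⟨c, δ, hc, fun H hH => (hδ H hH).1, ?_⟩
  have hlow : ∀ K, InF F K → Nat.card K = k →
      markSum (fun H => c * n H + δ H) K = c * B := by
    intro K hK hk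
    obtain ⟨d, hd⟩ := hrep K
    have hconj := inF_conj hK d⁻¹
    have hrK : K.map (MulAut.conj d⁻¹).toMonoidHom = rep K := by
      change conjSub d⁻¹ K = rep K
      conv_lhs => rw [← hd]
      change conjSub d⁻¹ (conjSub d (rep K)) = rep K
      rw [conjSub_conjSub, inv_mul_cancel, conjSub_one]
    rw [hrK] at hconj
    have hcr : Nat.card (rep K) = k := by
      rw [← hrK, ← hk]
      exact Subgroup.card_map_of_injective (MulAut.conj d⁻¹).injective
    have hms : markSum δ K = δ (rep K) * wt (rep K) := by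
      rw [markSum_eq, Finset.sum_eq_single (rep K)]
      · congr 1
        exact (congrArg (mark (rep K)) hd.symm).trans
          ((fixCard_conj d (rep K)).trans (fixCard_quotient_self (rep K)))
      · intro H _ hH
        by_contra hne
        exact hH (hzero K hk.ge H hne).2.symm
      · exact fun h => absurd (Finset.mem_univ _) h
    have heq : markSum n K = markSum n (rep K) := by rw [← hrK, markSum_conj]
    have hle : markSum n (rep K) ≤ B :=
      Finset.single_le_sum (fun _ _ => Nat.zero_le _) (Finset.mem_univ _)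
    have hdiv : wt (rep K) ∣ c * (B - markSum n (rep K)) :=
      (Finset.dvd_prod_of_mem wt (Finset.mem_univ (rep K))).mul_right _
    rw [markSum_add, markSum_smul, hms, show δ (rep K) = c * (B - markSum n (rep K)) / wt (rep K)
      from if_pos ⟨hconj.1, hcr, hrep' d hd⟩, Nat.div_mul_cancel hdiv, heq, ← Nat.mul_add,
      Nat.add_sub_cancel' hle]
  intro K L hK hL hk hcj
  have hKL : Nat.card K = Nat.card L := by
    rw [card_eq_card_pr1 hK, card_eq_card_pr1 hL, card_eq_of_isConj hcj]
  rcases hk.lt_or_eq with hlt | heq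
  · have h0 : ∀ K' : Subgroup (S × S), Nat.card K' = Nat.card K → markSum δ K' = 0 := fun K' hK' => by
      rw [markSum_eq]
      refine Finset.sum_eq_zero fun H _ => ?_
      by_contra hne
      have := (hzero K' (by omega) H hne).1
      omega
    rw [markSum_add, markSum_add, markSum_smul, markSum_smul, hst K L hK hL hlt hcj, h0 K rfl,
      h0 L hKL.symm]
  · rw [hlow K hK heq.symm, hlow L hL (hKL ▸ heq.symm)]

/-- A stable sum containing the diagonal. -/
theorem exists_stable_diag :
    ∃ n : Subgroup (S × S) → ℕ, Supp F n ∧ Stable F n 0 ∧ n (graphSub S.subtype) ≠ 0 := by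
  classical
  suffices key : ∀ j, j ≤ Nat.card S + 1 → ∃ n, Supp F n ∧ Stable F n (Nat.card S + 1 - j) ∧
      n (graphSub S.subtype) ≠ 0 by
    obtain ⟨n, h1, h2, h3⟩ := key _ le_rfl
    rw [Nat.sub_self] at h2
    exact ⟨n, h1, h2, h3⟩
  intro j
  induction j with
  | zero =>
    intro _
    refine ⟨fun H => if H = graphSub S.subtype then 1 else 0, fun H hH => ?_,
      fun K L hK _ hk _ => absurd (card_eq_card_pr1 hK) ?_, by simp⟩
    · obtain rfl : H = graphSub S.subtype := by
        by_contra h
        exact hH (if_neg h)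
      exact ⟨S, _, id_mem F le_rfl, rfl⟩
    · have := Subgroup.card_le_of_le (pr1_le_of_inF hK)
      omega
  | succ j ih =>
    intro hj
    obtain ⟨n, hn, hst, hd⟩ := ih (by omega)
    rw [show Nat.card S + 1 - j = Nat.card S + 1 - (j + 1) + 1 by omega] at hst
    obtain ⟨c, δ, hc, hδ, hst'⟩ := stable_step_scale hn hst
    refine ⟨_, fun H hH => ?_, hst', ?_⟩
    · by_cases h : δ H = 0
      · exact hn H fun h0 => hH (by simp [h, h0])
      · exact hδ H h
    · exact (Nat.add_pos_left (Nat.mul_pos hc (Nat.pos_of_ne_zero hd)) _).ne'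

/-- Every fusion system on a finite group is realized inside a finite group. -/
theorem exists_realization (F : FusionSystem S) :
    ∃ (G : Type u) (_ : Group G) (_ : Finite G) (ι : ↥S →* G), F.IsRealizedBy ι := by
  classical
  obtain ⟨n, hn, hst, hd⟩ := exists_stable_diag (F := F)
  have := Fintype.ofFinite (Subgroup (S × S))
  let J := Σ H : Subgroup (S × S), Fin (n H)
  let X := Σ i : J, (S × S) ⧸ i.1
  have hfix : ∀ K : Subgroup (S × S), fixCard X K = markSum n K := by
    intro K
    rw [fixCard_sigma, markSum_eq, Fintype.sum_sigma]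
    refine Finset.sum_congr rfl fun H _ => ?_
    change ∑ _y : Fin (n H), fixCard ((S × S) ⧸ H) K = _
    rw [Finset.sum_const, Finset.card_univ, Fintype.card_fin, smul_eq_mul, mark]
  have hstab : ∀ x : X, InF F (MulAction.stabilizer (S × S) x) := by
    rintro ⟨⟨H, j⟩, x⟩
    induction x using QuotientGroup.induction_on with
    | H d =>
      refine inF_mono (inF_conj (hn H (fun h => (Fin.pos j).ne' h)) d).1 fun g hg => ?_
      have hg' : g ∈ MulAction.stabilizer (S × S) (d : (S × S) ⧸ H) :=
        eq_of_heq (Sigma.mk.inj_iff.1 (MulAction.mem_stabilizer_iff.1 hg)).2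
      exact ⟨d⁻¹ * g * d, le_stabilizer_quotient_iff.1 le_rfl g hg', by simp [mul_assoc]⟩
  have hα : ∀ (P : Subgroup Ω) (φ : P →* Ω), φ ∈ F.Hom P → ∃ α : X ≃ X,
      ∀ (a a' b : S) (h : (a : Ω) ∈ P) (x : X), φ ⟨a, h⟩ = a' →
        α (((a, b) : S × S) • x) = ((a', b) : S × S) • α x := by
    intro P φ hφ
    have hPS := le_S F hφ
    obtain ⟨e, he, hee⟩ := exists_iso_of_mem hφ
    obtain ⟨α, hα⟩ := exists_equiv_of_hom (X := X) (box S P S).subtype
      (pairHom e (MulEquiv.refl S) (range_le_S F hφ) le_rfl) (fun L => by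
        rw [hfix, hfix]
        set K := L.map (box S P S).subtype
        have hK : K ≤ box S P S := by
          rintro _ ⟨x, -, rfl⟩
          exact x.2
        have hL : L = K.subgroupOf (box S P S) :=
          (Subgroup.comap_map_eq_self_of_injective (box S P S).subtype_injective L).symm
        rw [hL, ← transp]
        have hrefl : IsIso F (MulEquiv.refl S) := isIso_refl le_rfl
        by_cases hKF : InF F K
        · obtain ⟨h1, h2⟩ := inF_transp he hrefl (range_le_S F hφ) le_rfl hK hKF
          exact hst _ _ hKF h1 (Nat.zero_le _) h2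
        · rw [markSum_eq_zero hn hKF, markSum_eq_zero hn]
          exact fun h => hKF ((inF_transp_iff he hrefl _ _ hK).1 h))
    refine ⟨α, fun a a' b h x ha => ?_⟩
    have := hα ⟨(a, b), h, b.2⟩ x
    rw [show pairHom e (MulEquiv.refl S) (range_le_S F hφ) le_rfl ⟨(a, b), h, b.2⟩ = (a', b) from
      Prod.ext (Subtype.ext ((pairHom_apply _).1.trans ((hee _).trans ha)))
        (Subtype.ext ((pairHom_apply _).2))] at this
    exact this
  let G : Subgroup (Equiv.Perm X) :=
    { carrier := {g | ∀ (b : S) (x : X), g (((1, b) : S × S) • x) = ((1, b) : S × S) • g x}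
      one_mem' := fun b x => rfl
      mul_mem' := fun {g k} hg hk b x => by simp [hk b x, hg b]
      inv_mem' := fun {g} hg b x => by
        apply g.injective
        rw [hg]
        simp }
  let L : S →* Equiv.Perm X := (MulAction.toPermHom (S × S) X).comp (MonoidHom.inl S S)
  have hLa : ∀ (s : S) (x : X), L s x = ((s, 1) : S × S) • x := fun s x => rfl
  let ι : S →* G := L.codRestrict G fun s b x => by
    rw [hLa, hLa, ← mul_smul, ← mul_smul]
    simp
  let x₀ : X := ⟨⟨graphSub S.subtype, ⟨0, Nat.pos_of_ne_zero hd⟩⟩, ((1 : S × S) : (S × S) ⧸ _)⟩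
  have hx₀ : ∀ a : S, ((a, a) : S × S) • x₀ = x₀ := by
    intro a
    refine Sigma.ext rfl (heq_of_eq ?_)
    change (QuotientGroup.mk ((a, a) * 1 : S × S) : (S × S) ⧸ graphSub S.subtype) = _
    rw [mul_one, QuotientGroup.eq, mul_one]
    exact inv_mem (show ((a, a) : S × S) ∈ graphSub S.subtype from ⟨a.2, rfl⟩)
  refine ⟨G, inferInstance, inferInstance, ι, fun a b hab => ?_, fun P hP φ hφS => ⟨fun hφ => ?_, ?_⟩⟩
  · have h : ((a, 1) : S × S) • x₀ = ((b, 1) : S × S) • x₀ :=
      congrArg (fun g : G => (g : Equiv.Perm X) x₀) hab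
    obtain ⟨Q, ψ, hψ, hK⟩ := hstab x₀
    have h1 : ((b⁻¹ * a, 1) : S × S) ∈ MulAction.stabilizer (S × S) x₀ := by
      rw [MulAction.mem_stabilizer_iff,
        show ((b⁻¹ * a, 1) : S × S) = ((b, 1) : S × S)⁻¹ * (a, 1) by simp, mul_smul, h, inv_smul_smul]
    rw [hK] at h1
    obtain ⟨hm, hv⟩ := h1
    have h2 := congrArg Subtype.val (F.injective_of_mem hψ (hv.trans (map_one ψ).symm))
    exact (inv_mul_eq_one.1 (Subtype.ext h2 : b⁻¹ * a = 1)).symm
  · obtain ⟨α, hαe⟩ := hα P φ hφ
    have hg : (α : Equiv.Perm X) ∈ G := fun b x =>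
      hαe 1 1 b P.one_mem x (map_one φ)
    refine ⟨⟨α, hg⟩, fun x => Subtype.ext ?_⟩
    rw [Subgroup.coe_mul, Subgroup.coe_mul, Subgroup.coe_inv]
    refine eq_mul_inv_of_mul_eq (Equiv.ext fun y => ?_)
    exact (hαe ⟨x, hP x.2⟩ ⟨φ x, hφS x⟩ 1 x.2 y rfl).symm
  · rintro ⟨g, hg⟩
    obtain ⟨Q, ψ, hψ, hK⟩ := hstab ((g : Equiv.Perm X) x₀)
    set y := (g : Equiv.Perm X) x₀
    have hmem : ∀ x : P, ((⟨φ x, hφS x⟩, ⟨x, hP x.2⟩) : S × S) ∈ MulAction.stabilizer (S × S) y := by
      intro x
      set a : S := ⟨x, hP x.2⟩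
      set a' : S := ⟨φ x, hφS x⟩
      have h1 : ι a' * g = g * ι a := by rw [hg x, inv_mul_cancel_right]
      have h2 : ((a', 1) : S × S) • y = (g : Equiv.Perm X) (((a, 1) : S × S) • x₀) :=
        congrArg (fun k : G => (k : Equiv.Perm X) x₀) h1
      have h3 : ((a, 1) : S × S) • x₀ = ((1, a⁻¹) : S × S) • x₀ := by
        conv_rhs => rw [← hx₀ a, ← mul_smul]
        simp
      rw [h3, g.2 a⁻¹ x₀] at h2
      rw [MulAction.mem_stabilizer_iff, show ((a', a) : S × S) = (1, a) * (a', 1) by simp, mul_smul,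
        h2, ← mul_smul]
      simp [y]
      exact one_smul (S × S) _
    rw [hK] at hmem
    have hQ : ∀ x : P, φ x ∈ Q := fun x => (hmem x).1
    have hv : ∀ x : P, ψ ⟨φ x, hQ x⟩ = x := fun x => (hmem x).2
    obtain ⟨χ, hχ, hχe⟩ := F.inv_mem hψ
    have hPr : P ≤ ψ.range := fun z hz => ⟨⟨φ ⟨z, hz⟩, hQ _⟩, hv ⟨z, hz⟩⟩
    refine mem_of_eq rfl (res_mem F hχ hPr) fun x => ?_
    refine Eq.trans ?_ (hχe ⟨φ x, hQ x⟩).symm |>.trans ?_
    · rfl
    · exact congrArg χ (Subtype.ext (hv x))

end CfsgLib.Fusion
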