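import Cfsg.Agent.Lib.Fusion.PPrimeResidualLeast
import Cfsg.Agent.Lib.Fusion.PullSystem
import Cfsg.Agent.Lib.Fusion.PPrimeGen
import Cfsg.Agent.Lib.Fusion.CoreCentric

/-!
# The degree of a map relative to a normal subsystem

For a homomorphism from `Aut_F(T)` to a group of order prime to `p` killing `Aut_E(T)`, a map
defined on a subgroup meeting `T` in a relatively centric subgroup has a well defined value.
-/

set_option autoImplicit false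

open Cfsg Cfsg.FusionSystem

namespace CfsgLib.Fusion

variable {Ω : Type*} [Group Ω] {S T : Subgroup Ω} {F : FusionSystem S} {E : FusionSystem T}
  {p : ℕ} {Δ : Type*} [Group Δ]

/-- The subgroups meeting `T` in a relatively centric subgroup. -/
def relFamily (F : FusionSystem S) (T : Subgroup Ω) : Set (Subgroup Ω) :=
  {P | P ≤ S ∧ IsCentricRelTo F T (P ⊓ T)}

theorem img_inf_stronglyClosed (hT : F.StronglyClosed T) {P : Subgroup Ω} {φ : P →* Ω}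
    (hφ : φ ∈ F.Hom P) :
    (φ.comp (Subgroup.inclusion (inf_le_left : P ⊓ T ≤ P))).range = φ.range ⊓ T := by
  refine le_antisymm ?_ ?_
  · rintro _ ⟨x, rfl⟩
    exact ⟨⟨_, rfl⟩, hT.2 _ inf_le_right _ (res_mem F hφ inf_le_left) x⟩
  · rintro y ⟨⟨x, rfl⟩, hy⟩
    obtain ⟨ψ, hψ, hψe⟩ := F.inv_mem hφ
    have h1 := hT.2 (φ.range ⊓ T) inf_le_right _ (res_mem F hψ inf_le_left) ⟨φ x, ⟨x, rfl⟩, hy⟩
    have h2 : (x : Ω) ∈ T := by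
      rw [← hψe x]
      exact h1
    exact ⟨⟨x, x.2, h2⟩, rfl⟩

theorem IsCentricRelTo.of_isConj (hT : F.StronglyClosed T) {Q R : Subgroup Ω}
    (hQ : IsCentricRelTo F T Q) (h : F.IsConj Q R) : IsCentricRelTo F T R := by
  refine ⟨?_, fun R' hR' => hQ.2 R' (isConj_trans h hR')⟩
  obtain ⟨φ, hφ, rfl⟩ := h
  rintro _ ⟨x, rfl⟩
  exact hT.2 Q hQ.1 φ hφ x

theorem range_mem_relFamily (hT : F.StronglyClosed T) {P : Subgroup Ω} {φ : P →* Ω}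
    (hφ : φ ∈ F.Hom P) (hP : P ∈ relFamily F T) : φ.range ∈ relFamily F T := by
  refine ⟨range_le_S F hφ, ?_⟩
  rw [← img_inf_stronglyClosed hT hφ]
  exact hP.2.of_isConj hT ⟨_, res_mem F hφ inf_le_left, rfl⟩

theorem mem_relFamily_of_le {P Q : Subgroup Ω} (hP : P ∈ relFamily F T) (hPQ : P ≤ Q)
    (hQ : Q ≤ S) : Q ∈ relFamily F T :=
  ⟨hQ, hP.2.mono (inf_le_inf_right _ hPQ) inf_le_right⟩

/-- `φ` has degree `δ`. -/
def HasDeg (E : FusionSystem T) {A : Subgroup (MulAut T)} (χ : A →* Δ) {P : Subgroup Ω}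
    (φ : P →* Ω) (δ : Δ) : Prop :=
  ∃ (a : A) (φ₀ : ↥(P ⊓ T) →* Ω), φ₀ ∈ E.Hom (P ⊓ T) ∧
    (∀ (x : ↥(P ⊓ T)) (hx : φ₀ x ∈ T),
      φ (Subgroup.inclusion inf_le_left x) = (((a : MulAut T) ⟨φ₀ x, hx⟩ : T) : Ω)) ∧ χ a = δ

variable (χ : F.autGroup T →* Δ)

theorem exists_hasDeg (hE : E.IsInvariantIn F) {P : Subgroup Ω} {φ : P →* Ω} (hφ : φ ∈ F.Hom P) :
    ∃ δ : Δ, HasDeg E χ φ δ := by
  obtain ⟨a, ha, φ₀, hφ₀, he⟩ := hE.2.2.2 (P ⊓ T) inf_le_right _ (res_mem F hφ inf_le_left)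
  exact ⟨χ ⟨a, ha⟩, ⟨a, ha⟩, φ₀, hφ₀, he, rfl⟩

theorem hasDeg_of_eq {P : Subgroup Ω} {φ φ' : P →* Ω} {δ : Δ} (h : HasDeg E χ φ δ)
    (he : ∀ x, φ' x = φ x) : HasDeg E χ φ' δ := by
  obtain ⟨a, φ₀, hφ₀, hφe, hδ⟩ := h
  exact ⟨a, φ₀, hφ₀, fun x hx => (he _).trans (hφe x hx), hδ⟩

theorem hasDeg_res {P R : Subgroup Ω} {φ : P →* Ω} {δ : Δ} (h : HasDeg E χ φ δ) (hRP : R ≤ P) :
    HasDeg E χ (φ.comp (Subgroup.inclusion hRP)) δ := by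
  obtain ⟨a, φ₀, hφ₀, hφe, hδ⟩ := h
  exact ⟨a, _, res_mem E hφ₀ (inf_le_inf_right T hRP),
    fun x hx => hφe (Subgroup.inclusion (inf_le_inf_right T hRP) x) hx, hδ⟩

variable [Finite S] [Fact p.Prime]

/-- The degree is unique. -/
theorem hasDeg_unique (hS : IsPGroup p S) (hF : F.IsSaturated p) (hEs : E.IsSaturated p)
    (hE : E.IsInvariantIn F) (hker : (E.autGroup T).subgroupOf (F.autGroup T) ≤ χ.ker)
    [Finite Δ] (hΔ : (Nat.card Δ).Coprime p) {P : Subgroup Ω}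
    (hP : IsCentricRelTo F T (P ⊓ T)) {φ : P →* Ω} {δ δ' : Δ} (h : HasDeg E χ φ δ)
    (h' : HasDeg E χ φ δ') : δ = δ' := by
  obtain ⟨a, φ₀, hφ₀, hφe, rfl⟩ := h
  obtain ⟨a', φ₀', hφ₀', hφe', rfl⟩ := h'
  obtain ⟨θ', hθ', hθ'e⟩ := E.inv_mem hφ₀'
  have hθP : ∀ y, θ' y ∈ P ⊓ T := by
    rintro ⟨_, x, rfl⟩
    rw [hθ'e]
    exact x.2
  have hfused : IsFusedToIncl E φ₀'.range ((a'⁻¹ * a : F.autGroup T) : MulAut T) := by
    refine ⟨_, E.comp_mem hθ' hφ₀ hθP, ?_⟩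
    rintro ⟨_, x, rfl⟩ hx
    have h1 : (⟨φ₀.comp (θ'.codRestrict _ hθP) ⟨φ₀' x, x, rfl⟩, hx⟩ : T) =
        ⟨φ₀ x, apply_mem_S E hφ₀ x⟩ :=
      Subtype.ext (congrArg φ₀ (Subtype.ext (hθ'e x)))
    rw [h1]
    change (((a' : MulAut T)⁻¹ ((a : MulAut T) ⟨φ₀ x, apply_mem_S E hφ₀ x⟩) : T) : Ω) = φ₀' x
    rw [show (a : MulAut T) ⟨φ₀ x, apply_mem_S E hφ₀ x⟩ =
      (a' : MulAut T) ⟨φ₀' x, apply_mem_S E hφ₀' x⟩ from
        Subtype.ext ((hφe x _).symm.trans (hφe' x _)), MulAut.inv_apply_self]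
  obtain ⟨m, hm⟩ := exists_pow_mem_of_fused hS hF hEs hE
    (hP.of_isConj hE.2.1 ⟨φ₀', hE.1 _ hφ₀', rfl⟩) (a'⁻¹ * a).2 hfused
  have h2 : χ ((a'⁻¹ * a) ^ p ^ m) = 1 :=
    hker (show (a'⁻¹ * a) ^ p ^ m ∈ (E.autGroup T).subgroupOf (F.autGroup T) from by
      rw [Subgroup.mem_subgroupOf, SubmonoidClass.coe_pow]; exact hm)
  rw [map_pow] at h2
  have h3 := eq_one_of_pow_prime_of_coprime h2 (hΔ.coprime_dvd_left (orderOf_dvd_natCard _))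
  rw [map_mul, map_inv] at h3
  exact (inv_mul_eq_one.1 h3).symm

omit [Finite S] [Fact p.Prime] in
/-- Degrees multiply. -/
theorem hasDeg_comp (hE : E.IsInvariantIn F) {P Q : Subgroup Ω} {φ : P →* Ω} {ψ : Q →* Ω}
    (hφ : φ ∈ F.Hom P) {δ ε : Δ} (h : HasDeg E χ φ δ) (h' : HasDeg E χ ψ ε)
    (hv : ∀ x, φ x ∈ Q) : HasDeg E χ (ψ.comp (φ.codRestrict Q hv)) (ε * δ) := by
  obtain ⟨a, φ₀, hφ₀, hφe, rfl⟩ := h
  obtain ⟨b, ψ₀, hψ₀, hψe, rfl⟩ := h'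
  obtain ⟨θ, hθ, hθe⟩ := hE.2.2.1 (Q ⊓ T) inf_le_right ψ₀ hψ₀ _ (inv_mem a.2)
  have hφT : ∀ x : ↥(P ⊓ T), φ (Subgroup.inclusion inf_le_left x) ∈ T := fun x =>
    hE.2.1.2 (P ⊓ T) inf_le_right _ (res_mem F hφ inf_le_left) x
  have hv₀ : ∀ x : ↥(P ⊓ T), φ₀ x ∈
      ((Q ⊓ T).subgroupOf T).map (T.subtype.comp ((a : MulAut T)⁻¹).toMonoidHom) := fun x =>
    ⟨⟨_, hφT x⟩, ⟨hv _, hφT x⟩, by
      change (((a : MulAut T)⁻¹ ⟨φ (Subgroup.inclusion inf_le_left x), hφT x⟩ : T) : Ω) = φ₀ x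
      rw [show (⟨_, hφT x⟩ : T) = (a : MulAut T) ⟨φ₀ x, apply_mem_S E hφ₀ x⟩ from
        Subtype.ext (hφe x _), MulAut.inv_apply_self]⟩
  refine ⟨b * a, θ.comp (φ₀.codRestrict _ hv₀), E.comp_mem hφ₀ hθ hv₀, fun x hx => ?_,
    map_mul χ b a⟩
  let y : ↥(Q ⊓ T) := ⟨φ (Subgroup.inclusion inf_le_left x), hv _, hφT x⟩
  have h1 : φ₀ x = (((a : MulAut T)⁻¹ ⟨y, y.2.2⟩ : T) : Ω) := by
    rw [show (⟨(y : Ω), y.2.2⟩ : T) = (a : MulAut T) ⟨φ₀ x, apply_mem_S E hφ₀ x⟩ from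
      Subtype.ext (hφe x _), MulAut.inv_apply_self]
  have h2 : θ.comp (φ₀.codRestrict _ hv₀) x =
      (((a : MulAut T)⁻¹ ⟨ψ₀ y, apply_mem_S E hψ₀ y⟩ : T) : Ω) := by
    refine Eq.trans ?_ (hθe y (apply_mem_S E hψ₀ y) (h1 ▸ hv₀ x))
    exact congrArg θ (Subtype.ext h1)
  change ψ ⟨φ (Subgroup.inclusion inf_le_left x), hv _⟩ = _
  refine (hψe y (apply_mem_S E hψ₀ y)).trans ?_
  rw [show (⟨_, hx⟩ : T) = (a : MulAut T)⁻¹ ⟨ψ₀ y, apply_mem_S E hψ₀ y⟩ from Subtype.ext h2,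
    Subgroup.coe_mul, MulAut.mul_apply, MulAut.apply_inv_self]

omit [Finite S] [Fact p.Prime] in
theorem hasDeg_id {P : Subgroup Ω} : HasDeg E χ P.subtype (1 : Δ) :=
  ⟨1, (P ⊓ T).subtype, id_mem E inf_le_right, fun _ _ => rfl, map_one χ⟩

omit [Finite S] [Fact p.Prime] in
theorem hasDeg_of_mem {P : Subgroup Ω} {φ : P →* Ω} (hφ : φ ∈ E.Hom P) : HasDeg E χ φ (1 : Δ) :=
  ⟨1, _, res_mem E hφ inf_le_left, fun _ _ => rfl, map_one χ⟩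

/-- The inverse map has the inverse degree. -/
theorem hasDeg_inv (hS : IsPGroup p S) (hF : F.IsSaturated p) (hEs : E.IsSaturated p)
    (hE : E.IsInvariantIn F) (hker : (E.autGroup T).subgroupOf (F.autGroup T) ≤ χ.ker)
    [Finite Δ] (hΔ : (Nat.card Δ).Coprime p) {P : Subgroup Ω}
    (hP : IsCentricRelTo F T (P ⊓ T)) {φ : P →* Ω} (hφ : φ ∈ F.Hom P) {δ : Δ}
    (h : HasDeg E χ φ δ) {ψ : φ.range →* Ω} (hψ : ψ ∈ F.Hom φ.range)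
    (hψe : ∀ x : P, ψ ⟨φ x, x, rfl⟩ = x) : HasDeg E χ ψ δ⁻¹ := by
  obtain ⟨ε, hε⟩ := exists_hasDeg χ hE hψ
  have h1 := hasDeg_comp χ hE hφ h hε fun x => ⟨x, rfl⟩
  have h2 := hasDeg_unique χ hS hF hEs hE hker hΔ hP
    (hasDeg_of_eq χ h1 fun x => (hψe x).symm) (hasDeg_id (P := P) χ)
  rwa [← eq_inv_of_mul_eq_one_left h2]

/-- Conjugation by an element of `S` has degree one. -/
theorem hasDeg_conjHom (hS : IsPGroup p S) (hT : F.StronglyClosed T) (hE : E.IsSubsystemOf F)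
    [Finite Δ] (hΔ : (Nat.card Δ).Coprime p) {P : Subgroup Ω} {g : Ω} (hg : g ∈ S) :
    HasDeg E χ (conjHom P g) (1 : Δ) := by
  have hgT := mem_normalizer_of_stronglyClosed hT hg
  have hmem : normAut g hgT ∈ autInducedBy S T :=
    mem_autInducedBy_iff.2 ⟨g, hg, fun _ => rfl⟩
  obtain ⟨k, hk⟩ := isPGroup_autInducedBy hS T ⟨_, hmem⟩
  set a : F.autGroup T := ⟨_, autInducedBy_le_autGroup hT.1 hmem⟩
  have ha : a ^ p ^ k = 1 := Subtype.ext (congrArg Subtype.val hk :)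
  refine ⟨a, (P ⊓ T).subtype, id_mem E inf_le_right, fun x hx => rfl, ?_⟩
  exact eq_one_of_pow_prime_of_coprime (p := p) (k := k) (by rw [← map_pow, ha, map_one])
    (hΔ.coprime_dvd_left (orderOf_dvd_natCard _))

end CfsgLib.Fusion
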