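import Cfsg.Agent.Lib.Fusion.Supersoluble

/-!
# Abelian groups of supersoluble type
-/

set_option autoImplicit false

open Cfsg Cfsg.FusionSystem

namespace CfsgLib.Fusion

/-- No line of `(ℤ/2)²` is invariant under the automorphism of order three. -/
theorem zmod_two_no_line :
    ∀ a b e : ZMod 2, b = e * a → -(a + b) = e * b → a = 0 ∧ b = 0 := by decide

variable {p : ℕ} [Fact p.Prime]

/-- Torsion elements that are high powers are higher powers, except in one invariant. -/
theorem exists_root_succ {a j : ℕ} (ha : a ≠ j + 1) (z : Multiplicative (ZMod (p ^ a)))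
    (hz : (z ^ p ^ j) ^ p = 1) : ∃ w, w ^ p ^ (j + 1) = z ^ p ^ j := by
  have hp : 0 < p := (Fact.out : p.Prime).pos
  have hcard : Nat.card (Multiplicative (ZMod (p ^ a))) = p ^ a :=
    (Nat.card_congr Multiplicative.toAdd).trans (Nat.card_zmod _)
  have hpow : ∀ u : Multiplicative (ZMod (p ^ a)), u ^ p ^ a = 1 := fun u =>
    orderOf_dvd_iff_pow_eq_one.1 ((orderOf_dvd_natCard u).trans (dvd_of_eq hcard))
  by_cases hle : a ≤ j
  · refine ⟨1, ?_⟩
    obtain ⟨d, hd⟩ := Nat.pow_dvd_pow p hle
    rw [one_pow, hd, pow_mul, hpow, one_pow]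
  have : NeZero (p ^ a) := ⟨(pow_pos hp a).ne'⟩
  let f := powMonoidHom (α := Multiplicative (ZMod (p ^ a))) (p ^ (a - (j + 1)))
  let g := powMonoidHom (α := Multiplicative (ZMod (p ^ a))) (p ^ (j + 1))
  have hcyc : IsCyclic (Multiplicative (ZMod (p ^ a))) := isCyclic_multiplicative
  have hfg : f.range = g.ker := by
    refine Subgroup.eq_of_le_of_card_ge ?_ ?_
    · rintro _ ⟨w, rfl⟩
      change (w ^ p ^ (a - (j + 1))) ^ p ^ (j + 1) = 1
      rw [← pow_mul, ← pow_add, show a - (j + 1) + (j + 1) = a by omega, hpow]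
    · rw [IsCyclic.card_powMonoidHom_range, IsCyclic.card_powMonoidHom_ker, hcard,
        Nat.gcd_eq_right (pow_dvd_pow p (by omega)), Nat.gcd_eq_right (pow_dvd_pow p (by omega)),
        Nat.pow_div (by omega) hp, show a - (a - (j + 1)) = j + 1 by omega]
  obtain ⟨w, hw⟩ := hfg.ge (show z ∈ g.ker by
    change z ^ p ^ (j + 1) = 1
    rw [pow_succ, pow_mul]; exact hz)
  refine ⟨w ^ p ^ (a - (j + 1) - 1), ?_⟩
  rw [← hw]
  change (w ^ _) ^ _ = (w ^ p ^ (a - (j + 1))) ^ p ^ j
  rw [← pow_mul, ← pow_mul, ← pow_add, ← pow_add]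
  congr 2
  omega

/-- A step of index at most `p` is cyclic. -/
theorem exists_sup_zpowers_of_relIndex_le {G : Type*} [Group G] [Finite G] (hG : IsPGroup p G)
    {N M : Subgroup G} (hNM : N ≤ M) (h : N.relIndex M ≤ p) :
    ∃ x, M = N ⊔ Subgroup.zpowers x := by
  by_cases heq : M ≤ N
  · exact ⟨1, by rw [Subgroup.zpowers_one_eq_bot, sup_bot_eq]; exact le_antisymm heq hNM⟩
  obtain ⟨x, hxM, hxN⟩ := SetLike.not_le_iff_exists.1 heq
  refine ⟨x, ?_⟩
  set K := N ⊔ Subgroup.zpowers x
  have hKM : K ≤ M := sup_le hNM (Subgroup.zpowers_le.2 hxM)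
  have hmul := Subgroup.relIndex_mul_relIndex N K M le_sup_left hKM
  obtain ⟨k, hk⟩ := (hG.to_subgroup K).exists_card_eq
  have hdvd : N.relIndex K ∣ p ^ k := hk ▸ Subgroup.relIndex_dvd_card N K
  have hne : N.relIndex K ≠ 1 := fun h1 =>
    hxN (Subgroup.relIndex_eq_one.1 h1 (Subgroup.mem_sup_right (Subgroup.mem_zpowers x)))
  obtain ⟨l, -, hl⟩ := (Nat.dvd_prime_pow Fact.out).1 hdvd
  have hge : p ≤ N.relIndex K := by
    rw [hl]
    refine Nat.le_self_pow (fun h0 => hne ?_) p
    rw [hl, h0, pow_zero]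
  have hpos : N.relIndex M ≠ 0 := Subgroup.index_ne_zero_of_finite
  have h1 : K.relIndex M = 1 := by
    rcases Nat.lt_or_ge (K.relIndex M) 2 with h2 | h2
    · rcases Nat.eq_zero_or_pos (K.relIndex M) with h3 | h3
      · rw [h3, mul_zero] at hmul; exact absurd hmul.symm hpos
      · omega
    · have := Nat.mul_le_mul hge h2
      have hp : 0 < p := (Fact.out : p.Prime).pos
      omega
  exact le_antisymm (Subgroup.relIndex_eq_one.1 h1) hKM

/-- An abelian group with distinct invariants has a chain with steps of index at most `p` that is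
invariant under all endomorphisms. -/
theorem exists_char_chain {A : Type*} [CommGroup A] [Finite A] (hA : IsPGroup p A)
    {ι : Type*} [Finite ι] (a : ι → ℕ) (ha : Function.Injective a)
    (e : A ≃* ((i : ι) → Multiplicative (ZMod (p ^ a i)))) :
    ∃ (n : ℕ) (L : ℕ → Subgroup A), L 0 = ⊥ ∧ L n = ⊤ ∧
      (∀ (i : ℕ) (f : A →* A), ∀ x ∈ L i, f x ∈ L i) ∧
      ∀ i < n, L i ≤ L (i + 1) ∧ (L i).relIndex (L (i + 1)) ≤ p := by
  classical
  obtain ⟨N, hN⟩ := hA.exists_card_eq
  let W : ℕ → Subgroup A := fun j =>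
    (powMonoidHom p).ker ⊓ (powMonoidHom (p ^ j)).range
  have hW0 : W 0 = (powMonoidHom p).ker := by
    refine le_antisymm inf_le_left (le_inf le_rfl fun x _ => ⟨x, ?_⟩)
    rw [powMonoidHom_apply, pow_zero, pow_one]
  have hWN : W N = ⊥ := by
    rw [eq_bot_iff]
    rintro x ⟨-, y, rfl⟩
    rw [Subgroup.mem_bot, powMonoidHom_apply, ← hN, pow_card_eq_one']
  have hWmono : ∀ j, W (j + 1) ≤ W j := fun j => inf_le_inf_left _ (by
    rintro _ ⟨y, rfl⟩
    exact ⟨y ^ p, by simp [← pow_mul, pow_succ']⟩)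
  have hWstep : ∀ j, (W (j + 1)).relIndex (W j) ≤ p := by
    intro j
    by_cases hex : ∃ i, a i = j + 1
    · obtain ⟨i, hi⟩ := hex
      let π : A →* Multiplicative (ZMod (p ^ a i)) := (Pi.evalMonoidHom _ i).comp e.toMonoidHom
      have hker : π.ker ⊓ W j ≤ W (j + 1) := by
        rintro x ⟨hx1, hx2, y, rfl⟩
        refine ⟨hx2, ?_⟩
        have hroot : ∀ l, ∃ w, w ^ p ^ (j + 1) = (e y l) ^ p ^ j := fun l => by
          by_cases hl : l = i
          · subst hl
            refine ⟨1, ?_⟩
            rw [one_pow]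
            have := MonoidHom.mem_ker.1 hx1
            simpa [π] using this.symm
          · refine exists_root_succ (fun h => hl (ha (h.trans hi.symm))) _ ?_
            have h1 : ((e y) ^ p ^ j) ^ p = 1 := by
              rw [← map_pow, ← map_pow, show ((y ^ p ^ j) ^ p : A) = 1 from hx2, map_one]
            exact congrFun h1 l
        choose w hw using hroot
        refine ⟨e.symm w, e.injective (funext fun l => ?_)⟩
        rw [powMonoidHom_apply, powMonoidHom_apply, map_pow, map_pow, e.apply_symm_apply]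
        exact hw l
      calc (W (j + 1)).relIndex (W j) ≤ (π.ker ⊓ W j).relIndex (W j) :=
            Nat.le_of_dvd (Nat.pos_of_ne_zero Subgroup.index_ne_zero_of_finite)
              (Subgroup.relIndex_dvd_of_le_left _ hker)
        _ = π.ker.relIndex (W j) := by rw [Subgroup.inf_relIndex_right]
        _ = Nat.card ((W j).map π) := by rw [← MonoidHom.comap_bot, Subgroup.relIndex_comap,
              Subgroup.relIndex_bot_left]
        _ ≤ Nat.card (powMonoidHom (α := Multiplicative (ZMod (p ^ a i))) (p ^ j)).range := by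
            have : NeZero (p ^ a i) := ⟨(pow_pos (Fact.out : p.Prime).pos _).ne'⟩
            refine Subgroup.card_le_of_le ?_
            rintro _ ⟨_, ⟨-, y, rfl⟩, rfl⟩
            exact ⟨π y, by simp⟩
        _ = p := by
            have : NeZero (p ^ a i) := ⟨(pow_pos (Fact.out : p.Prime).pos _).ne'⟩
            have : IsCyclic (Multiplicative (ZMod (p ^ a i))) := isCyclic_multiplicative
            rw [IsCyclic.card_powMonoidHom_range, Nat.card_congr Multiplicative.toAdd, Nat.card_zmod,
              hi, Nat.gcd_eq_right (pow_dvd_pow p j.le_succ),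
              Nat.pow_div j.le_succ (Fact.out : p.Prime).pos, Nat.succ_sub le_rfl, Nat.sub_self]
            simp
    · rw [show (W (j + 1)).relIndex (W j) = 1 from Subgroup.relIndex_eq_one.2 ?_]
      · exact (Fact.out : p.Prime).one_lt.le
      · rintro x ⟨hx2, y, rfl⟩
        refine ⟨hx2, ?_⟩
        have hroot : ∀ l, ∃ w, w ^ p ^ (j + 1) = (e y l) ^ p ^ j := fun l => by
          refine exists_root_succ (fun h => hex ⟨l, h⟩) _ ?_
          have h1 : ((e y) ^ p ^ j) ^ p = 1 := by
            rw [← map_pow, ← map_pow, show ((y ^ p ^ j) ^ p : A) = 1 from hx2, map_one]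
          exact congrFun h1 l
        choose w hw using hroot
        refine ⟨e.symm w, e.injective (funext fun l => ?_)⟩
        rw [powMonoidHom_apply, powMonoidHom_apply, map_pow, map_pow, e.apply_symm_apply]
        exact hw l
  -- the chain
  let L : ℕ → ℕ → Subgroup A := fun k r => (W (N - r)).comap (powMonoidHom (p ^ k))
  have hL0 : L 0 0 = ⊥ := by
    refine eq_bot_iff.2 fun x hx => ?_
    have h1 : x ^ p ^ 0 ∈ W N := hx
    simpa [hWN] using h1
  have hLN : ∀ k, L k N = L (k + 1) 0 := fun k => by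
    ext x
    simp only [L, Nat.sub_self, Nat.sub_zero, hW0, hWN, Subgroup.mem_comap, MonoidHom.mem_ker,
      Subgroup.mem_bot, powMonoidHom_apply]
    rw [← pow_mul, ← pow_succ]
  have hLtop : L N 0 = ⊤ := by
    refine eq_top_iff.2 fun x _ => ?_
    change x ^ p ^ N ∈ W N
    rw [← hN, pow_card_eq_one']
    exact one_mem _
  have hLstep : ∀ k r, r < N → L k r ≤ L k (r + 1) ∧ (L k r).relIndex (L k (r + 1)) ≤ p := by
    intro k r hr
    have hsub : N - r = N - (r + 1) + 1 := by omega
    refine ⟨Subgroup.comap_mono (hsub ▸ hWmono _), ?_⟩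
    change ((W (N - r)).comap _).relIndex _ ≤ p
    rw [Subgroup.relIndex_comap, hsub]
    exact (Subgroup.relIndex_le_of_le_right (Subgroup.map_comap_le _ _)
      Subgroup.index_ne_zero_of_finite).trans (hWstep _)
  have hinvL : ∀ k r (f : A →* A), ∀ x ∈ L k r, f x ∈ L k r := by
    rintro k r f x ⟨h1, y, h2⟩
    have h1' : (x ^ p ^ k) ^ p = 1 := h1
    have h2' : y ^ p ^ (N - r) = x ^ p ^ k := h2
    refine ⟨?_, f y, ?_⟩
    · change (f x ^ p ^ k) ^ p = 1
      rw [← map_pow, ← map_pow, h1', map_one]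
    · change f y ^ p ^ (N - r) = f x ^ p ^ k
      rw [← map_pow, ← map_pow, h2']
  by_cases hN0 : N = 0
  · subst hN0
    have : Subsingleton A := (Nat.card_eq_one_iff_unique.1 (by simpa using hN)).1
    exact ⟨0, fun _ => ⊥, rfl, Subsingleton.elim _ _, fun _ f x hx => by
      rw [Subgroup.mem_bot] at hx ⊢; rw [hx, map_one], fun i hi => absurd hi (Nat.not_lt_zero i)⟩
  refine ⟨N * N, fun t => L (t / N) (t % N), ?_, ?_, fun i f => hinvL _ _ f, fun t ht => ?_⟩
  · simp [hL0]
  · simp [hLtop, Nat.pos_of_ne_zero hN0]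
  have hr := Nat.mod_lt t (Nat.pos_of_ne_zero hN0)
  dsimp only
  set k := t / N
  set r := t % N
  have heq : L ((t + 1) / N) ((t + 1) % N) = L k (r + 1) := by
    have htd : t = N * k + r := (Nat.div_add_mod _ _).symm
    rcases Nat.lt_or_ge (r + 1) N with h | h
    · rw [show (t + 1) = r + 1 + N * k by omega, Nat.add_mul_div_left _ _
        (Nat.pos_of_ne_zero hN0), Nat.add_mul_mod_self_left, Nat.div_eq_of_lt h,
        Nat.mod_eq_of_lt h, zero_add]
    · have h' : r + 1 = N := le_antisymm hr h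
      rw [show (t + 1) = N * (k + 1) by rw [mul_add, mul_one]; omega,
        Nat.mul_div_cancel_left _ (Nat.pos_of_ne_zero hN0), Nat.mul_mod_right, h', hLN]
  rw [heq]
  exact hLstep k r hr

variable {Ω : Type*} [Group Ω] {S : Subgroup Ω} [Finite S]

/-- An abelian group with distinct invariants has a chain with cyclic steps that is invariant
under all automorphisms, hence is of supersoluble type. -/
theorem cyclicChain_of_distinct (hS : IsPGroup p S) (hab : IsMulCommutative S)
    {ι : Type*} [Finite ι] (a : ι → ℕ) (ha : Function.Injective a)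
    (e : S ≃* ((i : ι) → Multiplicative (ZMod (p ^ a i))))
    (F : FusionSystem S) (hF : F.IsSaturated p) : HasCyclicChain F := by
  classical
  let _ : CommGroup S := { (inferInstance : Group S) with mul_comm := hab.is_comm.comm }
  have hn : F.IsNormal S := by
    refine isNormal_of_commutative hS hF ⟨le_rfl, fun _ _ _ hφ x => apply_mem_S F hφ x⟩ ?_
    rw [Subgroup.commutator_eq_bot_iff_le_centralizer]
    exact fun x hx y hy => congrArg Subtype.val (hab.is_comm.comm ⟨y, hy⟩ ⟨x, hx⟩)
  obtain ⟨n, L, h0, hl, hinv, hstep⟩ := exists_char_chain hS a ha e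
  refine ⟨n, fun t => (L t).map S.subtype, ?_, ?_, fun t => ?_, fun t => ?_⟩
  · simp [h0]
  · simp [hl, ← MonoidHom.range_eq_map]
  · refine stronglyClosed_of_normal_top hn (Subgroup.map_subtype_le _) fun α _ x hx => ?_
    obtain ⟨y, hy, hyx⟩ := hx
    obtain rfl : y = x := Subtype.ext hyx
    exact ⟨_, hinv _ α.toMonoidHom y hy, rfl⟩
  · obtain ⟨hle, hidx⟩ := hstep t t.2
    obtain ⟨x, hx⟩ := exists_sup_zpowers_of_relIndex_le hS hle hidx
    simp only [Fin.val_castSucc, Fin.val_succ]
    refine ⟨Subgroup.map_mono hle, x, x.2, ?_⟩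
    rw [hx, Subgroup.map_sup, MonoidHom.map_zpowers]
    rfl

/-- An automorphism of order prime to `p` of `(ℤ/pⁿ)²` without invariant line mod `p`. -/
theorem exists_irreducible_aut {n : ℕ} (hn : 0 < n) :
    ∃ (g : AddAut (ZMod (p ^ n) × ZMod (p ^ n))) (m : ℕ), 0 < m ∧ m.Coprime p ∧
      (∀ x, (⇑g)^[m] x = x) ∧
      ∀ (x : ZMod (p ^ n) × ZMod (p ^ n)) (k : ZMod p),
        ZMod.castHom (dvd_pow_self p hn.ne') (ZMod p) (g x).1 =
            k * ZMod.castHom (dvd_pow_self p hn.ne') (ZMod p) x.1 →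
        ZMod.castHom (dvd_pow_self p hn.ne') (ZMod p) (g x).2 =
            k * ZMod.castHom (dvd_pow_self p hn.ne') (ZMod p) x.2 →
        ZMod.castHom (dvd_pow_self p hn.ne') (ZMod p) x.1 = 0 ∧
          ZMod.castHom (dvd_pow_self p hn.ne') (ZMod p) x.2 = 0 := by
  set c := ZMod.castHom (dvd_pow_self p hn.ne') (ZMod p)
  have hp : p.Prime := Fact.out
  rcases eq_or_ne p 2 with rfl | h2
  · refine ⟨{ toFun := fun x => (x.2, -(x.1 + x.2))
              invFun := fun x => (-(x.1 + x.2), x.1)
              left_inv := fun x => (by ext <;> simp <;> abel)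
              right_inv := fun x => (by ext <;> simp <;> abel)
              map_add' := fun x y => (by ext <;> simp <;> abel) }, 3, (by norm_num), (by norm_num),
      fun x => ?_, fun x k => ?_⟩
    · ext <;> simp [Function.iterate_succ_apply'] <;> abel
    · change c x.2 = k * c x.1 → c (-(x.1 + x.2)) = k * c x.2 → _
      rw [map_neg, map_add]
      generalize c x.1 = s
      generalize c x.2 = t
      exact zmod_two_no_line s t k
  have hodd : ringChar (ZMod p) ≠ 2 := by rwa [ZMod.ringChar_zmod_n]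
  obtain ⟨b, hb⟩ := FiniteField.exists_nonsquare (F := ZMod p) hodd
  have hb0 : b ≠ 0 := fun h => hb (h ▸ IsSquare.zero)
  have hbu : IsUnit (b.val : ZMod (p ^ n)) := by
    rw [ZMod.isUnit_iff_coprime]
    refine Nat.Coprime.pow_right n ((hp.coprime_iff_not_dvd.2 fun h => hb0 ?_).symm)
    rw [← ZMod.natCast_zmod_val b, ZMod.natCast_eq_zero_iff]
    exact h
  set a : (ZMod (p ^ n))ˣ := hbu.unit ^ p ^ (n - 1) with hadef
  have hap : a ^ (p - 1) = 1 := by
    rw [hadef, ← pow_mul, ← Nat.totient_prime_pow hp hn]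
    exact ZMod.pow_totient _
  have hca : c (a : ZMod (p ^ n)) = b := by
    rw [hadef, Units.val_pow_eq_pow_val, map_pow, IsUnit.unit_spec, map_natCast,
      ZMod.natCast_zmod_val, ZMod.pow_card_pow]
  refine ⟨{ toFun := fun x => ((a : ZMod (p ^ n)) * x.2, x.1)
            invFun := fun x => (x.2, ((a⁻¹ : (ZMod (p ^ n))ˣ) : ZMod (p ^ n)) * x.1)
            left_inv := fun x => (by simp)
            right_inv := fun x => (by simp)
            map_add' := fun x y => (by ext <;> simp [mul_add]) }, 2 * (p - 1),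
    (by have := hp.two_le; omega), ?_, fun x => ?_, fun x k => ?_⟩
  · refine Nat.Coprime.mul_left ((Nat.coprime_primes Nat.prime_two hp).2 h2.symm) ?_
    rw [Nat.coprime_comm, hp.coprime_iff_not_dvd]
    exact Nat.not_dvd_of_pos_of_lt (by have := hp.two_le; omega) (by have := hp.two_le; omega)
  · rw [Function.iterate_mul]
    have h1 : ∀ j (y : ZMod (p ^ n) × ZMod (p ^ n)),
        (fun z : ZMod (p ^ n) × ZMod (p ^ n) => ((a : ZMod (p ^ n)) * z.1, (a : ZMod (p ^ n)) * z.2))^[j] y =
          (((a ^ j : (ZMod (p ^ n))ˣ) : ZMod (p ^ n)) * y.1,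
            ((a ^ j : (ZMod (p ^ n))ˣ) : ZMod (p ^ n)) * y.2) := by
      intro j
      induction j with
      | zero => intro y; simp
      | succ j ih => intro y; rw [Function.iterate_succ_apply', ih]; simp [pow_succ', mul_assoc]
    refine (h1 (p - 1) x).trans ?_
    simp [hap]
  · change c ((a : ZMod (p ^ n)) * x.2) = k * c x.1 → c x.1 = k * c x.2 → _
    rw [map_mul, hca]
    intro h3 h4
    have ht : c x.2 = 0 := by
      by_contra ht
      refine hb ⟨k, mul_right_cancel₀ ht ?_⟩
      rw [h3, h4, mul_assoc]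
    exact ⟨by rw [h4, ht, mul_zero], ht⟩

/-- A repeated invariant prevents supersolubility. -/
theorem exists_not_cyclicChain {n : ℕ} (hn : 0 < n) (hS : IsPGroup p S) {H : Type*} [CommGroup H]
    (e : S ≃* (Multiplicative (ZMod (p ^ n)) × Multiplicative (ZMod (p ^ n))) × H) :
    ∃ F : FusionSystem S, F.IsSaturated p ∧ ¬ HasCyclicChain F := by
  classical
  obtain ⟨g, m, hm0, hm, hgm, hg⟩ := exists_irreducible_aut (p := p) hn
  set c := ZMod.castHom (dvd_pow_self p hn.ne') (ZMod p)
  let d := (MulEquiv.prodMultiplicative (ZMod (p ^ n)) (ZMod (p ^ n)))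
  let G : MulAut ((Multiplicative (ZMod (p ^ n)) × Multiplicative (ZMod (p ^ n))) × H) :=
    MulEquiv.prodCongr (d.symm.trans ((AddEquiv.toMultiplicative g).trans d)) (MulEquiv.refl H)
  let α : MulAut S := MulAut.congr e.symm G
  have hα : ∀ (k : ℕ) (x : S), (α ^ k) x = e.symm ((G ^ k) (e x)) := fun k x => by
    rw [← map_pow]; rfl
  have hG : ∀ (k : ℕ) (u : (Multiplicative (ZMod (p ^ n)) × Multiplicative (ZMod (p ^ n))) × H),
      (G ^ k) u = (d (Multiplicative.ofAdd ((⇑g)^[k] (Multiplicative.toAdd (d.symm u.1)))), u.2) := by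
    intro k
    induction k with
    | zero => intro u; rfl
    | succ k ih => intro u; rw [pow_succ', MulAut.mul_apply, ih, Function.iterate_succ_apply']; rfl
  have hαm : α ^ m = 1 := MulEquiv.ext fun x => by
    rw [hα, hG, hgm]
    exact e.symm_apply_apply x
  have hcop : (Nat.card (Subgroup.zpowers α)).Coprime p := by
    rw [Nat.card_zpowers]
    exact hm.coprime_dvd_left (orderOf_dvd_of_pow_eq_one hαm)
  obtain ⟨F, hF, hαF, -⟩ := exists_saturated_of_coprime_aut hS _ hcop
  refine ⟨F, hF, fun ⟨r, ch, h0, hl, hsc, hstep⟩ => ?_⟩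
  let π₁ : S → ZMod p := fun x => c (Multiplicative.toAdd (d.symm (e x).1)).1
  let π₂ : S → ZMod p := fun x => c (Multiplicative.toAdd (d.symm (e x).1)).2
  let π : S →* Multiplicative (ZMod p × ZMod p) :=
    { toFun := fun x => Multiplicative.ofAdd (π₁ x, π₂ x)
      map_one' := by simp [π₁, π₂]
      map_mul' := fun x y => by simp [π₁, π₂, ← ofAdd_add] }
  have key : ∀ i : Fin (r + 1), ∀ x : S, (x : Ω) ∈ ch i → π x = 1 := by
    intro i
    induction i using Fin.induction with
    | zero =>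
      intro x hx
      rw [h0, Subgroup.mem_bot] at hx
      rw [show x = 1 from Subtype.ext hx, map_one]
    | succ i ih =>
      obtain ⟨hle, y, hyS, hy⟩ := hstep i
      have himg : ∀ x : S, (x : Ω) ∈ ch i.succ → π x ∈ Subgroup.zpowers (π ⟨y, hyS⟩) := by
        intro x hx
        rw [hy] at hx
        have h1 : (ch i.castSucc ⊔ Subgroup.zpowers y).subgroupOf S ≤
            (Subgroup.zpowers (π ⟨y, hyS⟩)).comap π := by
          rw [Subgroup.subgroupOf_sup (hsc _).1 (Subgroup.zpowers_le.2 hyS)]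
          refine sup_le (fun z hz => ?_) fun z hz => ?_
          · rw [Subgroup.mem_comap, ih z hz]
            exact one_mem _
          · obtain ⟨k, hk⟩ := hz
            obtain rfl : (⟨y, hyS⟩ : S) ^ k = z := Subtype.ext (by simpa using hk)
            exact ⟨k, by simp⟩
        exact h1 hx
      have hyi : y ∈ ch i.succ := hy ▸ Subgroup.mem_sup_right (Subgroup.mem_zpowers y)
      obtain ⟨k, hk⟩ := himg (α ⟨y, hyS⟩)
        (autGroup_apply_mem (hsc _) (hαF (Subgroup.mem_zpowers α)) hyi)
      have hk' : (π₁ (α ⟨y, hyS⟩), π₂ (α ⟨y, hyS⟩)) =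
          k • (π₁ ⟨y, hyS⟩, π₂ ⟨y, hyS⟩) := (congrArg Multiplicative.toAdd hk).symm
      have hαy : Multiplicative.toAdd (d.symm (e (α ⟨y, hyS⟩)).1) =
          g (Multiplicative.toAdd (d.symm (e ⟨y, hyS⟩).1)) := by
        have h1 := hα 1 ⟨y, hyS⟩
        rw [pow_one, hG, Function.iterate_one] at h1
        rw [h1, e.apply_symm_apply, d.symm_apply_apply]
        rfl
      have hz := hg (Multiplicative.toAdd (d.symm (e ⟨y, hyS⟩).1)) (k : ZMod p)
        (by rw [← hαy]; simpa [zsmul_eq_mul] using congrArg Prod.fst hk')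
        (by rw [← hαy]; simpa [zsmul_eq_mul] using congrArg Prod.snd hk')
      have hπy : π ⟨y, hyS⟩ = 1 := by
        change Multiplicative.ofAdd (π₁ _, π₂ _) = 1
        rw [show π₁ ⟨y, hyS⟩ = 0 from hz.1, show π₂ ⟨y, hyS⟩ = 0 from hz.2]
        rfl
      intro x hx
      have := himg x hx
      rwa [hπy, Subgroup.zpowers_one_eq_bot, Subgroup.mem_bot] at this
  have := key (Fin.last r) (e.symm ((Multiplicative.ofAdd 1, 1), 1)) (hl.ge (e.symm _).2)
  have h1 := congrArg (fun z => (Multiplicative.toAdd z).1) this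
  simp [π, π₁, c, d] at h1
  rw [ZMod.cast_one (dvd_pow_self p hn.ne')] at h1
  exact one_ne_zero h1

/-- The criterion for abelian groups. -/
theorem abelian_supersoluble_iff (hS : IsPGroup p S) (hab : IsMulCommutative S) :
    (∀ F : FusionSystem S, F.IsSaturated p → HasCyclicChain F) ↔
      ¬ ∃ (n : ℕ) (H : Type) (_ : CommGroup H), 0 < n ∧
        Nonempty (S ≃* (Multiplicative (ZMod (p ^ n)) × Multiplicative (ZMod (p ^ n))) × H) := by
  classical
  constructor
  · rintro h ⟨n, H, _, hn, ⟨e⟩⟩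
    obtain ⟨F, hF, hno⟩ := exists_not_cyclicChain hn hS e
    exact hno (h F hF)
  intro hno F hF
  let _ : CommGroup S := { (inferInstance : Group S) with mul_comm := hab.is_comm.comm }
  obtain ⟨ι, hι, q, hq, ⟨e⟩⟩ := CommGroup.equiv_prod_multiplicative_zmod_of_finite S
  have hqp : ∀ i, ∃ k, q i = p ^ k := by
    intro i
    obtain ⟨N, hN⟩ := hS.exists_card_eq
    have h1 : q i ∣ p ^ N := by
      rw [← hN, Nat.card_congr e.toEquiv, Nat.card_pi]
      refine Dvd.dvd.trans ?_ (Finset.dvd_prod_of_mem _ (Finset.mem_univ i))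
      rw [Nat.card_congr Multiplicative.toAdd, Nat.card_zmod]
    obtain ⟨k, -, hk⟩ := (Nat.dvd_prime_pow Fact.out).1 h1
    exact ⟨k, hk⟩
  choose a ha using hqp
  obtain rfl : q = fun i => p ^ a i := funext ha
  by_cases hinj : Function.Injective a
  · exact cyclicChain_of_distinct hS hab a hinj e F hF
  exfalso
  obtain ⟨i, i', hii, hne⟩ : ∃ i i', a i = a i' ∧ i ≠ i' := by
    simpa [Function.Injective] using hinj
  refine hno ⟨a i, (l : {l // l ≠ i ∧ l ≠ i'}) → Multiplicative (ZMod (p ^ a l)), inferInstance,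
    Nat.pos_of_ne_zero fun h => ?_, ⟨e.trans ?_⟩⟩
  · have := hq i
    simp [h] at this
  let c : Multiplicative (ZMod (p ^ a i')) ≃* Multiplicative (ZMod (p ^ a i)) :=
    AddEquiv.toMultiplicative (ZMod.ringEquivCongr (by rw [hii])).toAddEquiv
  refine MulEquiv.ofBijective
    ({ toFun := fun x => ((x i, c (x i')), fun l => x l)
       map_one' := by simp; rfl
       map_mul' := fun x y => by simp; rfl } :
      ((l : ι) → Multiplicative (ZMod (p ^ a l))) →*
        (Multiplicative (ZMod (p ^ a i)) × Multiplicative (ZMod (p ^ a i))) ×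
          ((l : {l // l ≠ i ∧ l ≠ i'}) → Multiplicative (ZMod (p ^ a l)))) ⟨fun x y h => ?_, ?_⟩
  · simp only [MonoidHom.coe_mk, OneHom.coe_mk, Prod.mk.injEq] at h
    funext l
    by_cases h1 : l = i
    · subst h1; exact h.1.1
    by_cases h2 : l = i'
    · subst h2; exact c.injective h.1.2
    exact congrFun h.2 ⟨l, h1, h2⟩
  · rintro ⟨⟨u, v⟩, w⟩
    refine ⟨Function.update (Function.update
      (fun l => if h : l ≠ i ∧ l ≠ i' then w ⟨l, h⟩ else 1) i u) i' (c.symm v), ?_⟩
    simp only [MonoidHom.coe_mk, OneHom.coe_mk, Prod.mk.injEq]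
    refine ⟨⟨?_, ?_⟩, funext fun l => ?_⟩
    · rw [Function.update_of_ne hne, Function.update_self]
    · rw [Function.update_self, c.apply_symm_apply]
    · rw [Function.update_of_ne l.2.2, Function.update_of_ne l.2.1, dif_pos l.2]

end CfsgLib.Fusion
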