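import Cfsg.Agent.Lib.Fusion.ResidualGreatest
import Cfsg.Agent.Lib.Fusion.KernelSystemNormal
import Cfsg.Agent.Lib.Fusion.HyperFactor

/-!
# Descent along a `p`-solvable quotient of automizers
-/

set_option autoImplicit false

open Cfsg Cfsg.FusionSystem

namespace CfsgLib.Fusion

variable {Ω : Type*} [Group Ω] {p : ℕ}

/-- The residual limit contains every stable weakly normal subsystem. -/
theorem stable_le_residualLimit {V R : Subgroup Ω} {L : FusionSystem V} {K : FusionSystem R}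
    (hlim : L.IsResidualLimitOf K p) :
    p.Prime → IsPGroup p R → Finite R → ∀ {U : Subgroup Ω} (G : FusionSystem U),
      G.IsWeaklyNormalIn K p → G.hyperfocalSubgroup p = U → G.IsPPrimeResidual p G →
      ∀ P, G.Hom P ⊆ L.Hom P := by
  induction hlim with
  | stable F q _ _ => intro _ _ _ U G hG _ _ P; exact hG.2.2.1 P
  | step F q D D' hD hD' _ ih =>
    intro hq hS hfin U G hG hGh hGr
    have := Fact.mk hq
    have hle := hyperfocalSubgroup_le (F := F) q
    have hfin' := finite_of_le hle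
    have hp' := hS.to_le hle
    obtain ⟨hUH, hGD⟩ := le_of_pPowerIndex_of_stable hS hG.2.2 hG.1 hGh hD.2
    have hGiD := isInvariantIn_of_le hG.2.2 hS hD.1 hD.2.1 hUH hGD
    have hGD' := le_of_isPPrimeResidual_of_invariant hp' hGiD hG.1 hGr hD'.1 hD'.2.1
    exact ih hq hp' hfin' G ⟨hG.1, hD'.1, isInvariantIn_of_le hGiD hp' hD'.1 hD'.2.1.1 hUH hGD'⟩
      hGh hGr

variable [Fact p.Prime] {S T : Subgroup Ω} [Finite S] {F : FusionSystem S} {E : FusionSystem T}

/-- A saturated system is invariant in itself. -/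
theorem isInvariantIn_self (hS : IsPGroup p S) (hF : F.IsSaturated p) : F.IsInvariantIn F := by
  refine (isInvariantIn_iff hS hF (fun _ _ h => h)
    ⟨le_rfl, fun _ _ φ hφ x => apply_mem_S F hφ x⟩).2 fun P Q hPQ hQ φ hφ hφQ ψ hψ => ?_
  obtain ⟨e, he, hee⟩ := exists_iso_of_range (res_mem F hψ hPQ) (range_comp_inclusion ψ hPQ)
  refine ⟨(ψ.comp (φ.codRestrict Q hφQ)).comp e.symm.toMonoidHom, ?_, fun x hx => ?_⟩
  · exact F.comp_mem he.symm (F.comp_mem hφ hψ hφQ) fun y => (e.symm y).2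
  · refine congrArg ψ (Subtype.ext (congrArg φ ?_))
    exact (MulEquiv.symm_apply_eq e).2 (Subtype.ext (hee x).symm)

/-- The properties kept during the descent. -/
structure DescentSys (F : FusionSystem S) (E : FusionSystem T) (p : ℕ) {R : Subgroup Ω}
    (K : FusionSystem R) : Prop where
  hle : T ⊔ centralizerIn S T ≤ R
  hwn : K.IsWeaklyNormalIn F p
  hEK : E.IsSubsystemOf K
  hlim : ∀ {U : Subgroup Ω} (L : FusionSystem U), L.IsWeaklyNormalIn F p →
    L.hyperfocalSubgroup p = U → L.IsPPrimeResidual p L → L.IsSubsystemOf K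

theorem relIndex_inf_dvd_of_le {G : Type*} [Group G] {A B M : Subgroup G} [A.Normal]
    (hMB : M ≤ B) : A.relIndex M ∣ A.relIndex B := by
  rw [← Subgroup.relIndex_subgroupOf hMB]
  exact Subgroup.relIndex_dvd_index_of_normal _ _

/-- The step of `p`-power index. -/
theorem DescentSys.exists_step_pPower (hS : IsPGroup p S) (hE : E.IsWeaklyNormalIn F p)
    {R : Subgroup Ω} {K : FusionSystem R} (h : DescentSys F E p K) {A : Subgroup (MulAut T)}
    (hEA : E.autGroup T ≤ A) (hA : ∀ a ∈ A, ∀ b ∈ F.autGroup T, b * a * b⁻¹ ∈ A)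
    (hco : ∀ a ∈ K.autGroup T, (orderOf a).Coprime p → a ∈ A) :
    ∃ (R' : Subgroup Ω) (K' : FusionSystem R'), DescentSys F E p K' ∧ K'.autGroup T ≤ A := by
  obtain ⟨hle, hwn, hEK, hlim⟩ := h
  have hT := hE.2.2.2.1
  have hTS := hT.1
  have hKi := hwn.2.2
  have hRS := hKi.2.1.1
  have := finite_of_le hRS
  have := finite_of_le hTS
  have hRp := hS.to_le hRS
  have hTR : T ≤ R := le_sup_left.trans hle
  have hTK : K.StronglyClosed T :=
    ⟨hTR, fun Q hQ φ hφ x => hT.2 Q hQ φ (hKi.1 Q hφ) x⟩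
  have hnR : ∀ {s : Ω}, s ∈ R → s ∈ normalizerIn S T := fun {s} hs =>
    ⟨hRS hs, mem_normalizer_of_stronglyClosed hT (hRS hs)⟩
  set R' := R ⊓ (A.comap (normAutHom S T)).map (normalizerIn S T).subtype with hR'
  have hmem : ∀ {s : Ω} (hs : s ∈ R), s ∈ R' ↔
      normAut s (mem_normalizer_of_stronglyClosed hT (hRS hs)) ∈ A := by
    intro s hs
    constructor
    · rintro ⟨-, ⟨⟨t, ht⟩, htA, rfl⟩⟩
      exact htA
    · exact fun h => ⟨hs, ⟨s, hnR hs⟩, h, rfl⟩
  have hR'R : R' ≤ R := inf_le_left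
  have hR'S := hR'R.trans hRS
  have hTC : T ⊔ centralizerIn S T ≤ R' := by
    refine sup_le (fun t ht => (hmem (hTR ht)).2 (hEA ?_))
      fun c hc => (hmem (hle (Subgroup.mem_sup_right hc))).2 ?_
    · exact autInducedBy_le_autGroup le_rfl (mem_autInducedBy_iff.2 ⟨t, ht, fun _ => rfl⟩)
    · rw [show normAut c (mem_normalizer_of_stronglyClosed hT (hRS (hle (Subgroup.mem_sup_right hc))))
          = 1 from MulEquiv.ext fun x => Subtype.ext (by
        change c * x * c⁻¹ = x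
        rw [← hc.2 x x.2, mul_inv_cancel_right])]
      exact A.one_mem
  have hTR' : T ≤ R' := le_sup_left.trans hTC
  have hhyp : K.hyperfocalSubgroup p ≤ R' := by
    intro x hx
    have hxR := hyperfocalSubgroup_le (F := K) p hx
    refine (hmem hxR).2 ?_
    obtain ⟨α, hα, hαe⟩ := hyperfocal_conj_strongly_closed hRp hwn.1 hTK hx
    rw [show normAut x (mem_normalizer_of_stronglyClosed hT (hRS hxR)) = α from
      MulEquiv.ext fun t => Subtype.ext (hαe t).symm]
    refine (sup_le ?_ ?_ : _ ≤ A) hα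
    · rw [Subgroup.map_le_iff_le_comap, pResidual, Subgroup.closure_le]
      intro b hb
      exact hco b b.2 (by rw [Subgroup.orderOf_coe]; exact hb)
    · rw [inn_eq]
      exact (autInducedBy_le_autGroup le_rfl).trans hEA
  obtain ⟨K', hK's, hK'⟩ := exists_saturated_pPowerIndex hRp hwn.1 hR'R hhyp
  have hstab : ∀ {α : MulAut R}, α ∈ F.autGroup R → ∀ {x : R}, (x : Ω) ∈ R' →
      ((α x : R) : Ω) ∈ R' := by
    intro α hα x hx
    refine (hmem (α x).2).2 ?_
    have hαT := res_mem F ((mem_autGroup_iff F hRS).1 hα) hTR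
    obtain ⟨a, ha, hae⟩ := exists_iso_of_range hαT
      ((weaklyClosed_of_stronglyClosed hT).2 _ hαT)
    have h1 := hA _ ((hmem x.2).1 hx) a ((mem_autGroup_iff F hTS).2 ha)
    convert h1 using 1
    refine MulEquiv.ext fun t => Subtype.ext ?_
    obtain ⟨u, rfl⟩ := a.surjective t
    rw [MulAut.mul_apply, MulAut.mul_apply, MulAut.inv_apply_self, hae, normAut_apply, hae]
    change ((α x : R) : Ω) * ((α (Subgroup.inclusion hTR u) : R) : Ω) * ((α x : R) : Ω)⁻¹ =
      ((α (Subgroup.inclusion hTR (normAut (x : Ω) _ u)) : R) : Ω)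
    rw [show Subgroup.inclusion hTR (normAut (x : Ω)
        (mem_normalizer_of_stronglyClosed hT (hRS x.2)) u) = x * Subgroup.inclusion hTR u * x⁻¹ from
      Subtype.ext (by simp)]
    simp
  have hn : R ≤ Subgroup.normalizer (R' : Set Ω) := fun r hr => by
    have := finite_of_le hR'S
    refine mem_normalizer_of_forall fun y hy => ?_
    have hrn : r ∈ Subgroup.normalizer (R : Set Ω) := Subgroup.le_normalizer hr
    exact hstab (α := normAut r hrn) (autInducedBy_le_autGroup hRS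
      (mem_autInducedBy_iff.2 ⟨r, hRS hr, fun _ => rfl⟩)) (x := ⟨y, hR'R hy⟩) hy
  refine ⟨R', K', ⟨hTC, isWeaklyNormalIn_of_pPowerIndex hS hwn hR'R hn ⟨hK's, hK'⟩ hstab,
    le_of_hasPPowerIndex_of_le hRp hEK hE.1 hK' hTR', fun L hL hLh hLr => ?_⟩, ?_⟩
  · have hUR : L.IsSubsystemOf K := hlim L hL hLh hLr
    exact (le_of_pPowerIndex_of_stable hRp
      (isInvariantIn_of_le hL.2.2 hS hwn.1 hKi.1 (le_S_of_isSubsystemOf hUR) hUR) hL.1 hLh hK').2
  · have := finite_of_le hR'S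
    have hTn : K'.IsFullyNormalized T := by
      refine ⟨hTR', fun Q hQ => ?_⟩
      obtain ⟨φ, hφ, rfl⟩ := hQ
      rw [(weaklyClosed_of_stronglyClosed hTK).2 φ (hK'.1 T hφ)]
    refine autGroup_le_of_coprime_of_induced (hS.to_le hR'S) hK's hTn
      (fun b hb hbco => hco b (autGroup_mono hK'.1 T hb) hbco) ?_
    intro b hb
    obtain ⟨g, hg, hge⟩ := mem_autInducedBy_iff.1 hb
    rw [show b = normAut g (mem_normalizer_of_stronglyClosed hT (hR'S hg)) from
      MulEquiv.ext fun x => Subtype.ext (hge x)]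
    exact (hmem (hR'R hg)).1 hg

/-- The step of index prime to `p`. -/
theorem DescentSys.exists_step_coprime (hS : IsPGroup p S) (hE : E.IsWeaklyNormalIn F p)
    {R : Subgroup Ω} {K : FusionSystem R} (h : DescentSys F E p K) {A : Subgroup (MulAut T)}
    (hEA : E.autGroup T ≤ A) (hA : ∀ a ∈ A, ∀ b ∈ F.autGroup T, b * a * b⁻¹ ∈ A)
    (hidx : (A.relIndex (K.autGroup T)).Coprime p) :
    ∃ (R' : Subgroup Ω) (K' : FusionSystem R'), DescentSys F E p K' ∧ K'.autGroup T ≤ A := by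
  obtain ⟨hle, hwn, hEK, hlim⟩ := h
  have hT := hE.2.2.2.1
  have hTS := hT.1
  have hKi := hwn.2.2
  have hRS := hKi.2.1.1
  have := finite_of_le hRS
  have := finite_of_le hTS
  have hRp := hS.to_le hRS
  have hTR : T ≤ R := le_sup_left.trans hle
  have hTK : K.StronglyClosed T :=
    ⟨hTR, fun Q hQ φ hφ x => hT.2 Q hQ φ (hKi.1 Q hφ) x⟩
  set N := A.subgroupOf (K.autGroup T) with hN
  have : N.Normal := ⟨fun a ha b =>
    hA _ ha _ (autGroup_mono hKi.1 T b.2)⟩
  set χ := QuotientGroup.mk' N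
  have hχ : ∀ {a : K.autGroup T}, χ a = 1 ↔ (a : MulAut T) ∈ A := fun {a} =>
    (QuotientGroup.eq_one_iff a).trans Subgroup.mem_subgroupOf
  have hd : KernelData K E p χ := by
    refine ⟨hRp, hwn.1, ⟨hE.1, hwn.1, isInvariantIn_of_le hE.2.2 hS hwn.1 hKi.1 hTR hEK⟩, hidx,
      QuotientGroup.mk'_surjective N, ?_⟩
    rw [QuotientGroup.ker_mk']
    exact Subgroup.comap_mono hEA
  have hEi := hd.hE.2.2
  have htr : TransportClosed (kernelSys K E χ) F := by
    intro P hPR φ hφ α hα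
    have hαF := (mem_autGroup_iff F hRS).1 hα
    have key : φ ∈ (pullSys (kernelSys K E χ) (autIncl α) (autIncl_injective α)
        (autIncl_range α)).Hom P := by
      refine hφ.2 _ fun Q ψ hQ hψ hdeg => ?_
      have hQR := hQ.1
      have hψR := apply_mem_S K hψ
      set Q' := imageAlong (autIncl α) Q with hQ'
      have hQ'R : Q' ≤ R := (Subgroup.map_le_range _ _).trans (autIncl_range α).le
      obtain ⟨θ, hθ, hθe⟩ := hKi.2.2.1 Q hQR ψ hψ α hα
      have hθe' : ∀ x : Q, θ ⟨autIncl α ⟨x, hQR x.2⟩, apply_mem_imageAlong x.2⟩ =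
          ((α ⟨ψ x, hψR x⟩ : R) : Ω) := fun x => hθe x (hψR x) _
      refine ⟨hQR, hψR, θ, ?_, hθe'⟩
      -- the restriction of `α` to `T`
      obtain ⟨g, hg, hge⟩ := exists_iso_of_range (res_mem F hαF hTR)
        ((weaklyClosed_of_stronglyClosed hT).2 _ (res_mem F hαF hTR))
      have hgA : (g : MulAut T) ∈ F.autGroup T := (mem_autGroup_iff F hTS).2 hg
      have hgT : ∀ {x : Ω} (hxR : x ∈ R) (hxT : x ∈ T),
          ((α ⟨x, hxR⟩ : R) : Ω) = ((g ⟨x, hxT⟩ : T) : Ω) := fun hxR hxT => (hge ⟨_, hxT⟩).symm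
      -- the image is in the family
      have hQT : Q ⊓ T ≤ T := inf_le_right
      have hfam : Q' ∈ relFamily K T := by
        refine ⟨hQ'R, inf_le_right, fun X hX c hc => ?_⟩
        have hEc : E.IsCentric (Q ⊓ T) := ⟨inf_le_right, fun Y hY =>
          hQ.2.2 Y (isConj_of_isSubsystemOf hEK hY)⟩
        have hconj : F.IsConj (Q ⊓ T) (Q' ⊓ T) := by
          refine ⟨_, res_mem F hαF ((inf_le_left : Q ⊓ T ≤ Q).trans hQR), ?_⟩
          ext y
          constructor
          · rintro ⟨x, rfl⟩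
            refine ⟨⟨⟨x, hQR x.2.1⟩, x.2.1, rfl⟩, ?_⟩
            change ((α ⟨(x : Ω), hQR x.2.1⟩ : R) : Ω) ∈ T
            rw [hgT _ x.2.2]
            exact (g _).2
          · rintro ⟨⟨z, hz, rfl⟩, hyT⟩
            obtain ⟨w, hw⟩ := g.surjective ⟨_, hyT⟩
            have h1 : z = ⟨(w : Ω), hTR w.2⟩ := α.injective (Subtype.ext (by
              rw [hgT _ w.2]
              exact (congrArg Subtype.val hw).symm))
            exact ⟨⟨z, hz, h1 ▸ w.2⟩, rfl⟩
        exact ((isCentricRelTo_of_isCentric hE.2.2 hEc).of_isConj hT hconj).2 X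
          (isConj_of_isSubsystemOf hKi.1 hX) hc
      refine (hd.mem_kernelSys_iff hfam).2 ⟨hθ, ?_⟩
      -- the degree
      obtain ⟨a, ψ₀, hψ₀, hψe, ha⟩ := hdeg
      have ha' : g * (a : MulAut T) * g⁻¹ ∈ K.autGroup T :=
        congr_mem_autGroup_of_conjClosed (conjClosed_of_isInvariantIn hKi) hTR hKi.1 a.2 hgA
      obtain ⟨θ₀, hθ₀, hθ₀e⟩ := hE.2.2.2.2.1 (Q ⊓ T) hQT ψ₀ hψ₀ g hgA
      have hle' : Q' ⊓ T ≤ ((Q ⊓ T).subgroupOf T).map (T.subtype.comp g.toMonoidHom) := by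
        rintro y ⟨⟨z, hz, rfl⟩, hyT⟩
        obtain ⟨w, hw⟩ := g.surjective ⟨_, hyT⟩
        have h1 : z = ⟨(w : Ω), hTR w.2⟩ := α.injective (Subtype.ext (by
          rw [hgT _ w.2]
          exact (congrArg Subtype.val hw).symm))
        exact ⟨w, ⟨by rw [h1] at hz; exact hz, w.2⟩, congrArg Subtype.val hw⟩
      refine ⟨⟨_, ha'⟩, θ₀.comp (Subgroup.inclusion hle'), res_mem E hθ₀ hle', fun y hy => ?_,
        hχ.2 (hA _ (hχ.1 ha) g hgA)⟩
      obtain ⟨z, hz, hzy⟩ := y.2.1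
      obtain ⟨w, hw⟩ := g.surjective ⟨y, y.2.2⟩
      have hwy : ((g w : T) : Ω) = y := congrArg Subtype.val hw
      have h1 : z = ⟨(w : Ω), hTR w.2⟩ := α.injective (Subtype.ext (by
        rw [hgT _ w.2, hwy]; exact hzy))
      have hwQ : (w : Ω) ∈ Q := by rw [h1] at hz; exact hz
      let x : ↥(Q ⊓ T) := ⟨w, hwQ, w.2⟩
      have h2 : θ (Subgroup.inclusion inf_le_left y) = ((α ⟨ψ ⟨w, hwQ⟩, hψR _⟩ : R) : Ω) := by
        refine Eq.trans (congrArg θ (Subtype.ext ?_)) (hθe' ⟨w, hwQ⟩)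
        change (y : Ω) = ((α ⟨(w : Ω), hQR hwQ⟩ : R) : Ω)
        rw [hgT _ w.2, hwy]
      have hψ₀T := apply_mem_S E hψ₀ x
      have hψx : ψ ⟨w, hwQ⟩ = (((a : MulAut T) ⟨ψ₀ x, hψ₀T⟩ : T) : Ω) := hψe x hψ₀T
      have hψT : ψ ⟨w, hwQ⟩ ∈ T := hψx ▸ ((a : MulAut T) _).2
      refine h2.trans ((hgT _ hψT).trans ?_)
      rw [show (⟨ψ ⟨w, hwQ⟩, hψT⟩ : T) = (a : MulAut T) ⟨ψ₀ x, hψ₀T⟩ from Subtype.ext hψx]
      change _ = (((g * (a : MulAut T) * g⁻¹) ⟨_, hy⟩ : T) : Ω)
      rw [MulAut.mul_apply, MulAut.mul_apply]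
      refine congrArg (fun t : T => ((g ((a : MulAut T) t) : T) : Ω)) ?_
      rw [← MulAut.inv_apply_self T g ⟨ψ₀ x, hψ₀T⟩]
      refine congrArg (g⁻¹ : MulAut T) (Subtype.ext ?_)
      refine ((hθ₀e x hψ₀T ⟨_, x.2, rfl⟩).symm.trans ?_)
      exact congrArg θ₀ (Subtype.ext hwy)
    obtain ⟨hP', hφR, ψ, hψ, hψe⟩ := key
    exact ⟨ψ, hψ, fun x hφx hαx => hψe x⟩
  refine ⟨R, kernelSys K E χ, ⟨hle, isWeaklyNormalIn_trans_of_transport hwn hd.isSaturated_kernelSys
    hd.isInvariantIn_kernelSys htr fun {α} _ {x} _ => (α x).2, hd.isSubsystemOf_kernelSys,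
    fun L hL hLh hLr => ?_⟩, fun a ha => ?_⟩
  · have hUK : L.IsSubsystemOf K := hlim L hL hLh hLr
    refine le_of_isPPrimeResidual_of_invariant hRp
      (isInvariantIn_of_le hL.2.2 hS hwn.1 hKi.1 (le_S_of_isSubsystemOf hUK) hUK) hL.1 hLr
      hd.isSaturated_kernelSys ⟨kernelSys_le, fun P hP => ?_⟩
    rw [Subgroup.map_le_iff_le_comap, Subgroup.closure_le]
    rintro β ⟨k, hk⟩
    exact mem_autGroup_of_pElement_conjClosed hd.hS hd.hF kernelSys_le
      (conjClosed_of_isInvariantIn hd.isInvariantIn_kernelSys) hP β.2 (k := k)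
      (by rw [← hk, ← map_pow, pow_orderOf_eq_one, map_one])
  · have hK' := (mem_autGroup_iff (kernelSys K E χ) hTR).1 ha
    have hTfam : T ∈ relFamily K T := by
      refine ⟨hTR, inf_le_right, fun X hX c hc => ?_⟩
      obtain ⟨φ, hφ, rfl⟩ := hX
      have hφT : ∀ x, φ x ∈ T := fun x => hTK.2 _ inf_le_right φ hφ x
      have heq : φ.range = T := by
        refine Subgroup.eq_of_le_of_card_ge ?_ ?_
        · rintro _ ⟨x, rfl⟩; exact hφT x
        · rw [← Nat.card_congr (MonoidHom.ofInjective (K.injective_of_mem hφ)).toEquiv,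
            inf_idem]
      exact heq.ge hc.1
    have haK : a ∈ K.autGroup T := autGroup_mono kernelSys_le T ha
    have h1 : HasDeg E χ (T.subtype.comp a.toMonoidHom) (χ ⟨a, haK⟩) :=
      ⟨⟨a, haK⟩, (T ⊓ T).subtype, id_mem E inf_le_left, fun x hx => rfl, rfl⟩
    exact (hχ (a := ⟨a, haK⟩)).1 (hd.unique hTfam h1 ((hd.mem_kernelSys_iff hTfam).1 hK').2)

/-- The descent. -/
theorem exists_descentSys (hS : IsPGroup p S) (hF : F.IsSaturated p) (hE : E.IsWeaklyNormalIn F p)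
    [hn : ((E.autGroup T).subgroupOf (F.autGroup T)).Normal]
    (hsolv : IsPSolvable p (↥(F.autGroup T) ⧸ (E.autGroup T).subgroupOf (F.autGroup T))) :
    ∃ (R : Subgroup Ω) (K : FusionSystem R), DescentSys F E p K ∧ K.autGroup T ≤ E.autGroup T := by
  obtain ⟨n, H, h0, hl, hmono, hnorm, hstep⟩ := hsolv
  have hTS := hE.2.2.2.1.1
  have := finite_of_le hTS
  set π := QuotientGroup.mk' ((E.autGroup T).subgroupOf (F.autGroup T))
  let A : Fin (n + 1) → Subgroup (MulAut T) := fun i => ((H i).comap π).map (F.autGroup T).subtype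
  have hEF := autGroup_mono hE.2.2.1 T
  have hAE : ∀ i, E.autGroup T ≤ A i := fun i a ha => by
    refine ⟨⟨a, hEF ha⟩, ?_, rfl⟩
    rw [SetLike.mem_coe, Subgroup.mem_comap, show π ⟨a, hEF ha⟩ = 1 from
      (QuotientGroup.eq_one_iff _).2 ha]
    exact one_mem _
  have hA0 : A 0 ≤ E.autGroup T := by
    rintro _ ⟨a, ha, rfl⟩
    rw [SetLike.mem_coe, Subgroup.mem_comap, h0, Subgroup.mem_bot] at ha
    exact (QuotientGroup.eq_one_iff a).1 ha
  have hAn : ∀ i, ∀ a ∈ A i, ∀ b ∈ F.autGroup T, b * a * b⁻¹ ∈ A i := by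
    rintro i _ ⟨a, ha, rfl⟩ b hb
    exact ⟨⟨b, hb⟩ * a * ⟨b, hb⟩⁻¹, ((hnorm i).comap π).conj_mem a ha ⟨b, hb⟩, rfl⟩
  suffices key : ∀ i : Fin (n + 1), ∃ (R : Subgroup Ω) (K : FusionSystem R),
      DescentSys F E p K ∧ K.autGroup T ≤ A i by
    obtain ⟨R, K, hK, hKA⟩ := key 0
    exact ⟨R, K, hK, hKA.trans hA0⟩
  intro i
  induction i using Fin.reverseInduction with
  | last =>
    refine ⟨S, F, ⟨sup_le hTS (centralizerIn_le T), ⟨hF, hF, isInvariantIn_self hS hF⟩, hE.2.2.1,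
      fun L hL _ _ => hL.2.2.1⟩, fun a ha => ⟨⟨a, ha⟩, ?_, rfl⟩⟩
    rw [SetLike.mem_coe, Subgroup.mem_comap, hl]
    exact Subgroup.mem_top _
  | cast i ih =>
    obtain ⟨R, K, hK, hKA⟩ := ih
    have hMF : K.autGroup T ≤ F.autGroup T := autGroup_mono hK.hwn.2.2.1 T
    have hdvd : (A i.castSucc).relIndex (K.autGroup T) ∣
        (H i.castSucc).relIndex (H i.succ) := by
      have hn1 := hnorm i.castSucc
      have hn2 : ((H i.castSucc).comap π).Normal := hn1.comap π
      have hMB : (K.autGroup T).subgroupOf (F.autGroup T) ≤ (H i.succ).comap π := fun a ha => by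
        obtain ⟨b, hb, hba⟩ := hKA ha
        exact Subtype.ext hba ▸ hb
      have h1 := relIndex_inf_dvd_of_le (A := (H i.castSucc).comap π) hMB
      have h2 : ((H i.castSucc).comap π).relIndex ((H i.succ).comap π) =
          (H i.castSucc).relIndex (H i.succ) := by
        rw [Subgroup.relIndex_comap, Subgroup.map_comap_eq_self_of_surjective
          (QuotientGroup.mk'_surjective _)]
      rw [h2, ← Subgroup.relIndex_map_map_of_injective _ _ (F.autGroup T).subtype_injective,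
        Subgroup.map_subgroupOf_eq_of_le hMF] at h1
      exact h1
    rcases hstep i with ⟨m, hm⟩ | hco
    · refine hK.exists_step_pPower hS hE (hAE _) (hAn _) fun a ha hco => ?_
      obtain ⟨k, -, hk⟩ := (Nat.dvd_prime_pow Fact.out).1 (hm ▸ hdvd)
      have hN : ((A i.castSucc).subgroupOf (K.autGroup T)).Normal :=
        ⟨fun x hx b => hAn _ _ hx _ (hMF b.2)⟩
      have h1 : (⟨a, ha⟩ : K.autGroup T) ^ p ^ k ∈ (A i.castSucc).subgroupOf (K.autGroup T) :=
        hk ▸ Subgroup.pow_index_mem _ _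
      obtain ⟨j, hj⟩ := exists_pow_eq_self_of_coprime (x := a) (n := p ^ k)
        (hco.symm.pow_left k)
      rw [← hj]
      exact (A _).pow_mem h1 j
    · exact hK.exists_step_coprime hS hE (hAE _) (hAn _) (hco.coprime_dvd_left hdvd)

/-- A weakly normal subsystem over a subgroup containing its centralizer is normal. -/
theorem isNormalIn_of_centralizerIn_le {X : Subgroup Ω} {K : FusionSystem X}
    (hwn : K.IsWeaklyNormalIn F p) (hCX : centralizerIn S X ≤ X) : K.IsNormalIn F p := by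
  have hRS := hwn.2.2.2.1.1
  refine ⟨hwn, fun α hα => ?_⟩
  have hM : X ⊔ centralizerIn S X = X := sup_eq_left.2 hCX
  have hαF := (mem_autGroup_iff F hRS).1 (autGroup_mono hwn.2.2.1 X hα)
  obtain ⟨ψ, hψ, hψe⟩ := mem_of_eq_sup hM.symm hαF
  obtain ⟨β, hβ, hβe⟩ := exists_iso_of_range (Q := X ⊔ centralizerIn S X) hψ (by
    refine le_antisymm ?_ fun y hy => ?_
    · rintro _ ⟨x, rfl⟩
      rw [hψe]
      exact hM.ge (α _).2
    · obtain ⟨x, hx⟩ := α.surjective ⟨y, hM.le hy⟩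
      exact ⟨⟨x, hM.ge x.2⟩, (hψe _).trans (congrArg Subtype.val hx)⟩)
  have hb : ∀ c : ↥(X ⊔ centralizerIn S X),
      (β c : Ω) = ((α ⟨c, hM.le c.2⟩ : X) : Ω) := fun c => (hβe c).trans (hψe c)
  refine ⟨β, (mem_autGroup_iff F (hM.le.trans hRS)).2 hβ, fun x => hb _, fun c hc => ⟨?_, ?_⟩⟩
  · rw [hb]
    exact X.mul_mem (X.inv_mem (hM.le c.2)) (α _).2
  · refine Subgroup.mul_mem _ (Subgroup.inv_mem _ hc.2) fun y hy => ?_
    obtain ⟨x, hx⟩ := α.surjective ⟨y, hy⟩
    have h1 : x * ⟨c, hM.le c.2⟩ = ⟨c, hM.le c.2⟩ * x := Subtype.ext (hc.2 x x.2)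
    have h2 := congrArg (fun t => ((α t : X) : Ω)) h1
    simp only [map_mul, Subgroup.coe_mul, hx] at h2
    rw [hb]
    exact h2

/-- A normal subsystem over `T C_S(T)` containing the residual limits. -/
theorem exists_normal_reduction (hS : IsPGroup p S) (hF : F.IsSaturated p)
    (hE : E.IsWeaklyNormalIn F p) [hn : ((E.autGroup T).subgroupOf (F.autGroup T)).Normal]
    (hsolv : IsPSolvable p (↥(F.autGroup T) ⧸ (E.autGroup T).subgroupOf (F.autGroup T))) :
    ∃ F₀ : FusionSystem (T ⊔ centralizerIn S T), F₀.IsNormalIn F p ∧ E.IsSubsystemOf F₀ ∧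
      F₀.autGroup T = E.autGroup T ∧
      ∀ {U : Subgroup Ω} (Finf : FusionSystem U), Finf.IsResidualLimitOf F p →
        Finf.IsSubsystemOf F₀ ∧ ∀ {V : Subgroup Ω} (L : FusionSystem V),
          L.IsResidualLimitOf F₀ p → ∀ P : Subgroup Ω, L.Hom P = Finf.Hom P := by
  obtain ⟨R, K, ⟨hle, hwn, hEK, hlim⟩, hKA⟩ := exists_descentSys hS hF hE hsolv
  have hT := hE.2.2.2.1
  have hTS := hT.1
  have := finite_of_le hTS
  have hRS := hwn.2.2.2.1.1
  have := finite_of_le hRS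
  have hTR : T ≤ R := le_sup_left.trans hle
  have haut : K.autGroup T = E.autGroup T := le_antisymm hKA (autGroup_mono hEK T)
  obtain rfl : R = T ⊔ centralizerIn S T := by
    refine le_antisymm (fun g hg => ?_) hle
    have hgn := mem_normalizer_of_stronglyClosed hT (hRS hg)
    have h1 : normAut g hgn ∈ E.autGroup T := hKA (autInducedBy_le_autGroup hTR
      (mem_autInducedBy_iff.2 ⟨g, hg, fun _ => rfl⟩))
    have hTn : E.IsFullyNormalized T := isFullyNormalized_self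
    obtain ⟨-, Y, hY⟩ := (fullyAutomized_receptive_of_fullyNormalized (hS.to_le hTS) hE.1 hTn).1
    have hZ : IsPGroup p ((autInducedBy R T).subgroupOf (E.autGroup T)) :=
      ((isPGroup_autInducedBy hS T).to_le (autInducedBy_mono hRS)).comap_subtype
    have hYle : (Y : Subgroup (E.autGroup T)) ≤ (autInducedBy R T).subgroupOf (E.autGroup T) := by
      rw [hY]; exact Subgroup.comap_mono (autInducedBy_mono hTR)
    have h2 : (⟨_, h1⟩ : E.autGroup T) ∈ (Y : Subgroup (E.autGroup T)) :=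
      (Y.3 hZ hYle).le (mem_autInducedBy_iff.2 ⟨g, hg, fun _ => rfl⟩)
    rw [hY, Subgroup.mem_subgroupOf, mem_autInducedBy_iff] at h2
    obtain ⟨t, ht, hte⟩ := h2
    have hc : t⁻¹ * g ∈ centralizerIn S T := by
      refine ⟨S.mul_mem (S.inv_mem (hTS ht)) (hRS hg), fun y hy => ?_⟩
      have h3 : g * y * g⁻¹ = t * y * t⁻¹ := hte ⟨y, hy⟩
      calc y * (t⁻¹ * g) = t⁻¹ * (t * y * t⁻¹) * g := by group
        _ = t⁻¹ * (g * y * g⁻¹) * g := by rw [h3]
        _ = t⁻¹ * g * y := by group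
    have h4 := Subgroup.mul_mem (T ⊔ centralizerIn S T) (Subgroup.mem_sup_left ht)
      (Subgroup.mem_sup_right hc)
    rwa [mul_inv_cancel_left] at h4
  have hnormal : K.IsNormalIn F p := isNormalIn_of_centralizerIn_le hwn fun c hc =>
    Subgroup.mem_sup_right ⟨hc.1, fun y hy => hc.2 y (Subgroup.mem_sup_left hy)⟩
  refine ⟨K, hnormal, hEK, haut, fun {U} Finf hlimF => ?_⟩
  have hp : p.Prime := Fact.out
  have hXp := hS.to_le hRS
  obtain ⟨hUh, hUr⟩ := isResidualLimit_stable hlimF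
  have hUF : Finf.IsWeaklyNormalIn F p := isWeaklyNormalIn_residualLimit hlimF hp F hS
    ⟨hF, hF, (isInvariantIn_self hS hF)⟩
  have hUK : Finf.IsSubsystemOf K := hlim Finf hUF hUh hUr
  refine ⟨hUK, fun {V} L hL P => Set.Subset.antisymm ?_ ?_⟩
  · obtain ⟨hVh, hVr⟩ := isResidualLimit_stable hL
    exact stable_le_residualLimit hlimF hp hS inferInstance L
      (isWeaklyNormalIn_residualLimit hL hp F hS hwn) hVh hVr P
  · exact stable_le_residualLimit hL hp hXp inferInstance Finf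
      ⟨hUF.1, hwn.1, isInvariantIn_of_le hUF.2.2 hS hwn.1 hwn.2.2.1
        (le_S_of_isSubsystemOf hUK) hUK⟩ hUh hUr P

end CfsgLib.Fusion
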