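import Cfsg.Agent.Lib.Fusion.RelativeDegree
import Cfsg.Agent.Lib.Fusion.Centric
import Cfsg.Agent.Lib.Fusion.FactorBasic

/-!
# Climbing for automorphisms fixing a relatively centric subgroup
-/

set_option autoImplicit false

open Cfsg Cfsg.FusionSystem

namespace CfsgLib.Fusion

variable {Ω : Type*} [Group Ω] {S T : Subgroup Ω} [Finite S] {F : FusionSystem S} {p : ℕ}
  [Fact p.Prime]

/-- An automorphism of `R C_S(T)` fixing a relatively centric `R ≤ T` pointwise has a `p`-power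
agreeing modulo `T` on `C_S(T)` with an automorphism of `T C_S(T)` fixing `T` pointwise. -/
theorem exists_fix_extension_mod (hS : IsPGroup p S) (hF : F.IsSaturated p)
    (hT : F.StronglyClosed T) {R : Subgroup Ω} (hR : IsCentricRelTo F T R)
    {χ : MulAut ↥(R ⊔ centralizerIn S T)} (hχ : χ ∈ F.autGroup (R ⊔ centralizerIn S T))
    (hfix : ∀ x : ↥(R ⊔ centralizerIn S T), (x : Ω) ∈ R → χ x = x) :
    ∃ (k : ℕ) (γ : MulAut ↥(T ⊔ centralizerIn S T)),
      γ ∈ F.autGroup (T ⊔ centralizerIn S T) ∧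
      (∀ x : ↥(T ⊔ centralizerIn S T), (x : Ω) ∈ T → γ x = x) ∧
      ∀ (c : Ω) (hc : c ∈ centralizerIn S T),
        (((χ ^ p ^ k) ⟨c, le_sup_right (a := R) hc⟩ : ↥(R ⊔ centralizerIn S T)) : Ω)⁻¹ *
          ((γ ⟨c, le_sup_right (a := T) hc⟩ : ↥(T ⊔ centralizerIn S T)) : Ω) ∈ T := by
  have hTS := hT.1
  have := finite_of_le hTS
  suffices H : ∀ (d : ℕ) (R : Subgroup Ω), IsCentricRelTo F T R → Nat.card T - Nat.card R ≤ d →
      ∀ χ : MulAut ↥(R ⊔ centralizerIn S T), χ ∈ F.autGroup (R ⊔ centralizerIn S T) →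
      (∀ x : ↥(R ⊔ centralizerIn S T), (x : Ω) ∈ R → χ x = x) →
      ∃ (k : ℕ) (γ : MulAut ↥(T ⊔ centralizerIn S T)), γ ∈ F.autGroup (T ⊔ centralizerIn S T) ∧
      (∀ x : ↥(T ⊔ centralizerIn S T), (x : Ω) ∈ T → γ x = x) ∧
      ∀ (c : Ω) (hc : c ∈ centralizerIn S T),
        (((χ ^ p ^ k) ⟨c, le_sup_right (a := R) hc⟩ : ↥(R ⊔ centralizerIn S T)) : Ω)⁻¹ *
          ((γ ⟨c, le_sup_right (a := T) hc⟩ : ↥(T ⊔ centralizerIn S T)) : Ω) ∈ T from
    H _ R hR le_rfl χ hχ hfix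
  clear hR hχ hfix χ R
  set C := centralizerIn S T with hCdef
  have hCS : C ≤ S := centralizerIn_le T
  intro d
  induction d using Nat.strong_induction_on with
  | _ d ih =>
  intro R hR hd χ hχ hfix
  rcases eq_or_lt_of_le hR.1 with rfl | hlt
  · exact ⟨0, χ, hχ, hfix, fun c hc => by simp⟩
  have hRS := hR.1.trans hTS
  have hMS : R ⊔ C ≤ S := sup_le hRS hCS
  set N := normalizerIn T R with hNdef
  have hNT : N ≤ T := normalizerIn_le R
  have hRN : R < N := lt_normalizerIn (hS.to_le hTS) hlt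
  have hN'S : N ⊔ C ≤ S := sup_le (hNT.trans hTS) hCS
  have hMN : R ⊔ C ≤ N ⊔ C := sup_le_sup_right hRN.le C
  have := finite_of_le hRS
  have := finite_of_le hMS
  have := finite_of_le hN'S
  have hCc : ∀ t ∈ T, ∀ c ∈ C, t * c = c * t := fun t ht c hc => hc.2 t ht
  have hRC : C ≤ Subgroup.normalizer (R : Set Ω) := fun c hc =>
    mem_normalizer_of_forall_commute fun r hr => hCc r (hR.1 hr) c hc
  obtain ⟨e₀, he₀⟩ := IsPGroup.iff_card.1 (hS : IsPGroup p S)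
  have hpow1 : ∀ {x : Ω}, x ∈ S → x ^ p ^ e₀ = 1 := fun {x} hx => by
    have := congrArg Subtype.val (pow_card_eq_one' (x := (⟨x, hx⟩ : S)))
    rwa [he₀] at this
  -- the automorphisms acting on `R` as `N` and trivially modulo `R`
  let K : Subgroup (MulAut ↥(R ⊔ C)) :=
    { carrier := {a | a ∈ F.autGroup (R ⊔ C) ∧
        (∃ n ∈ N, ∀ x : ↥(R ⊔ C), (x : Ω) ∈ R → (a x : Ω) = n * x * n⁻¹) ∧
        ∀ y : ↥(R ⊔ C), (y : Ω)⁻¹ * (a y : Ω) ∈ R}
      one_mem' := ⟨one_mem _, ⟨1, one_mem _, fun x _ => by simp⟩, fun y => by simp⟩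
      mul_mem' := by
        rintro a b ⟨ha, ⟨n, hn, hne⟩, ha2⟩ ⟨hb, ⟨m, hm, hme⟩, hb2⟩
        refine ⟨mul_mem ha hb, ⟨n * m, mul_mem hn hm, fun x hx => ?_⟩, fun y => ?_⟩
        · have h1 : (b x : Ω) ∈ R := by simpa using R.mul_mem hx (hb2 x)
          rw [MulAut.mul_apply, hne _ h1, hme x hx]
          group
        · have h1 := R.mul_mem (hb2 y) (ha2 (b y))
          simpa [mul_assoc] using h1
      inv_mem' := by
        rintro a ⟨ha, ⟨n, hn, hne⟩, ha2⟩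
        have h2 : ∀ y : ↥(R ⊔ C), (y : Ω)⁻¹ * ((a⁻¹ y : ↥(R ⊔ C)) : Ω) ∈ R := fun y => by
          have h1 := R.inv_mem (ha2 (a⁻¹ y))
          simpa using h1
        refine ⟨inv_mem ha, ⟨n⁻¹, inv_mem hn, fun x hx => ?_⟩, h2⟩
        have h3 : ((a⁻¹ x : ↥(R ⊔ C)) : Ω) ∈ R := by simpa using R.mul_mem hx (h2 x)
        have h4 := hne _ h3
        rw [MulAut.apply_inv_self] at h4
        rw [h4]
        group }
  have hKp : IsPGroup p K := by
    intro a
    obtain ⟨-, ⟨n, hn, hne⟩, ha2⟩ := a.2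
    have hiter : ∀ j : ℕ, ∀ x : ↥(R ⊔ C), (x : Ω) ∈ R →
        ((((a : MulAut _) ^ j) x : ↥(R ⊔ C)) : Ω) = n ^ j * x * (n ^ j)⁻¹ ∧
        ((((a : MulAut _) ^ j) x : ↥(R ⊔ C)) : Ω) ∈ R := by
      intro j
      induction j with
      | zero => intro x hx; simpa using hx
      | succ j ihj =>
        intro x hx
        obtain ⟨h1, h2⟩ := ihj x hx
        rw [pow_succ', MulAut.mul_apply]
        refine ⟨by rw [hne _ h2, h1, pow_succ']; group, ?_⟩
        simpa using R.mul_mem h2 (ha2 (((a : MulAut _) ^ j) x))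
    set b : MulAut ↥(R ⊔ C) := (a : MulAut _) ^ p ^ e₀
    have hb1 : ∀ x : ↥(R ⊔ C), (x : Ω) ∈ R → b x = x := fun x hx => Subtype.ext (by
      rw [(hiter _ x hx).1, hpow1 (hTS (hNT hn))]; simp)
    have hb2 : ∀ y : ↥(R ⊔ C), ((y⁻¹ * b y : ↥(R ⊔ C)) : Ω) ∈ R :=
      (K.pow_mem a.2 (p ^ e₀)).2.2
    have hiter2 : ∀ (j : ℕ) (y : ↥(R ⊔ C)), (b ^ j) y = y * (y⁻¹ * b y) ^ j := by
      intro j y
      induction j with
      | zero => simp
      | succ j ihj =>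
        rw [pow_succ', MulAut.mul_apply, ihj, map_mul, map_pow, hb1 _ (hb2 y), pow_succ',
          ← mul_assoc y, mul_inv_cancel_left]
    refine ⟨e₀ + e₀, Subtype.ext (MulEquiv.ext fun y => ?_)⟩
    change ((a : MulAut _) ^ p ^ (e₀ + e₀)) y = y
    rw [pow_add, pow_mul]
    refine (hiter2 _ y).trans ?_
    rw [show (y⁻¹ * b y) ^ p ^ e₀ = 1 from Subtype.ext (by
      rw [Subgroup.coe_pow]; exact hpow1 (hRS (hb2 y))), mul_one]
  have hnK : ∀ n (hn : n ∈ N), ∀ hnn : n ∈ Subgroup.normalizer ((R ⊔ C : Subgroup Ω) : Set Ω),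
      normAut n hnn ∈ K := by
    intro n hn hnn
    refine ⟨autInducedBy_le_autGroup hMS
      (mem_autInducedBy_iff.2 ⟨n, hTS (hNT hn), fun _ => rfl⟩), ⟨n, hn, fun x _ => rfl⟩,
      fun y => ?_⟩
    obtain ⟨c, hc, r, hr, hcr⟩ : ∃ c ∈ C, ∃ r ∈ R, c * r = (y : Ω) := by
      have h1 : (y : Ω) ∈ ((C ⊔ R : Subgroup Ω) : Set Ω) := by
        rw [SetLike.mem_coe, sup_comm]; exact y.2
      rw [Subgroup.coe_mul_of_left_le_normalizer_right _ _ hRC] at h1
      exact Set.mem_mul.1 h1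
    rw [normAut_apply, ← hcr, show (c * r)⁻¹ * (n * (c * r) * n⁻¹) =
      r⁻¹ * (c⁻¹ * (n * c)) * r * n⁻¹ by group, hCc n (hNT hn) c hc, inv_mul_cancel_left,
      show r⁻¹ * n * r * n⁻¹ = r⁻¹ * (n * r * n⁻¹) by group]
    exact R.mul_mem (R.inv_mem hr) (conj_mem_of_mem_normalizer hn.2 hr)
  have hχR : ∀ x : ↥(R ⊔ C), (x : Ω) ∈ R → ((χ⁻¹ x : ↥(R ⊔ C)) : Ω) ∈ R := fun x hx => by
    have h2 : χ⁻¹ x = x := by
      conv_lhs => rw [← hfix x hx]
      exact MulAut.inv_apply_self _ χ x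
    rw [h2]; exact hx
  have hχK : ∀ a ∈ K, χ * a * χ⁻¹ ∈ K := by
    rintro a ⟨ha, ⟨n, hn, hne⟩, ha2⟩
    refine ⟨mul_mem (mul_mem hχ ha) (inv_mem hχ), ⟨n, hn, fun x hx => ?_⟩, fun y => ?_⟩
    · rw [MulAut.mul_apply, MulAut.mul_apply]
      have h2 : χ⁻¹ x = x := by
        conv_lhs => rw [← hfix x hx]
        exact MulAut.inv_apply_self _ χ x
      have h3 : (a x : Ω) ∈ R := by simpa using R.mul_mem hx (ha2 x)
      rw [h2, hfix _ h3, hne x hx]
    · rw [MulAut.mul_apply, MulAut.mul_apply]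
      set w := χ⁻¹ y
      have h1 : ((w⁻¹ * a w : ↥(R ⊔ C)) : Ω) ∈ R := ha2 w
      have h2 := hfix _ h1
      rw [map_mul, map_inv, MulAut.apply_inv_self] at h2
      have h3 := congrArg Subtype.val h2
      simp only [Subgroup.coe_mul, Subgroup.coe_inv] at h3 h1
      rw [h3]
      exact h1
  -- move `K` into the induced automorphisms
  obtain ⟨M', f, hf, hM'n, hKle⟩ := exists_iso_map_le hS hF hMS (fun a (ha : a ∈ K) => ha.1) hKp
  obtain ⟨-, hM'r⟩ := fullyAutomized_receptive_of_fullyNormalized hS hF hM'n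
  have hKS : ∀ a ∈ K, MulAut.congr f a ∈ autInducedBy S M' := fun a ha => hKle ⟨a, ha, rfl⟩
  have hnM : ∀ n ∈ N, n ∈ Subgroup.normalizer ((R ⊔ C : Subgroup Ω) : Set Ω) := fun n hn =>
    mem_normalizer_of_forall fun y hy => by
      have hle : R ⊔ C ≤ (R ⊔ C).comap (MulAut.conj n).toMonoidHom := by
        refine sup_le (fun r hr => le_sup_left (b := C) ?_) (fun c hc => le_sup_right (a := R) ?_)
        · exact conj_mem_of_mem_normalizer hn.2 hr
        · change n * c * n⁻¹ ∈ C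
          rwa [hCc n (hNT hn) c hc, mul_inv_cancel_right]
      exact hle hy
  have hext1 : N ⊔ C ≤ extender S (R ⊔ C) (M'.subtype.comp f.toMonoidHom) :=
    sup_le (fun n hn => mem_extender_iso_iff.2 ⟨hTS (hNT hn), hnM n hn, hKS _ (hnK n hn _)⟩)
      ((le_sup_right : C ≤ R ⊔ C).trans (le_extender hf))
  obtain ⟨φ, hφ, hφe⟩ := exists_extension hM'r hf hMN hext1
  set W := φ.range with hW
  obtain ⟨g, hg, hge⟩ : ∃ g : ↥(N ⊔ C) ≃* W, IsIso F g ∧ ∀ x, (g x : Ω) = φ x :=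
    exists_iso_of_mem hφ
  have hWS : W ≤ S := range_le_S F hφ
  have hWfin : Finite W := finite_of_le hWS
  have hM'W : M' ≤ W := fun y hy => by
    obtain ⟨x, hx⟩ := f.surjective ⟨y, hy⟩
    exact ⟨Subgroup.inclusion hMN x, (hφe x).trans (congrArg Subtype.val hx)⟩
  set χ' : MulAut M' := MulAut.congr f χ with hχ'
  have hχ'F : IsIso F χ' := (mem_autGroup_iff F hM'n.1).1 (congr_mem_autGroup hf hχ)
  -- the second extension
  have hext2 : W ≤ extender S M' (M'.subtype.comp χ'.toMonoidHom) := by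
    have hcomap : N ⊔ C ≤ ((extender S M' (M'.subtype.comp χ'.toMonoidHom)).comap φ).map
        (N ⊔ C).subtype := by
      refine sup_le (fun n hn => ?_) fun c hc => ?_
      · refine ⟨⟨n, le_sup_left (b := C) hn⟩, ?_, rfl⟩
        have hφn : φ ⟨n, le_sup_left (b := C) hn⟩ ∈ Subgroup.normalizer (M' : Set Ω) := by
          have := finite_of_le hM'n.1
          refine mem_normalizer_of_forall fun y hy => ?_
          obtain ⟨x, hx⟩ := f.surjective ⟨y, hy⟩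
          have h1 : φ (⟨n, le_sup_left (b := C) hn⟩ * Subgroup.inclusion hMN x *
              (⟨n, le_sup_left (b := C) hn⟩ : ↥(N ⊔ C))⁻¹) =
              φ (Subgroup.inclusion hMN (normAut n (hnM n hn) x)) := congrArg φ (Subtype.ext rfl)
          rw [map_mul, map_mul, map_inv, hφe, hφe] at h1
          rw [show y = (f x : Ω) from (congrArg Subtype.val hx).symm, h1]
          exact (f _).2
        refine mem_extender_iso_iff.2 ⟨apply_mem_S F hφ _, hφn, ?_⟩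
        have h2 : normAut (φ ⟨n, le_sup_left (b := C) hn⟩) hφn =
            MulAut.congr f (normAut n (hnM n hn)) := by
          refine MulEquiv.ext fun y => Subtype.ext ?_
          obtain ⟨x, rfl⟩ := f.surjective y
          have h1 : φ (⟨n, le_sup_left (b := C) hn⟩ * Subgroup.inclusion hMN x *
              (⟨n, le_sup_left (b := C) hn⟩ : ↥(N ⊔ C))⁻¹) =
              φ (Subgroup.inclusion hMN (normAut n (hnM n hn) x)) := congrArg φ (Subtype.ext rfl)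
          rw [map_mul, map_mul, map_inv, hφe, hφe] at h1
          rw [normAut_apply, h1]
          change _ = ((f (normAut n (hnM n hn) (f.symm (f x))) : M') : Ω)
          rw [MulEquiv.symm_apply_apply]
        rw [h2]
        have h3 := hKS _ (hχK _ (hnK n hn (hnM n hn)))
        convert h3 using 1
        exact MulEquiv.ext fun y => by simp [hχ', MulAut.mul_apply]
      · refine ⟨⟨c, le_sup_right (a := N) hc⟩, le_extender hχ'F ?_, rfl⟩
        have h1 := hφe ⟨c, le_sup_right (a := R) hc⟩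
        exact h1 ▸ (f _).2
    rintro _ ⟨x, rfl⟩
    obtain ⟨x', hx', hxe⟩ := hcomap x.2
    rw [show x = x' from Subtype.ext hxe.symm]
    exact hx'
  obtain ⟨ψ, hψ, hψe⟩ := exists_extension hM'r hχ'F hM'W hext2
  -- the image of `R`
  set R' := (φ.comp (Subgroup.inclusion (hRN.le.trans le_sup_left : R ≤ N ⊔ C))).range with hR'
  have hR'c : IsCentricRelTo F T R' := hR.of_isConj hT ⟨_, res_mem F hφ _, rfl⟩
  have hψR : ∀ (r : Ω) (hr : r ∈ R) (h : φ ⟨r, le_sup_left (b := C) (hRN.le hr)⟩ ∈ W),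
      ψ ⟨φ ⟨r, le_sup_left (b := C) (hRN.le hr)⟩, h⟩ = φ ⟨r, le_sup_left (b := C) (hRN.le hr)⟩ := by
    intro r hr h
    set x : ↥(R ⊔ C) := ⟨r, le_sup_left (b := C) hr⟩ with hx
    have h1 : φ ⟨r, le_sup_left (b := C) (hRN.le hr)⟩ = f x := (hφe x).symm ▸ rfl
    have h2 := hψe (f x)
    have h3 : χ' (f x) = f x := by
      change f (χ (f.symm (f x))) = f x
      rw [MulEquiv.symm_apply_apply, hfix x hr]
    rw [h3] at h2
    rw [show (⟨φ ⟨r, le_sup_left (b := C) (hRN.le hr)⟩, h⟩ : W) =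
      Subgroup.inclusion hM'W (f x) from Subtype.ext h1, h2, h1]
  have hkey : ∀ (n : Ω) (hn : n ∈ N),
      (φ ⟨n, le_sup_left (b := C) hn⟩)⁻¹ * ψ ⟨φ ⟨n, le_sup_left (b := C) hn⟩, _, rfl⟩ ∈ R' := by
    intro n hn
    have hnT : φ ⟨n, le_sup_left (b := C) hn⟩ ∈ T :=
      hT.2 N hNT _ (res_mem F hφ le_sup_left) ⟨n, hn⟩
    have hψT : ψ ⟨φ ⟨n, le_sup_left (b := C) hn⟩, _, rfl⟩ ∈ T :=
      hT.2 (W ⊓ T) inf_le_right _ (res_mem F hψ inf_le_left) ⟨_, ⟨_, rfl⟩, hnT⟩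
    refine hR'c.2 R' (isConj_refl (range_le_S F (res_mem F hφ _)))
      ⟨T.mul_mem (T.inv_mem hnT) hψT, ?_⟩
    rintro _ ⟨⟨r, hr⟩, rfl⟩
    change φ ⟨r, _⟩ * _ = _ * φ ⟨r, _⟩
    set u := φ ⟨n, le_sup_left (b := C) hn⟩ with hu
    have hr' : n * r * n⁻¹ ∈ R := conj_mem_of_mem_normalizer hn.2 hr
    have e1 : u * φ ⟨r, le_sup_left (b := C) (hRN.le hr)⟩ * u⁻¹ =
        φ ⟨n * r * n⁻¹, le_sup_left (b := C) (hRN.le hr')⟩ := by
      rw [hu, ← map_inv, ← map_mul, ← map_mul]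
      exact congrArg φ (Subtype.ext rfl)
    have e2 := congrArg ψ (show (⟨u, _, rfl⟩ : W) * ⟨φ ⟨r, le_sup_left (b := C) (hRN.le hr)⟩, _, rfl⟩ *
      (⟨u, _, rfl⟩ : W)⁻¹ = ⟨φ ⟨n * r * n⁻¹, le_sup_left (b := C) (hRN.le hr')⟩, _, rfl⟩ from
        Subtype.ext e1)
    have eA := hψR r hr ⟨_, rfl⟩
    have eB := hψR _ hr' ⟨_, rfl⟩
    rw [map_mul, map_mul, map_inv, eA, eB, ← e1] at e2
    set t := ψ ⟨u, _, rfl⟩
    set v := φ ⟨r, le_sup_left (b := C) (hRN.le hr)⟩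
    calc v * (u⁻¹ * t) = u⁻¹ * (u * v * u⁻¹) * t := by group
      _ = u⁻¹ * (t * v * t⁻¹) * t := by rw [e2]
      _ = u⁻¹ * t * v := by group
  have hR'W : R' ≤ W := by rintro _ ⟨x, rfl⟩; exact ⟨_, rfl⟩
  have hψW : ψ.range = W := by
    refine Subgroup.eq_of_le_of_card_ge ?_
      (Nat.card_congr (MonoidHom.ofInjective (F.injective_of_mem hψ)).toEquiv).le
    rintro _ ⟨⟨_, x, rfl⟩, rfl⟩
    have hle : N ⊔ C ≤ (((W.comap ψ).map W.subtype).comap φ).map (N ⊔ C).subtype := by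
      refine sup_le (fun n hn => ⟨⟨n, le_sup_left (b := C) hn⟩,
        ⟨⟨_, ⟨_, rfl⟩⟩, ?_, rfl⟩, rfl⟩) fun c hc => ⟨⟨c, le_sup_right (a := N) hc⟩,
        ⟨⟨_, ⟨_, rfl⟩⟩, ?_, rfl⟩, rfl⟩
      · have := W.mul_mem ⟨⟨n, le_sup_left (b := C) hn⟩, rfl⟩ (hR'W (hkey n hn))
        rwa [mul_inv_cancel_left] at this
      · have h1 := hφe ⟨c, le_sup_right (a := R) hc⟩
        have h2 := hψe (f ⟨c, le_sup_right (a := R) hc⟩)
        change ψ _ ∈ W
        rw [show (⟨φ ⟨c, le_sup_right (a := N) hc⟩, _, rfl⟩ : W) =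
          Subgroup.inclusion hM'W (f ⟨c, le_sup_right (a := R) hc⟩) from Subtype.ext h1, h2]
        exact hM'W (χ' _).2
    obtain ⟨x', ⟨w, hw, hwe⟩, hxe⟩ := hle x.2
    have hxx : x' = x := Subtype.ext hxe
    subst hxx
    rwa [show (⟨φ x', x', rfl⟩ : W) = w from Subtype.ext hwe.symm]
  obtain ⟨ω, hω, hωe⟩ := exists_iso_of_range hψ hψW
  -- pull back
  set δ : MulAut ↥(N ⊔ C) := MulAut.congr g.symm ω with hδ
  have hδF : δ ∈ F.autGroup (N ⊔ C) :=
    congr_mem_autGroup hg.symm ((mem_autGroup_iff F hWS).2 hω)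
  have hδe : ∀ x : ↥(N ⊔ C), φ (δ x) = ψ ⟨φ x, _, rfl⟩ := fun x => by
    rw [← hge]
    change ((g (g.symm (ω (g x))) : W) : Ω) = _
    rw [MulEquiv.apply_symm_apply, hωe]
    exact congrArg ψ (Subtype.ext (hge x))
  have hδM : ∀ x : ↥(R ⊔ C), δ (Subgroup.inclusion hMN x) = Subgroup.inclusion hMN (χ x) := by
    intro x
    refine F.injective_of_mem hφ ?_
    rw [hδe]
    refine Eq.trans ?_ (hφe _).symm
    rw [show (⟨φ (Subgroup.inclusion hMN x), _, rfl⟩ : W) = Subgroup.inclusion hM'W (f x) from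
      Subtype.ext (hφe x), hψe]
    change ((f (χ (f.symm (f x))) : M') : Ω) = _
    rw [MulEquiv.symm_apply_apply]
  have hδR : ∀ x : ↥(N ⊔ C), (x : Ω) ∈ R → δ x = x := fun x hx => by
    have h1 := hδM ⟨x, le_sup_left (b := C) hx⟩
    rwa [hfix _ hx] at h1
  set δ' : MulAut ↥(N ⊔ C) := δ ^ p ^ e₀ with hδ'
  have hδN : ∀ x : ↥(N ⊔ C), (x : Ω) ∈ N → δ' x = x := by
    intro x hx
    set z : ↥(N ⊔ C) := x⁻¹ * δ x with hz
    have hzR : (z : Ω) ∈ R := by
      obtain ⟨⟨r, hr⟩, hre⟩ := hkey x hx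
      have h1 : φ z = φ ⟨r, le_sup_left (b := C) (hRN.le hr)⟩ := by
        rw [hz, map_mul, map_inv, hδe]
        exact hre.symm
      rw [F.injective_of_mem hφ h1]
      exact hr
    have hj : ∀ j : ℕ, (δ ^ j) x = x * z ^ j := by
      intro j
      induction j with
      | zero => simp
      | succ j ihj =>
        rw [pow_succ', MulAut.mul_apply, ihj, map_mul, map_pow, hδR z hzR, pow_succ',
          ← mul_assoc x, hz, mul_inv_cancel_left]
    rw [hδ', hj, show z ^ p ^ e₀ = 1 from Subtype.ext (by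
      rw [Subgroup.coe_pow]; exact hpow1 (hRS hzR)), mul_one]
  have hc1 : Nat.card R < Nat.card N :=
    lt_of_not_ge fun h => by
      have := finite_of_le (hNT.trans hTS)
      exact hRN.ne (Subgroup.eq_of_le_of_card_ge hRN.le h)
  have hc2 := Subgroup.card_le_of_le hNT
  obtain ⟨k, γ, hγ, hγT, hγc⟩ := ih (Nat.card T - Nat.card N) (by omega) N
    (hR.mono hRN.le hNT) le_rfl δ' (pow_mem hδF _) hδN
  refine ⟨e₀ + k, γ, hγ, hγT, fun c hc => ?_⟩
  have h1 := hγc c hc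
  have hpw : ∀ (j : ℕ) (x : ↥(R ⊔ C)),
      (δ ^ j) (Subgroup.inclusion hMN x) = Subgroup.inclusion hMN ((χ ^ j) x) := by
    intro j
    induction j with
    | zero => intro x; rfl
    | succ j ihj => intro x; rw [pow_succ', MulAut.mul_apply, ihj, hδM, pow_succ', MulAut.mul_apply]
  rw [hδ', ← pow_mul, ← pow_add] at h1
  rw [show (⟨c, le_sup_right (a := N) hc⟩ : ↥(N ⊔ C)) =
    Subgroup.inclusion hMN ⟨c, le_sup_right (a := R) hc⟩ from rfl, hpw] at h1
  exact h1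

end CfsgLib.Fusion
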