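import Cfsg.Agent.Lib.Fusion.ResidualInvariant

/-!
# The residual limit is the greatest stable weakly normal subsystem
-/

set_option autoImplicit false

open Cfsg Cfsg.FusionSystem

namespace CfsgLib.Fusion

variable {Ω : Type*} [Group Ω] {S T : Subgroup Ω} [Finite S] {K : FusionSystem S}
  {D : FusionSystem T} {p : ℕ} [Fact p.Prime]

/-- An automorphism of an invariant subsystem's group agreeing on a centric subgroup with a map of
a subsystem of index prime to `p` belongs to that subsystem. -/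
theorem incl_mem_of_restrict_centric (hS : IsPGroup p S)
    (hDi : D.IsInvariantIn K) {O : FusionSystem S} (hOs : O.IsSaturated p)
    (hO : O.HasPrimeToPIndexIn K p) {α : MulAut T} (hα : α ∈ K.autGroup T) {R : Subgroup Ω}
    (hR : D.IsCentric R)
    (hres : (autIncl α).comp (Subgroup.inclusion hR.1) ∈ O.Hom R) : autIncl α ∈ O.Hom T := by
  have hT := hDi.2.1
  have hTS := hT.1
  have := finite_of_le hTS
  have hTp := hS.to_le hTS
  suffices h : ∀ (d : ℕ) (R : Subgroup Ω) (hR : D.IsCentric R), Nat.card T - Nat.card R ≤ d →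
      (autIncl α).comp (Subgroup.inclusion hR.1) ∈ O.Hom R → autIncl α ∈ O.Hom T from
    h _ R hR le_rfl hres
  intro d
  induction d using Nat.strong_induction_on with
  | _ d ih =>
  intro R hR hd hres
  rcases eq_or_lt_of_le hR.1 with rfl | hlt
  · exact mem_of_eq rfl hres fun _ => rfl
  set N := normalizerIn T R with hNdef
  have hNT : N ≤ T := normalizerIn_le R
  have hRN : R < N := lt_normalizerIn hTp hlt
  have hNS := hNT.trans hTS
  have := finite_of_le hNS
  have hcard : Nat.card R < Nat.card N := lt_of_not_ge fun h =>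
    hRN.ne (Subgroup.eq_of_le_of_card_ge hRN.le h)
  have hcardT : Nat.card N ≤ Nat.card T := Subgroup.card_le_of_le hNT
  refine ih (Nat.card T - Nat.card N) (by omega) N (isCentric_of_le hRN.le hNT hR) le_rfl ?_
  -- the image of `R` and a conjugate fully normalized in `O`
  set f := (autIncl α).comp (Subgroup.inclusion hR.1) with hf
  set R' := f.range with hR'
  have hR'S : R' ≤ S := range_le_S O hres
  obtain ⟨Q, hR'Q, hQn⟩ := exists_fullyNormalized O hR'S
  obtain ⟨-, hQr⟩ := fullyAutomized_receptive_of_fullyNormalized hS hOs hQn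
  obtain ⟨e, hle, he, ψ, hψ, hψe, hψQ⟩ :=
    exists_hom_normalizerIn_of_fullyNormalized hS hOs hQn hR'Q
  have := finite_of_le hR'S
  have hαN : ∀ n : N, ((α (Subgroup.inclusion hNT n) : T) : Ω) ∈ normalizerIn S R' := by
    intro n
    refine ⟨hTS (α _).2, mem_normalizer_of_forall ?_⟩
    rintro _ ⟨x, rfl⟩
    refine ⟨normAut (n : Ω) n.2.2 x, ?_⟩
    change ((α (Subgroup.inclusion hR.1 (normAut (n : Ω) n.2.2 x)) : T) : Ω) =
      ((α (Subgroup.inclusion hNT n) : T) : Ω) * ((α (Subgroup.inclusion hR.1 x) : T) : Ω) *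
        ((α (Subgroup.inclusion hNT n) : T) : Ω)⁻¹
    rw [show Subgroup.inclusion hR.1 (normAut (n : Ω) n.2.2 x) = Subgroup.inclusion hNT n *
        Subgroup.inclusion hR.1 x * (Subgroup.inclusion hNT n)⁻¹ from Subtype.ext (by simp)]
    simp
  -- the two maps on `N`
  set μ : N →* Ω := ψ.comp (((autIncl α).comp (Subgroup.inclusion hNT)).codRestrict _ hαN) with hμ
  have hμK : μ ∈ K.Hom N :=
    K.comp_mem (res_mem K ((mem_autGroup_iff K hTS).1 hα) hNT) (hO.1 _ hψ) hαN
  let g : R →* Ω := (Q.subtype.comp e.toMonoidHom).comp (f.codRestrict R' fun x => ⟨x, rfl⟩)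
  have hg : g ∈ O.Hom R := O.comp_mem hres he fun x => ⟨x, rfl⟩
  have hμg : ∀ x : R, μ (Subgroup.inclusion hRN.le x) = g x := fun x => by
    refine Eq.trans ?_ (hψe ⟨f x, x, rfl⟩)
    exact congrArg ψ (Subtype.ext rfl)
  have hgQ : g.range = Q := by
    ext y
    constructor
    · rintro ⟨x, rfl⟩; exact (e _).2
    · intro hy
      obtain ⟨⟨_, x, rfl⟩, hx⟩ := e.surjective ⟨y, hy⟩
      exact ⟨x, congrArg Subtype.val hx⟩
  have hNext : N ≤ extender S R g := by
    intro n hn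
    refine mem_extender_iff.2 ⟨hNS hn, hn.2, μ ⟨n, hn⟩, apply_mem_S K hμK _, fun x => ?_⟩
    rw [← hμg, ← hμg, show Subgroup.inclusion hRN.le (normAut n hn.2 x) =
      ⟨n, hn⟩ * Subgroup.inclusion hRN.le x * (⟨n, hn⟩ : N)⁻¹ from Subtype.ext (by simp)]
    simp
  obtain ⟨θ, hθ, hθe⟩ : ∃ θ ∈ O.Hom N, ∀ x : R, θ (Subgroup.inclusion hRN.le x) = g x := by
    obtain ⟨θ, hθ, h⟩ := hQr.2 R g hg hgQ
    exact ⟨_, res_mem O hθ hNext, fun x => h x x.2 _⟩
  -- they differ by elements of `Q`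
  have hQT : Q ≤ T := by
    rw [← hgQ]
    rintro _ ⟨x, rfl⟩
    exact hT.2 R hR.1 g (hO.1 R hg) x
  have hQc : IsCentricRelTo K T Q := (isCentricRelTo_of_isCentric hDi hR).of_isConj hT
    ⟨g, hO.1 R hg, hgQ⟩
  have hz : ∀ n : N, (μ n)⁻¹ * θ n ∈ Q := by
    intro n
    refine centralizer_inf_mem hQc (hQT.trans hTS) (T.mul_mem (T.inv_mem (hT.2 N hNT μ hμK n))
      (hT.2 N hNT θ (hO.1 N hθ) n)) fun r hr => ?_
    obtain ⟨x, rfl⟩ := hgQ.ge hr
    -- both conjugate the image of `R` in the same way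
    have e1 : n * Subgroup.inclusion hRN.le x * n⁻¹ =
        Subgroup.inclusion hRN.le (normAut (n : Ω) n.2.2 x) := Subtype.ext (by simp)
    have e2 := congrArg θ e1
    have e3 := congrArg μ e1
    simp only [map_mul, map_inv, hθe, hμg] at e2 e3
    calc g x * ((μ n)⁻¹ * θ n) = (μ n)⁻¹ * (μ n * g x * (μ n)⁻¹) * θ n := by group
      _ = (μ n)⁻¹ * θ n * ((θ n)⁻¹ * (μ n * g x * (μ n)⁻¹) * θ n) := by group
      _ = (μ n)⁻¹ * θ n * g x := by
        rw [e3, ← e2]
        group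
  have hQμ : Q ≤ μ.range := by
    rw [← hgQ]
    rintro _ ⟨x, rfl⟩
    exact ⟨_, hμg x⟩
  have hθμ : θ.range = μ.range := by
    have := finite_of_le (range_le_S K hμK)
    refine Subgroup.eq_of_le_of_card_ge ?_ ?_
    · rintro _ ⟨n, rfl⟩
      have h1 := μ.range.mul_mem (⟨n, rfl⟩ : μ n ∈ μ.range) (hQμ (hz n))
      rwa [mul_inv_cancel_left] at h1
    · rw [← Nat.card_congr (MonoidHom.ofInjective (O.injective_of_mem hθ)).toEquiv,
        ← Nat.card_congr (MonoidHom.ofInjective (K.injective_of_mem hμK)).toEquiv]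
  obtain ⟨eμ, heμ, heμe⟩ := exists_iso_of_mem hμK
  obtain ⟨eθ, heθ, heθe⟩ := exists_iso_of_range hθ hθμ
  set η : MulAut μ.range := eμ.symm.trans eθ with hη
  have hMS : μ.range ≤ S := range_le_S K hμK
  have hηK : η ∈ K.autGroup μ.range :=
    (mem_autGroup_iff K hMS).2 (heμ.symm.trans (hO.1 N heθ))
  have hηQ : ∀ m : μ.range, (m : Ω) ∈ Q → η m = m := by
    intro m hm
    obtain ⟨x, hx⟩ := hgQ.ge hm
    have h1 : eμ.symm m = Subgroup.inclusion hRN.le x := by
      rw [MulEquiv.symm_apply_eq]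
      exact Subtype.ext (by rw [heμe, hμg, hx])
    refine Subtype.ext ?_
    change (eθ (eμ.symm m) : Ω) = m
    rw [h1, heθe, hθe, hx]
  have hηd : ∀ m : μ.range, (m : Ω)⁻¹ * (η m : Ω) ∈ Q := by
    intro m
    obtain ⟨n, rfl⟩ := eμ.surjective m
    change (eμ n : Ω)⁻¹ * (eθ (eμ.symm (eμ n)) : Ω) ∈ Q
    rw [MulEquiv.symm_apply_apply, heμe, heθe]
    exact hz n
  have hiter : ∀ (j : ℕ) (m : μ.range), (η ^ j) m = m * (m⁻¹ * η m) ^ j := by
    intro j m
    induction j with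
    | zero => simp
    | succ j ihj =>
      rw [pow_succ', MulAut.mul_apply, ihj, map_mul, map_pow, hηQ _ (show ((m⁻¹ * η m : μ.range) : Ω) ∈ Q from hηd m),
        pow_succ', ← mul_assoc m, mul_inv_cancel_left]
  have hQS := hQT.trans hTS
  have := finite_of_le hQS
  obtain ⟨k, hk⟩ := IsPGroup.iff_card.1 (hS.to_le hQS)
  have hηp : η ^ p ^ k = 1 := by
    refine MulEquiv.ext fun m => ?_
    rw [hiter, MulAut.one_apply]
    refine mul_eq_left.2 (Subtype.ext ?_)
    have h1 := congrArg Subtype.val (pow_card_eq_one' (x := (⟨_, hηd m⟩ : Q)))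
    rw [hk] at h1
    simpa using h1
  obtain ⟨j, -, hj⟩ := (Nat.dvd_prime_pow Fact.out).1 (orderOf_dvd_of_pow_eq_one hηp)
  have hηO : η ∈ O.autGroup μ.range := hO.2 _ hMS ⟨⟨η, hηK⟩, Subgroup.subset_closure
    ⟨j, by rw [Subgroup.orderOf_mk, hj]⟩, rfl⟩
  have hμO : IsIso O eμ := by
    have h1 := heθ.trans ((mem_autGroup_iff O hMS).1 hηO).symm
    refine h1.congr fun x => ?_
    change _ = ((η.symm (eθ x) : μ.range) : Ω)
    rw [hη]
    simp
  -- remove `ψ`
  obtain ⟨eψ, heψ, heψe⟩ := exists_iso_of_mem hψ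
  have hsub : ∀ y : μ.range, (y : Ω) ∈ ψ.range := fun ⟨_, n, hn⟩ => ⟨_, hn⟩
  have h2 := O.comp_mem hμO heψ.symm fun x => hsub (eμ x)
  refine mem_of_eq rfl h2 fun n => ?_
  change ((α (Subgroup.inclusion hNT n) : T) : Ω) =
    (eψ.symm ⟨(eμ n : Ω), hsub (eμ n)⟩ : Ω)
  rw [show (⟨(eμ n : Ω), hsub (eμ n)⟩ : ψ.range) =
      eψ ⟨_, hαN n⟩ from Subtype.ext ((heμe n).trans (heψe _).symm), MulEquiv.symm_apply_apply]

/-- **The `p'`-residual of an invariant subsystem lies in every subsystem of index prime to `p`.** -/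
theorem le_of_isPPrimeResidual_of_invariant (hS : IsPGroup p S) (hDi : D.IsInvariantIn K)
    (hDs : D.IsSaturated p) {D' : FusionSystem T} (hD' : D.IsPPrimeResidual p D')
    {O : FusionSystem S} (hOs : O.IsSaturated p) (hO : O.HasPrimeToPIndexIn K p) :
    ∀ P, D'.Hom P ⊆ O.Hom P := by
  have hTS := hDi.2.1.1
  have := finite_of_le hTS
  have hTp := hS.to_le hTS
  intro P φ hφ
  obtain ⟨hφD, α, hα, φ₀, hφ₀, he⟩ := hD'.2.2 _ (isSaturated_pPrimeResidualSys hTp hDs)
    (isPPrimeResidual_pPrimeResidualSys hTp hDs).2.1 P hφ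
  let O' : FusionSystem T := restrictSys O T hTS
  have hO' : ContainsCentricPElements O' D p := by
    intro R hR β hβ ⟨k, hk⟩
    have hRS := hR.1.trans hTS
    have h1 : β ∈ O.autGroup R := hO.2 R hRS
      ⟨⟨β, autGroup_mono hDi.1 R hβ⟩, Subgroup.subset_closure ⟨k, by
        rw [Subgroup.orderOf_mk, hk]⟩, rfl⟩
    exact (mem_autGroup_iff O' hR.1).2
      ⟨(mem_autGroup_iff O hRS).1 h1, hR.1, fun x => hR.1 (β x).2⟩
  have hα' : autIncl α ∈ O'.Hom T := by
    refine (mem_autGroup_iff O' le_rfl).1 ?_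
    refine (Subgroup.closure_le _).2 ?_ hα
    rintro a ⟨ha, R, hRT, hRc, hres⟩
    exact (mem_autGroup_iff O' le_rfl).2 ⟨incl_mem_of_restrict_centric hS hDi hOs hO
      (autGroup_mono hDi.1 T ha) hRc (hres.2 O' hO').1, le_rfl, fun x => (a x).2⟩
  exact (mem_of_eq rfl (O'.comp_mem (hφ₀.2 O' hO') hα' fun x => apply_mem_S _ hφ₀ x)
    fun x => he x _ : φ ∈ O'.Hom P).1

/-- A saturated subsystem over a subgroup of `U` lies in every subsystem of `p`-power index over `U`. -/
theorem le_of_hasPPowerIndex_of_le (hS : IsPGroup p S) {L : FusionSystem T}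
    (hLK : L.IsSubsystemOf K) (hLs : L.IsSaturated p) {U : Subgroup Ω} {D : FusionSystem U}
    (hD : D.HasPPowerIndexIn K p) (hTU : T ≤ U) : ∀ P, L.Hom P ⊆ D.Hom P := by
  have hTS := le_S_of_isSubsystemOf hLK
  have := finite_of_le hTS
  have hTp := hS.to_le hTS
  suffices h : L ≤ restrictSys D T hTU from fun P φ hφ => (h P hφ).1
  refine alperin hTp hLs _ fun R hR => ?_
  have hn : L.IsFullyNormalized R := by
    rcases hR with rfl | hR
    · exact isFullyNormalized_self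
    · exact hR.2.1
  have hRT := hn.1
  have := finite_of_le (hRT.trans hTS)
  refine autGroup_le_of_coprime_of_induced hTp hLs hn (fun b hb hco => ?_)
    fun b hb => autInducedBy_le_autGroup hRT hb
  have h1 := mem_autGroup_of_coprime_pPowerIndex hD (hRT.trans hTU) (autGroup_mono hLK R hb) hco
  exact (mem_autGroup_iff _ hRT).2
    ⟨(mem_autGroup_iff D (hRT.trans hTU)).1 h1, hRT, fun x => hRT (b x).2⟩

/-- A stable weakly normal subsystem lies in every saturated subsystem of `p`-power index. -/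
theorem le_of_pPowerIndex_of_stable (hS : IsPGroup p S) {L : FusionSystem T}
    (hLi : L.IsInvariantIn K) (hLs : L.IsSaturated p) (hLh : L.hyperfocalSubgroup p = T)
    {U : Subgroup Ω} {D : FusionSystem U} (hD : D.HasPPowerIndexIn K p) :
    T ≤ U ∧ ∀ P, L.Hom P ⊆ D.Hom P := by
  have hTS := hLi.2.1.1
  have := finite_of_le hTS
  have hTp := hS.to_le hTS
  have hTU : T ≤ U := by
    refine le_trans ?_ hD.2.1
    rw [← hLh]
    refine (Subgroup.closure_le _).2 ?_
    rintro _ ⟨P, α, x, hP, hα, rfl⟩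
    exact Subgroup.subset_closure ⟨P, Subgroup.inclusion (autGroup_mono hLi.1 P) α, x,
      hP.trans hTS, Transfer.map_pResidual_le _ ⟨α, hα, rfl⟩, rfl⟩
  exact ⟨hTU, le_of_hasPPowerIndex_of_le hS hLi.1 hLs hD hTU⟩

/-- An invariant subsystem is invariant in an intermediate saturated subsystem. -/
theorem isInvariantIn_of_le {L : FusionSystem T} (hLi : L.IsInvariantIn K) {U : Subgroup Ω}
    {D : FusionSystem U} (hS : IsPGroup p S) (hDs : D.IsSaturated p) (hDK : D.IsSubsystemOf K)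
    (hTU : T ≤ U) (hLD : ∀ P, L.Hom P ⊆ D.Hom P) : L.IsInvariantIn D := by
  have hUS := le_S_of_isSubsystemOf hDK
  have := finite_of_le hUS
  have hT : D.StronglyClosed T := ⟨hTU, fun R hR φ hφ x => hLi.2.1.2 R hR φ (hDK R hφ) x⟩
  refine (isInvariantIn_iff (hS.to_le hUS) hDs hLD hT).2 ?_
  intro P Q hPQ hQ φ hφ hφQ ψ hψ
  exact conjClosed_of_isInvariantIn hLi P Q hPQ hQ φ hφ hφQ ψ (hDK Q hψ)

end CfsgLib.Fusion
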