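import Cfsg.Prelude.Def_FusionReduction
import Cfsg.Agent.Lib.Fusion.PPowerIndexExists
import Cfsg.Agent.Lib.Fusion.PPowerIndexNormal
import Cfsg.Agent.Lib.Fusion.PPrimeResidual

/-!
# Residual limits
-/

set_option autoImplicit false

open Cfsg Cfsg.FusionSystem

namespace CfsgLib.Fusion

variable {Ω : Type*} [Group Ω] {p : ℕ}

/-- A system has `p`-power index in itself. -/
theorem hasPPowerIndexIn_self {S : Subgroup Ω} (F : FusionSystem S) : F.HasPPowerIndexIn F p :=
  ⟨fun _ _ h => h, hyperfocalSubgroup_le p, fun _ _ => Subgroup.map_subtype_le _⟩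

/-- Subsystems of `p`-power index compose. -/
theorem hasPPowerIndexIn_trans {S T U : Subgroup Ω} {F : FusionSystem S} {E : FusionSystem T}
    {D : FusionSystem U} (hE : E.HasPPowerIndexIn F p) (hD : D.HasPPowerIndexIn E p)
    (hU : U ≤ T) (hh : F.hyperfocalSubgroup p ≤ U) : D.HasPPowerIndexIn F p := by
  refine ⟨fun P φ hφ => hE.1 P (hD.1 P hφ), hh, fun P hP => ?_⟩
  rw [Subgroup.map_le_iff_le_comap, pResidual, Subgroup.closure_le]
  intro α hα
  have h1 : (α : MulAut P) ∈ E.autGroup P :=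
    hE.2.2 P (hP.trans hU) ⟨α, Subgroup.subset_closure hα, rfl⟩
  refine hD.2.2 P hP ⟨⟨α, h1⟩, Subgroup.subset_closure ?_, rfl⟩
  change (orderOf (⟨(α : MulAut P), h1⟩ : E.autGroup P)).Coprime p
  rw [Subgroup.orderOf_mk, Subgroup.orderOf_coe]
  exact hα

/-- Residual limits only depend on the maps. -/
theorem isResidualLimitOf_congr {S S' U : Subgroup Ω} {F : FusionSystem S} {F' : FusionSystem S'}
    (hSS : S = S') (hhom : ∀ P, F.Hom P = F'.Hom P) {L : FusionSystem U}
    (h : L.IsResidualLimitOf F p) : L.IsResidualLimitOf F' p := by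
  subst hSS
  exact ext_hom hhom ▸ h

/-- The `p'`-residual only depends on the maps. -/
theorem hom_eq_of_isPPrimeResidual {S S' : Subgroup Ω} {F R : FusionSystem S}
    {F' R' : FusionSystem S'} (hSS : S = S') (hhom : ∀ P, F.Hom P = F'.Hom P)
    (hR : F.IsPPrimeResidual p R) (hR' : F'.IsPPrimeResidual p R') : ∀ P, R.Hom P = R'.Hom P := by
  subst hSS
  obtain rfl := ext_hom hhom
  exact fun P => Set.Subset.antisymm (hR.2.2 R' hR'.1 hR'.2.1 P) (hR'.2.2 R hR.1 hR.2.1 P)

/-- The only residual limit of a stable system is itself. -/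
theorem hom_eq_of_residualLimit_stable {T S : Subgroup Ω} {E : FusionSystem T}
    {G : FusionSystem S} (hlim : E.IsResidualLimitOf G p) :
    ∀ {S₀ : Subgroup Ω} [Finite S₀] (F : FusionSystem S₀), S = S₀ → (∀ P, G.Hom P = F.Hom P) →
      p.Prime → IsPGroup p S₀ → F.hyperfocalSubgroup p = S₀ → F.IsPPrimeResidual p F →
      ∀ P, E.Hom P = F.Hom P := by
  induction hlim with
  | stable F p _ _ => intro S₀ _ F₀ _ hhom _ _ _ _; exact hhom
  | step G p D D' hD hD' hrest ih =>
    intro S₀ _ F₀ hS₀ hhom hprime hp hh hF₀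
    have := Fact.mk hprime
    subst hS₀
    obtain rfl := ext_hom hhom
    have h1 : ∀ P, D.Hom P = G.Hom P := hom_eq_of_hasPPowerIndex hp hh hh.le hD.1 hF₀.1 hD.2
      (hasPPowerIndexIn_self G)
    exact ih G hh (hom_eq_of_isPPrimeResidual hh h1 hD' hF₀) hprime hp hh hF₀

/-- **Residual limits are unique.** -/
theorem hom_eq_of_residualLimit {T S : Subgroup Ω} {E : FusionSystem T} {F : FusionSystem S}
    (hlim : E.IsResidualLimitOf F p) (hprime : p.Prime) (hp : IsPGroup p S) (hfin : Finite S) :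
    ∀ {V : Subgroup Ω} (L : FusionSystem V), L.IsResidualLimitOf F p →
      ∀ P, E.Hom P = L.Hom P := by
  induction hlim with
  | stable F p hh hF =>
    intro V L hL P
    exact (hom_eq_of_residualLimit_stable hL F rfl (fun _ => rfl) hprime hp hh hF P).symm
  | step F p D D' hD hD' hrest ih =>
    intro V L hL
    have := Fact.mk hprime
    cases hL with
    | stable _ _ hh hF =>
      exact hom_eq_of_residualLimit_stable (IsResidualLimitOf.step F p D D' hD hD' hrest) F rfl
        (fun _ => rfl) hprime hp hh hF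
    | step _ _ D₁ D₁' hD₁ hD₁' hrest₁ =>
      have hle := hyperfocalSubgroup_le (F := F) p
      have h1 := hom_eq_of_hasPPowerIndex hp rfl hle hD.1 hD₁.1 hD.2 hD₁.2
      obtain rfl := ext_hom (hom_eq_of_isPPrimeResidual rfl h1 hD' hD₁')
      exact ih hprime (hp.to_le hle) (finite_of_le hle) L hrest₁

variable [Fact p.Prime] {S T : Subgroup Ω} [Finite S] {F : FusionSystem S} {E : FusionSystem T}

/-- A strongly closed subsystem of `p`-power index has the same hyperfocal subgroup. -/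
theorem hyperfocalSubgroup_eq_of_hasPPowerIndex (hS : IsPGroup p S) (hT : F.StronglyClosed T)
    (hE : E.HasPPowerIndexIn F p) : E.hyperfocalSubgroup p = F.hyperfocalSubgroup p := by
  refine le_antisymm ((Subgroup.closure_le _).2 ?_) ((Subgroup.closure_le _).2 ?_)
  · rintro _ ⟨P, α, x, hP, hα, rfl⟩
    have hle : E.autGroup P ≤ F.autGroup P := fun β hβ =>
      mem_autGroup_of_mem F (hE.1 P ((mem_autGroup_iff E hP).1 hβ)) fun _ => rfl
    exact Subgroup.subset_closure ⟨P, Subgroup.inclusion hle α, x, hP.trans hT.1,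
      Transfer.map_pResidual_le _ ⟨α, hα, rfl⟩, rfl⟩
  rintro _ ⟨P, α, x, hP, hα, rfl⟩
  set H := E.hyperfocalSubgroup p
  -- the automorphisms moving everything into `H`
  let A : Subgroup (F.autGroup P) :=
    { carrier := {β | ∀ y : P, (y : Ω)⁻¹ * ((β : MulAut P) y : P) ∈ H}
      one_mem' := fun y => by simp
      mul_mem' := by
        intro β γ hβ hγ y
        have h1 := H.mul_mem (hγ y) (hβ ((γ : MulAut P) y))
        rwa [mul_assoc, mul_inv_cancel_left] at h1
      inv_mem' := by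
        intro β hβ y
        have h1 := H.inv_mem (hβ ((β : MulAut P)⁻¹ y))
        rw [MulAut.apply_inv_self, mul_inv_rev, inv_inv] at h1
        exact h1 }
  refine (?_ : pResidual p (F.autGroup P) ≤ A) hα x
  refine (Subgroup.closure_le _).2 fun β hβ y => ?_
  have := finite_of_le hP
  have := finite_of_le hT.1
  set t : Ω := (y : Ω)⁻¹ * ((β : MulAut P) y : P)
  have hgen : t ∈ F.hyperfocalSubgroup p :=
    Subgroup.subset_closure ⟨P, β, y, hP, Subgroup.subset_closure hβ, rfl⟩
  have htT : t ∈ T := hE.2.1 hgen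
  have htP : t ∈ P := P.mul_mem (P.inv_mem y.2) ((β : MulAut P) y).2
  have hinv : ∀ z : P, (z : Ω) ∈ P ⊓ T ↔ ((β : MulAut P) z : Ω) ∈ P ⊓ T := by
    intro z
    have hTs : ∀ γ : MulAut P, γ ∈ F.autGroup P → ∀ w : P, (w : Ω) ∈ T → (γ w : Ω) ∈ T :=
      fun γ hγ w hw => hT.2 (Subgroup.zpowers (w : Ω)) (Subgroup.zpowers_le.2 hw) _
        (res_mem F ((mem_autGroup_iff F hP).1 hγ) (Subgroup.zpowers_le.2 w.2))
        ⟨_, Subgroup.mem_zpowers _⟩
    refine ⟨fun hz => ⟨((β : MulAut P) z).2, hTs _ β.2 z hz.2⟩, fun hz => ⟨z.2, ?_⟩⟩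
    have h1 := hTs _ (inv_mem β.2) _ hz.2
    rwa [MulAut.inv_apply_self] at h1
  obtain ⟨b, hb, hbco, hbe⟩ := exists_coprime_restrict (F := F) hP inf_le_left β.2 hinv
    (by rw [Subgroup.orderOf_coe]; exact hβ)
  have hbE := mem_autGroup_of_coprime_pPowerIndex hE inf_le_right hb hbco
  have hbH : ∀ z : ↥(P ⊓ T), (z : Ω)⁻¹ * (b z : Ω) ∈ H := fun z =>
    Subgroup.subset_closure ⟨_, ⟨b, hbE⟩, z, inf_le_right, Subgroup.subset_closure (by
      change (orderOf (⟨b, hbE⟩ : E.autGroup _)).Coprime p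
      rwa [Subgroup.orderOf_mk]), rfl⟩
  let tt : ↥(P ⊓ T) := ⟨t, htP, htT⟩
  have hstep : ∀ k : ℕ, ∃ w : ↥(P ⊓ T), (t ^ k)⁻¹ * (w : Ω) ∈ H ∧
      ((((β : MulAut P) ^ k) y : P) : Ω) = y * w := by
    intro k
    induction k with
    | zero => exact ⟨1, by simp, by simp⟩
    | succ k ih =>
      obtain ⟨w, hw, hwe⟩ := ih
      refine ⟨tt * b w, ?_, ?_⟩
      · have h1 : (w : Ω)⁻¹ * (b w : Ω) ∈ H := hbH w
        have h2 := H.mul_mem hw h1
        rw [mul_assoc, mul_inv_cancel_left] at h2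
        rw [pow_succ', mul_inv_rev, Subgroup.coe_mul, mul_assoc, inv_mul_cancel_left]
        exact h2
      · rw [pow_succ', MulAut.mul_apply,
          show ((β : MulAut P) ^ k) y = y * Subgroup.inclusion inf_le_left w from Subtype.ext hwe,
          map_mul, Subgroup.coe_mul, Subgroup.coe_mul, hbe]
        change _ = (y : Ω) * ((y : Ω)⁻¹ * ((β : MulAut P) y : P) * _)
        rw [← mul_assoc (y : Ω), mul_inv_cancel_left]
  obtain ⟨w, hw, hwe⟩ := hstep (orderOf β)
  rw [← SubmonoidClass.coe_pow, pow_orderOf_eq_one, OneMemClass.coe_one, MulAut.one_apply,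
    left_eq_mul] at hwe
  rw [hwe, mul_one, inv_mem_iff] at hw
  obtain ⟨e, he⟩ := IsPGroup.iff_card.1 (hS.to_le hP)
  have htpow : (⟨t, htP⟩ : P) ^ p ^ e = 1 := he ▸ pow_card_eq_one'
  obtain ⟨j, hj⟩ := exists_pow_eq_self_of_coprime (x := t) (n := orderOf β)
    ((Nat.Coprime.pow_right e hβ).coprime_dvd_right
      (orderOf_dvd_of_pow_eq_one (congrArg Subtype.val htpow)))
  rw [← hj]
  exact H.pow_mem hw j

/-- A normal subsystem of `p`-power index has the same residual limits. -/
theorem hom_eq_residualLimit_of_pPowerIndex (hS : IsPGroup p S) (hEs : E.IsSaturated p)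
    (hT : F.StronglyClosed T) (hE : E.HasPPowerIndexIn F p) {U V : Subgroup Ω}
    {L : FusionSystem U} (hL : L.IsResidualLimitOf F p) {M : FusionSystem V}
    (hM : M.IsResidualLimitOf E p) : ∀ P, L.Hom P = M.Hom P := by
  suffices h : L.IsResidualLimitOf E p from
    hom_eq_of_residualLimit h Fact.out (hS.to_le hT.1) (finite_of_le hT.1) M hM
  have := finite_of_le hT.1
  have hTp := hS.to_le hT.1
  have hh := hyperfocalSubgroup_eq_of_hasPPowerIndex hS hT hE
  cases hL with
  | stable _ _ hhF hF =>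
    have hTS : T = S := le_antisymm hT.1 (hhF.ge.trans hE.2.1)
    exact isResidualLimitOf_congr hTS.symm
      (fun P => (hom_eq_of_hasPPowerIndex hS hTS hT.1 hEs hF.1 hE (hasPPowerIndexIn_self F) P).symm)
      (IsResidualLimitOf.stable F p hhF hF)
  | step _ _ D D' hD hD' hrest =>
    have hle := hyperfocalSubgroup_le (F := E) p
    have := finite_of_le hle
    obtain ⟨D₁, hD₁s, hD₁⟩ := exists_saturated_pPowerIndex hTp hEs hle le_rfl
    have h1 := hom_eq_of_hasPPowerIndex hS hh (hle.trans hT.1) hD₁s hD.1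
      (hasPPowerIndexIn_trans hE hD₁ hle hh.ge) hD.2
    have hD₁' := isPPrimeResidual_pPrimeResidualSys (hTp.to_le hle) hD₁s
    exact IsResidualLimitOf.step E p D₁ _ ⟨hD₁s, hD₁⟩ hD₁' (isResidualLimitOf_congr hh.symm
      (fun P => (hom_eq_of_isPPrimeResidual hh h1 hD₁' hD' P).symm) hrest)

end CfsgLib.Fusion
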