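import Cfsg.Agent.Lib.Fusion.ResidualNormal
import Cfsg.Agent.Lib.Fusion.ResidualLimit
import Cfsg.Agent.Lib.Fusion.FunctorGeneration
import Cfsg.Agent.Lib.Fusion.PullSystem

/-!
# Residual limits of weakly normal subsystems are weakly normal
-/

set_option autoImplicit false

open Cfsg Cfsg.FusionSystem

namespace CfsgLib.Fusion

variable {Ω : Type*} [Group Ω] {p : ℕ} [Fact p.Prime]

section

variable {S T : Subgroup Ω} [Finite S] {F : FusionSystem S} {E : FusionSystem T}

/-- The automorphisms of `T` in `F` stabilize the hyperfocal subgroup of an invariant subsystem. -/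
theorem hyperfocalSubgroup_stable_of_invariant (hE : E.IsInvariantIn F) {α : MulAut T}
    (hα : α ∈ F.autGroup T) {x : T} (hx : (x : Ω) ∈ E.hyperfocalSubgroup p) :
    ((α x : T) : Ω) ∈ E.hyperfocalSubgroup p := by
  have hTS : T ≤ S := hE.2.1.1
  have hαF := (mem_autGroup_iff F hTS).1 hα
  set H := E.hyperfocalSubgroup p
  suffices h : H ≤ (H.comap (autIncl α)).map T.subtype by
    obtain ⟨y, hy, hyx⟩ := h hx
    rw [show x = y from Subtype.ext hyx.symm]
    exact hy
  refine (Subgroup.closure_le _).2 ?_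
  rintro _ ⟨Q, β, z, hQ, hβ, rfl⟩
  refine ⟨⟨_, T.mul_mem (T.inv_mem (hQ z.2)) (hQ ((β : MulAut Q) z).2)⟩, ?_, rfl⟩
  set Q' := imageAlong (autIncl α) Q with hQ'
  have hQ'T : Q' ≤ T := (Subgroup.map_le_range _ _).trans (autIncl_range α).le
  let f : Q ≃* Q' := imageEquiv (autIncl_injective α) hQ
  have hf : IsIso F f := mem_of_eq rfl (res_mem F hαF hQ) fun _ => rfl
  let π : E.autGroup Q →* E.autGroup Q' :=
    ((MulAut.congr f).toMonoidHom.comp (E.autGroup Q).subtype).codRestrict _ fun b =>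
      congr_mem_of_conjClosed hE.1 (conjClosed_of_isInvariantIn hE) hf hQ hQ'T b.2
  refine Subgroup.subset_closure ⟨Q', π β, f z, hQ'T, Transfer.map_pResidual_le π ⟨β, hβ, rfl⟩, ?_⟩
  change autIncl α ⟨_, _⟩ = ((f z : Q') : Ω)⁻¹ * ((f ((β : MulAut Q) (f.symm (f z))) : Q') : Ω)
  rw [MulEquiv.symm_apply_apply]
  change autIncl α _ = (autIncl α ⟨z, hQ z.2⟩)⁻¹ * autIncl α ⟨(β : MulAut Q) z, hQ ((β : MulAut Q) z).2⟩
  rw [← map_inv, ← map_mul]
  rfl

/-- A saturated subsystem of `p`-power index of a weakly normal subsystem is transported by the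
automorphisms of its subgroup in the whole system. -/
theorem transportClosed_of_pPowerIndex_of_weaklyNormal (hS : IsPGroup p S)
    (hE : E.IsWeaklyNormalIn F p) {H : Subgroup Ω} (hHT : H ≤ T) {D : FusionSystem H}
    (hD : D.IsSaturated p ∧ D.HasPPowerIndexIn E p) : TransportClosed D F := by
  obtain ⟨hEs, hF, hinv⟩ := hE
  have hTS := hinv.2.1.1
  have := finite_of_le hTS
  have hTp := hS.to_le hTS
  have hHS := hHT.trans hTS
  have := finite_of_le hHS
  have hHp := hTp.to_le hHT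
  intro P hPH φ hφ α hα
  set K := pullSys D (autIncl α) (autIncl_injective α) (autIncl_range α) with hK
  have hKs : K.IsSaturated p := (transported_pullSys D _ _ _).isSaturated hHp hD.1
  have hαF := (mem_autGroup_iff F hHS).1 hα
  have hQα : ∀ Q, imageAlong (autIncl α) Q ≤ H := fun Q =>
    (Subgroup.map_le_range _ _).trans (autIncl_range α).le
  have hKE : K.IsSubsystemOf E := by
    rintro Q φ ⟨hQ, hφH, ψ, hψ, hψe⟩
    obtain ⟨χ, hχ, hχe⟩ := conjClosed_of_isInvariantIn hinv _ H (hQα Q) hHT ψ (hD.2.1 _ hψ)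
      (fun x => apply_mem_S D hψ x) _ ((mem_autGroup_iff F hHS).1 (inv_mem hα))
    have hmem : ∀ x : Q, (x : Ω) ∈ ((imageAlong (autIncl α) Q).subgroupOf H).map
        (H.subtype.comp (α⁻¹).toMonoidHom) := fun x =>
      ⟨α ⟨x, hQ x.2⟩, ⟨⟨x, hQ x.2⟩, x.2, rfl⟩,
        congrArg Subtype.val (MulAut.inv_apply_self H α _)⟩
    refine mem_of_eq rfl (res_mem E hχ fun z hz => hmem ⟨z, hz⟩) fun x => ?_
    set y : imageAlong (autIncl α) Q := ⟨autIncl α ⟨x, hQ x.2⟩, apply_mem_imageAlong x.2⟩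
    have h1 : Subgroup.inclusion (hQα Q) y = α ⟨x, hQ x.2⟩ := Subtype.ext rfl
    have h0 : ((α⁻¹ (Subgroup.inclusion (hQα Q) y) : H) : Ω) = x := by
      rw [h1, MulAut.inv_apply_self]
    have h2 := hχe y (by
      change ((α⁻¹ (Subgroup.inclusion (hQα Q) y) : H) : Ω) ∈ _
      rw [h0]; exact hmem x)
    refine Eq.trans ?_ ((congrArg χ (Subtype.ext h0.symm)).trans h2).symm
    change φ x = ((α⁻¹ ⟨ψ y, _⟩ : H) : Ω)
    rw [show (⟨ψ y, apply_mem_S D hψ y⟩ : H) = α ⟨φ x, hφH x⟩ from Subtype.ext (hψe x),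
      MulAut.inv_apply_self]
  have hKp : K.HasPPowerIndexIn E p := by
    refine ⟨hKE, hD.2.2.1, fun Q hQ => ?_⟩
    rw [Subgroup.map_le_iff_le_comap, pResidual, Subgroup.closure_le]
    intro β hβ
    set f := imageEquiv (autIncl_injective α) hQ
    have hf : IsIso F f := mem_of_eq rfl (res_mem F hαF hQ) fun _ => rfl
    have hβ' : MulAut.congr f β ∈ E.autGroup (imageAlong (autIncl α) Q) :=
      congr_mem_of_conjClosed hinv.1 (conjClosed_of_isInvariantIn hinv) hf (hQ.trans hHT)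
        ((hQα Q).trans hHT) β.2
    have hβD : MulAut.congr f β ∈ D.autGroup (imageAlong (autIncl α) Q) :=
      mem_autGroup_of_coprime_pPowerIndex hD.2 (hQα Q) hβ' (by
        rw [MulEquiv.orderOf_eq, Subgroup.orderOf_coe]
        exact hβ)
    refine (mem_autGroup_iff K hQ).2 ⟨hQ, fun x => hQ ((β : MulAut Q) x).2, _,
      (mem_autGroup_iff D (hQα Q)).1 hβD, fun x => ?_⟩
    change ((f ((β : MulAut Q) (f.symm (f x))) : imageAlong (autIncl α) Q) : Ω) = _
    rw [MulEquiv.symm_apply_apply]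
    rfl
  have h3 := hom_eq_of_hasPPowerIndex hTp rfl hHT hKs hD.1 hKp hD.2 P
  rw [← h3] at hφ
  obtain ⟨hP', hφH, ψ, hψ, hψe⟩ := hφ
  exact ⟨ψ, hψ, fun x hφx hαx => hψe x⟩

/-- An invariant subsystem of a weakly normal subsystem that is stabilized is weakly normal. -/
theorem isWeaklyNormalIn_trans_of_transport (hE : E.IsWeaklyNormalIn F p) {H : Subgroup Ω}
    {D : FusionSystem H} (hDs : D.IsSaturated p) (hDi : D.IsInvariantIn E)
    (htr : TransportClosed D F)
    (hstab : ∀ {α : MulAut T}, α ∈ F.autGroup T → ∀ {x : T}, (x : Ω) ∈ H → ((α x : T) : Ω) ∈ H) :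
    D.IsWeaklyNormalIn F p := by
  obtain ⟨-, hF, hinv⟩ := hE
  have hTS := hinv.2.1.1
  have hHE := hDi.2.1
  have hHT := hHE.1
  have hHS := hHT.trans hTS
  have := finite_of_le hHS
  -- every map of `F` on a subgroup of `H` is an automorphism of `T` after a map of `E`
  have hfac : ∀ (P : Subgroup Ω), P ≤ H → ∀ φ : P →* Ω, φ ∈ F.Hom P →
      ∃ α ∈ F.autGroup T, ∃ φ₀ ∈ E.Hom P, (∀ x, φ₀ x ∈ H) ∧
        ∀ (x : P) (hx : φ₀ x ∈ T), φ x = ((α ⟨φ₀ x, hx⟩ : T) : Ω) := by
    intro P hP φ hφ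
    obtain ⟨α, hα, φ₀, hφ₀, he⟩ := hinv.2.2.2 P (hP.trans hHT) φ hφ
    exact ⟨α, hα, φ₀, hφ₀, fun x => hHE.2 P hP φ₀ hφ₀ x, he⟩
  refine ⟨hDs, hF, fun P φ hφ => hinv.1 P (hDi.1 P hφ), ⟨hHS, fun P hP φ hφ x => ?_⟩, htr,
    fun P hP φ hφ => ?_⟩
  · obtain ⟨α, hα, φ₀, hφ₀, hφ₀H, he⟩ := hfac P hP φ hφ
    rw [he x (hHT (hφ₀H x))]
    exact hstab hα (hφ₀H x)
  · obtain ⟨α, hα, φ₀, hφ₀, hφ₀H, he⟩ := hfac P hP φ hφ
    obtain ⟨β, hβ, φ₁, hφ₁, he'⟩ := hDi.2.2.2 P hP φ₀ hφ₀
    obtain ⟨a, ha, hae⟩ := exists_iso_of_range (res_mem F ((mem_autGroup_iff F hTS).1 hα) hHT)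
      (show ((T.subtype.comp α.toMonoidHom).comp (Subgroup.inclusion hHT)).range = H from by
        refine Subgroup.eq_of_le_of_card_ge ?_ ?_
        · rintro _ ⟨x, rfl⟩
          exact hstab hα (x := Subgroup.inclusion hHT x) x.2
        · exact (Nat.card_congr (MonoidHom.ofInjective (F.injective_of_mem
            (res_mem F ((mem_autGroup_iff F hTS).1 hα) hHT))).toEquiv).le)
    refine ⟨a * β, mul_mem ((mem_autGroup_iff F hHS).2 ha) (autGroup_mono hinv.1 H hβ), φ₁, hφ₁,
      fun x hx => ?_⟩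
    rw [he x (hHT (hφ₀H x)), MulAut.mul_apply, hae]
    exact congrArg (fun t : T => ((α t : T) : Ω)) (Subtype.ext (he' x hx))

/-- A normal subgroup containing the hyperfocal subgroup of a weakly normal subsystem, stabilized
in the whole system, carries a weakly normal subsystem. -/
theorem isWeaklyNormalIn_of_pPowerIndex (hS : IsPGroup p S) (hE : E.IsWeaklyNormalIn F p)
    {H : Subgroup Ω} (hHT : H ≤ T) (hn : T ≤ Subgroup.normalizer (H : Set Ω))
    {D : FusionSystem H} (hD : D.IsSaturated p ∧ D.HasPPowerIndexIn E p)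
    (hstab : ∀ {α : MulAut T}, α ∈ F.autGroup T → ∀ {x : T}, (x : Ω) ∈ H → ((α x : T) : Ω) ∈ H) :
    D.IsWeaklyNormalIn F p := by
  have := finite_of_le hE.2.2.2.1.1
  exact isWeaklyNormalIn_trans_of_transport hE hD.1
    (isNormalIn_of_hasPPowerIndex (hS.to_le hE.2.2.2.1.1) hE.1 hHT hn hD.1 hD.2).1.2.2
    (transportClosed_of_pPowerIndex_of_weaklyNormal hS hE hHT hD) hstab

/-- A saturated subsystem of `p`-power index of a weakly normal subsystem over its hyperfocal
subgroup is weakly normal. -/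
theorem isWeaklyNormalIn_pResidual_aux (hS : IsPGroup p S) (hE : E.IsWeaklyNormalIn F p)
    {H : Subgroup Ω} (hH : H = E.hyperfocalSubgroup p) {D : FusionSystem H}
    (hD : D.IsSaturated p ∧ D.HasPPowerIndexIn E p) : D.IsWeaklyNormalIn F p := by
  have := finite_of_le hE.2.2.2.1.1
  refine isWeaklyNormalIn_of_pPowerIndex hS hE (hH ▸ hyperfocalSubgroup_le p)
    (hH ▸ le_normalizer_hyperfocalSubgroup p) hD fun {α} hα {x} hx => ?_
  rw [hH] at hx ⊢
  exact hyperfocalSubgroup_stable_of_invariant hE.2.2 hα hx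

/-- The `p`-residual of a weakly normal subsystem is weakly normal. -/
theorem isWeaklyNormalIn_pResidual (hS : IsPGroup p S) (hE : E.IsWeaklyNormalIn F p)
    {D : FusionSystem (E.hyperfocalSubgroup p)} (hD : E.IsPResidual p D) :
    D.IsWeaklyNormalIn F p :=
  isWeaklyNormalIn_pResidual_aux hS hE rfl hD

end

/-- A residual limit of a weakly normal subsystem is weakly normal, and stable. -/
theorem isWeaklyNormalIn_residualLimit {T' T : Subgroup Ω} {L : FusionSystem T'}
    {E : FusionSystem T} {q : ℕ} (hlim : L.IsResidualLimitOf E q) :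
    q.Prime → ∀ {S : Subgroup Ω} [Finite S] (F : FusionSystem S), IsPGroup q S →
      E.IsWeaklyNormalIn F q → L.IsWeaklyNormalIn F q := by
  induction hlim with
  | stable G r _ _ => intro _ S _ F _ hE; exact hE
  | step G r D D' hD hD' _ ih =>
    intro hr S _ F hS hE
    have := Fact.mk hr
    exact ih hr F hS (isNormalIn_residual_of_weaklyNormal hS
      (isWeaklyNormalIn_pResidual hS hE hD) hD').1

omit [Fact p.Prime] in
theorem isResidualLimit_stable {T' T : Subgroup Ω} {L : FusionSystem T'} {E : FusionSystem T}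
    (hlim : L.IsResidualLimitOf E p) :
    L.hyperfocalSubgroup p = T' ∧ L.IsPPrimeResidual p L := by
  induction hlim with
  | stable G r h h' => exact ⟨h, h'⟩
  | step G r D D' hD hD' _ ih => exact ih

end CfsgLib.Fusion
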