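import Cfsg.Agent.Lib.Fusion.Extender

/-!
# A criterion for saturation
-/

set_option autoImplicit false

open Cfsg Cfsg.FusionSystem

namespace CfsgLib.Fusion

variable {Ω : Type*} [Group Ω] {S : Subgroup Ω} [Finite S] {F : FusionSystem S} {p : ℕ}
  [Fact p.Prime]

/-- A `p`-automorphism extending to a map on `M` extends to a `p`-automorphism of `M`. -/
theorem exists_pElement_extension {P M : Subgroup Ω} [Finite M] (hPM : P ≤ M) {α : MulAut P}
    {k : ℕ} (hα : α ^ p ^ k = 1) {β : MulAut M} (hβ : β ∈ F.autGroup M)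
    (h : ∀ x : P, β (Subgroup.inclusion hPM x) = Subgroup.inclusion hPM (α x)) :
    ∃ γ ∈ F.autGroup M, (∃ i, γ ^ p ^ i = 1) ∧
      ∀ x : P, γ (Subgroup.inclusion hPM x) = Subgroup.inclusion hPM (α x) := by
  have hp : p.Prime := Fact.out
  have hpow : ∀ (i : ℕ) (x : P),
      (β ^ i) (Subgroup.inclusion hPM x) = Subgroup.inclusion hPM ((α ^ i) x) := by
    intro i
    induction i with
    | zero => intro x; rfl
    | succ i ih => intro x; rw [pow_succ', MulAut.mul_apply, ih, h, pow_succ', MulAut.mul_apply]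
  have hfin : orderOf β ≠ 0 := (orderOf_pos β).ne'
  obtain ⟨e, m, hm, hem⟩ := Nat.exists_eq_pow_mul_and_not_dvd hfin p hp.ne_one
  have hco : m.Coprime (orderOf α) := Nat.Coprime.coprime_dvd_right
    (orderOf_dvd_of_pow_eq_one hα) ((hp.coprime_iff_not_dvd.2 hm).symm.pow_right k)
  obtain ⟨j, hj⟩ := exists_pow_eq_self_of_coprime hco
  refine ⟨β ^ (m * j), Subgroup.pow_mem _ hβ _, ⟨e, ?_⟩, fun x => ?_⟩
  · rw [← pow_mul, show m * j * p ^ e = p ^ e * m * j by ring, ← hem, pow_mul,
      pow_orderOf_eq_one, one_pow]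
  · rw [hpow, pow_mul, hj]

/-- If `S` is fully automized and fully normalized subgroups are receptive, they are fully
automized. -/
theorem isFullyAutomized_of_receptive (hS : IsPGroup p S) (hSa : F.IsFullyAutomized p S)
    (hr : ∀ P : Subgroup Ω, F.IsFullyNormalized P → F.IsReceptive P) :
    ∀ P : Subgroup Ω, F.IsFullyNormalized P → F.IsFullyAutomized p P := by
  suffices h : ∀ (n : ℕ) (P : Subgroup Ω), Nat.card S - Nat.card P ≤ n →
      F.IsFullyNormalized P → F.IsFullyAutomized p P from fun P => h _ P le_rfl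
  intro n
  induction n using Nat.strong_induction_on with
  | _ n ih =>
  intro P hn hP
  have hPS := hP.1
  have := finite_of_le hPS
  rcases eq_or_lt_of_le hPS with rfl | hlt
  · exact hSa
  rw [isFullyAutomized_iff hS]
  refine ⟨hPS, fun hdvd => ?_⟩
  set A := F.autGroup P
  set B := (autInducedBy S P).subgroupOf A
  have hBp : IsPGroup p B := (isPGroup_autInducedBy hS P).comap_subtype
  obtain ⟨T, hBT⟩ := hBp.exists_le_sylow
  have hBlt : B < (T : Subgroup A) := lt_of_le_of_ne hBT fun h => T.not_dvd_index (h ▸ hdvd)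
  have : Finite (T : Subgroup A) := inferInstance
  obtain ⟨α, ⟨hαT, hαN⟩, hαB⟩ := SetLike.exists_of_lt (lt_normalizerIn T.2 hBlt)
  obtain ⟨k, hk⟩ := T.2 ⟨α, hαT⟩
  have hαk : (α : MulAut P) ^ p ^ k = 1 := by
    have := congrArg (fun t : T => ((t : A) : MulAut P)) hk
    simpa using this
  have hαi : IsIso F (α : MulAut P) := (mem_autGroup_iff F hPS).1 α.2
  set N := normalizerIn S P
  have hPN : P ≤ N := le_normalizerIn hPS
  have hNS : N ≤ S := normalizerIn_le P
  have := finite_of_le hNS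
  -- `α` extends to `N`
  have hext : N ≤ extender S P (P.subtype.comp (α : MulAut P).toMonoidHom) := by
    intro g hg
    refine mem_extender_iso_iff.2 ⟨hg.1, hg.2, ?_⟩
    have hgA : normAut g hg.2 ∈ A :=
      autInducedBy_le_autGroup hPS (mem_autInducedBy_iff.2 ⟨g, hg.1, fun _ => rfl⟩)
    have h1 := (Subgroup.mem_normalizer_iff.1 hαN ⟨_, hgA⟩).1
      (mem_autInducedBy_iff.2 ⟨g, hg.1, fun _ => rfl⟩)
    convert Subgroup.mem_subgroupOf.1 h1 using 1
    exact MulEquiv.ext fun y => rfl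
  obtain ⟨ψ, hψ, hψe⟩ := exists_extension (hr P hP) hαi hPN hext
  have hψr : ψ.range = N := by
    refine Subgroup.eq_of_le_of_card_ge ?_
      (Nat.card_congr (MonoidHom.ofInjective (F.injective_of_mem hψ)).toEquiv).le
    rintro _ ⟨g, rfl⟩
    exact apply_mem_normalizerIn hψ hPN hψe inf_le_right g
  obtain ⟨β₀, hβ₀, hβ₀e⟩ := exists_iso_of_range hψ hψr
  obtain ⟨β, hβ, ⟨i, hi⟩, hβe⟩ := exists_pElement_extension (F := F) hPN hαk
    ((mem_autGroup_iff F hNS).2 hβ₀) fun x => Subtype.ext ((hβ₀e _).trans (hψe x))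
  -- move to a fully normalized conjugate of `N`
  obtain ⟨N', hNN', hN'⟩ := exists_fullyNormalized F hNS
  have := finite_of_le hN'.1
  have hcard : Nat.card N = Nat.card N' := card_eq_of_isConj hNN'
  have hN'a : F.IsFullyAutomized p N' := by
    have h1 : Nat.card P < Nat.card N := by
      have hlt' := lt_normalizerIn hS hlt
      exact lt_of_not_ge fun h => hlt'.ne (Subgroup.eq_of_le_of_card_ge hPN h)
    have h2 : Nat.card N' ≤ Nat.card S := Subgroup.card_le_of_le hN'.1
    exact ih (Nat.card S - Nat.card N') (by omega) N' le_rfl hN'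
  obtain ⟨e, he⟩ := isConj_iff.1 hNN'
  set u := MulAut.congr e β
  have huA : u ∈ F.autGroup N' := congr_mem_autGroup he hβ
  have hup : IsPGroup p (Subgroup.zpowers u) := by
    rintro ⟨_, z, rfl⟩
    refine ⟨i, Subtype.ext ?_⟩
    simp only [SubmonoidClass.coe_pow, OneMemClass.coe_one]
    rw [← zpow_natCast, ← zpow_mul, mul_comm, zpow_mul, zpow_natCast, ← map_pow, hi, map_one,
      one_zpow]
  obtain ⟨δ, hδ, hδu⟩ := exists_conj_mem_of_le hup (isPGroup_autInducedBy hS N')
    (Subgroup.zpowers_le.2 huA) (autInducedBy_le_autGroup hN'.1)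
    ((isFullyAutomized_iff hS).1 hN'a).2
  obtain ⟨x, hxS, hxe⟩ := mem_autInducedBy_iff.1 (hδu u (Subgroup.mem_zpowers u))
  have hγ : IsIso F (e.trans δ) := he.trans ((mem_autGroup_iff F hN'.1).1 hδ)
  set γ := e.trans δ
  -- `γ β γ⁻¹` is conjugation by `x`
  have hγx : ∀ y : N, (γ (β y) : Ω) = x * (γ y : Ω) * x⁻¹ := fun y => by
    rw [← hxe]
    simp [γ, u, MulAut.congr]
  set P' := ((N'.subtype.comp γ.toMonoidHom).comp (Subgroup.inclusion hPN)).range
  have hP'conj : F.IsConj P P' := ⟨_, res_mem F hγ hPN, rfl⟩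
  have := finite_of_le (le_right_of_isConj hP'conj)
  have hxn : x ∈ Subgroup.normalizer (P' : Set Ω) := by
    refine mem_normalizer_of_forall fun y hy => ?_
    obtain ⟨z, rfl⟩ := hy
    exact ⟨(α : MulAut P) z, (congrArg (fun w => ((γ w : N') : Ω)) (hβe z).symm).trans
      (hγx (Subgroup.inclusion hPN z))⟩
  have hN'le : N' ≤ normalizerIn S P' := by
    intro y hy
    refine ⟨hN'.1 hy, ?_⟩
    obtain ⟨w, hw⟩ := γ.surjective ⟨y, hy⟩
    refine mem_normalizer_of_forall fun z hz => ?_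
    obtain ⟨v, rfl⟩ := hz
    have hwv : ((w * Subgroup.inclusion hPN v * w⁻¹ : N) : Ω) ∈ P :=
      conj_mem_of_mem_normalizer w.2.2 v.2
    refine ⟨⟨_, hwv⟩, ?_⟩
    change (γ (Subgroup.inclusion hPN ⟨_, hwv⟩) : Ω) =
      y * (γ (Subgroup.inclusion hPN v) : Ω) * y⁻¹
    rw [show Subgroup.inclusion hPN ⟨_, hwv⟩ = w * Subgroup.inclusion hPN v * w⁻¹ from
      Subtype.ext rfl, map_mul, map_mul, map_inv, hw]
    rfl
  have hxN' : x ∈ N' := by
    have : Finite (normalizerIn S P') := finite_of_le (normalizerIn_le P')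
    have h1 : N' = normalizerIn S P' := Subgroup.eq_of_le_of_card_ge hN'le
      ((hP.2 P' hP'conj).trans hcard.le)
    rw [h1]
    exact ⟨hxS, hxn⟩
  obtain ⟨g, hg⟩ := γ.surjective ⟨x, hxN'⟩
  refine hαB (Subgroup.mem_subgroupOf.2 (mem_autInducedBy_iff.2 ⟨g, g.2.1, fun y => ?_⟩))
  have h2 : β (Subgroup.inclusion hPN y) = g * Subgroup.inclusion hPN y * g⁻¹ := by
    apply γ.injective
    apply Subtype.ext
    rw [hγx, map_mul, map_mul, map_inv, hg]
    rfl
  rw [hβe] at h2
  exact congrArg Subtype.val h2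

/-- `F` is saturated iff `S` is fully automized and fully normalized subgroups are receptive. -/
theorem isSaturated_iff_receptive (hS : IsPGroup p S) :
    F.IsSaturated p ↔
      (F.IsFullyAutomized p S ∧ ∀ P : Subgroup Ω, F.IsFullyNormalized P → F.IsReceptive P) := by
  constructor
  · intro hF
    refine ⟨(fullyAutomized_receptive_of_fullyNormalized hS hF ⟨le_rfl, fun Q hQ => ?_⟩).1,
      fun P hP => (fullyAutomized_receptive_of_fullyNormalized hS hF hP).2⟩
    obtain rfl : Q = S := Subgroup.eq_of_le_of_card_ge (le_right_of_isConj hQ)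
      (card_eq_of_isConj hQ).le
    exact le_rfl
  · rintro ⟨ha, hr⟩ P hP
    obtain ⟨Q, hPQ, hQ⟩ := exists_fullyNormalized F hP
    exact ⟨Q, hPQ, isFullyAutomized_of_receptive hS ha hr Q hQ, hr Q hQ⟩

end CfsgLib.Fusion
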