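import Cfsg.Agent.Lib.Invol.QDW.CentralizerQType
import Cfsg.Agent.Lib.Fusion.LocalCrit
import Cfsg.Agent.Lib.Fusion.Invariant
import Cfsg.Agent.Lib.Fusion.Dihedral
import Cfsg.Agent.Lib.Fusion.GroupSystem

/-!
# 2-fusion systems with semidihedral or wreathed Sylow group

If a group without subgroups of index 2 has a semidihedral or wreathed Sylow 2-subgroup, its fusion
system is simple.
-/

set_option autoImplicit false

open Cfsg Cfsg.FusionSystem CfsgLib.Invol.QDW

namespace CfsgLib.Fusion.SdWr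

/-- To make every automorphism a 2-element it suffices to kill those of odd order. -/
theorem exists_two_pow_of_odd_trivial {M : Type*} [Group M] [Finite M]
    (h : ∀ (φ : MulAut M) (o : ℕ), Odd o → φ ^ o = 1 → φ = 1) (α : MulAut M) :
    ∃ k : ℕ, α ^ 2 ^ k = 1 := by
  haveI : Finite (MulAut M) := Finite.of_injective (fun φ : MulAut M => (φ : M → M))
    DFunLike.coe_injective
  obtain ⟨k, o, ho, he⟩ := Nat.exists_eq_two_pow_mul_odd (orderOf_pos α).ne'
  refine ⟨k, h _ o ho ?_⟩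
  rw [← pow_mul, ← he, pow_orderOf_eq_one]

theorem sd_aut (k : ℕ) (φ : MulAut (Sd k)) (o : ℕ) (ho : Odd o) (hφ : φ ^ o = 1) : φ = 1 := by
  refine aut_trivial_cyclic Sd.isPGroup_sd φ ho hφ (c := (⟨1, false⟩ : Sd k)) (w := Sd.bS k)
    (fun x => ?_) ?_
  · rw [← Sd.rot_eq_zpowers]
    cases hx : x.e
    · exact Or.inl (Sd.mem_rot.mpr hx)
    · exact Or.inr (Sd.mem_rot.mpr (by simp [Sd.bS, hx]))
  · rw [← Sd.rot_eq_zpowers, Sd.mem_rot]
    by_contra he
    rw [Bool.not_eq_false] at he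
    have h4 : φ (⟨1, false⟩ : Sd k) ^ 4 = 1 := by
      rw [show (4 : ℕ) = 2 * 2 from rfl, pow_mul, pow_two (φ _)]
      ext
      · simp [pow_two, he, Sd.c]
        linear_combination
          ((φ (⟨1, false⟩ : Sd k)).i) * (Sd.two_half (k := k))
      · simp [pow_two, he]
    rw [← map_pow, ← map_one φ] at h4
    have h4' := φ.injective h4
    rw [Sd.zpow_rot] at h4'
    have h5 : ((4 : ℕ) : ZMod (2 ^ (k + 3))) = 0 := by simpa using congrArg Sd.i h4'
    rw [ZMod.natCast_eq_zero_iff] at h5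
    have := Nat.le_of_dvd (by norm_num) h5
    have h8 : 2 ^ 3 ≤ 2 ^ (k + 3) := Nat.pow_le_pow_right (by norm_num) (by omega)
    omega

theorem wr_aut (r : ℕ) (φ : MulAut (Wr (2 ^ (r + 2)))) (o : ℕ) (ho : Odd o) (hφ : φ ^ o = 1) :
    φ = 1 := by
  let ψ : MulAut (⊤ : Subgroup (Wr (2 ^ (r + 2)))) :=
    (MulAut.congr Subgroup.topEquiv.symm) φ
  have hψ : ψ ^ o = 1 := by
    show (MulAut.congr Subgroup.topEquiv.symm φ) ^ o = 1
    rw [← map_pow, hφ, map_one]
  have hbase : (Wr.base (2 ^ (r + 2))).map φ.toMonoidHom = Wr.base (2 ^ (r + 2)) := by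
    refine Wr.eq_base_of_comm ⟨⟨?_⟩⟩ ?_
    · rintro ⟨_, a, ha, rfl⟩ ⟨_, b, hb, rfl⟩
      refine Subtype.ext ?_
      show φ a * φ b = φ b * φ a
      rw [← map_mul, ← map_mul, Wr.base_comm ha hb]
    · rw [Subgroup.card_map_of_injective (f := φ.toMonoidHom) φ.injective, Wr.card_base]
  have h1 := Wr.aut_trivial (X := (⊤ : Subgroup (Wr (2 ^ (r + 2))))) le_top
    (w := ⟨Wr.tW r, Subgroup.mem_top _⟩) rfl ψ ho hψ (fun x hx => by
      have : φ x.1 ∈ (Wr.base (2 ^ (r + 2))).map φ.toMonoidHom :=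
        Subgroup.mem_map_of_mem _ (Wr.mem_base.mpr hx)
      rw [hbase] at this
      exact Wr.mem_base.mp this)
  refine (MulAut.congr Subgroup.topEquiv.symm).injective ?_
  rw [map_one]
  exact h1

variable {G : Type*} [Group G] [Finite G] {M : Type*} [Group M] {S : Sylow 2 G} {ι : M →* G}

/-- The preimage of a strongly closed subgroup is closed under `G`-fusion. -/
theorem mem_comap_of_isConj (hS : ι.range = (S : Subgroup G)) {T : Subgroup G}
    (hT : (groupFusionSystem (S : Subgroup G)).StronglyClosed T) {a b : M} (ha : a ∈ T.comap ι)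
    (h : _root_.IsConj (ι a) (ι b)) : b ∈ T.comap ι := by
  obtain ⟨g, hg⟩ := _root_.isConj_iff.mp h
  rw [Subgroup.mem_comap, ← hg]
  refine conj_mem_of_stronglyClosed hT ha g ?_
  rw [hg, ← hS]
  exact ⟨b, rfl⟩

omit [Finite G] in
theorem eq_of_comap_top (hS : ι.range = (S : Subgroup G)) {T : Subgroup G}
    (hT : (groupFusionSystem (S : Subgroup G)).StronglyClosed T) (h : T.comap ι = ⊤) :
    T = (S : Subgroup G) := by
  refine le_antisymm hT.1 ?_
  rw [← hS]
  rintro _ ⟨m, rfl⟩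
  exact h.ge (Subgroup.mem_top m)

theorem exists_involution_mem [Finite M] (hι : Function.Injective ι) (hS : ι.range = (S : Subgroup G))
    {T : Subgroup G} (hT : (groupFusionSystem (S : Subgroup G)).StronglyClosed T) (hT1 : T ≠ ⊥) :
    ∃ m ∈ T.comap ι, orderOf m = 2 := by
  haveI : Fact (Nat.Prime 2) := ⟨Nat.prime_two⟩
  obtain ⟨j, hj⟩ := IsPGroup.iff_card.mp (S.2.to_le hT.1)
  obtain ⟨x, hx⟩ := exists_prime_orderOf_dvd_card' (G := T) 2 (by
    rcases j with - | j
    · rw [pow_zero, Subgroup.card_eq_one] at hj; exact absurd hj hT1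
    · exact hj ▸ dvd_pow_self 2 (Nat.succ_ne_zero j))
  obtain ⟨m, hm⟩ : (x : G) ∈ ι.range := hS ▸ hT.1 x.2
  refine ⟨m, by rw [Subgroup.mem_comap, hm]; exact x.2, ?_⟩
  rw [← orderOf_inj ι hι, hm, Subgroup.orderOf_coe]; exact hx

/-- The fusion system of a group without index 2 on a semidihedral Sylow 2-subgroup is simple. -/
theorem isSimple_sd {k : ℕ} (S : Sylow 2 G) (ι : Sd k →* G) (hι : Function.Injective ι)
    (hS : ι.range = (S : Subgroup G)) (hG : ∀ H : Subgroup G, H.index ≠ 2) :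
    (groupFusionSystem (S : Subgroup G)).IsSimple 2 := by
  haveI : Fact (Nat.Prime 2) := ⟨Nat.prime_two⟩
  let e : Sd k ≃* (S : Subgroup G) := (MonoidHom.ofInjective hι).trans (MulEquiv.subgroupCongr hS)
  have hS1 : (S : Subgroup G) ≠ ⊥ := fun h => by
    have h1 := Nat.card_congr e.toEquiv
    rw [Sd.card_eq, h, Subgroup.card_bot] at h1
    exact absurd h1 (Nat.one_lt_two_pow (by omega)).ne'
  refine isSimple_of_autGroup_eq_inn S.2 (isSaturated_groupFusion S) hS1 (fun T hT => ?_) ?_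
  · by_cases hT1 : T = ⊥
    · exact Or.inl hT1
    refine Or.inr (eq_of_comap_top hS hT ?_)
    obtain ⟨hzb, hqd⟩ := Sd.fused_of_no_index_two hι hS hG
    set T' := T.comap ι
    have cl : ∀ {a b : Sd k}, a ∈ T' → _root_.IsConj (ι a) (ι b) → b ∈ T' := fun ha h =>
      mem_comap_of_isConj hS hT ha h
    obtain ⟨m, hm, hm2⟩ := exists_involution_mem hι hS hT hT1
    have hb : Sd.bS k ∈ T' := by
      rcases Sd.involution_cases hm2 with rfl | h
      · exact cl hm hzb
      · exact cl hm (MonoidHom.map_isConj ι h)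
    have hb2 : (⟨2, true⟩ : Sd k) ∈ T' :=
      cl hb (MonoidHom.map_isConj ι (Sd.isConj_bS (a := ⟨2, true⟩) rfl ⟨1, (mul_one _).symm⟩)).symm
    have h2 : (⟨2, false⟩ : Sd k) ∈ T' := by
      have := inv_mem (mul_mem hb hb2)
      have e : (Sd.bS k * (⟨2, true⟩ : Sd k))⁻¹ = ⟨2, false⟩ := by
        ext
        · simp [Sd.bS]
          linear_combination (-1 : ZMod (2 ^ (k + 3))) * Sd.c_mul_even (k := k) 1
        · simp [Sd.bS]
      rwa [e] at this
    have hq : Sd.qS k ∈ T' := by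
      have := pow_mem h2 (2 ^ k)
      rw [Sd.zpow_rot] at this
      convert this using 1
      ext
      · simp only [Sd.qS]; push_cast; ring
      · rfl
    have hd : Sd.dS k ∈ T' := cl hq hqd
    rw [eq_top_iff, ← Sd.bd_generate, Subgroup.closure_le]
    rintro x (rfl | rfl)
    exacts [hb, hd]
  · refine autGroup_self_eq_inn_of_pow S.2 (isSaturated_groupFusion S) fun α => ?_
    obtain ⟨j, hj⟩ := exists_two_pow_of_odd_trivial (sd_aut k) ((MulAut.congr e).symm α)
    exact ⟨j, (MulAut.congr e).symm.injective (by rw [map_pow, hj, map_one])⟩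

/-- The model of a wreathed group is wreathed. -/
theorem isWreathed_model (r : ℕ) : Cfsg.IsWreathed (Wr (2 ^ (r + 2))) := by
  haveI : NeZero (2 ^ (r + 2)) := ⟨by positivity⟩
  have h2 : 2 ≤ 2 ^ (r + 2) := Nat.le_self_pow (by omega) 2
  refine ⟨r + 2, by omega, by rw [Wr.card_eq, ← pow_add, ← pow_succ']; congr 1; ring,
    ⟨1, 0, false⟩, ⟨0, 1, false⟩, Wr.tW r, ?_, ?_, ?_, Wr.orderOf_tW, ?_⟩
  · rw [orderOf_eq_iff (by positivity)]
    refine ⟨?_, fun m hm hm0 h => ?_⟩
    · obtain ⟨h1, h3, h4⟩ := Wr.pow_base (⟨1, 0, false⟩ : Wr (2 ^ (r + 2))) rfl (2 ^ (r + 2))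
      ext <;> simp [h1, h3, h4]
    · obtain ⟨h1, h3, h4⟩ := Wr.pow_base (⟨1, 0, false⟩ : Wr (2 ^ (r + 2))) rfl m
      have h5 : ((m : ℕ) : ZMod (2 ^ (r + 2))) = 0 := by
        have := congrArg Wr.i h
        simpa [h1, h3, h4] using this
      rw [ZMod.natCast_eq_zero_iff] at h5
      exact absurd (Nat.le_of_dvd hm0 h5) (not_le.mpr hm)
  · exact Wr.base_comm (Wr.mem_base.mpr rfl) (Wr.mem_base.mpr rfl)
  · rw [eq_bot_iff]
    rintro x ⟨hx, hy⟩
    have hxj : x ∈ (⊤ : Subgroup (Wr (2 ^ (r + 2)))) := Subgroup.mem_top x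
    obtain ⟨a, rfl⟩ := (Submonoid.mem_powers_iff _ _).mp
      ((isOfFinOrder_of_finite _).mem_powers_iff_mem_zpowers.mpr hx)
    obtain ⟨b, hb⟩ := (Submonoid.mem_powers_iff _ _).mp
      ((isOfFinOrder_of_finite _).mem_powers_iff_mem_zpowers.mpr hy)
    obtain ⟨h1, h3, h4⟩ := Wr.pow_base (⟨1, 0, false⟩ : Wr (2 ^ (r + 2))) rfl a
    obtain ⟨g1, g3, g4⟩ := Wr.pow_base (⟨0, 1, false⟩ : Wr (2 ^ (r + 2))) rfl b
    have hi := congrArg Wr.i hb
    simp [h1, h3, h4, g1, g3, g4] at hi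
    rw [Subgroup.mem_bot]
    ext <;> simp [h1, h3, h4, ← hi]
  · ext <;> simp [Wr.tW]

/-- The fusion system of a group without index 2 on a wreathed Sylow 2-subgroup is simple. -/
theorem isSimple_wr {r : ℕ} (S : Sylow 2 G) (ι : Wr (2 ^ (r + 2)) →* G) (hι : Function.Injective ι)
    (hS : ι.range = (S : Subgroup G)) (hG : ∀ H : Subgroup G, H.index ≠ 2) :
    (groupFusionSystem (S : Subgroup G)).IsSimple 2 := by
  haveI : Fact (Nat.Prime 2) := ⟨Nat.prime_two⟩
  haveI : NeZero (2 ^ (r + 2)) := ⟨by positivity⟩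
  let e : Wr (2 ^ (r + 2)) ≃* (S : Subgroup G) :=
    (MonoidHom.ofInjective hι).trans (MulEquiv.subgroupCongr hS)
  have hS1 : (S : Subgroup G) ≠ ⊥ := fun h => by
    have h1 := Nat.card_congr e.toEquiv
    rw [h, Subgroup.card_bot, Wr.card_eq] at h1
    omega
  have hW : Cfsg.IsWreathed (S : Subgroup G) := isWreathed_congr e (isWreathed_model r)
  refine isSimple_of_autGroup_eq_inn S.2 (isSaturated_groupFusion S) hS1 (fun T hT => ?_) ?_
  · by_cases hT1 : T = ⊥
    · exact Or.inl hT1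
    refine Or.inr (eq_of_comap_top hS hT ?_)
    obtain ⟨hzc, hct⟩ := Wr.fused_of_no_index_two hW hι hS hG
    set T' := T.comap ι
    have cl : ∀ {a b : Wr (2 ^ (r + 2))}, a ∈ T' → _root_.IsConj (ι a) (ι b) → b ∈ T' := fun ha h =>
      mem_comap_of_isConj hS hT ha h
    -- all involutions
    obtain ⟨m, hm, hm2⟩ := exists_involution_mem hι hS hT hT1
    have hc : Wr.cW r ∈ T' := by
      rcases Wr.involution_cases hm2 with rfl | h | h
      · exact cl hm hzc
      · exact cl hm (MonoidHom.map_isConj ι h)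
      · exact cl hm ((MonoidHom.map_isConj ι h).trans hct.symm)
    have hinv : Wr.sumTwo r ≤ T' := by
      rw [← Wr.closure_involutions, Subgroup.closure_le]
      intro x hx
      rcases Wr.involution_cases hx with rfl | h | h
      · exact cl hc hzc.symm
      · exact cl hc (MonoidHom.map_isConj ι h).symm
      · exact cl hc (hct.trans (MonoidHom.map_isConj ι h).symm)
    have hanti : ∀ i : ZMod (2 ^ (r + 2)), (⟨i, -i, false⟩ : Wr (2 ^ (r + 2))) ∈ T' := fun i =>
      hinv (Wr.mem_sumTwo.mpr (show 2 * (i + -i) = 0 by ring))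
    -- the automorphism of the base induced by an element of odd order
    obtain ⟨n, hn, ho, hcov⟩ := Wr.exists_commutator_cover hι hS hzc
    have hbase : ∀ a : Wr (2 ^ (r + 2)), a.e = false → ∃ b : Wr (2 ^ (r + 2)),
        b.e = false ∧ ι b = n * ι a * n⁻¹ := by
      intro a ha
      obtain ⟨b, hb, hbe⟩ := (Subgroup.mem_normalizer_iff.mp hn _).mp
        (Subgroup.mem_map_of_mem ι (Wr.mem_base.mpr ha))
      exact ⟨b, Wr.mem_base.mp hb, hbe⟩
    obtain ⟨w, hwe, hw⟩ := hbase (Wr.gW r) rfl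
    set b := w.i + w.j with hb
    -- `n` acts on the base modulo `T` as multiplication by `b`
    have hact : ∀ a c : Wr (2 ^ (r + 2)), a.e = false → c.e = false → ι c = n * ι a * n⁻¹ →
        (⟨c.i + c.j - (a.i + a.j) * b, 0, false⟩ : Wr (2 ^ (r + 2))) ∈ T' := by
      intro a c ha hce hc'
      set s := a.i + a.j with hs
      obtain ⟨a', ha'e, ha'⟩ := hbase (⟨-a.j, a.j, false⟩) rfl
      have h1 : a' ∈ T' := cl (hinv (Wr.mem_sumTwo.mpr (show 2 * (-a.j + a.j) = 0 by ring)))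
        (_root_.isConj_iff.mpr ⟨n, ha'.symm⟩)
      have e1 : a = Wr.gW r ^ s.val * ⟨-a.j, a.j, false⟩ := by
        rw [Wr.gW_pow, ZMod.natCast_rightInverse s]
        ext <;> simp [hs, ha]
      have e2 : c = w ^ s.val * a' := hι (by
        have e1' : ι a = ι (Wr.gW r) ^ s.val * ι ⟨-a.j, a.j, false⟩ := by
          rw [← map_pow, ← map_mul, ← e1]
        rw [map_mul, map_pow, hw, ha', hc', conj_pow, e1']
        group)
      obtain ⟨p1, p2, p3⟩ := Wr.pow_base w hwe s.val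
      have e3 : (⟨c.i + c.j - s * b, 0, false⟩ : Wr (2 ^ (r + 2))) =
          a' * ⟨a'.j, -a'.j, false⟩ := by
        ext
        · simp [e2, p1, p2, p3, ha'e, hb, ZMod.natCast_rightInverse s]; ring
        · simp [ha'e]
        · simp [ha'e]
      rw [e3]
      exact mul_mem h1 (hanti _)
    -- an odd multiple of the generator
    obtain ⟨ε, hεT, hεu⟩ : ∃ ε : ZMod (2 ^ (r + 2)),
        (⟨ε, 0, false⟩ : Wr (2 ^ (r + 2))) ∈ T' ∧ IsUnit ε := by
      have hunit : ∀ x : ZMod (2 ^ (r + 2)), IsUnit (1 - 2 * x) := fun x => by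
        refine IsNilpotent.isUnit_one_sub ⟨r + 2, ?_⟩
        rw [mul_pow, show (2 : ZMod (2 ^ (r + 2))) ^ (r + 2) = ((2 ^ (r + 2) : ℕ) : ZMod (2 ^ (r + 2))) by push_cast; rfl, ZMod.natCast_self, zero_mul]
      have hpar : (∃ x, b = 2 * x) ∨ ∃ x, b = 2 * x + 1 := by
        obtain ⟨x, hx⟩ | ⟨x, hx⟩ := Nat.even_or_odd b.val
        · exact Or.inl ⟨x, by rw [← ZMod.natCast_rightInverse b, hx]; push_cast; ring⟩
        · exact Or.inr ⟨x, by rw [← ZMod.natCast_rightInverse b, hx]; push_cast; ring⟩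
      rcases hpar with ⟨x, hx⟩ | ⟨x, hx⟩
      · obtain ⟨a, hae, hav⟩ : ∃ a : Wr (2 ^ (r + 2)), a.e = false ∧
            ι (Wr.gW r) = n * ι a * n⁻¹ := by
          obtain ⟨a, ha, hae⟩ := (Subgroup.mem_normalizer_iff.mp (inv_mem hn) _).mp
            (Subgroup.mem_map_of_mem ι (Wr.mem_base.mpr (show (Wr.gW r).e = false from rfl)))
          refine ⟨a, Wr.mem_base.mp ha, ?_⟩
          rw [hae]; group
        have h1 := hact a (Wr.gW r) hae rfl hav
        refine ⟨1 - 2 * ((a.i + a.j) * x), ?_, hunit _⟩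
        convert h1 using 2
        simp [Wr.gW, hx]; ring
      · obtain ⟨v, ⟨a, ha, rfl⟩, hv⟩ := hcov _ (Subgroup.mem_map_of_mem ι
          (Wr.mem_base.mpr (show (Wr.gW r).e = false from rfl)))
        have hae := Wr.mem_base.mp ha
        have hav : ι (Wr.gW r * a) = n * ι a * n⁻¹ := by rw [map_mul, hv, inv_mul_cancel_right]
        have hge : (Wr.gW r * a).e = false := by simp [Wr.gW, hae]
        have h1 := hact a (Wr.gW r * a) hae hge hav
        refine ⟨1 - 2 * ((a.i + a.j) * x), ?_, hunit _⟩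
        convert h1 using 2
        simp [Wr.gW, hx]; ring
    have hg : Wr.gW r ∈ T' := by
      obtain ⟨u, rfl⟩ := hεu
      have := pow_mem hεT ((↑u⁻¹ : ZMod (2 ^ (r + 2)))).val
      convert this using 1
      obtain ⟨p1, p2, p3⟩ := Wr.pow_base (⟨(u : ZMod (2 ^ (r + 2))), 0, false⟩ : Wr (2 ^ (r + 2))) rfl
        ((↑u⁻¹ : ZMod (2 ^ (r + 2)))).val
      ext
      · simp [p1, p2, p3, Wr.gW, ZMod.natCast_rightInverse _]
      · simp [p1, p2, p3, Wr.gW]
      · simp [p1, p2, p3, Wr.gW]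
    rw [eq_top_iff, ← Wr.sumTwo_sup_zpowers]
    exact sup_le hinv (Subgroup.zpowers_le.mpr hg)
  · refine autGroup_self_eq_inn_of_pow S.2 (isSaturated_groupFusion S) fun α => ?_
    obtain ⟨j, hj⟩ := exists_two_pow_of_odd_trivial (wr_aut r) ((MulAut.congr e).symm α)
    exact ⟨j, (MulAut.congr e).symm.injective (by rw [map_pow, hj, map_one])⟩

end CfsgLib.Fusion.SdWr
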