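import Cfsg.Agent.Lib.Fusion.SmallEssential
import Cfsg.Agent.Lib.Fusion.FunctorCore
import Cfsg.Agent.Lib.LocalEven.StronglyEmbeddedCrit
import Cfsg.Agent.Lib.Transfer.MaximalClass

/-!
# Essentiality of the centralizer of the second centre in a group of maximal class
-/

set_option autoImplicit false

open Cfsg Cfsg.FusionSystem CfsgLib.LocalEven
open scoped commutatorElement

namespace CfsgLib.Fusion

variable {p : ℕ} [Fact p.Prime]

/-- The second centre and the centre of a group of order at least `p ^ 4` of maximal class. -/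
theorem card_secondCentre_of_maximalClass {X : Type*} [Group X] [Finite X] {n : ℕ}
    (hX : Nat.card X = p ^ n) (h4 : 4 ≤ n)
    (hmax : (⊤ : Subgroup X).lowerCentralSeries (n - 2) ≠ ⊥) :
    Nat.card (Subgroup.upperCentralSeries X 2) = p ^ 2 := by
  have hp : p.Prime := Fact.out
  have hXp := IsPGroup.of_card hX
  have := hXp.isNilpotent
  have hclass : Group.nilpotencyClass X = n - 1 := by
    refine le_antisymm (CfsgLib.Transfer.nilpotencyClass_le_of_card hX (by omega)) ?_
    by_contra h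
    exact hmax (Subgroup.lowerCentralSeries_eq_bot_iff_nilpotencyClass_le.2 (by omega))
  have hbot : (⊤ : Subgroup X).lowerCentralSeries (n - 1) = ⊥ :=
    Subgroup.lowerCentralSeries_eq_bot_iff_nilpotencyClass_le.2 hclass.le
  set L := (⊤ : Subgroup X).lowerCentralSeries with hL
  set V := Subgroup.upperCentralSeries X 2 with hV
  have hcen : L (n - 2) ≤ Subgroup.center X := by
    intro x hx
    rw [Subgroup.mem_center_iff]
    intro y
    have h1 : ⁅x, y⁆ ∈ L (n - 1) := by
      rw [show n - 1 = n - 2 + 1 by omega]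
      exact Subgroup.commutator_mem_commutator hx (Subgroup.mem_top y)
    rw [hbot, Subgroup.mem_bot, commutatorElement_eq_one_iff_mul_comm] at h1
    exact h1.symm
  have hlow : L (n - 3) ≤ V := by
    intro x hx
    refine Subgroup.mem_upperCentralSeries_succ_iff.2 fun y => ?_
    rw [Subgroup.upperCentralSeries_one]
    refine hcen ?_
    rw [show n - 2 = n - 3 + 1 by omega]
    exact Subgroup.commutator_mem_commutator hx (Subgroup.mem_top y)
  have hge : p ^ 2 ≤ Nat.card V := by
    refine le_trans (le_of_eq ?_) (Subgroup.card_le_of_le hlow)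
    rw [CfsgLib.Transfer.card_lowerCentralSeries hX (by omega) hclass (by omega) (by omega)]
    congr 1; omega
  obtain ⟨r, hrn, hr⟩ : ∃ r ≤ n, V.index = p ^ r :=
    (Nat.dvd_prime_pow hp).1 (hX ▸ V.index_dvd_card)
  have hcard : Nat.card V = p ^ (n - r) := by
    have h := V.card_mul_index
    rw [hr, hX, show p ^ n = p ^ (n - r) * p ^ r by rw [← pow_add]; congr 1; omega] at h
    exact Nat.eq_of_mul_eq_mul_right (pow_pos hp.pos _) h
  have hr2 : 2 ≤ r := by
    by_contra hr1
    have hcyc : IsCyclic (X ⧸ V) := by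
      rcases Nat.le_one_iff_eq_zero_or_eq_one.1 (show r ≤ 1 by omega) with rfl | rfl
      · have : Subsingleton (X ⧸ V) := (Nat.card_eq_one_iff_unique.1
          (by rw [← Subgroup.index_eq_card, hr, pow_zero])).1
        infer_instance
      · exact isCyclic_of_prime_card (p := p) (by rw [← Subgroup.index_eq_card, hr, pow_one])
    let f : (X ⧸ Subgroup.center X) →* (X ⧸ V) := QuotientGroup.map _ _ (MonoidHom.id X)
      (by rw [Subgroup.comap_id, ← Subgroup.upperCentralSeries_one]
          exact Subgroup.upperCentralSeries_mono X (by omega))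
    have hker : f.ker ≤ Subgroup.center (X ⧸ Subgroup.center X) := by
      intro q hq
      obtain ⟨x, rfl⟩ := QuotientGroup.mk'_surjective _ q
      have hxV : x ∈ V := (QuotientGroup.eq_one_iff x).1 hq
      rw [Subgroup.mem_center_iff]
      intro q'
      obtain ⟨y, rfl⟩ := QuotientGroup.mk'_surjective _ q'
      have h := Subgroup.mem_upperCentralSeries_succ_iff.1 hxV y
      rw [Subgroup.upperCentralSeries_one] at h
      rw [eq_comm, ← commutatorElement_eq_one_iff_mul_comm, ← map_commutatorElement]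
      exact (QuotientGroup.eq_one_iff _).2 h
    have hab := MonoidHom.isMulCommutative_of_isCyclic_of_ker_le_center f hker
    have h2 : L 2 = ⊥ := by
      rw [eq_bot_iff, hL, show (2 : ℕ) = 1 + 1 from rfl, Subgroup.lowerCentralSeries,
        Subgroup.commutator_le]
      intro a ha b _
      have hc : L 1 ≤ Subgroup.center X := by
        rw [hL, Subgroup.top_lowerCentralSeries_one, commutator_def, Subgroup.commutator_le]
        intro u _ v _
        refine (QuotientGroup.eq_one_iff _).1 ?_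
        rw [← QuotientGroup.mk'_apply, map_commutatorElement, commutatorElement_eq_one_iff_mul_comm]
        exact hab.is_comm.comm _ _
      rw [Subgroup.mem_bot, commutatorElement_eq_one_iff_mul_comm]
      exact (Subgroup.mem_center_iff.1 (hc ha) b).symm
    have := Subgroup.lowerCentralSeries_eq_bot_iff_nilpotencyClass_le.1 h2
    omega
  have hVL : V = L (r - 1) :=
    CfsgLib.Transfer.normal_eq_lowerCentralSeries hX hclass (by omega) V hr2 hr
  refine le_antisymm ?_ hge
  rw [hcard]
  refine Nat.pow_le_pow_right hp.pos ?_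
  by_contra h
  have hz : L (r + 1) = ⊥ := by
    rw [eq_bot_iff, hL, Subgroup.lowerCentralSeries, Subgroup.commutator_le]
    intro a ha b _
    have hc : L r ≤ Subgroup.center X := by
      rw [hL, show r = r - 1 + 1 by omega, Subgroup.lowerCentralSeries, Subgroup.commutator_le]
      intro u hu v _
      have h := Subgroup.mem_upperCentralSeries_succ_iff.1 (hVL.ge hu) v
      rwa [Subgroup.upperCentralSeries_one] at h
    rw [Subgroup.mem_bot, commutatorElement_eq_one_iff_mul_comm]
    exact (Subgroup.mem_center_iff.1 (hc ha) b).symm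
  have := Subgroup.lowerCentralSeries_eq_bot_iff_nilpotencyClass_le.1 hz
  omega

variable {Ω : Type*} [Group Ω] {S : Subgroup Ω} [Finite S] {F : FusionSystem S}

/-- A normal plane `V` of `S` meeting the centre in a line that an automorphism of `V` in the
system moves has an essential centralizer. -/
theorem isEssential_centralizerIn_of_moved (hS : IsPGroup p S) (hF : F.IsSaturated p)
    {V Z : Subgroup Ω} (hVS : V ≤ S) (hVn : S ≤ Subgroup.normalizer (V : Set Ω))
    (hVc : Nat.card V = p ^ 2) (hZ : ∀ z, z ∈ Z ↔ z ∈ S ∧ ∀ y ∈ S, y * z = z * y)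
    (hcomm : ∀ s ∈ S, ∀ v ∈ V, ⁅s, v⁆ ∈ Z)
    {φ : V →* Ω} (hφ : φ ∈ F.Hom V) (hφV : φ.range = V) {z : V} (hz : (z : Ω) ∈ Z)
    (hzφ : φ z ∉ Z) : F.IsEssential p (centralizerIn S V) := by
  have hp : p.Prime := Fact.out
  have := finite_of_le hVS
  set w := φ z with hw
  have hwV : w ∈ V := hφV.le ⟨z, rfl⟩
  have hwS : w ∈ S := hVS hwV
  have hzS : (z : Ω) ∈ S := ((hZ _).1 hz).1
  have hZV : ∀ v ∈ V, v ∈ Z ⊔ Subgroup.zpowers w := by
    intro v hv
    let A : Subgroup Ω := Subgroup.zpowers (z : Ω)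
    have hle : A ⊔ Subgroup.zpowers w ≤ V :=
      sup_le (Subgroup.zpowers_le.2 z.2) (Subgroup.zpowers_le.2 hwV)
    have hAw : A < A ⊔ Subgroup.zpowers w := by
      refine lt_of_le_of_ne le_sup_left fun h => hzφ ?_
      obtain ⟨i, hi⟩ := Subgroup.mem_zpowers_iff.1
        (h.ge (le_sup_right (a := A) (Subgroup.mem_zpowers w)) : w ∈ A)
      rw [← hi]
      exact Z.zpow_mem hz i
    have hfin := finite_of_le (hle.trans hVS)
    have hz1 : (z : Ω) ≠ 1 := fun h => hzφ (by
      rw [hw, show z = 1 from Subtype.ext h, map_one]; exact Z.one_mem)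
    have heq : A ⊔ Subgroup.zpowers w = V := by
      refine Subgroup.eq_of_le_of_card_ge hle ?_
      obtain ⟨a, ha⟩ := ((hS.to_le hVS).to_le (hle.trans le_rfl)).exists_card_eq
      have : Finite A := finite_of_le ((hAw.le.trans hle).trans hVS)
      obtain ⟨b, hb⟩ := ((hS.to_le hVS).to_le (hAw.le.trans hle)).exists_card_eq
      have hb1 : 1 ≤ b := by
        by_contra h
        rw [show b = 0 by omega, pow_zero, Nat.card_zpowers, orderOf_eq_one_iff] at hb
        exact hz1 hb
      have hlt : Nat.card A < Nat.card ↥(A ⊔ Subgroup.zpowers w) :=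
        lt_of_not_ge fun h => hAw.ne (Subgroup.eq_of_le_of_card_ge hAw.le h)
      rw [ha, hb] at hlt
      have := (Nat.pow_lt_pow_iff_right hp.one_lt).1 hlt
      rw [hVc, ha]
      exact Nat.pow_le_pow_right hp.pos (by omega)
    exact sup_le_sup_right (Subgroup.zpowers_le.2 hz) _ (heq.ge hv)
  have hVab : ∀ a ∈ V, ∀ b ∈ V, a * b = b * a := by
    have : IsMulCommutative V := IsPGroup.isMulCommutative_of_card_eq_prime_sq hVc
    intro a ha b hb
    exact congrArg Subtype.val (this.is_comm.comm (⟨a, ha⟩ : V) ⟨b, hb⟩)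
  set C := centralizerIn S V with hC
  have hCS : C ≤ S := centralizerIn_le V
  have := finite_of_le hCS
  have hVC : V ≤ C := fun v hv => ⟨hVS hv, fun u hu => hVab u hu v hv⟩
  -- an element of `S` centralizing `w` centralizes `V`
  have hcent : ∀ g ∈ S, g * w = w * g → g ∈ C := by
    intro g hg hgw
    refine ⟨hg, fun v hv => ?_⟩
    have hle : Z ⊔ Subgroup.zpowers w ≤ Subgroup.centralizer ({g} : Set Ω) := by
      refine sup_le (fun u hu => ?_) (Subgroup.zpowers_le.2 ?_)
      · rw [Subgroup.mem_centralizer_singleton_iff]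
        exact (((hZ u).1 hu).2 g hg).symm
      · rw [Subgroup.mem_centralizer_singleton_iff]
        exact hgw.symm
    exact Subgroup.mem_centralizer_singleton_iff.1 (hle (hZV v hv))
  -- the index of `C` in `S` divides `p`
  have hidx : (C.subgroupOf S).index ∣ p := by
    let f : S →* V := MonoidHom.mk' (fun s => ⟨⁅(s : Ω), w⁆, by
        have h := conj_mem_of_mem_normalizer (hVn s.2) hwV
        rw [commutatorElement_def]
        exact V.mul_mem h (V.inv_mem hwV)⟩) fun s t => by
      apply Subtype.ext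
      show ⁅(s : Ω) * t, w⁆ = ⁅(s : Ω), w⁆ * ⁅(t : Ω), w⁆
      have hc := ((hZ _).1 (hcomm t t.2 w hwV)).2 s s.2
      have hc2 := ((hZ _).1 (hcomm t t.2 w hwV)).2 _ (((hZ _).1 (hcomm s s.2 w hwV)).1)
      calc ⁅(s : Ω) * t, w⁆ = (s : Ω) * ⁅(t : Ω), w⁆ * (s : Ω)⁻¹ * ⁅(s : Ω), w⁆ := by
            simp [commutatorElement_def, mul_assoc]
        _ = ⁅(t : Ω), w⁆ * ⁅(s : Ω), w⁆ := by rw [hc, mul_inv_cancel_right]
        _ = _ := hc2.symm
    have hk : f.ker = C.subgroupOf S := by
      ext s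
      rw [MonoidHom.mem_ker, Subgroup.mem_subgroupOf]
      constructor
      · intro h
        exact hcent s s.2 (commutatorElement_eq_one_iff_mul_comm.1 (congrArg Subtype.val h))
      · intro h
        exact Subtype.ext (commutatorElement_eq_one_iff_mul_comm.2 (h.2 w hwV).symm)
    rw [← hk, Subgroup.index_ker]
    have hne : f.range ≠ ⊤ := by
      intro h
      obtain ⟨s, hs⟩ := h.ge (Subgroup.mem_top (⟨w, hwV⟩ : V))
      have h2 := hcomm s s.2 w hwV
      rw [show ⁅(s : Ω), w⁆ = w from congrArg Subtype.val hs] at h2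
      exact hzφ h2
    obtain ⟨k, hk2, hkc⟩ := (Nat.dvd_prime_pow hp).1 (hVc ▸ Subgroup.card_subgroup_dvd_card f.range)
    rw [hkc]
    refine (pow_dvd_pow p (?_ : k ≤ 1)).trans (pow_one p).dvd
    by_contra hk1
    exact hne (Subgroup.eq_top_of_card_eq _ (by rw [hkc, hVc, show k = 2 by omega]))
  have hCn : S ≤ Subgroup.normalizer (C : Set Ω) := by
    intro s hs
    refine mem_normalizer_of_forall fun c hc => ⟨S.mul_mem (S.mul_mem hs hc.1) (S.inv_mem hs), ?_⟩
    intro v hv
    have hv' := conj_mem_of_mem_normalizer (inv_mem (hVn hs)) hv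
    have h := hc.2 _ hv'
    rw [inv_inv] at h
    calc v * (s * c * s⁻¹) = s * (s⁻¹ * v * s * c) * s⁻¹ := by group
      _ = s * (c * (s⁻¹ * v * s)) * s⁻¹ := by rw [h]
      _ = s * c * s⁻¹ * v := by group
  have hCfn : F.IsFullyNormalized C := isFullyNormalized_of_normal hCS hCn
  obtain ⟨hCaut, hCrec⟩ := fullyAutomized_receptive_of_fullyNormalized hS hF hCfn
  have hCcc : centralizerIn S C ≤ C := fun c hc => ⟨hc.1, fun v hv => hc.2 v (hVC hv)⟩
  have hcentric : F.IsCentric C := isCentric_of_receptive hCrec hCcc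
  -- the extension of `φ` to `C`
  obtain ⟨e, he⟩ : ∃ e : V ≃* V, ∀ x : V, ((e x : V) : Ω) = φ x := by
    obtain ⟨e, he, hee⟩ := exists_iso_of_range hφ hφV
    exact ⟨e, hee⟩
  have hiso : IsIso F e := isIso_of_mem hφ he
  have hVrec := (fullyAutomized_receptive_of_fullyNormalized hS hF
    (isFullyNormalized_of_normal (F := F) hVS hVn)).2
  obtain ⟨ψ, hψ, hψe⟩ := exists_extension hVrec hiso hVC (centralizerIn_le_extender _ _)
  have hψC : ψ.range = C := by
    refine Subgroup.eq_of_le_of_card_ge ?_ ?_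
    · rintro _ ⟨c, rfl⟩
      exact apply_mem_centralizerIn hψ hVC hψe c.2
    · exact le_of_eq (Nat.card_congr (MonoidHom.ofInjective (F.injective_of_mem hψ)).toEquiv)
  obtain ⟨β, hβ, hβe⟩ : ∃ β ∈ F.autGroup C, ∀ x : C, ((β x : C) : Ω) = ψ x := by
    obtain ⟨β, hβ, hβe⟩ := exists_iso_of_range hψ hψC
    exact ⟨β, mem_autGroup_of_mem F hψ hβe, hβe⟩
  have hI : ((Inn C).subgroupOf (F.autGroup C)).Normal := inn_subgroupOf_normal F C
  refine ⟨hcentric, hCfn, hI, ?_⟩
  set π := QuotientGroup.mk' ((Inn C).subgroupOf (F.autGroup C)) with hπ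
  set A := (autInducedBy S C).subgroupOf (F.autGroup C) with hA
  set T := A.map π with hT
  have hTp : IsPGroup p T := ((isPGroup_autInducedBy hS C).comap_subtype).map π
  have hIA : (Inn C).subgroupOf (F.autGroup C) ≤ A := fun a ha => inn_le_autInducedBy hCS ha
  have hTi : ¬ p ∣ T.index := by
    rw [hT, Subgroup.index_map_eq _ (QuotientGroup.mk'_surjective _)
      (by rw [QuotientGroup.ker_mk']; exact hIA)]
    exact ((isFullyAutomized_iff hS).1 hCaut).2
  have hTdvd : Nat.card T ∣ p := by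
    let g : S →* F.autGroup C :=
      { toFun := fun s => ⟨normAut s (hCn s.2), autInducedBy_le_autGroup hCS
          (mem_autInducedBy_iff.2 ⟨s, s.2, fun _ => rfl⟩)⟩
        map_one' := Subtype.ext (MulEquiv.ext fun x => Subtype.ext (by simp))
        map_mul' := fun s t => Subtype.ext (MulEquiv.ext fun x => Subtype.ext (by
          simp [mul_assoc])) }
    have hr : T = (π.comp g).range := by
      rw [MonoidHom.range_comp, hT]
      congr 1
      ext a
      constructor
      · intro ha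
        obtain ⟨s, hs, hse⟩ := mem_autInducedBy_iff.1 (Subgroup.mem_subgroupOf.1 ha)
        exact ⟨⟨s, hs⟩, Subtype.ext (MulEquiv.ext fun x => Subtype.ext (hse x).symm)⟩
      · rintro ⟨s, rfl⟩
        exact mem_autInducedBy_iff.2 ⟨s, s.2, fun _ => rfl⟩
    rw [hr, ← Subgroup.index_ker]
    refine (Subgroup.index_dvd_of_le ?_).trans hidx
    intro s hs
    refine (QuotientGroup.eq_one_iff _).2 ?_
    show normAut (s : Ω) _ ∈ Inn C
    rw [inn_eq]
    exact mem_autInducedBy_iff.2 ⟨s, hs, fun _ => rfl⟩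
  -- `T` is not normal
  have hnn : π ⟨β, hβ⟩ ∉ Subgroup.normalizer (T : Set (F.autGroup C ⧸ _)) := by
    intro hn
    obtain ⟨s, hs, hsw⟩ : ∃ s ∈ S, s * w ≠ w * s := by
      by_contra! h
      exact hzφ ((hZ _).2 ⟨hwS, h⟩)
    have hsC : s ∉ C := fun h => hsw (h.2 w hwV).symm
    have ha : (⟨normAut s (hCn hs), autInducedBy_le_autGroup hCS
        (mem_autInducedBy_iff.2 ⟨s, hs, fun _ => rfl⟩)⟩ : F.autGroup C) ∈ A :=
      mem_autInducedBy_iff.2 ⟨s, hs, fun _ => rfl⟩
    have h1 := conj_mem_of_mem_normalizer hn (Subgroup.mem_map_of_mem π ha)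
    obtain ⟨b, hb, hbe⟩ := h1
    rw [← map_inv, ← map_mul, ← map_mul] at hbe
    obtain ⟨t, ht, hte⟩ := mem_autInducedBy_iff.1 (Subgroup.mem_subgroupOf.1 hb)
    obtain ⟨c, hc, hce⟩ : ∃ c ∈ C, ∀ x : C,
        (((β * normAut s (hCn hs) * β⁻¹ : MulAut C) x : C) : Ω) =
          (t * c) * (x : Ω) * (t * c)⁻¹ := by
      have h2 : b⁻¹ * _ ∈ (Inn C).subgroupOf (F.autGroup C) := QuotientGroup.eq.1 hbe
      rw [Subgroup.mem_subgroupOf, inn_eq, mem_autInducedBy_iff] at h2
      obtain ⟨c, hc, hce⟩ := h2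
      refine ⟨c, hc, fun x => ?_⟩
      have h4 : ((((b : MulAut C)⁻¹) ((β * normAut s (hCn hs) * β⁻¹ : MulAut C) x) : C) : Ω) =
          c * (x : Ω) * c⁻¹ := hce x
      have h3 := hte (((b : MulAut C)⁻¹) ((β * normAut s (hCn hs) * β⁻¹ : MulAut C) x))
      rw [MulAut.apply_inv_self] at h3
      rw [h3, h4]
      group
    have hzC : (z : Ω) ∈ C := hVC z.2
    have h5 := hce (β ⟨z, hzC⟩)
    have hβz : ((β ⟨z, hzC⟩ : C) : Ω) = w := by
      rw [hβe, show (⟨z, hzC⟩ : C) = Subgroup.inclusion hVC z from rfl, hψe, he]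
    rw [MulAut.mul_apply, MulAut.mul_apply, MulAut.inv_apply_self] at h5
    rw [show normAut s (hCn hs) (⟨z, hzC⟩ : C) = ⟨z, hzC⟩ from Subtype.ext (by
      rw [normAut_apply]; exact mul_inv_eq_of_eq_mul (((hZ _).1 hz).2 s hs)), hβz] at h5
    have htc : t * c ∈ C := hcent _ (S.mul_mem ht (hCS hc)) (eq_mul_inv_iff_mul_eq.1 h5).symm
    have hsI : normAut s (hCn hs) ∈ Inn C := by
      have h6 : β * normAut s (hCn hs) * β⁻¹ ∈ Inn C := by
        rw [inn_eq]
        exact mem_autInducedBy_iff.2 ⟨_, htc, hce⟩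
      have h7 := hI.conj_mem ⟨_, (F.autGroup C).mul_mem ((F.autGroup C).mul_mem hβ
        (autInducedBy_le_autGroup hCS (mem_autInducedBy_iff.2 ⟨s, hs, fun _ => rfl⟩)))
        (inv_mem hβ)⟩ h6 ⟨β⁻¹, inv_mem hβ⟩
      rw [Subgroup.mem_subgroupOf] at h7
      simpa [mul_assoc] using h7
    exact hsC (mem_of_normAut_mem_inn hCS hCcc hs hsI)
  have hT1 : T ≠ ⊥ := fun h => hnn (by rw [h]; exact Subgroup.mem_normalizer_iff.2 fun g => by simp)
  have hTc : Nat.card T = p := ((Nat.dvd_prime hp).1 hTdvd).resolve_left fun h =>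
    hT1 (Subgroup.card_eq_one.1 h)
  refine ⟨Subgroup.normalizer (T : Set (F.autGroup C ⧸ _)), isStronglyPEmbedded_of_inf_conj
    (fun h => hnn (by rw [h]; trivial))
    (hTc ▸ Subgroup.card_dvd_of_le Subgroup.le_normalizer) fun g hg hdvd => hg ?_⟩
  obtain ⟨⟨x, hx⟩, hxo⟩ := exists_prime_orderOf_dvd_card' p hdvd
  rw [Subgroup.orderOf_mk] at hxo
  have hU : IsPGroup p (Subgroup.zpowers x) :=
    IsPGroup.of_card (n := 1) (by rw [Nat.card_zpowers, hxo, pow_one])
  have huniq : ∀ U : Subgroup (F.autGroup C ⧸ (Inn C).subgroupOf (F.autGroup C)),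
      IsPGroup p U → U ≤ Subgroup.normalizer (T : Set (F.autGroup C ⧸ _)) → U ≤ T := by
    intro U hUp hUn
    have h1 := eq_of_le_of_not_dvd (IsPGroup.to_sup_of_normal_right' hUp hTp hUn)
      (le_sup_right (a := U)) (le_top (a := U ⊔ T)) (by rwa [Subgroup.relIndex_top_right])
    exact le_sup_left.trans h1.ge
  obtain ⟨hx1, y, hy, hyx⟩ := Subgroup.mem_inf.1 hx
  have hxT : Subgroup.zpowers x = T := by
    refine Subgroup.eq_of_le_of_card_ge (huniq _ hU (Subgroup.zpowers_le.2 hx1)) ?_
    rw [hTc, Nat.card_zpowers, hxo]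
  have hyo : orderOf y = p := by
    rw [← hxo, ← hyx]
    exact (MulEquiv.orderOf_eq _ _).symm
  have hyT : Subgroup.zpowers y = T := by
    refine Subgroup.eq_of_le_of_card_ge (huniq _ (IsPGroup.of_card (n := 1)
      (by rw [Nat.card_zpowers, hyo, pow_one])) (Subgroup.zpowers_le.2 hy)) ?_
    rw [hTc, Nat.card_zpowers, hyo]
  have hTT : T.map (MulAut.conj g).toMonoidHom = T := by
    conv_lhs => rw [← hyT, MonoidHom.map_zpowers, hyx, hxT]
  rw [Subgroup.mem_normalizer_iff]
  intro u
  constructor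
  · intro hu
    exact hTT.le ⟨u, hu, rfl⟩
  · intro hu
    obtain ⟨u', hu', hue⟩ := hTT.ge hu
    exact (MulEquiv.injective (MulAut.conj g) hue) ▸ hu'

end CfsgLib.Fusion
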