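import Cfsg.Agent.Lib.Fusion.HyperFactor
import Cfsg.Agent.Lib.Fusion.FunctorStatements
import Cfsg.Agent.Lib.Fusion.SmallControl
import Cfsg.Agent.Lib.Fusion.FactorHat
import Cfsg.Agent.Lib.Fusion.NormSys
import Cfsg.Agent.Lib.Fusion.Normal

/-!
# The second centre of a perfect system
-/

set_option autoImplicit false

open Cfsg Cfsg.FusionSystem

namespace CfsgLib.Fusion

universe u

variable {Ω : Type u} [Group Ω] {S : Subgroup Ω} [Finite S] {F : FusionSystem S} {p : ℕ}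
  [Fact p.Prime]

/-- Grün's lemma for fusion systems: a perfect system modulo its centre has trivial centre. -/
theorem center_factor_eq_bot (hS : IsPGroup p S) (hF : F.IsSaturated p)
    (hperf : F.hyperfocalSubgroup p = S)
    (E : FusionSystem (⊤ : Subgroup (↥S ⧸ (F.center).subgroupOf S)))
    (hE : F.IsFactorSystem F.center (QuotientGroup.mk' ((F.center).subgroupOf S)) E) :
    E.center = ⊥ := by
  set θ := QuotientGroup.mk' ((F.center).subgroupOf S)
  obtain ⟨hCS, hC⟩ := isCentral_center (F := F)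
  have hnC : F.IsNormal F.center := by
    refine ⟨hCS, fun P φ hφ => ?_⟩
    obtain ⟨ψ, hψ, hψe, hψC⟩ := hC P φ hφ
    exact ⟨ψ, hψ, hψe, img_eq_of_forall_fixed le_sup_right hψC⟩
  have hI : InnerOn F F.center := by
    intro P φ hφ
    exact ⟨1, S.one_mem, fun x hx => by
      rw [(fixes_of_mem_center hx).2 P φ hφ x rfl]; simp⟩
  have hmor := (isSurjectiveMorphism_of_isFactorSystem hS hF (stronglyClosed_of_isNormal hnC)
    hE).1
  rw [eq_bot_iff]
  intro w' hw'
  obtain ⟨⟨w, hwS⟩, rfl⟩ := QuotientGroup.mk'_surjective _ w'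
  obtain ⟨-, hfix⟩ := fixes_of_mem_center hw'
  have hmod : ∀ (u : Ω) (huS : u ∈ S), θ ⟨u, huS⟩ ∈ E.center → ∀ (P : Subgroup Ω),
      ∀ φ ∈ F.Hom P, ∀ x : P, (x : Ω) = u → u⁻¹ * φ x ∈ F.center := by
    intro u huS hu P φ hφ x hx
    obtain ⟨φ', hφ', hP, hφS, hθP, he⟩ := hmor.2 P φ hφ
    subst hx
    have h1 : θ ⟨φ x, hφS x⟩ = θ ⟨x, hP x.2⟩ :=
      (he x).symm.trans ((fixes_of_mem_center hu).2 _ φ' hφ' ⟨_, hθP x⟩ rfl)
    have h2 : θ ((⟨x, hP x.2⟩ : S)⁻¹ * ⟨φ x, hφS x⟩) = 1 := by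
      rw [map_mul, map_inv, h1, inv_mul_cancel]
    exact (hE.2.1 _).1 h2
  -- `w` is central in `S`
  have hwc : w ∈ centralizerIn S S := by
    set T := Subgroup.zpowers w ⊔ F.center with hTdef
    have hTS : T ≤ S := sup_le (Subgroup.zpowers_le.2 hwS) hCS
    have hTE : T ≤ ((E.center).comap θ).map S.subtype := by
      refine sup_le (Subgroup.zpowers_le.2 ⟨⟨w, hwS⟩, hw', rfl⟩) fun z hz =>
        ⟨⟨z, hCS hz⟩, ?_, rfl⟩
      change θ ⟨z, hCS hz⟩ ∈ E.center
      rw [(hE.2.1 _).2 hz]; exact one_mem _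
    have hθT : ∀ u (hu : u ∈ T), θ ⟨u, hTS hu⟩ ∈ E.center := fun u hu => by
      obtain ⟨s, hs, hse⟩ := hTE hu
      rwa [← (Subtype.ext hse : s = ⟨u, hTS hu⟩)]
    have hT : F.StronglyClosed T := ⟨hTS, fun R hR φ hφ x => by
      have h1 := T.mul_mem (hR x.2)
        (le_sup_right (a := Subgroup.zpowers w) (hmod x _ (hθT x (hR x.2)) R φ hφ x rfl))
      rwa [mul_inv_cancel_left] at h1⟩
    have hfinT := finite_of_le hTS
    refine ⟨hwS, fun y hy => ?_⟩
    obtain ⟨α, hα, hαe⟩ := hyperfocal_conj_strongly_closed hS hF hT (x := y) (by rw [hperf]; exact hy)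
    have hwT : w ∈ T := Subgroup.mem_sup_left (Subgroup.mem_zpowers w)
    suffices h : (pResidual p (F.autGroup T)).map (F.autGroup T).subtype ⊔ Cfsg.Inn T ≤
        MulAction.stabilizer (MulAut T) (⟨w, hwT⟩ : T) by
      have h1 : α ⟨w, hwT⟩ = ⟨w, hwT⟩ := h hα
      have h2 := hαe ⟨w, hwT⟩
      rw [h1] at h2
      exact (mul_inv_eq_iff_eq_mul.1 h2.symm)
    refine sup_le ?_ ?_
    · rw [Subgroup.map_le_iff_le_comap, pResidual, Subgroup.closure_le]
      intro β hβ
      have hβF := (mem_autGroup_iff F hTS).1 β.2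
      have hd : (((⟨w, hwT⟩ : T)⁻¹ * (β : MulAut T) ⟨w, hwT⟩ : T) : Ω) ∈ F.center :=
        hmod w hwS hw' T _ hβF ⟨w, hwT⟩ rfl
      exact apply_eq_of_diff_fixed (hS.to_le hTS) (a := (β : MulAut T))
        (by rwa [Subgroup.orderOf_coe])
        (Subtype.ext ((fixes_of_mem_center hd).2 T _ hβF _ rfl))
    · rw [inn_eq]
      intro β hβ
      obtain ⟨t, ht, hte⟩ := mem_autInducedBy_iff.1 hβ
      refine Subtype.ext ((hte _).trans ?_)
      have hcomm : T ≤ Subgroup.centralizer {w} := sup_le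
        (Subgroup.zpowers_le.2 (Subgroup.mem_centralizer_singleton_iff.2 rfl))
        fun z hz => Subgroup.mem_centralizer_singleton_iff.2
          ((fixes_of_mem_center hz).1.2 w hwS).symm
      change t * w * t⁻¹ = w
      rw [Subgroup.mem_centralizer_singleton_iff.1 (hcomm ht), mul_inv_cancel_right]
  rw [Subgroup.mem_bot]
  exact (hE.2.1 _).2 (mem_center_of_fixes hS hF hwc
    (fixes_of_fixes_mod hS hF hnC hI hwc (hmod w hwS hw')))

end CfsgLib.Fusion
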