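import Cfsg.Agent.Lib.Fusion.NormalizerSat
import Cfsg.Agent.Lib.Fusion.SmallControl
import Cfsg.Agent.Lib.Fusion.HypFocal
import Cfsg.Agent.Lib.Fusion.NormSys
import Cfsg.Agent.Lib.Fusion.Alperin
import Cfsg.Agent.Lib.Fusion.Invariant
import Cfsg.Agent.Lib.Fusion.Normal

/-!
# Saturated subsystems agreeing on small abelian subgroups

A saturated subsystem with the same maps on the small abelian subgroups of the hyperfocal
subgroup is the whole system. Descending induction on a small abelian subgroup `A`: all maps of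
`N_F(A)` are in the subsystem, by Alperin's theorem in `N_F(A)`.
-/

set_option autoImplicit false

open Cfsg Cfsg.FusionSystem CfsgLib.FGS

namespace CfsgLib.Fusion

/-- The exponent defining small elements. -/
def smallExp (p : ℕ) : ℕ := if p = 2 then 4 else p

/-- A small abelian subgroup. -/
def IsSmallAb {G : Type*} [Group G] (p : ℕ) (A : Subgroup G) : Prop :=
  (∀ x ∈ A, ∀ y ∈ A, x * y = y * x) ∧ ∀ x ∈ A, x ^ smallExp p = 1

theorem pow_smallExp_of_isSmall {G : Type*} [Group G] {p : ℕ} {x : G} (h : IsSmall p x) :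
    x ^ smallExp p = 1 := by
  rw [smallExp]
  rcases h with h | ⟨h2, h⟩
  · split_ifs with h2
    · subst h2
      rw [show (4 : ℕ) = 2 * 2 from rfl, pow_mul, h, one_pow]
    · exact h
  · rwa [if_pos h2]

/-- A coprime automorphism fixing a maximal small abelian normal subgroup of `D` is trivial when
it acts trivially modulo `D`. -/
theorem eq_one_of_fix_max_small {G : Type*} [Group G] [Finite G] {p : ℕ} [Fact p.Prime]
    (hG : IsPGroup p G) (D A : Subgroup G) [D.Normal] [A.Normal] (hAD : A ≤ D)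
    (hA : IsSmallAb p A)
    (hmax : ∀ B : Subgroup G, B.Normal → A ≤ B → B ≤ D → IsSmallAb p B → B = A)
    {γ : MulAut G} (hγ : (orderOf γ).Coprime p) (hmod : ∀ g, g⁻¹ * γ g ∈ D)
    (hfix : ∀ a ∈ A, γ a = a) : γ = 1 := by
  set C := D ⊓ Subgroup.centralizer (A : Set G) with hC
  have hCn : C.Normal := inferInstance
  have hAC : A ≤ C := le_inf hAD fun a ha b hb => hA.1 b hb a ha
  have hinvD : ∀ d ∈ D, γ d ∈ D := fun d hd => by
    have h := D.mul_mem hd (hmod d)
    rwa [mul_inv_cancel_left] at h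
  have hinvC : ∀ c ∈ C, γ c ∈ C := fun c hc => by
    refine ⟨hinvD c hc.1, fun a ha => ?_⟩
    have h := congrArg γ (hc.2 a ha)
    rwa [map_mul, map_mul, hfix a ha] at h
  obtain ⟨U, hUc, hUs, hdet⟩ := exists_small_detect (hG.to_subgroup C)
  set U₀ := U.map C.subtype with hU₀
  have hU₀n : U₀.Normal := by
    have := hUc
    infer_instance
  have hUA : U₀ ≤ A := by
    by_contra hne
    obtain ⟨m, hm⟩ := hG.isNilpotent.nilpotent
    have hex : ∃ i, ¬ U₀ ⊓ Subgroup.upperCentralSeries G i ≤ A :=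
      ⟨m, by rw [hm, inf_top_eq]; exact hne⟩
    classical
    have hi0 : Nat.find hex ≠ 0 := fun h => Nat.find_spec hex (by
      rw [h, Subgroup.upperCentralSeries_zero, inf_bot_eq]; exact bot_le)
    obtain ⟨i, hi⟩ := Nat.exists_eq_succ_of_ne_zero hi0
    have hprev : U₀ ⊓ Subgroup.upperCentralSeries G i ≤ A := by
      by_contra h
      exact Nat.find_min hex (by omega) h
    obtain ⟨x, ⟨hxU, hxZ⟩, hxA⟩ := SetLike.not_le_iff_exists.1 (Nat.find_spec hex)
    rw [hi] at hxZ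
    have hcomm : ∀ g : G, x * g * x⁻¹ * g⁻¹ ∈ A := fun g => hprev
      ⟨by
        rw [show x * g * x⁻¹ * g⁻¹ = x * (g * x⁻¹ * g⁻¹) by group]
        exact U₀.mul_mem hxU (hU₀n.conj_mem _ (U₀.inv_mem hxU) g),
      Subgroup.mem_upperCentralSeries_succ_iff.1 hxZ g⟩
    have hxC : x ∈ C := Subgroup.map_subtype_le U hxU
    have hxs : x ^ smallExp p = 1 := by
      obtain ⟨u, hu, rfl⟩ := hxU
      simpa using congrArg Subtype.val (pow_smallExp_of_isSmall (hUs u hu))
    have hBn : (A ⊔ Subgroup.zpowers x).Normal := by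
      refine ⟨fun b hb g => ?_⟩
      have hle : A ⊔ Subgroup.zpowers x ≤
          (A ⊔ Subgroup.zpowers x).comap (MulAut.conj g).toMonoidHom := by
        refine sup_le (fun a ha => Subgroup.mem_sup_left ((inferInstance : A.Normal).conj_mem a ha g))
          (Subgroup.zpowers_le.2 ?_)
        change g * x * g⁻¹ ∈ A ⊔ Subgroup.zpowers x
        rw [show g * x * g⁻¹ = (x * g * x⁻¹ * g⁻¹)⁻¹ * x by group]
        exact mul_mem (Subgroup.mem_sup_left (A.inv_mem (hcomm g)))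
          (Subgroup.mem_sup_right (Subgroup.mem_zpowers x))
      exact hle hb
    have hBs : IsSmallAb p (A ⊔ Subgroup.zpowers x) := by
      have key : ∀ b ∈ A ⊔ Subgroup.zpowers x, ∃ a ∈ A, ∃ n : ℤ, b = a * x ^ n := by
        intro b hb
        obtain ⟨a, ha, y, ⟨n, rfl⟩, rfl⟩ := Subgroup.mem_sup_of_normal_left.1 hb
        exact ⟨a, ha, n, rfl⟩
      have hax : ∀ a ∈ A, Commute a x := fun a ha => hxC.2 a ha
      refine ⟨fun b hb b' hb' => ?_, fun b hb => ?_⟩
      · obtain ⟨a, ha, n, rfl⟩ := key b hb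
        obtain ⟨a', ha', n', rfl⟩ := key b' hb'
        exact ((Commute.mul_right (hA.1 a ha a' ha') ((hax a ha).zpow_right n')).mul_left
          (Commute.mul_right ((hax a' ha').symm.zpow_left n) ((Commute.refl x).zpow_zpow n n'))).eq
      · obtain ⟨a, ha, n, rfl⟩ := key b hb
        rw [((hax a ha).zpow_right n).mul_pow, hA.2 a ha, ← zpow_natCast, ← zpow_mul, mul_comm,
          zpow_mul, zpow_natCast, hxs, one_zpow, one_mul]
    exact hxA ((hmax _ hBn le_sup_left (sup_le hAD (Subgroup.zpowers_le.2 hxC.1)) hBs).le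
      (Subgroup.mem_sup_right (Subgroup.mem_zpowers x)))
  let f : C →* C := (γ.toMonoidHom.comp C.subtype).codRestrict C fun c => hinvC c c.2
  have hfi : Function.Injective f := fun y z h =>
    Subtype.ext (γ.injective (congrArg Subtype.val h))
  let b : MulAut C := MulEquiv.ofBijective f ⟨hfi, Finite.injective_iff_surjective.1 hfi⟩
  have hbpow : ∀ (n : ℕ) (y : C), ((b ^ n) y : G) = (γ ^ n) y := by
    intro n
    induction n with
    | zero => intro y; rfl
    | succ n ih =>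
      intro y
      rw [pow_succ', MulAut.mul_apply, pow_succ', MulAut.mul_apply, ← ih]
      rfl
  have hb1 : b ^ orderOf γ = 1 := MulEquiv.ext fun y => Subtype.ext (by
    rw [hbpow, pow_orderOf_eq_one]; rfl)
  have hb : b = 1 := hdet b (hγ.coprime_dvd_left (orderOf_dvd_of_pow_eq_one hb1))
    fun y hy => Subtype.ext (hfix _ (hUA ⟨y, hy, rfl⟩))
  have hfC : ∀ c ∈ C, γ c = c := fun c hc =>
    (congrArg Subtype.val (DFunLike.congr_fun hb (⟨c, hc⟩ : C)) :)
  -- fix `D`, then everything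
  have hfD : ∀ d ∈ D, γ d = d := by
    intro d hd
    refine apply_eq_of_diff_fixed hG hγ (hfC _ ⟨hmod d, fun a ha => ?_⟩)
    have hm : d * a * d⁻¹ ∈ A := (inferInstance : A.Normal).conj_mem a ha d
    have h3 := hfix _ hm
    rw [map_mul, map_mul, map_inv, hfix a ha] at h3
    calc a * (d⁻¹ * γ d) = d⁻¹ * (d * a * d⁻¹) * γ d := by group
      _ = d⁻¹ * (γ d * a * (γ d)⁻¹) * γ d := by rw [h3]
      _ = d⁻¹ * γ d * a := by group
  exact MulEquiv.ext fun g => apply_eq_of_diff_fixed hG hγ (hfD _ (hmod g))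

variable {Ω : Type*} [Group Ω] {S : Subgroup Ω} {F : FusionSystem S} [Finite S] {p : ℕ}
  [Fact p.Prime]

/-- Maps lying in two systems. -/
def interSys {T : Subgroup Ω} (N : FusionSystem T) (E : FusionSystem S) (hTS : T ≤ S) :
    FusionSystem T where
  Hom P := {φ | φ ∈ N.Hom P ∧ φ ∈ E.Hom P}
  le_of_mem h := N.le_of_mem h.1
  injective_of_mem h := N.injective_of_mem h.1
  conj_mem hP hg := ⟨N.conj_mem hP hg, E.conj_mem (hP.trans hTS) (hTS hg)⟩
  comp_mem h h' hv := ⟨N.comp_mem h.1 h'.1 hv, E.comp_mem h.2 h'.2 hv⟩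
  inv_mem := by
    intro P φ h
    obtain ⟨ψ, hψ, hψe⟩ := N.inv_mem h.1
    obtain ⟨ψ', hψ', hψe'⟩ := E.inv_mem h.2
    refine ⟨ψ, ⟨hψ, mem_of_eq rfl hψ' fun x => ?_⟩, hψe⟩
    obtain ⟨_, z, rfl⟩ := x
    rw [hψe]
    exact (hψe' z).symm

/-- Saturated subsystems agreeing on small abelian subgroups of the hyperfocal subgroup are
equal. -/
theorem hom_eq_of_small_agree (hS : IsPGroup p S) (E F : FusionSystem S) (hE : E.IsSaturated p)
    (hF : F.IsSaturated p) (hEF : E.IsSubsystemOf F)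
    (hsm : ∀ A B : Subgroup Ω, A ≤ F.hyperfocalSubgroup p → B ≤ F.hyperfocalSubgroup p →
      IsSmallAb p A → IsSmallAb p B → E.homSet A B = F.homSet A B) :
    ∀ P : Subgroup Ω, E.Hom P = F.Hom P := by
  set D := F.hyperfocalSubgroup p
  have hDS : D ≤ S := hyperfocalSubgroup_le p
  -- maps on small abelian subgroups, isomorphisms and conjugacy classes agree
  have hiso : ∀ {A B : Subgroup Ω} {e : A ≃* B}, A ≤ D → IsSmallAb p A → IsIso F e →
      B ≤ D ∧ IsSmallAb p B ∧ IsIso E e := by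
    intro A B e hAD hA he
    have hBD : B ≤ D := fun y hy => by
      obtain ⟨x, hx⟩ := e.surjective ⟨y, hy⟩
      rw [← show (e x : Ω) = y from congrArg Subtype.val hx]
      exact apply_mem_hyperfocal hS hF he (hAD x.2)
    have hB : IsSmallAb p B := by
      refine ⟨fun x hx y hy => ?_, fun x hx => ?_⟩
      · obtain ⟨a, ha⟩ := e.surjective ⟨x, hx⟩
        obtain ⟨b, hb⟩ := e.surjective ⟨y, hy⟩
        have h := congrArg e (Subtype.ext (hA.1 a a.2 b b.2) : a * b = b * a)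
        rw [map_mul, map_mul, ha, hb] at h
        exact congrArg Subtype.val h
      · obtain ⟨a, ha⟩ := e.surjective ⟨x, hx⟩
        have h := congrArg e (Subtype.ext (hA.2 a a.2) : a ^ smallExp p = 1)
        rw [map_pow, map_one, ha] at h
        exact congrArg Subtype.val h
    have h : B.subtype.comp e.toMonoidHom ∈ F.homSet A B := ⟨he, fun x => (e x).2⟩
    rw [← hsm A B hAD hBD hA hB] at h
    exact ⟨hBD, hB, h.1⟩
  intro P
  refine Set.Subset.antisymm (hEF P) ?_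
  suffices main : ∀ (n : ℕ) (A : Subgroup Ω), Nat.card S - Nat.card A ≤ n → A ≤ D →
      IsSmallAb p A → ∀ (P : Subgroup Ω) (φ : P →* Ω), A ≤ P →
        P ≤ Subgroup.normalizer (A : Set Ω) → φ ∈ F.Hom P → φ ∈ E.Hom P by
    intro φ hφ
    refine main _ ⊥ le_rfl bot_le ⟨fun x hx y hy => ?_, fun x hx => ?_⟩ P φ bot_le ?_ hφ
    · rw [Subgroup.mem_bot] at hx hy
      rw [hx, hy]
    · rw [Subgroup.mem_bot] at hx
      rw [hx, one_pow]
    · intro g _
      exact mem_normalizer_of_forall fun x hx => by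
        rw [Subgroup.mem_bot] at hx ⊢; rw [hx]; simp
  intro n
  induction n using Nat.strong_induction_on with
  | _ n ih =>
  intro A hn hAD hA P φ hAP hPn hφ
  -- the normalizer system of a fully normalized conjugate
  obtain ⟨A₀, hAA₀, hA₀n⟩ := exists_fullyNormalized F (hAD.trans hDS)
  obtain ⟨a₀, ha₀⟩ := isConj_iff.1 hAA₀
  obtain ⟨hA₀D, hA₀, -⟩ := hiso hAD hA ha₀
  have hA₀S := hA₀n.1
  have := finite_of_le hA₀S
  have hA₀nE : E.IsFullyNormalized A₀ :=
    ⟨hA₀S, fun R hR => hA₀n.2 R (isConj_of_isSubsystemOf hEF hR)⟩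
  have hcardA : Nat.card A = Nat.card A₀ := card_eq_of_isConj hAA₀
  set T := normalizerIn S A₀
  have hTS : T ≤ S := normalizerIn_le A₀
  have := finite_of_le hTS
  have hTp : IsPGroup p T := hS.to_le hTS
  set N : FusionSystem T := normSys F A₀ rfl hA₀S
  have hNs : N.IsSaturated p := isSaturated_normalizerSystem hS hF hA₀n N fun _ => rfl
  have hA₀T : A₀ ≤ T := le_normalizerIn hA₀S
  have hNinv : ∀ {Q : Subgroup Ω} {ψ : Q →* Ω}, ψ ∈ N.Hom Q → ∀ x : Q, (x : Ω) ∈ A₀ →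
      ψ x ∈ A₀ := by
    rintro Q ψ ⟨-, -, -, χ, -, hχe, hχA⟩ x hx
    rw [← hχe]
    exact (show img χ A₀ = A₀ from hχA).le (apply_mem_img χ hx)
  have hA₀N : N.IsNormal A₀ := by
    refine ⟨hA₀T, fun Q ψ hψ => ?_⟩
    obtain ⟨hψF, hQT, hψT, χ, hχ, hχe, hχA⟩ := hψ
    obtain ⟨χ', hχ', hχe'⟩ := mem_of_eq_sup (show Q ⊔ A₀ = Q ⊔ A₀ ⊔ A₀ by
      rw [sup_assoc, sup_idem]) hχ
    refine ⟨χ, ⟨hχ, sup_le hQT hA₀T, fun z => ?_, χ', hχ', fun z => hχe' _, ?_⟩, hχe, hχA⟩
    · have h := apply_mem_sup hχe hψT (show img χ A₀ = A₀ from hχA).le z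
      rwa [sup_eq_left.2 hA₀T] at h
    · change img χ' A₀ = A₀
      conv_rhs => rw [← show img χ A₀ = A₀ from hχA]
      ext y
      rw [mem_img, mem_img]
      constructor
      · rintro ⟨z, hz, rfl⟩
        exact ⟨⟨z, (show Q ⊔ A₀ ⊔ A₀ ≤ Q ⊔ A₀ from sup_le le_rfl le_sup_right) z.2⟩, hz, (hχe' z).symm⟩
      · rintro ⟨z, hz, rfl⟩
        exact ⟨⟨z, le_sup_left (b := A₀) z.2⟩, hz, hχe' _⟩
  have hC₀ : ∀ Q : Subgroup Ω, A₀ ≤ Q → Q ≤ T → ∀ β ∈ N.autGroup Q,
      ∀ x : Q, (x : Ω) ∈ A₀ → (β x : Ω) ∈ A₀ := fun Q _ hQT β hβ x hx =>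
    hNinv ((mem_autGroup_iff N hQT).1 hβ) x hx
  -- everything in `N` lies in `E`
  have hNE : ∀ (Q : Subgroup Ω) (ψ : Q →* Ω), ψ ∈ N.Hom Q → ψ ∈ E.Hom Q := by
    intro Q ψ hψ
    refine (alperin hTp hNs (interSys N E hTS) (fun Q hQ => ?_) Q hψ).2
    intro β hβ
    have hQn : N.IsFullyNormalized Q := by
      rcases hQ with rfl | hQ
      · exact isFullyNormalized_self
      · exact hQ.2.1
    have hQT := hQn.1
    have hQS : Q ≤ S := hQT.trans hTS
    have := finite_of_le hQS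
    have hA₀Q : A₀ ≤ Q := by
      rcases hQ with rfl | hQ
      · exact hA₀T
      · exact le_of_isNormal hTp hA₀N hQ.1 (isRadical_of_isEssential hTp hQ)
    have hQnA : Q ≤ Subgroup.normalizer (A₀ : Set Ω) := hQT.trans inf_le_right
    suffices hmain : β ∈ E.autGroup Q from
      mem_autGroup_of_mem (φ := Q.subtype.comp β.toMonoidHom) _
        ⟨(mem_autGroup_iff N hQT).1 hβ, (mem_autGroup_iff E hQS).1 hmain⟩ fun _ => rfl
    have hβF : β ∈ F.autGroup Q :=
      mem_autGroup_of_mem F ((mem_autGroup_iff N hQT).1 hβ).1 fun _ => rfl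
    -- a maximal small abelian normal subgroup of `Q`
    obtain ⟨A₂, ⟨hA₀A₂, hA₂Q, hA₂D, hA₂, hA₂n⟩, hmax⟩ := exists_max_card (S := S)
      (fun B => A₀ ≤ B ∧ B ≤ Q ∧ B ≤ D ∧ IsSmallAb p B ∧ Q ≤ Subgroup.normalizer (B : Set Ω))
      (fun B => Nat.card B) (fun B h => h.2.1.trans hQS) ⟨A₀, le_rfl, hA₀Q, hA₀D, hA₀, hQnA⟩
    have := finite_of_le (hA₂Q.trans hQS)
    rcases (Subgroup.card_le_of_le hA₀A₂).lt_or_eq with hlt | heq
    · have h2 : Nat.card A₂ ≤ Nat.card S := Subgroup.card_le_of_le (hA₂Q.trans hQS)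
      refine (mem_autGroup_iff E hQS).2 ?_
      exact ih (Nat.card S - Nat.card A₂) (by omega) A₂ le_rfl hA₂D hA₂ Q _ hA₂Q hA₂n
        ((mem_autGroup_iff F hQS).1 hβF)
    obtain rfl : A₀ = A₂ := Subgroup.eq_of_le_of_card_ge hA₀A₂ heq.ge
    -- the automorphisms fixing `A₀` are induced by `T`
    let K : Subgroup (MulAut Q) :=
      { carrier := {α | α ∈ N.autGroup Q ∧ ∀ x : Q, (x : Ω) ∈ A₀ → α x = x}
        one_mem' := ⟨one_mem _, fun x _ => rfl⟩
        mul_mem' := fun {a b} ha hb => ⟨mul_mem ha.1 hb.1, fun x hx => by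
          rw [MulAut.mul_apply, hb.2 x hx, ha.2 x hx]⟩
        inv_mem' := fun {a} ha => ⟨inv_mem ha.1, fun x hx => by
          conv_lhs => rw [← ha.2 x hx]
          exact MulAut.inv_apply_self Q a x⟩ }
    have hKN : K ≤ N.autGroup Q := fun a ha => ha.1
    have hKn : (K.subgroupOf (N.autGroup Q)).Normal := ⟨fun a ha b => by
      rw [Subgroup.mem_subgroupOf] at ha ⊢
      refine ⟨mul_mem (mul_mem b.2 ha.1) (inv_mem b.2), fun x hx => ?_⟩
      simp only [Subgroup.coe_mul, Subgroup.coe_inv, MulAut.mul_apply]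
      rw [ha.2 _ (hC₀ Q hA₀Q hQT _ (inv_mem b.2) x hx), MulAut.apply_inv_self]⟩
    have hQp : IsPGroup p Q := hS.to_le hQS
    have hKp : IsPGroup p K := by
      refine IsPGroup.of_card (n := (Nat.card K).primeFactorsList.length)
        (Nat.eq_prime_pow_of_unique_prime_dvd Nat.card_pos.ne' fun {q} hq hdvd => ?_)
      by_contra hqp
      have := Fact.mk hq
      obtain ⟨⟨γ, hγK⟩, hα⟩ := exists_prime_orderOf_dvd_card' q hdvd
      rw [Subgroup.orderOf_mk] at hα
      have hco : (orderOf γ).Coprime p := by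
        rw [hα]; exact (Nat.coprime_primes hq Fact.out).2 hqp
      have hγF : γ ∈ F.autGroup Q :=
        mem_autGroup_of_mem F ((mem_autGroup_iff N hQT).1 hγK.1).1 fun _ => rfl
      have hDQn : (D.subgroupOf Q).Normal := ⟨fun d hd g => Subgroup.mem_subgroupOf.2 (by
        simpa using conj_mem_of_mem_normalizer (P := D)
          (le_normalizer_hyperfocalSubgroup p (hQS g.2)) (Subgroup.mem_subgroupOf.1 hd))⟩
      have hAQn : (A₀.subgroupOf Q).Normal := ⟨fun d hd g => Subgroup.mem_subgroupOf.2 (by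
        simpa using conj_mem_of_mem_normalizer (P := A₀) (hQnA g.2)
          (Subgroup.mem_subgroupOf.1 hd))⟩
      have hone : γ = 1 := by
        refine eq_one_of_fix_max_small hQp (D.subgroupOf Q) (A₀.subgroupOf Q)
          (fun x hx => hA₀D hx) ?_ ?_ hco ?_ fun x hx => hγK.2 x hx
        · exact ⟨fun x hx y hy => Subtype.ext (hA₀.1 x hx y hy),
            fun x hx => Subtype.ext (by rw [Subgroup.coe_pow]; exact hA₀.2 x hx)⟩
        · intro B hBn hAB hBD hB
          have hle : Nat.card ↥(B.map Q.subtype) ≤ Nat.card A₀ := by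
            refine hmax (B.map Q.subtype) ⟨?_, Subgroup.map_subtype_le B, ?_, ?_, ?_⟩
            · exact fun x hx => ⟨⟨x, hA₀Q hx⟩, hAB hx, rfl⟩
            · rintro _ ⟨b, hb, rfl⟩
              exact hBD hb
            · refine ⟨?_, ?_⟩
              · rintro _ ⟨x, hx, rfl⟩ _ ⟨y, hy, rfl⟩
                exact congrArg Subtype.val (hB.1 x hx y hy)
              · rintro _ ⟨x, hx, rfl⟩
                exact congrArg Subtype.val (hB.2 x hx)
            · intro g hg
              have : Finite ↥(B.map Q.subtype) :=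
                finite_of_le ((Subgroup.map_subtype_le B).trans hQS)
              refine mem_normalizer_of_forall ?_
              rintro _ ⟨b, hb, rfl⟩
              exact ⟨_, hBn.conj_mem b hb ⟨g, hg⟩, rfl⟩
          refine (Subgroup.eq_of_le_of_card_ge hAB ?_).symm
          rw [Nat.card_congr (Subgroup.subgroupOfEquivOfLe hA₀Q).toEquiv]
          rwa [Subgroup.card_map_of_injective Q.subtype_injective] at hle
        · intro g
          exact Subgroup.subset_closure ⟨Q, ⟨γ, hγF⟩, g, hQS,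
            CfsgLib.Transfer.mem_pResidual_of_coprime (by rwa [Subgroup.orderOf_mk]), rfl⟩
      rw [hone, orderOf_one] at hα
      exact hq.ne_one hα.symm
    obtain ⟨hQa, -⟩ := fullyAutomized_receptive_of_fullyNormalized hTp hNs hQn
    have hKS : K ≤ autInducedBy T Q := le_autInducedBy_of_normal_pgroup hQa hKN hKn hKp
    -- `C_T(A₀) ≤ Q`
    have hCQ : centralizerIn S A₀ ≤ Q := by
      have hCT : centralizerIn S A₀ ≤ T := centralizerIn_le_normalizerIn A₀
      rcases hQ with rfl | hQ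
      · exact hCT
      refine le_of_centric_radical hTp hQ.1 (isRadical_of_isEssential hTp hQ) hCT ?_ K hKN hKn hKp
        fun c hc hcn => ⟨autInducedBy_le_autGroup hQT
          (mem_autInducedBy_iff.2 ⟨c, hCT hc, fun _ => rfl⟩),
          fun x hx => Subtype.ext ?_⟩
      · intro g hg
        have := finite_of_le (centralizerIn_le (S := S) A₀)
        refine mem_normalizer_of_forall fun c hc =>
          ⟨S.mul_mem (S.mul_mem hg.1 hc.1) (S.inv_mem hg.1), fun a ha => ?_⟩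
        have h1 : g⁻¹ * a * g ∈ A₀ := by
          simpa using conj_mem_of_mem_normalizer (inv_mem hg.2) ha
        have h2 := hc.2 _ h1
        calc a * (g * c * g⁻¹) = g * (g⁻¹ * a * g * c) * g⁻¹ := by group
          _ = g * (c * (g⁻¹ * a * g)) * g⁻¹ := by rw [h2]
          _ = g * c * g⁻¹ * a := by group
      · rw [normAut_apply, ← hc.2 x hx, mul_inv_cancel_right]
    -- compare `β` with an extension in `E` of its restriction to `A₀`
    have hbinv : ∀ x : A₀, (β (Subgroup.inclusion hA₀Q x) : Ω) ∈ A₀ :=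
      fun x => hC₀ Q hA₀Q hQT β hβ _ x.2
    have hres := res_mem F ((mem_autGroup_iff F hQS).1 hβF) hA₀Q
    have hrange : ((Q.subtype.comp β.toMonoidHom).comp (Subgroup.inclusion hA₀Q)).range = A₀ := by
      refine Subgroup.eq_of_le_of_card_ge ?_
        (Nat.card_congr (MonoidHom.ofInjective (F.injective_of_mem hres)).toEquiv).le
      rintro _ ⟨x, rfl⟩
      exact hbinv x
    obtain ⟨b, hbF, hbe⟩ := exists_iso_of_range hres hrange
    obtain ⟨-, -, hbE⟩ := hiso hA₀D hA₀ hbF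
    have hext : Q ≤ extender S A₀ (A₀.subtype.comp b.toMonoidHom) := by
      intro g hg
      refine mem_extender_iso_iff.2 ⟨hQS hg, hQnA hg, ?_⟩
      refine mem_autInducedBy_iff.2 ⟨β ⟨g, hg⟩, hQS (β _).2, fun y => ?_⟩
      obtain ⟨x, rfl⟩ := b.surjective y
      change (b (normAut g (hQnA hg) (b.symm (b x))) : Ω) = _
      rw [b.symm_apply_apply, hbe, hbe]
      change (β _ : Ω) = (β ⟨g, hg⟩ : Ω) * (β _ : Ω) * ((β ⟨g, hg⟩ : Q) : Ω)⁻¹
      rw [← Subgroup.coe_inv, ← Subgroup.coe_mul, ← Subgroup.coe_mul, ← map_inv, ← map_mul,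
        ← map_mul]
      rfl
    obtain ⟨χ, hχ, hχe⟩ := exists_extension
      (fullyAutomized_receptive_of_fullyNormalized hS hE hA₀nE).2 hbE hA₀Q hext
    have hχr : χ.range = Q := by
      refine Subgroup.eq_of_le_of_card_ge ?_
        (Nat.card_congr (MonoidHom.ofInjective (E.injective_of_mem hχ)).toEquiv).le
      rintro _ ⟨g, rfl⟩
      have hm : (β g : Ω)⁻¹ * χ g ∈ centralizerIn S A₀ := by
        refine ⟨S.mul_mem (S.inv_mem (hQS (β g).2)) (apply_mem_S E hχ g), fun a ha => ?_⟩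
        obtain ⟨x, hx⟩ := b.surjective ⟨a, ha⟩
        have hgx : ((g * Subgroup.inclusion hA₀Q x * g⁻¹ : Q) : Ω) ∈ A₀ :=
          conj_mem_of_mem_normalizer (hQnA g.2) x.2
        have hincl : Subgroup.inclusion hA₀Q ⟨_, hgx⟩ = g * Subgroup.inclusion hA₀Q x * g⁻¹ :=
          Subtype.ext rfl
        have h1 := (hχe ⟨_, hgx⟩).trans (hbe ⟨_, hgx⟩)
        change χ (Subgroup.inclusion hA₀Q ⟨_, hgx⟩) = (β (Subgroup.inclusion hA₀Q ⟨_, hgx⟩) : Ω) at h1
        rw [hincl, map_mul, map_mul, map_inv, map_mul, map_mul, map_inv, hχe x, hx,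
          Subgroup.coe_mul, Subgroup.coe_mul, Subgroup.coe_inv] at h1
        have h3 : (β (Subgroup.inclusion hA₀Q x) : Ω) = a := by
          have h4 := hbe x
          rw [hx] at h4
          exact h4.symm
        rw [h3] at h1
        change χ g * a * (χ g)⁻¹ = (β g : Ω) * a * ((β g : Q) : Ω)⁻¹ at h1
        calc a * ((β g : Ω)⁻¹ * χ g) = (β g : Ω)⁻¹ * ((β g : Ω) * a * ((β g : Q) : Ω)⁻¹) * χ g := by group
          _ = (β g : Ω)⁻¹ * (χ g * a * (χ g)⁻¹) * χ g := by rw [h1]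
          _ = (β g : Ω)⁻¹ * χ g * a := by group
      have h := Q.mul_mem (β g).2 (hCQ hm)
      rwa [mul_inv_cancel_left] at h
    obtain ⟨ψ', hψ', hψe'⟩ := exists_iso_of_range hχ hχr
    have hψA : ∀ x : A₀, ψ' (Subgroup.inclusion hA₀Q x) = β (Subgroup.inclusion hA₀Q x) :=
      fun x => Subtype.ext ((hψe' _).trans ((hχe x).trans (hbe x)))
    have hψN : (ψ' : MulAut Q) ∈ N.autGroup Q := by
      have hψF : Q.subtype.comp ψ'.toMonoidHom ∈ F.Hom Q := hEF Q hψ'
      obtain ⟨χ', hχ', hχe'⟩ := mem_of_eq_sup (sup_eq_left.2 hA₀Q).symm hψF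
      refine (mem_autGroup_iff N hQT).2 ⟨hψF, hQT, fun x => hQT (ψ' x).2, χ', hχ',
        fun x => hχe' _, ?_⟩
      change img χ' A₀ = A₀
      ext y
      rw [mem_img]
      constructor
      · rintro ⟨z, hz, rfl⟩
        rw [hχe']
        change ((ψ' (Subgroup.inclusion hA₀Q ⟨_, hz⟩) : Q) : Ω) ∈ A₀
        rw [hψA]
        exact hbinv _
      · intro hy
        obtain ⟨x, hx⟩ := hrange.ge hy
        refine ⟨⟨(x : Ω), le_sup_right (a := Q) x.2⟩, x.2, (hχe' _).trans ?_⟩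
        rw [← hx]
        exact congrArg Subtype.val (hψA x)
    have hγ : ψ'⁻¹ * β ∈ K := by
      refine ⟨mul_mem (inv_mem hψN) hβ, fun x hx => ?_⟩
      rw [MulAut.mul_apply, show β x = ψ' x from (hψA ⟨x, hx⟩).symm]
      exact MulAut.inv_apply_self Q ψ' x
    have h := mul_mem ((mem_autGroup_iff E hQS).2 hψ')
      (autInducedBy_le_autGroup hQS (autInducedBy_mono hTS (hKS hγ)))
    rwa [mul_inv_cancel_left] at h
  -- transport to `A₀`
  have htrans : ∀ B : Subgroup Ω, F.IsConj B A₀ → B ≤ D → IsSmallAb p B →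
      ∃ g ∈ E.Hom (normalizerIn S B), (∀ z, g z ∈ T) ∧
        ∀ (y : normalizerIn S B), (y : Ω) ∈ B ↔ g y ∈ A₀ := by
    intro B hBc hBD hB
    obtain ⟨e, he⟩ := isConj_iff.1 hBc
    obtain ⟨-, -, heE⟩ := hiso hBD hB he
    obtain ⟨e', h, -, g, hg, hge, hgN⟩ :=
      exists_hom_normalizerIn_of_fullyNormalized hS hE hA₀nE (isConj_iff.2 ⟨e, heE⟩)
    refine ⟨g, hg, hgN, fun y => ⟨fun hy => ?_, fun hy => ?_⟩⟩
    · rw [show y = Subgroup.inclusion h ⟨y, hy⟩ from rfl, hge]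
      exact (e' _).2
    · obtain ⟨x, hx⟩ := e'.surjective ⟨_, hy⟩
      have h1 := E.injective_of_mem hg ((hge x).trans (congrArg Subtype.val hx))
      rw [← h1]
      exact x.2
  have hPS := le_S F hφ
  set A' := (φ.comp (Subgroup.inclusion hAP)).range with hA'def
  obtain ⟨a', ha', ha'e⟩ := exists_iso_of_range (res_mem F hφ hAP) hA'def.symm
  obtain ⟨hA'D, hA', -⟩ := hiso hAD hA ha'
  obtain ⟨g, hg, hgT, hgA⟩ := htrans A hAA₀ hAD hA
  obtain ⟨g', hg', hgT', hgA'⟩ := htrans A'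
    (isConj_trans (isConj_symm (isConj_iff.2 ⟨a', ha'⟩)) hAA₀) hA'D hA'
  have hPN : P ≤ normalizerIn S A := le_inf hPS hPn
  have hφN : ∀ x : P, φ x ∈ normalizerIn S A' := by
    intro x
    refine ⟨apply_mem_S F hφ x, ?_⟩
    have := finite_of_le (hA'D.trans hDS)
    refine mem_normalizer_of_forall ?_
    rintro _ ⟨a, rfl⟩
    refine ⟨⟨_, conj_mem_of_mem_normalizer (hPn x.2) a.2⟩, ?_⟩
    change φ _ = φ x * φ _ * (φ x)⁻¹
    rw [← map_inv, ← map_mul, ← map_mul]
    exact congrArg φ (Subtype.ext rfl)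
  set P₁ := (g.comp (Subgroup.inclusion hPN)).range with hP₁def
  obtain ⟨gi, hgi, hgie⟩ : ∃ gi ∈ E.Hom P₁, ∀ x : P, gi ⟨(g.comp (Subgroup.inclusion hPN)) x, ⟨x, rfl⟩⟩ = x :=
    E.inv_mem (res_mem E hg hPN)
  have hgiP : ∀ z, gi z ∈ P := by
    rintro ⟨_, x, rfl⟩
    rw [hgie]
    exact x.2
  let φ₁ : P₁ →* Ω := φ.comp (gi.codRestrict P hgiP)
  have hφ₁F : φ₁ ∈ F.Hom P₁ := F.comp_mem (hEF _ hgi) hφ hgiP
  have hφ₁N : ∀ z, φ₁ z ∈ normalizerIn S A' := fun z => hφN _
  let φ₂ : P₁ →* Ω := g'.comp (φ₁.codRestrict _ hφ₁N)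
  have hφ₂F : φ₂ ∈ F.Hom P₁ := F.comp_mem hφ₁F (hEF _ hg') hφ₁N
  have hP₁T : P₁ ≤ T := by
    rintro _ ⟨x, rfl⟩
    exact hgT _
  have hA₀P₁ : A₀ ≤ P₁ := by
    intro y hy
    have hcard : Nat.card A₀ ≤ Nat.card (img (g.comp (Subgroup.inclusion hPN)) A) := by
      rw [card_img (E.injective_of_mem (res_mem E hg hPN)) hAP, hcardA]
    have hle : img (g.comp (Subgroup.inclusion hPN)) A ≤ A₀ := by
      rintro _ hz
      obtain ⟨x, hx, rfl⟩ := mem_img.1 hz
      exact (hgA _).1 hx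
    exact img_le_range _ A ((Subgroup.eq_of_le_of_card_ge hle hcard).ge hy)
  have hφ₂N : φ₂ ∈ N.Hom P₁ := by
    obtain ⟨χ, hχ, hχe⟩ := mem_of_eq_sup (sup_eq_left.2 hA₀P₁).symm hφ₂F
    refine ⟨hφ₂F, hP₁T, fun z => hgT' _, χ, hχ, fun z => hχe _, ?_⟩
    change img χ A₀ = A₀
    refine Subgroup.eq_of_le_of_card_ge ?_ (card_img (F.injective_of_mem hχ) le_sup_right).ge
    intro y hy
    obtain ⟨z, hz, rfl⟩ := mem_img.1 hy
    rw [hχe]
    obtain ⟨x, hx⟩ := hA₀P₁ hz
    have hxA : (x : Ω) ∈ A := (hgA (Subgroup.inclusion hPN x)).2 (hx ▸ hz)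
    refine (hgA' _).1 ?_
    change φ (gi.codRestrict P hgiP ⟨z, _⟩) ∈ A'
    refine ⟨⟨x, hxA⟩, congrArg φ (Subtype.ext ?_)⟩
    refine Eq.trans ?_ (congrArg gi (Subtype.ext hx : (⟨_, x, rfl⟩ : P₁) = _))
    exact (hgie x).symm
  have hφ₂E := hNE P₁ φ₂ hφ₂N
  -- undo the transport
  obtain ⟨gi', hgi', hgie'⟩ := E.inv_mem hg'
  have hv₀ : ∀ x : P, (g.comp (Subgroup.inclusion hPN)) x ∈ P₁ := fun x => ⟨x, rfl⟩
  have h1 := E.comp_mem (res_mem E hg hPN) hφ₂E hv₀
  have hv : ∀ x : P, (φ₂.comp ((g.comp (Subgroup.inclusion hPN)).codRestrict P₁ hv₀)) x ∈ g'.range :=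
    fun x => ⟨_, rfl⟩
  refine mem_of_eq rfl (E.comp_mem h1 hgi' hv) fun x => ?_
  simp only [MonoidHom.comp_apply]
  change φ x = gi' ⟨g' ⟨φ (gi.codRestrict P hgiP ⟨_, x, rfl⟩), _⟩, _⟩
  rw [hgie']
  exact congrArg φ (Subtype.ext (hgie x).symm)

end CfsgLib.Fusion
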