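import Cfsg.Agent.Lib.Fusion.OmegaSeries
import Cfsg.Agent.Lib.Fusion.SmallEssential
import Cfsg.Agent.Lib.PGroup.Extraspecial
import Cfsg.Agent.Lib.PGroup.Basic

/-!
# Fusion systems on groups of order `27` with a pearl of order `9`
-/

set_option autoImplicit false

open Cfsg Cfsg.FusionSystem
open scoped commutatorElement

namespace CfsgLib.Fusion

variable {Ω : Type*} [Group Ω] {S : Subgroup Ω} [Finite S] {F : FusionSystem S}
  [Fact (Nat.Prime 3)]

/-- A group of order `27` carrying a saturated fusion system with a pearl of order `9` is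
extraspecial of exponent `3`. -/
theorem extraspecial_of_small_square_pearl (hS : IsPGroup 3 S) (hF : F.IsSaturated 3)
    {E : Subgroup Ω} (hE : F.IsEssential 3 E) (hc : Nat.card E = 9)
    (hel : ∀ x ∈ E, x ^ 3 = 1 ∧ IsMulCommutative E) (hS27 : Nat.card S = 27) :
    IsExtraspecial 3 S ∧ Nat.card S = 27 ∧ Monoid.exponent S = 3 := by
  classical
  have hES := hE.1.1
  have := finite_of_le hES
  set E' := E.subgroupOf S with hE'
  have hE'c : Nat.card E' = 9 :=
    (Nat.card_congr (Subgroup.subgroupOfEquivOfLe hES).toEquiv).trans hc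
  have hcom : IsMulCommutative E := (hel 1 E.one_mem).2
  have hab : ∀ a b : E, Commute a b := fun a b => hcom.is_comm.comm a b
  have hC : ∀ g : S, (∀ e ∈ E', e * g = g * e) → g ∈ E' := by
    intro g hg
    exact hE.1.2 E (isConj_refl hES)
      ⟨g.2, fun y hy => congrArg Subtype.val (hg ⟨y, hES hy⟩ hy)⟩
  set Z := Subgroup.center S with hZ
  have hZE : Z ≤ E' := fun z hz => hC z fun e _ => Subgroup.mem_center_iff.1 hz e
  have hnt : Nontrivial S := Finite.one_lt_card_iff_nontrivial.1 (by rw [hS27]; norm_num)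
  have hindex : E'.index = 3 := by
    have h1 := E'.card_mul_index
    rw [hE'c, hS27] at h1
    omega
  have hE'n : E'.Normal := by
    refine Subgroup.normal_of_index_eq_minFac_card ?_
    rw [hindex, hS27]; norm_num
  have hZne : Z ≠ E' := fun h => by
    have htop : (⊤ : Subgroup S) ≤ E' := fun g _ => hC g fun e he =>
      (Subgroup.mem_center_iff.1 (show e ∈ Z from h ▸ he) g).symm
    have := Subgroup.card_le_of_le htop
    rw [Subgroup.card_top, hS27, hE'c] at this
    omega
  have hZc : Nat.card Z = 3 := by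
    obtain ⟨k, hk⟩ := (hS.to_subgroup Z).exists_card_eq
    have h1 : Nat.card Z < Nat.card E' :=
      lt_of_not_ge fun h => hZne (Subgroup.eq_of_le_of_card_ge hZE h)
    have h0 : k ≠ 0 := fun h0 => by
      have h2 := Finite.one_lt_card_iff_nontrivial.2 hS.center_nontrivial
      rw [← hZ, hk, h0] at h2
      norm_num at h2
    rw [hk, hE'c] at h1
    have h2 : k < 2 := (Nat.pow_lt_pow_iff_right (show 1 < 3 by norm_num)).1
      (show 3 ^ k < 3 ^ 2 by simpa using h1)
    rw [hk, show k = 1 by omega, pow_one]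
  have hQc : Nat.card (S ⧸ Z) = 3 ^ 2 := by
    have h1 := Z.card_mul_index
    rw [hZc, hS27, Subgroup.index_eq_card] at h1
    omega
  have hQab := IsPGroup.isMulCommutative_of_card_eq_prime_sq hQc
  have hcomm : ∀ a b : S, ⁅a, b⁆ ∈ Z := fun a b => (QuotientGroup.eq_one_iff _).1 (by
    show QuotientGroup.mk' Z ⁅a, b⁆ = 1
    rw [map_commutatorElement, commutatorElement_eq_one_iff_mul_comm]
    exact hQab.is_comm.comm _ _)
  have hZ3 : ∀ z ∈ Z, z ^ 3 = 1 := fun z hz => by
    have := pow_card_eq_one' (G := Z) (x := ⟨z, hz⟩)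
    rw [hZc] at this
    exact congrArg Subtype.val this
  have hE3 : ∀ e ∈ E', e ^ 3 = 1 := fun e he => Subtype.ext (by simpa using (hel e he).1)
  -- the inversion of `E` lies in the automiser
  set ZE : Subgroup E := (Z.map S.subtype).subgroupOf E with hZEdef
  have hZS : Z.map S.subtype ≤ E := by rintro _ ⟨z, hz, rfl⟩; exact hZE hz
  have hZEc : Nat.card ZE = 3 := by
    rw [hZEdef, Nat.card_congr (Subgroup.subgroupOfEquivOfLe hZS).toEquiv,
      Subgroup.card_map_of_injective S.subtype_injective, hZc]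
  have hSN : S ≤ Subgroup.normalizer (E : Set Ω) := by
    intro s hs
    rw [Subgroup.mem_normalizer_iff]
    intro y
    constructor
    · intro hy
      exact hE'n.conj_mem ⟨y, hES hy⟩ hy ⟨s, hs⟩
    · intro hy
      have := hE'n.conj_mem ⟨s * y * s⁻¹, hES hy⟩ hy ⟨s⁻¹, inv_mem hs⟩
      simpa [Subgroup.mem_subgroupOf, E', mul_assoc] using this
  obtain ⟨g, hgE⟩ : ∃ g : S, g ∉ E' := by
    by_contra! h
    have := Subgroup.card_le_of_le (show (⊤ : Subgroup S) ≤ E' from fun g _ => h g)
    rw [Subgroup.card_top, hS27, hE'c] at this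
    omega
  set τ : MulAut E := normAut (g : Ω) (hSN g.2) with hτdef
  have hτA : τ ∈ F.autGroup E :=
    autInducedBy_le_autGroup hES (mem_autInducedBy_iff.2 ⟨g, g.2, fun _ => rfl⟩)
  have hτ1 : τ ≠ 1 := fun h => hgE (hC g fun e he => Subtype.ext (by
    have h1 : (g : Ω) * (e : Ω) * (g : Ω)⁻¹ = (e : Ω) :=
      congrArg Subtype.val (DFunLike.congr_fun h (⟨(e : Ω), he⟩ : E))
    exact (mul_inv_eq_iff_eq_mul.1 h1).symm))
  have hτfix : ∀ z ∈ ZE, τ z = z := by
    rintro z ⟨w, hw, hwz⟩
    refine Subtype.ext ?_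
    show (g : Ω) * (z : Ω) * (g : Ω)⁻¹ = (z : Ω)
    rw [show (z : Ω) = S.subtype w from hwz.symm]
    exact mul_inv_eq_iff_eq_mul.2 (congrArg Subtype.val (Subgroup.mem_center_iff.1 hw g) :)
  have hτmov : ∀ w, τ w * w⁻¹ ∈ ZE := fun w =>
    ⟨⁅g, ⟨w, hES w.2⟩⁆, hcomm _ _, by
      show (g : Ω) * (w : Ω) * (g : Ω)⁻¹ * (w : Ω)⁻¹ = _
      rfl⟩
  obtain ⟨β, hβ, hβZ⟩ : ∃ β ∈ F.autGroup E, ∃ z ∈ ZE, β z ∉ ZE := by
    by_contra! h
    refine false_of_fine_series hS hF hE
      (fun i => if i = 0 then ⊥ else if i = 1 then ZE else ⊤) 2 rfl (by simp) ?_ ?_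
    · intro α hα i hi x hx
      interval_cases i
      · simp only [if_true, Subgroup.mem_bot] at hx ⊢
        rw [hx, map_one]
      · simpa using h α hα x (by simpa using hx)
      · simp
    · intro i hi
      interval_cases i
      · refine ⟨by simp, ?_⟩
        simp [Subgroup.relIndex_bot_left, hZEc]
      · refine ⟨by simp, ?_⟩
        have h1 := ZE.card_mul_index
        rw [hZEc, hc] at h1
        simp only [one_ne_zero, if_false, if_true, show (1 + 1 : ℕ) ≠ 0 by norm_num,
          show (1 + 1 : ℕ) ≠ 1 by norm_num, Subgroup.relIndex_top_right]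
        omega
  obtain ⟨ι, hιA, hι⟩ := exists_inversion_mem (p := 3) hab
    (fun a => Subtype.ext (by simpa using (hel a a.2).1)) (by rw [hc]; norm_num) hZEc
    (F.autGroup E) hτA hτ1 hτfix hτmov hβ hβZ
  -- extend it to `S`
  have hnorm : F.IsFullyNormalized E := isFullyNormalized_of_normal hES hSN
  have hext : S ≤ extender S E (E.subtype.comp (ι : E ≃* E).toMonoidHom) := by
    intro s hs
    refine mem_extender_iso_iff.2 ⟨hs, hSN hs, mem_autInducedBy_iff.2 ⟨s, hs, fun w => ?_⟩⟩
    change ((ι (normAut s (hSN hs) ((ι : E ≃* E).symm w)) : E) : Ω) = _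
    have h1 : (ι : E ≃* E).symm w = w⁻¹ := by
      rw [MulEquiv.symm_apply_eq]
      exact (by rw [hι, inv_inv] : w = ι w⁻¹)
    rw [h1, hι]
    simp [mul_assoc]
  obtain ⟨χ, hχ, hχe⟩ := exists_extension
    (fullyAutomized_receptive_of_fullyNormalized hS hF hnorm).2
    ((mem_autGroup_iff F hES).1 hιA) hES hext
  have hχS : ∀ y : S, χ y ∈ S := fun y => (F.le_of_mem hχ).2 y
  let α : S →* S := χ.codRestrict S hχS
  have hαinj : Function.Injective α := fun u v huv =>
    F.injective_of_mem hχ (congrArg Subtype.val huv)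
  have hαE : ∀ e : S, e ∈ E' → α e = e⁻¹ := fun e he => Subtype.ext (by
    have h1 := hχe ⟨(e : Ω), he⟩
    exact (h1.trans (congrArg Subtype.val (hι _)) :))
  have hexp : ∀ s : S, s ^ 3 = 1 := by
    intro s
    by_cases hsE : s ∈ E'
    · exact hE3 s hsE
    -- `α s` agrees with `s` modulo `E`
    obtain ⟨e, he, hse⟩ : ∃ e ∈ E', α s = s * e := by
      refine ⟨s⁻¹ * α s, hC _ fun e he => ?_, by group⟩
      have h1 : α (s * e * s⁻¹) = α s * α e * (α s)⁻¹ := by simp
      rw [hαE e he, hαE _ (hE'n.conj_mem e he s)] at h1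
      have h2 : s * e * s⁻¹ = α s * e * (α s)⁻¹ := by
        have := congrArg (fun t : S => t⁻¹) h1
        simpa [mul_assoc] using this
      calc e * (s⁻¹ * α s) = s⁻¹ * (s * e * s⁻¹) * α s := by group
        _ = s⁻¹ * (α s * e * (α s)⁻¹) * α s := by rw [h2]
        _ = s⁻¹ * α s * e := by group
    have hcube : ∀ a b : S, (a * b) ^ 3 = a ^ 3 * b ^ 3 := by
      intro a b
      have hz := hcomm b a
      have hzc := Subgroup.mem_center_iff.1 hz
      set z := ⁅b, a⁆ with hzd
      have hba : b * a = z * (a * b) := by rw [hzd, commutatorElement_def]; group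
      calc (a * b) ^ 3 = a * (b * a) * (b * a) * b := by
            simp only [pow_succ, pow_zero, one_mul, mul_assoc]
        _ = a * (z * (a * b)) * (z * (a * b)) * b := by rw [hba]
        _ = (a * z) * a * (b * z) * a * b * b := by group
        _ = z * a * a * z * (b * a) * b * b := by rw [hzc a, hzc b]; group
        _ = z * (a * a * z) * z * a * b * b * b := by rw [hba]; group
        _ = z * (z * (a * a)) * z * a * b * b * b := by rw [hzc (a * a)]
        _ = z * z * (a * a * z) * a * b * b * b := by group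
        _ = z * z * (z * (a * a)) * a * b * b * b := by rw [hzc (a * a)]
        _ = z ^ 3 * a ^ 3 * b ^ 3 := by simp only [pow_succ, pow_zero, one_mul, mul_assoc]
        _ = a ^ 3 * b ^ 3 := by rw [hZ3 _ hz, one_mul]
    have h1 : α (s ^ 3) = s ^ 3 := by
      rw [map_pow, hse, hcube, hE3 e he, mul_one]
    have hs3E : s ^ 3 ∈ E' := hindex ▸ Subgroup.pow_index_mem E' s
    rw [hαE _ hs3E, inv_eq_iff_mul_eq_one] at h1
    calc s ^ 3 = (s ^ 3) ^ 3 * (s ^ 3 * s ^ 3)⁻¹ := by group
      _ = 1 := by rw [hE3 _ hs3E, h1]; simp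
  refine ⟨CfsgLib.PGroup.isExtraspecial_mk hS hZc (fun h => hZne ?_) hcomm
    (fun a => by rw [hexp a]; exact one_mem _), hS27, ?_⟩
  · refine le_antisymm hZE fun e _ => Subgroup.mem_center_iff.2 fun u => h.is_comm.comm u e
  · rcases (Nat.dvd_prime Nat.prime_three).1 (Monoid.exponent_dvd_of_forall_pow_eq_one hexp) with
      h | h
    · have := Monoid.exp_eq_one_iff.1 h
      rw [Nat.card_of_subsingleton (1 : S)] at hS27
      omega
    · exact h

end CfsgLib.Fusion
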