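import Cfsg.Agent.Lib.Fusion.FactorHat
import Cfsg.Agent.Lib.Fusion.GroupSystem
import Cfsg.Agent.Lib.Fusion.Normal
import Cfsg.Agent.Lib.Fusion.Extender
import Cfsg.Agent.Lib.PStab.Control
import Cfsg.Agent.Lib.Transfer.FusionThompson
import Cfsg.Agent.Lib.Transfer.Sections

/-!
# Fusion systems of stable groups
-/

set_option autoImplicit false

open Cfsg Cfsg.FusionSystem
open CfsgLib.PStab (StableAll InCoreAct IsQuad zjGen)
open scoped commutatorElement

namespace CfsgLib.Fusion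

set_option maxHeartbeats 800000

universe u

variable {G : Type u} [Group G] [Finite G] {p : ℕ} [Fact p.Prime]

/-- Stability of the fusion system gives stability of the group. -/
theorem stableAll_of_pStable (S : Sylow p G)
    (hst : ∀ Q : Subgroup G, (groupFusionSystem (S : Subgroup G)).IsFullyNormalized Q →
      ∀ χ : MulAut ↥Q, χ ∈ (groupFusionSystem (S : Subgroup G)).autGroup Q →
        (∀ a : ↥Q, (χ a⁻¹) * a * (χ a⁻¹) * (χ (χ a)) = 1) →
        χ ∈ ((Cfsg.pCore p ↥((groupFusionSystem (S : Subgroup G)).autGroup Q)).map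
          ((groupFusionSystem (S : Subgroup G)).autGroup Q).subtype : Subgroup (MulAut ↥Q))) :
    StableAll p G := by
  intro P hP a ha hq
  obtain ⟨P₁, hP₁⟩ := hP.exists_le_sylow
  obtain ⟨g₁, hg₁⟩ := MulAction.exists_smul_eq G P₁ S
  have hU : conjSub g₁ P ≤ S := by
    rintro _ ⟨u, hu, rfl⟩
    rw [← hg₁, Sylow.coe_subgroup_smul]
    exact Subgroup.smul_mem_pointwise_smul u (MulAut.conj g₁) _ (hP₁ hu)
  obtain ⟨Q, hQ, hQn⟩ := exists_fullyNormalized (groupFusionSystem (S : Subgroup G)) hU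
  obtain ⟨-, -, g₂, rfl⟩ := isConj_groupFusion_iff.1 hQ
  rw [conjSub_conjSub] at hQn
  set g := g₂ * g₁
  set Q := conjSub g P with hQdef
  have hQS := hQn.1
  have hmem : ∀ n ∈ Subgroup.normalizer (P : Set G), g * n * g⁻¹ ∈ Subgroup.normalizer (Q : Set G) :=
    fun n hn => mem_normalizer_of_forall fun y hy => by
      obtain ⟨x, hx, rfl⟩ := hy
      exact ⟨n * x * n⁻¹, conj_mem_of_mem_normalizer hn hx, by simp [mul_assoc]⟩
  let A := (groupFusionSystem (S : Subgroup G)).autGroup Q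
  let f : ↥(Subgroup.normalizer (P : Set G)) →* MulAut ↥Q :=
    Q.normalizerMonoidHom.comp
      (((MulAut.conj g).toMonoidHom.comp (Subgroup.normalizer (P : Set G)).subtype).codRestrict _
        fun n => hmem n n.2)
  have hfA : ∀ n, f n ∈ A := fun n => by
    change f n ∈ (groupFusionSystem (S : Subgroup G)).autGroup Q
    rw [autGroup_groupFusion hQS, mem_autInducedBy_iff]
    exact ⟨g * (n : G) * g⁻¹, trivial, fun x => rfl⟩
  let f' : ↥(Subgroup.normalizer (P : Set G)) →* A := f.codRestrict A hfA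
  set χ := f ⟨a, ha⟩ with hχdef
  have hχq : ∀ y : ↥Q, (χ y⁻¹) * y * (χ y⁻¹) * (χ (χ y)) = 1 := by
    rintro ⟨_, x, hx, rfl⟩
    refine Subtype.ext ?_
    have h1 : a * (x * (a * x⁻¹ * a⁻¹)) * a⁻¹ = x * (a * x⁻¹ * a⁻¹) := by
      have h2 := commutatorElement_eq_one_iff_mul_comm.1 (hq x hx)
      rw [commutatorElement_def] at h2
      calc a * (x * (a * x⁻¹ * a⁻¹)) * a⁻¹ = a * (x * a * x⁻¹ * a⁻¹) * a⁻¹ := by group
        _ = x * a * x⁻¹ * a⁻¹ * a * a⁻¹ := by rw [h2]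
        _ = _ := by group
    have hval : ∀ y : ↥Q, (χ y : G) = g * a * g⁻¹ * (y : G) * (g * a * g⁻¹)⁻¹ := fun y => rfl
    simp only [Subgroup.coe_mul, hval, Subgroup.coe_inv, Subgroup.coe_one, MulAut.conj_apply,
      MulEquiv.coe_toMonoidHom]
    calc _ = g * ((a * x⁻¹ * a⁻¹) * (x * (a * x⁻¹ * a⁻¹)) *
            (a * (x * (a * x⁻¹ * a⁻¹)) * a⁻¹)⁻¹ * (a * x * a⁻¹)) * g⁻¹ := by
          simp only [mul_inv_rev, inv_inv, mul_assoc, inv_mul_cancel_left, mul_inv_cancel_left]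
      _ = 1 := by
          rw [h1]
          simp [mul_assoc]
  have hO := hst Q hQn χ (hfA _) hχq
  refine ⟨((Cfsg.pCore p A).comap f').map (Subgroup.normalizer (P : Set G)).subtype,
    Subgroup.map_subtype_le _, ?_, ⟨⟨a, ha⟩, ?_, rfl⟩, ?_⟩
  · intro n hn
    refine CfsgLib.Solvable.mem_normalizer_of_conj_mem ?_
    rintro _ ⟨k, hk, rfl⟩
    have hKn : ((Cfsg.pCore p A).comap f').Normal := Subgroup.Normal.comap inferInstance f'
    refine Subgroup.mem_map.2 ⟨⟨n, hn⟩ * k * ⟨n, hn⟩⁻¹, ?_, ?_⟩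
    · exact hKn.conj_mem k hk _
    · simp
  · obtain ⟨β, hβ, hβe⟩ := hO
    rw [SetLike.mem_coe, Subgroup.mem_comap]
    rwa [show f' ⟨a, ha⟩ = β from Subtype.ext hβe.symm]
  · rintro _ ⟨k, hk, rfl⟩
    obtain ⟨n, hn⟩ := Cores.isPGroup_pCore p (G := A) ⟨f' k, hk⟩
    refine ⟨n, Subgroup.mem_centralizer_iff.2 fun x hx => ?_⟩
    have h1 : f (k ^ p ^ n) = 1 := by
      rw [map_pow]
      exact congrArg (fun z : Cfsg.pCore p A => ((z : A) : MulAut ↥Q)) hn
    have h2 : g * (k : G) ^ p ^ n * g⁻¹ * (g * x * g⁻¹) * (g * (k : G) ^ p ^ n * g⁻¹)⁻¹ =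
        g * x * g⁻¹ := by
      have h4 : (f (k ^ p ^ n) ⟨g * x * g⁻¹, x, hx, rfl⟩ : G) = g * x * g⁻¹ := by
        rw [h1]
        rfl
      have h5 : (f (k ^ p ^ n) ⟨g * x * g⁻¹, x, hx, rfl⟩ : G) =
          g * ((k ^ p ^ n : ↥(Subgroup.normalizer (P : Set G))) : G) * g⁻¹ * (g * x * g⁻¹) *
            (g * ((k ^ p ^ n : ↥(Subgroup.normalizer (P : Set G))) : G) * g⁻¹)⁻¹ := rfl
      rw [h5, Subgroup.coe_pow] at h4
      exact h4
    have h3 : g * ((k : G) ^ p ^ n * x * ((k : G) ^ p ^ n)⁻¹) * g⁻¹ = g * x * g⁻¹ := by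
      rw [← h2]; group
    exact (mul_inv_eq_iff_eq_mul.1 (mul_left_cancel (mul_right_cancel h3))).symm

/-- In a stable group, `Z(J(S))` is strongly closed. -/
theorem stronglyClosed_zjGen (hp : p ≠ 2) (hst : StableAll p G) (S : Sylow p G) {a h : G}
    (ha : a ∈ zjGen 0 (S : Subgroup G)) (hh : h * a * h⁻¹ ∈ (S : Subgroup G)) :
    h * a * h⁻¹ ∈ zjGen 0 (S : Subgroup G) := by
  have hzS := CfsgLib.PStab.zjGen_le 0 (S : Subgroup G)
  have hconj : conjSub h (Subgroup.zpowers a) ≤ (S : Subgroup G) := by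
    rw [conjSub, MonoidHom.map_zpowers, Subgroup.zpowers_le]
    exact hh
  obtain ⟨m, hm, hag⟩ := CfsgLib.PStab.control_of_stableAll hp hst (Or.inl rfl) S
    (D := (S : Subgroup G)) ⟨le_rfl, fun _ _ _ h => h⟩ (Subgroup.zpowers a) h
    (Subgroup.zpowers_le.2 (hzS ha)) hconj
  rw [← hag a (Subgroup.mem_zpowers a)]
  exact conj_mem_of_mem_normalizer hm ha

/-- The fusion system of a stable group has a nontrivial core. -/
theorem core_ne_bot_of_stableAll (hp : p ≠ 2) (hst : StableAll p G) (S : Sylow p G)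
    (hne : (S : Subgroup G) ≠ ⊥) : (groupFusionSystem (S : Subgroup G)).core ≠ ⊥ := by
  set F := groupFusionSystem (S : Subgroup G)
  set W := zjGen 0 (S : Subgroup G) with hWdef
  have hWne : W ≠ ⊥ := CfsgLib.Transfer.zjGen_ne_bot_of_finite (p := p) (Or.inl rfl) S.2 hne
  have hW : F.StronglyClosed W := by
    refine ⟨CfsgLib.PStab.zjGen_le 0 _, fun P hP φ hφ x => ?_⟩
    obtain ⟨-, hφS, h, hh⟩ := hφ
    have h1 := hφS x
    rw [hh x] at h1 ⊢
    exact stronglyClosed_zjGen hp hst S (hP x.2) h1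
  have hab : ⁅W, W⁆ = ⊥ := by
    rw [Subgroup.commutator_eq_bot_iff_le_centralizer]
    exact fun y hy z hz => CfsgLib.PStab.zjGen_comm hz hy
  intro hc
  exact hWne (le_bot_iff.1 (hc ▸ le_sSup (show W ∈ {Q : Subgroup G | F.IsNormal Q} from
    isNormal_of_commutative S.2 (isSaturated_groupFusion S) hW hab)))

/-- The core of the fusion system of a stable group contains its centralizer. -/
theorem centralizerIn_core_le_of_stableAll (hp : p ≠ 2) (hst : StableAll p G) (S : Sylow p G) :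
    centralizerIn (S : Subgroup G) (groupFusionSystem (S : Subgroup G)).core ≤
      (groupFusionSystem (S : Subgroup G)).core := by
  by_contra hnc
  set F := groupFusionSystem (S : Subgroup G) with hFdef
  have hF : F.IsSaturated p := isSaturated_groupFusion S
  have hX : F.IsNormal F.core := isNormal_core
  set X := F.core with hXdef
  have hXS := hX.1
  have hsc := stronglyClosed_of_isNormal hX
  have hSn := le_normalizer_of_stronglyClosed hsc
  set H := Subgroup.normalizer (X : Set G) with hH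
  -- maps come from the normalizer of `X`
  have hfus : ∀ P : Subgroup G, ∀ φ ∈ F.Hom P, ∃ h ∈ H, ∀ x : P, φ x = h * x * h⁻¹ := by
    intro P φ hφ
    obtain ⟨ψ, ⟨-, -, h, hh⟩, hψe, hψX⟩ := hX.2 P φ hφ
    refine ⟨h, mem_normalizer_of_forall fun x hx => ?_, fun x => ?_⟩
    · have h1 := hψX.le (apply_mem_img ψ (x := ⟨x, le_sup_right (a := P) hx⟩) hx)
      rwa [hh] at h1
    · rw [← hψe, hh]
      rfl
  set C : Subgroup H := (Subgroup.centralizer (X : Set G)).subgroupOf H with hCdef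
  have hCn : C.Normal := ⟨fun c hc h => Subgroup.mem_subgroupOf.2
    (Subgroup.mem_centralizer_iff.2 fun x hx => by
      have h1 := Subgroup.mem_centralizer_iff.1 (Subgroup.mem_subgroupOf.1 hc) _
        ((Subgroup.mem_normalizer_iff''.1 h.2 x).1 hx)
      change x * ((h : G) * c * (h : G)⁻¹) = (h : G) * c * (h : G)⁻¹ * x
      calc x * ((h : G) * c * (h : G)⁻¹) = h * (((h : G)⁻¹ * x * h) * c) * (h : G)⁻¹ := by group
        _ = h * (c * ((h : G)⁻¹ * x * h)) * (h : G)⁻¹ := by rw [h1]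
        _ = _ := by group)⟩
  set Sh : Sylow p H := S.subtype hSn
  obtain ⟨T, hT⟩ := CfsgLib.Transfer.exists_sylow_map_eq_inf C Sh
  set Z : Subgroup C := (X.subgroupOf H).subgroupOf C with hZdef
  have hZc : ∀ z ∈ Z, ∀ c : C, c * z = z * c := fun z hz c => Subtype.ext (Subtype.ext
    ((Subgroup.mem_centralizer_iff.1 (Subgroup.mem_subgroupOf.1 c.2) _ hz).symm))
  have hZn : Z.Normal := ⟨fun z hz c => by rw [hZc z hz c, mul_inv_cancel_right]; exact hz⟩
  have hZp : IsPGroup p Z :=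
    (S.2.to_le hXS).of_injective
      (((H.subtype.comp C.subtype).comp Z.subtype).codRestrict X fun z => z.2)
      fun a b h => Subtype.ext (Subtype.ext (Subtype.ext (congrArg (fun z : X => (z : G)) h)))
  have hst' : StableAll p (C ⧸ Z) :=
    ((hst.subgroup H).subgroup C).quotient_central hp Z hZp hZc
  let π := QuotientGroup.mk' Z
  have hπ : Function.Surjective π := QuotientGroup.mk'_surjective Z
  set T' : Sylow p (C ⧸ Z) := T.mapSurjective hπ with hT'def
  set W : Subgroup C := (T : Subgroup C) ⊓ (zjGen 0 (T' : Subgroup (C ⧸ Z))).comap π with hWdef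
  set WG : Subgroup G := (W.map C.subtype).map H.subtype with hWGdef
  have hTmem : ∀ c : C, ((c : H) : G) ∈ (S : Subgroup G) → c ∈ (T : Subgroup C) := by
    intro c hc
    obtain ⟨t, ht, hte⟩ := hT.ge (show (c : H) ∈ (Sh : Subgroup H) ⊓ C from
      ⟨Subgroup.mem_subgroupOf.2 hc, c.2⟩)
    rwa [show c = t from Subtype.ext hte.symm]
  have hTS : ∀ c ∈ (T : Subgroup C), ((c : H) : G) ∈ (S : Subgroup G) := fun c hc =>
    Subgroup.mem_subgroupOf.1 (hT.le ⟨c, hc, rfl⟩).1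
  have hWS : WG ≤ S := by
    rintro _ ⟨_, ⟨w, hw, rfl⟩, rfl⟩
    exact hTS w hw.1
  have hWC : ∀ w ∈ WG, ∀ x ∈ X, w * x = x * w := by
    rintro _ ⟨_, ⟨w, -, rfl⟩, rfl⟩ x hx
    exact (Subgroup.mem_centralizer_iff.1 (Subgroup.mem_subgroupOf.1 w.2) x hx).symm
  -- `W` is invariant under the normalizer of `X`
  have hWinv : ∀ h ∈ H, ∀ w ∈ WG, h * w * h⁻¹ ∈ (S : Subgroup G) → h * w * h⁻¹ ∈ WG := by
    intro h hh w hw hwS
    obtain ⟨_, ⟨w, hw, rfl⟩, rfl⟩ := hw
    have hsup : (⟨h, hh⟩ : H) ∈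
        Subgroup.normalizer (((T : Subgroup C).map C.subtype : Subgroup H) : Set H) ⊔ C :=
      (Sylow.normalizer_sup_eq_top T).symm ▸ Subgroup.mem_top _
    rw [sup_comm, Subgroup.mem_sup_of_normal_left] at hsup
    obtain ⟨c, hc, n, hn, hcn⟩ := hsup
    let γ : C →* C := (MulAut.conjNormal n : MulAut C).toMonoidHom
    have hγT : (T : Subgroup C).map γ = (T : Subgroup C) := by
      refine Subgroup.eq_of_le_of_card_ge ?_
        (Subgroup.card_map_of_injective (MulEquiv.injective _)).ge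
      rintro _ ⟨t, ht, rfl⟩
      obtain ⟨t', ht', hte⟩ := conj_mem_of_mem_normalizer hn
        (show (t : H) ∈ (T : Subgroup C).map C.subtype from ⟨t, ht, rfl⟩)
      rwa [show γ t = t' from Subtype.ext hte.symm]
    have hZle : Z ≤ Z.comap γ := by
      intro z hz
      exact conj_mem_of_mem_normalizer (n : H).2 (show ((z : H) : G) ∈ X from hz)
    let γ' : C ⧸ Z →* C ⧸ Z := QuotientGroup.map Z Z γ hZle
    have hγ's : Function.Surjective γ' := fun y => by
      obtain ⟨y, rfl⟩ := hπ y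
      exact ⟨π ((MulAut.conjNormal n : MulAut C).symm y),
        congrArg π ((MulAut.conjNormal n : MulAut C).apply_symm_apply y)⟩
    have hγ'i : Function.Injective γ' := Finite.injective_iff_surjective.2 hγ's
    have hγ'T : (T' : Subgroup (C ⧸ Z)).map γ' = (T' : Subgroup (C ⧸ Z)) := by
      change (((T : Subgroup C).map π)).map γ' = (T : Subgroup C).map π
      rw [Subgroup.map_map, show γ'.comp π = π.comp γ from rfl, ← Subgroup.map_map, hγT]
    -- the image of `w` under `n`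
    have hw1 : γ w ∈ W := by
      refine ⟨hγT.le ⟨w, hw.1, rfl⟩, ?_⟩
      change π (γ w) ∈ zjGen 0 (T' : Subgroup (C ⧸ Z))
      rw [show π (γ w) = γ' (π w) from rfl, ← hγ'T,
        CfsgLib.PStab.zjGen_map hγ'i]
      exact ⟨π w, hw.2, rfl⟩
    set c' : C := ⟨c, hc⟩
    have he : ((c' * γ w * c'⁻¹ : C) : H) = ⟨h, hh⟩ * (w : H) * ⟨h, hh⟩⁻¹ := by
      rw [← hcn]
      change c * (n * (w : H) * n⁻¹) * c⁻¹ = _
      group
    have hT2 : c' * γ w * c'⁻¹ ∈ (T : Subgroup C) := hTmem _ (by rw [he]; exact hwS)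
    refine ⟨_, ⟨c' * γ w * c'⁻¹, ⟨hT2, ?_⟩, rfl⟩, ?_⟩
    · change π (c' * γ w * c'⁻¹) ∈ zjGen 0 (T' : Subgroup (C ⧸ Z))
      rw [map_mul, map_mul, map_inv]
      refine stronglyClosed_zjGen hp hst' T' hw1.2 ?_
      rw [← map_inv, ← map_mul, ← map_mul]
      exact ⟨_, hT2, rfl⟩
    · exact congrArg Subtype.val he
  have hWclosed : F.StronglyClosed WG := by
    refine ⟨hWS, fun P hP φ hφ x => ?_⟩
    obtain ⟨h, hh, hhe⟩ := hfus P φ hφ
    have h1 := apply_mem_S F hφ x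
    rw [hhe x] at h1 ⊢
    exact hWinv h hh x (hP x.2) h1
  -- its part in `X`
  set Z₀ := X ⊓ centralizerIn (S : Subgroup G) X with hZ₀
  have hZ₀W : Z₀ ≤ WG := by
    rintro z ⟨hzX, hzS, hzC⟩
    set zc : C := ⟨⟨z, Subgroup.le_normalizer hzX⟩, hzC⟩
    refine ⟨_, ⟨zc, ⟨hTmem zc hzS, ?_⟩, rfl⟩, rfl⟩
    change π zc ∈ zjGen 0 (T' : Subgroup (C ⧸ Z))
    rw [show π zc = 1 from (QuotientGroup.eq_one_iff zc).2 hzX]
    exact one_mem _
  have hZ₀c : F.StronglyClosed Z₀ := by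
    refine ⟨inf_le_left.trans hXS, fun P hP φ hφ x => ?_⟩
    obtain ⟨h, hh, hhe⟩ := hfus P φ hφ
    have h1 := apply_mem_S F hφ x
    rw [hhe x] at h1 ⊢
    refine ⟨conj_mem_of_mem_normalizer hh (hP x.2).1, h1, fun y hy => ?_⟩
    have h2 := (hP x.2).2.2 _ ((Subgroup.mem_normalizer_iff''.1 hh y).1 hy)
    calc y * (h * x * h⁻¹) = h * ((h⁻¹ * y * h) * x) * h⁻¹ := by group
      _ = h * (x * (h⁻¹ * y * h)) * h⁻¹ := by rw [h2]
      _ = _ := by group
  have hWab : ⁅WG, WG⁆ ≤ Z₀ := by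
    refine Subgroup.commutator_le.2 ?_
    rintro _ ⟨_, ⟨v, hv, rfl⟩, rfl⟩ _ ⟨_, ⟨w, hw, rfl⟩, rfl⟩
    have h1 : π ⁅v, w⁆ = 1 := by
      rw [map_commutatorElement, commutatorElement_eq_one_iff_mul_comm]
      exact CfsgLib.PStab.zjGen_comm hv.2 hw.2
    have hco : ⁅((v : H) : G), ((w : H) : G)⁆ = (((⁅v, w⁆ : C) : H) : G) := rfl
    change ⁅((v : H) : G), ((w : H) : G)⁆ ∈ Z₀
    rw [hco]
    refine ⟨Subgroup.mem_subgroupOf.1 (Subgroup.mem_subgroupOf.1 ((QuotientGroup.eq_one_iff (N := Z) _).1 h1)),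
      ?_, ?_⟩
    · exact hTS _ (mul_mem (mul_mem (mul_mem hv.1 hw.1) (inv_mem hv.1)) (inv_mem hw.1))
    · exact Subgroup.mem_subgroupOf.1 (⁅v, w⁆ : C).2
  have hWn : F.IsNormal WG := by
    refine isNormal_of_series S.2 hF hWclosed
      (fun i => if i = 0 then ⊥ else if i = 1 then Z₀ else WG) 2 rfl rfl
      (fun i _ => by split_ifs <;> [exact bot_le; exact hZ₀W; exact le_rfl]) (fun i _ => by
        split_ifs <;> [exact stronglyClosed_of_isNormal isNormal_bot; exact hZ₀c; exact hWclosed])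
      fun i hi => ?_
    interval_cases i
    · simp only [Subgroup.commutator_le]
      intro w hw z hz
      simpa [commutatorElement_eq_one_iff_mul_comm] using hWC w hw z hz.1
    · simpa using hWab
  -- contradiction
  have hne : ¬ (T : Subgroup C).map π = ⊥ := by
    intro h
    refine hnc fun c hc => ?_
    have hch : c ∈ H := hSn hc.1
    have h1 : π ⟨⟨c, hch⟩, hc.2⟩ ∈ (⊥ : Subgroup (C ⧸ Z)) := h.le ⟨_, hTmem _ hc.1, rfl⟩
    exact (QuotientGroup.eq_one_iff (⟨⟨c, hch⟩, hc.2⟩ : C)).1 (Subgroup.mem_bot.1 h1)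
  have hzne : zjGen 0 (T' : Subgroup (C ⧸ Z)) ≠ ⊥ :=
    CfsgLib.Transfer.zjGen_ne_bot_of_finite (p := p) (Or.inl rfl) T'.2 hne
  refine hzne (le_bot_iff.1 fun y hy => ?_)
  obtain ⟨c, hc, rfl⟩ := CfsgLib.PStab.zjGen_le 0 _ hy
  have h1 : ((c : H) : G) ∈ X :=
    (le_sSup (show WG ∈ {Q : Subgroup G | F.IsNormal Q} from hWn)) ⟨_, ⟨c, ⟨hc, hy⟩, rfl⟩, rfl⟩
  exact Subgroup.mem_bot.2 ((QuotientGroup.eq_one_iff c).2 h1)

end CfsgLib.Fusion
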