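import Cfsg.Prelude.Def_FusionComponents
import Cfsg.Agent.Lib.Fusion.Normal
import Cfsg.Agent.Lib.Fusion.NormSys
import Cfsg.Agent.Lib.Fusion.Centric
import Cfsg.Agent.Lib.Fusion.SmallControl
import Cfsg.Agent.Lib.Fusion.Invariant
import Cfsg.Agent.Lib.Fusion.FactorBasic

/-!
# Subnormal subsystems of constrained systems
-/

set_option autoImplicit false

open Cfsg Cfsg.FusionSystem

namespace CfsgLib.Fusion

variable {Ω : Type*} [Group Ω] {S : Subgroup Ω} [Finite S] {F : FusionSystem S} {p : ℕ}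
  [Fact p.Prime]

/-- In a constrained system with normal centric subgroup `Q`, an element that centralizes a
normal `R ≤ Q` and `Q/R` lies in the core. -/
theorem mem_core_of_stabilizes (hS : IsPGroup p S) (hF : F.IsSaturated p) {Q R : Subgroup Ω}
    (hQ : F.IsNormal Q) (hQc : F.IsCentric Q) (hR : F.StronglyClosed R) (hRQ : R ≤ Q)
    {x : Ω} (hx : x ∈ S) (h1 : ∀ r ∈ R, x * r * x⁻¹ = r)
    (h2 : ∀ q ∈ Q, q⁻¹ * (x * q * x⁻¹) ∈ R) : x ∈ F.core := by
  have hQsc := stronglyClosed_of_isNormal hQ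
  let C : Ω → Prop := fun u => (∀ r ∈ R, u * r * u⁻¹ = r) ∧ ∀ q ∈ Q, q⁻¹ * (u * q * u⁻¹) ∈ R
  have hQn : ∀ u ∈ S, ∀ q ∈ Q, u * q * u⁻¹ ∈ Q := fun u hu q hq =>
    conj_mem_of_mem_normalizer (mem_normalizer_of_stronglyClosed hQsc hu) hq
  let U : Subgroup Ω :=
    { carrier := {u | u ∈ S ∧ C u}
      one_mem' := ⟨S.one_mem, fun r _ => by simp, fun q _ => by simp⟩
      mul_mem' := by
        rintro a b ⟨ha, ha1, ha2⟩ ⟨hb, hb1, hb2⟩
        refine ⟨S.mul_mem ha hb, fun r hr => ?_, fun q hq => ?_⟩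
        · rw [show a * b * r * (a * b)⁻¹ = a * (b * r * b⁻¹) * a⁻¹ by group, hb1 r hr, ha1 r hr]
        · have h3 := ha1 _ (hb2 q hq)
          have h4 := R.mul_mem (ha2 q hq) (hb2 q hq)
          rw [← h3] at h4
          convert h4 using 1
          group
      inv_mem' := by
        rintro a ⟨ha, ha1, ha2⟩
        have h5 : ∀ r ∈ R, a⁻¹ * r * a = r := fun r hr => by
          conv_lhs => rw [← ha1 r hr]
          group
        refine ⟨S.inv_mem ha, fun r hr => by rw [inv_inv]; exact h5 r hr, fun q hq => ?_⟩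
        have hq' := hQn a⁻¹ (S.inv_mem ha) q hq
        rw [inv_inv] at hq' ⊢
        have h6 := R.inv_mem (ha2 _ hq')
        convert h6 using 1
        group }
  have hU : ∀ {u : Ω}, u ∈ U ↔ u ∈ S ∧ C u := Iff.rfl
  have hUS : U ≤ S := fun u hu => (hU.1 hu).1
  -- `U` is strongly closed
  have hUsc : F.StronglyClosed U := by
    refine ⟨hUS, fun A hA φ hφ u => hU.2 ⟨apply_mem_S F hφ u, ?_⟩⟩
    obtain ⟨-, hu1, hu2⟩ := hU.1 (hA u.2)
    obtain ⟨ψ, hψ, hψe, hψQ⟩ := hQ.2 A φ hφ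
    set v : ↥(A ⊔ Q) := Subgroup.inclusion le_sup_left u
    have hsur : ∀ y ∈ Q, ∃ z : ↥(A ⊔ Q), (z : Ω) ∈ Q ∧ ψ z = y := fun y hy =>
      mem_img.1 ((show img ψ Q = Q from hψQ).ge hy)
    refine ⟨fun r hr => ?_, fun q hq => ?_⟩
    · obtain ⟨z, hz, rfl⟩ := mem_img.1
        ((img_stronglyClosed_eq hR hψ (hRQ.trans le_sup_right)).ge hr)
      rw [← hψe, ← map_inv, ← map_mul, ← map_mul]
      exact congrArg ψ (Subtype.ext (hu1 _ hz))
    · obtain ⟨z, hz, rfl⟩ := hsur q hq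
      rw [← hψe, ← map_inv, ← map_inv, ← map_mul, ← map_mul, ← map_mul]
      exact (img_stronglyClosed_eq hR hψ (hRQ.trans le_sup_right)).le
        (apply_mem_img ψ (hu2 _ hz))
  -- `U` lies in every essential subgroup
  suffices hUn : F.IsNormal U from (le_sSup hUn : U ≤ F.core) (hU.2 ⟨hx, h1, h2⟩)
  refine isNormal_of_stronglyClosed hS hF hUsc fun P hP => ?_
  have hPS := hP.1.1
  have := finite_of_le hPS
  have hr := isRadical_of_isEssential hS hP
  have hQP := le_of_isNormal hS hQ hP.1 hr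
  let K : Subgroup (MulAut P) :=
    { carrier := {a | a ∈ F.autGroup P ∧ (∀ r : P, (r : Ω) ∈ R → a r = r) ∧
        ∀ q : P, (q : Ω) ∈ Q → ((q⁻¹ * a q : P) : Ω) ∈ R}
      one_mem' := ⟨one_mem _, fun r _ => rfl, fun q _ => by simp⟩
      mul_mem' := by
        rintro a b ⟨ha, ha1, ha2⟩ ⟨hb, hb1, hb2⟩
        refine ⟨mul_mem ha hb, fun r hr => by rw [MulAut.mul_apply, hb1 r hr, ha1 r hr],
          fun q hq => ?_⟩
        have h3 := ha1 _ (hb2 q hq)
        rw [map_mul, map_inv] at h3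
        have h4 : q⁻¹ * (a * b) q = (q⁻¹ * a q) * (q⁻¹ * b q) := by
          rw [← h3, MulAut.mul_apply]; group
        rw [h4]
        exact R.mul_mem (ha2 q hq) (hb2 q hq)
      inv_mem' := by
        rintro a ⟨ha, ha1, ha2⟩
        have h5 : ∀ r : P, (r : Ω) ∈ R → a⁻¹ r = r := fun r hr => by
          conv_lhs => rw [← ha1 r hr]
          exact MulAut.inv_apply_self P a r
        refine ⟨inv_mem ha, h5, fun q hq => ?_⟩
        have h6 := ha2 _ (autGroup_apply_mem hQsc (inv_mem ha) hq)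
        rw [MulAut.apply_inv_self] at h6
        have h7 := R.inv_mem h6
        simpa using h7 }
  refine le_of_centric_radical hS hP.1 hr hUS (le_normalizer_of_stronglyClosed hUsc) K
    (fun a ha => ha.1) ⟨fun a ha b => ?_⟩ ?_ fun u hu hun => ?_
  · obtain ⟨ha0, ha1, ha2⟩ := Subgroup.mem_subgroupOf.1 ha
    refine Subgroup.mem_subgroupOf.2 ⟨mul_mem (mul_mem b.2 ha0) (inv_mem b.2), ?_, ?_⟩
    · intro r hr
      simp only [Subgroup.coe_mul, Subgroup.coe_inv, MulAut.mul_apply]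
      rw [ha1 _ (autGroup_apply_mem hR (inv_mem b.2) hr), MulAut.apply_inv_self]
    · intro q hq
      simp only [Subgroup.coe_mul, Subgroup.coe_inv, MulAut.mul_apply]
      have h3 := autGroup_apply_mem hR b.2
        (ha2 _ (autGroup_apply_mem hQsc (inv_mem b.2) hq))
      rw [map_mul, map_inv, MulAut.apply_inv_self] at h3
      exact h3
  · refine IsPGroup.of_card (n := (Nat.card K).primeFactorsList.length)
      (Nat.eq_prime_pow_of_unique_prime_dvd Nat.card_pos.ne' fun {q} hq hdvd => ?_)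
    by_contra hqp
    have := Fact.mk hq
    obtain ⟨⟨a, haK⟩, hα⟩ := exists_prime_orderOf_dvd_card' q hdvd
    rw [Subgroup.orderOf_mk] at hα
    obtain ⟨_, ha1, ha2⟩ := haK
    have hco : (orderOf a).Coprime p := by rw [hα]; exact (Nat.coprime_primes hq Fact.out).2 hqp
    have hfix : ∀ y : P, (y : Ω) ∈ Q → a y = y := fun y hy =>
      apply_eq_of_diff_fixed (hS.to_le hPS) hco (ha1 _ (ha2 y hy))
    have hone : a = 1 := MulEquiv.ext fun y => by
      refine apply_eq_of_diff_fixed (hS.to_le hPS) hco (hfix _ ?_)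
      refine hQc.2 Q (isConj_refl hQ.1) ⟨hPS (y⁻¹ * a y).2, fun z hz => ?_⟩
      set z' : P := ⟨z, hQP hz⟩
      have hm : ((y * z' * y⁻¹ : P) : Ω) ∈ Q := hQn _ (hPS y.2) z hz
      have h3 := hfix _ hm
      rw [map_mul, map_mul, map_inv, hfix z' hz] at h3
      have h4 : z' * (y⁻¹ * a y) = y⁻¹ * a y * z' := by
        calc z' * (y⁻¹ * a y) = y⁻¹ * (y * z' * y⁻¹) * a y := by group
          _ = y⁻¹ * (a y * z' * (a y)⁻¹) * a y := by rw [h3]
          _ = y⁻¹ * a y * z' := by group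
      exact congrArg Subtype.val h4
    rw [hone, orderOf_one] at hα
    exact hq.ne_one hα.symm
  · obtain ⟨-, hu1, hu2⟩ := hU.1 hu
    exact ⟨autInducedBy_le_autGroup hPS (mem_autInducedBy_iff.2 ⟨u, hUS hu, fun _ => rfl⟩),
      fun r hr => Subtype.ext (hu1 r hr), fun q hq => hu2 q hq⟩

/-- Normal subsystems of constrained systems are constrained. -/
theorem isConstrained_of_isWeaklyNormalIn (hS : IsPGroup p S) (hF : F.IsConstrained p)
    {T : Subgroup Ω} {E : FusionSystem T} (hE : E.IsWeaklyNormalIn F p) : E.IsConstrained p := by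
  obtain ⟨hFs, Q₀, hQ₀, hQ₀c⟩ := hF
  obtain ⟨hEs, -, hsub, hT, -, -⟩ := hE
  have hQ : F.IsNormal F.core := isNormal_core
  have hQc : F.IsCentric F.core := isCentric_of_le (le_sSup hQ₀) hQ.1 hQ₀c
  set Q := F.core
  have hQsc := stronglyClosed_of_isNormal hQ
  have := finite_of_le hT.1
  have hTp := hS.to_le hT.1
  have hinf : ∀ A : Subgroup Ω, F.IsNormal A → F.StronglyClosed (T ⊓ A) := fun A hA =>
    ⟨inf_le_left.trans hT.1, fun X hX φ hφ x =>
      ⟨hT.2 X (hX.trans inf_le_left) φ hφ x,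
        (stronglyClosed_of_isNormal hA).2 X (hX.trans inf_le_right) φ hφ x⟩⟩
  have hinfE : ∀ A : Subgroup Ω, F.IsNormal A → E.StronglyClosed (T ⊓ A) := fun A hA =>
    ⟨inf_le_left, fun X hX φ hφ x => (hinf A hA).2 X hX φ (hsub X hφ) x⟩
  obtain ⟨n, hn, hLn⟩ := exists_series_of_isNormal hS hQ
  have hL0 : Q.lowerCentralSeries 0 = Q := rfl
  refine ⟨hEs, T ⊓ Q, ?_, inf_le_left, fun Q' hQ' x hx => ?_⟩
  · refine isNormal_of_series hTp hEs (hinfE Q hQ) (fun i => T ⊓ Q.lowerCentralSeries (n - i)) n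
      (by simp [hn]) (by simp [hL0]) (fun i _ => inf_le_inf_left _ (Q.lowerCentralSeries_le_self _))
      (fun i _ => hinfE _ (hLn _)) fun i hi => ?_
    refine Subgroup.commutator_le.2 fun a ha b hb => ⟨?_, ?_⟩
    · rw [commutatorElement_def]
      exact T.mul_mem (T.mul_mem (T.mul_mem ha.1 hb.1) (T.inv_mem ha.1)) (T.inv_mem hb.1)
    · have h1 : Q.lowerCentralSeries (n - i) =
          ⁅Q.lowerCentralSeries (n - (i + 1)), Q⁆ := by
        rw [show n - i = (n - (i + 1)) + 1 by omega]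
        rfl
      rw [h1, Subgroup.commutator_comm]
      exact Subgroup.commutator_mem_commutator ha.2 hb.2
  · obtain ⟨φ, hφ, rfl⟩ := hQ'
    have hRE := (weaklyClosed_of_stronglyClosed (hinfE Q hQ)).2 φ hφ
    rw [hRE] at hx ⊢
    refine ⟨hx.1, mem_core_of_stabilizes hS hFs hQ hQc (hinf Q hQ) inf_le_right (hT.1 hx.1)
      (fun r hr => by rw [← hx.2 r hr, mul_inv_cancel_right]) fun q hq => ⟨?_, ?_⟩⟩
    · rw [show q⁻¹ * (x * q * x⁻¹) = (q⁻¹ * x * q) * x⁻¹ by group]
      refine T.mul_mem ?_ (T.inv_mem hx.1)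
      simpa using conj_mem_of_mem_normalizer
        (mem_normalizer_of_stronglyClosed hT (S.inv_mem (hQ.1 hq))) hx.1
    · exact Q.mul_mem (Q.inv_mem hq)
        (conj_mem_of_mem_normalizer (mem_normalizer_of_stronglyClosed hQsc (hT.1 hx.1)) hq)

/-- Subnormal subsystems of constrained systems are constrained. -/
theorem isConstrained_of_isSubnormalIn {T S : Subgroup Ω} {E : FusionSystem T}
    {F : FusionSystem S} {p : ℕ} (hE : E.IsSubnormalIn F p) :
    ∀ [Fact p.Prime] [Finite S], IsPGroup p S → F.IsConstrained p → E.IsConstrained p := by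
  induction hE with
  | refl F p => intro _ _ _ h; exact h
  | step _ hDF ih =>
    intro _ _ hS hF
    have hU := (hDF.1.2.2.2.1).1
    have := finite_of_le hU
    exact ih (hS.to_le hU) (isConstrained_of_isWeaklyNormalIn hS hF hDF.1)

end CfsgLib.Fusion
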