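import Cfsg.Agent.Lib.Fusion.Centric
import Cfsg.Agent.Lib.Fusion.NormSys

/-!
# Criteria for a saturated subsystem to be everything
-/

set_option autoImplicit false

open Cfsg Cfsg.FusionSystem

namespace CfsgLib.Fusion

variable {Ω : Type*} [Group Ω] {S : Subgroup Ω} {F F' : FusionSystem S} {p : ℕ} [Fact p.Prime]
  [Finite S]

omit [Fact p.Prime] [Finite S] in
theorem isCentric_of_subsystem (hle : F' ≤ F) {Q : Subgroup Ω} (hQ : F.IsCentric Q) :
    F'.IsCentric Q := by
  refine ⟨hQ.1, fun R hR => hQ.2 R ?_⟩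
  obtain ⟨φ, hφ, rfl⟩ := hR
  exact ⟨φ, hle _ hφ, rfl⟩

/-- A map of `F` lies in `F'` as soon as its restriction to a centric subgroup does. -/
theorem mem_of_res_centric (hS : IsPGroup p S) (hF : F.IsSaturated p) (hF' : F'.IsSaturated p)
    (hle : F' ≤ F) {P : Subgroup Ω} {φ : P →* Ω} (hφ : φ ∈ F.Hom P) :
    ∀ (n : ℕ) (Q : Subgroup Ω) (hQP : Q ≤ P), F.IsCentric Q → Nat.card P - Nat.card Q ≤ n →
      φ.comp (Subgroup.inclusion hQP) ∈ F'.Hom Q → φ ∈ F'.Hom P := by
  intro n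
  induction n using Nat.strong_induction_on with
  | _ n ih =>
  intro Q hQP hQ hn hres
  have hPS := le_S F hφ
  rcases eq_or_lt_of_le hQP with rfl | hlt
  · exact mem_of_eq rfl hres fun x => rfl
  have := finite_of_le hPS
  have hQN : Q < normalizerIn P Q := lt_normalizerIn (hS.to_le hPS) hlt
  set N := normalizerIn P Q with hN
  have hNP : N ≤ P := normalizerIn_le Q
  obtain ⟨e, he, hee⟩ := exists_iso_of_mem hres
  have hR : F.IsConj Q (φ.comp (Subgroup.inclusion hQP)).range := ⟨_, res_mem F hφ hQP, rfl⟩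
  have hrc : F'.IsCentric (φ.comp (Subgroup.inclusion hQP)).range := by
    refine isCentric_of_subsystem hle ⟨le_right_of_isConj hR, fun R hR' => hQ.2 R ?_⟩
    exact isConj_trans hR hR'
  have hext : N ≤ extender S Q
      ((φ.comp (Subgroup.inclusion hQP)).range.subtype.comp e.toMonoidHom) := by
    intro g hg
    refine mem_extender_iso_iff.2 ⟨hPS hg.1, hg.2, mem_autInducedBy_iff.2
      ⟨φ ⟨g, hg.1⟩, apply_mem_S F hφ _, fun y => ?_⟩⟩
    change (e (normAut g hg.2 (e.symm y)) : Ω) = _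
    have h2 : (y : Ω) = φ (Subgroup.inclusion hQP (e.symm y)) := by
      conv_lhs => rw [← e.apply_symm_apply y]
      exact hee _
    rw [hee, MonoidHom.comp_apply,
      show Subgroup.inclusion hQP (normAut g hg.2 (e.symm y)) =
        ⟨g, hg.1⟩ * Subgroup.inclusion hQP (e.symm y) * (⟨g, hg.1⟩ : P)⁻¹ from Subtype.ext rfl,
      map_mul, map_mul, map_inv, h2]
  obtain ⟨ψ, hψ, hψe⟩ := exists_extension (receptive_of_isCentric hS hF' hrc) he hQN.le hext
  obtain ⟨z, hz, -, hzeq⟩ := eq_comp_conj hS hF hQN.le hQ (hle N hψ) (res_mem F hφ hNP)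
    fun x hx => by
      rw [show x = Subgroup.inclusion hQN.le ⟨x, hx⟩ from rfl, hψe]
      exact hee _
  have hNS : N ≤ S := hNP.trans hPS
  have hNc : ∀ y, conjHom N (z : Ω) y ∈ N := fun y => N.mul_mem (N.mul_mem z.2 y.2) (N.inv_mem z.2)
  have hNmem : φ.comp (Subgroup.inclusion hNP) ∈ F'.Hom N :=
    mem_of_eq rfl (F'.comp_mem (F'.conj_mem hNS (hNS z.2)) hψ hNc)
      fun y => ((congrArg ψ (Subtype.ext rfl)).trans (hzeq y).symm).symm
  have : Finite N := finite_of_le hNS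
  have h1 : Nat.card Q < Nat.card N :=
    lt_of_not_ge fun h => hQN.ne (Subgroup.eq_of_le_of_card_ge hQN.le h)
  have h2 := Subgroup.card_le_of_le hNP
  exact ih (Nat.card P - Nat.card N) (by omega) N hNP (isCentric_of_le hQN.le hNS hQ) le_rfl hNmem

/-- Equality on the minimal centric subgroups suffices. -/
theorem hom_eq_of_minimal_centric (hS : IsPGroup p S) (hF : F.IsSaturated p)
    (hF' : F'.IsSaturated p) (hle : F' ≤ F)
    (hmin : ∀ Q : Subgroup Ω, F.IsCentric Q → (∀ R : Subgroup Ω, R < Q → ¬ F.IsCentric R) →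
      F.Hom Q = F'.Hom Q) (P : Subgroup Ω) : F.Hom P = F'.Hom P := by
  refine Set.Subset.antisymm (alperin hS hF F' ?_ P) (hle P)
  intro R hR α hα
  have hRc : F.IsCentric R := by
    rcases hR with rfl | hR
    · exact ⟨le_rfl, fun Q hQ => (centralizerIn_le Q).trans (eq_S_of_isConj_S hQ).ge⟩
    · exact hR.1
  have := finite_of_le hRc.1
  obtain ⟨Q, ⟨hQc, hQR⟩, hQm⟩ := exists_max_card (S := S)
    (fun Q => F.IsCentric Q ∧ Q ≤ R) (fun Q => Nat.card S - Nat.card Q) (fun Q h => h.1.1)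
    ⟨R, hRc, le_rfl⟩
  have hmin' : ∀ Q' : Subgroup Ω, Q' < Q → ¬ F.IsCentric Q' := by
    intro Q' hlt hc
    have := finite_of_le hQc.1
    have h1 := hQm Q' ⟨hc, hlt.le.trans hQR⟩
    have h2 : Nat.card Q' < Nat.card Q :=
      lt_of_not_ge fun h => hlt.ne (Subgroup.eq_of_le_of_card_ge hlt.le h)
    have h3 := Subgroup.card_le_of_le hQc.1
    omega
  have hαi := (mem_autGroup_iff F hRc.1).1 hα
  refine (mem_autGroup_iff F' hRc.1).2 ?_
  exact mem_of_res_centric hS hF hF' hle hαi _ Q hQR hQc le_rfl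
    ((hmin Q hQc hmin').le (res_mem F hαi hQR))

/-- Equality on the centralizer systems of subgroups of order `p` suffices. -/
theorem hom_eq_of_order_p (hS : IsPGroup p S) (hF : F.IsSaturated p)
    (hF' : F'.IsSaturated p) (hle : F' ≤ F)
    (hZ : ∀ Z : Subgroup Ω, Z ≤ S → Nat.card Z = p → F'.IsFullyCentralized Z →
      F.Hom Z = F'.Hom Z ∧ ∀ C C' : FusionSystem (centralizerIn S Z),
        F.IsCentralizerSystem Z C → F'.IsCentralizerSystem Z C' → ∀ P, C.Hom P = C'.Hom P)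
    (P : Subgroup Ω) : F.Hom P = F'.Hom P := by
  refine Set.Subset.antisymm (alperin hS hF F' ?_ P) (hle P)
  intro R hR α hα
  have hRc : F.IsCentric R := by
    rcases hR with rfl | hR
    · exact ⟨le_rfl, fun Q hQ => (centralizerIn_le Q).trans (eq_S_of_isConj_S hQ).ge⟩
    · exact hR.1
  have hRS := hRc.1
  rcases eq_or_ne S ⊥ with hS1 | hS1
  · have hR1 : R = ⊥ := le_bot_iff.1 (hRS.trans hS1.le)
    rw [show α = 1 from MulEquiv.ext fun x => Subtype.ext (by
      have h1 : ((α x : R) : Ω) = 1 := Subgroup.mem_bot.1 (hR1 ▸ (α x).2)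
      have h2 : (x : Ω) = 1 := Subgroup.mem_bot.1 (hR1 ▸ x.2)
      rw [h1, MulAut.one_apply, h2])]
    exact one_mem _
  have hne : Nontrivial S := (Subgroup.nontrivial_iff_ne_bot _).2 hS1
  have hZne : Nontrivial (Subgroup.center S) := hS.center_nontrivial
  obtain ⟨z, hz⟩ := exists_prime_orderOf_dvd_card' (G := Subgroup.center S) p (by
    obtain ⟨k, hk⟩ := IsPGroup.iff_card.1 (hS.to_subgroup (Subgroup.center S))
    rw [hk]
    refine dvd_pow_self p ?_
    rintro rfl
    exact (Finite.one_lt_card_iff_nontrivial.2 hZne).ne' (by simpa using hk))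
  set Z := Subgroup.zpowers (((z : S) : Ω)) with hZdef
  have hZS : Z ≤ S := Subgroup.zpowers_le.2 (z : S).2
  have hZc : S ≤ centralizerIn S Z := le_inf le_rfl fun s hs y hy => by
    obtain ⟨k, rfl⟩ := Subgroup.mem_zpowers_iff.1 hy
    exact (Commute.zpow_left (show Commute ((z : S) : Ω) s from
      (congrArg Subtype.val (Subgroup.mem_center_iff.1 z.2 ⟨s, hs⟩)).symm) k).eq
  have hcard : Nat.card Z = p := by
    rw [Nat.card_zpowers, Subgroup.orderOf_coe, Subgroup.orderOf_coe, hz]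
  have := finite_of_le (centralizerIn_le (S := S) Z)
  have hfc : F'.IsFullyCentralized Z :=
    ⟨hZS, fun Q _ => Subgroup.card_le_of_le ((centralizerIn_le Q).trans hZc)⟩
  obtain ⟨hhom, hcs⟩ := hZ Z hZS hcard hfc
  have hZR : Z ≤ R := fun y hy => hRc.2 R (isConj_refl hRS) ⟨hZS hy, fun r hr =>
    ((hZc (hRS hr)).2 y hy).symm⟩
  have hαi := (mem_autGroup_iff F hRS).1 hα
  refine (mem_autGroup_iff F' hRS).2 ?_
  set φ := R.subtype.comp α.toMonoidHom with hφdef
  have hres : φ.comp (Subgroup.inclusion hZR) ∈ F'.Hom Z := hhom.le (res_mem F hαi hZR)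
  set Z' := (φ.comp (Subgroup.inclusion hZR)).range with hZ'def
  obtain ⟨e, he, hee⟩ := exists_iso_of_mem hres
  have := finite_of_le (centralizerIn_le (S := S) Z')
  have hext : centralizerIn S Z' ≤ extender S Z' (Z.subtype.comp e.symm.toMonoidHom) :=
    centralizerIn_le_extender _ _
  have hRZ' : R ≤ centralizerIn S Z' := by
    intro r hr
    refine ⟨hRS hr, ?_⟩
    rintro _ ⟨w, rfl⟩
    have h1 : α (Subgroup.inclusion hZR w) * ⟨r, hr⟩ = ⟨r, hr⟩ * α (Subgroup.inclusion hZR w) := by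
      obtain ⟨r', hr'⟩ := α.surjective ⟨r, hr⟩
      rw [← hr', ← map_mul, ← map_mul]
      exact congrArg α (Subtype.ext ((hZc (hRS r'.2)).2 w w.2))
    exact congrArg Subtype.val h1
  have hZ'R : Z' ≤ R := by
    rintro _ ⟨w, rfl⟩
    exact (α _).2
  obtain ⟨ψ, hψ, hψe⟩ := exists_extension (receptive_of_fullyCentralized hS hF' hfc) he.symm
    hZ'R (hRZ'.trans hext)
  -- `ψ α` fixes `Z`
  set χ := ψ.comp (φ.codRestrict R fun x => (α x).2) with hχdef
  have hχF : χ ∈ F.Hom R := F.comp_mem hαi (hle R hψ) _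
  have hfix : ∀ w : Z, χ (Subgroup.inclusion hZR w) = w := by
    intro w
    have h2 : ((e w : Z') : Ω) = φ (Subgroup.inclusion hZR w) := hee w
    have h3 := hψe (e w)
    rw [MulEquiv.symm_apply_apply] at h3
    rw [← h3]
    exact congrArg ψ (Subtype.ext h2.symm)
  have hmem : χ ∈ F'.centralizerHom Z R := by
    have h1 : χ ∈ F.centralizerHom Z R := by
      obtain ⟨ω, hω, hωe⟩ := mem_of_eq_sup (sup_eq_left.2 hZR).symm hχF
      exact ⟨hχF, hRS.trans hZc, fun x => hZc (apply_mem_S F hχF x), ω, hω, fun x => hωe _,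
        fun w => (hωe _).trans (hfix w)⟩
    exact ((hcs (centSys F Z rfl hZS) (centSys F' Z rfl hZS) (fun _ => rfl) fun _ => rfl) R).le h1
  obtain ⟨ψi, hψi, hψie⟩ := F'.inv_mem hψ
  refine mem_of_eq rfl (F'.comp_mem hmem.1 hψi fun x => ⟨_, rfl⟩) fun x => ?_
  exact (hψie _).symm

end CfsgLib.Fusion
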