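import Mathlib
import Cfsg.Agent.Lib.Fusion.Tate

/-!
# Applications of Tate's theorem and of the transfer
-/

set_option autoImplicit false

open Cfsg Cfsg.FusionSystem

namespace CfsgLib.Fusion

universe u

variable {Ω : Type u} [Group Ω] {S : Subgroup Ω} {F : FusionSystem S}
variable {p : ℕ} [Fact p.Prime] [Finite S]

omit [Fact p.Prime] [Finite S] in
theorem commutator_eq_map : ⁅S, S⁆ = (commutator S).map S.subtype :=
  (Subgroup.map_subtype_commutator S).symm

theorem commutator_le_map_frattini (hS : IsPGroup p S) :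
    ⁅S, S⁆ ≤ (frattini S).map S.subtype :=
  commutator_eq_map.trans_le (Subgroup.map_mono (PGroup.commutator_le_frattini hS))

/-- **Tate's theorem** for a pair of saturated systems. -/
theorem hyperfocalSubgroup_eq_of_frattini (hS : IsPGroup p S) (hF : F.IsSaturated p)
    {H : FusionSystem S} (hH : H.IsSaturated p) (hHF : H.IsSubsystemOf F)
    (h : (frattini S).map S.subtype ⊔ F.focalSubgroup =
      (frattini S).map S.subtype ⊔ H.focalSubgroup) :
    F.hyperfocalSubgroup p = H.hyperfocalSubgroup p := by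
  refine (hyperfocalSubgroup_eq_of_le_sup_frattini hS hF (le_normalizer_hyperfocalSubgroup p)
    (hyperfocalSubgroup_mono hHF p) ?_).symm
  refine (hyperfocalSubgroup_le_focalSubgroup p).trans (le_sup_right.trans (h.le.trans ?_))
  rw [focalSubgroup_eq hS hH]
  exact sup_le le_sup_right (sup_le le_sup_left ((commutator_le_map_frattini hS).trans le_sup_right))

/-- A saturated system is inner when `Φ(S)` contains the focal subgroup. -/
theorem hom_eq_inner_of_focal_le_frattini (hS : IsPGroup p S) (hF : F.IsSaturated p)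
    (h : F.focalSubgroup ≤ (frattini S).map S.subtype) (P : Subgroup Ω) :
    F.Hom P = (innerFusionSystem S).Hom P := by
  refine hom_eq_inner_of_hyperfocal_eq_bot hS hF ?_ P
  refine (hyperfocalSubgroup_eq_of_le_sup_frattini hS hF (M := ⊥) ?_ bot_le ?_).symm
  · exact fun s _ => Subgroup.mem_normalizer_iff.2 fun x => by simp
  · exact (hyperfocalSubgroup_le_focalSubgroup p).trans (h.trans le_sup_right)

/-- `Φ(S)` as a subgroup of the ambient group is normalized by `S`. -/
theorem le_normalizer_map_frattini :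
    S ≤ Subgroup.normalizer (((frattini S).map S.subtype : Subgroup Ω) : Set Ω) := by
  intro s hs
  have : Finite ((frattini S).map S.subtype : Subgroup Ω) := finite_of_le (Subgroup.map_subtype_le _)
  refine mem_normalizer_of_forall ?_
  rintro _ ⟨x, hx, rfl⟩
  exact ⟨⟨s, hs⟩ * x * ⟨s, hs⟩⁻¹, (inferInstance : (frattini S).Normal).conj_mem x hx _, rfl⟩

omit [Fact p.Prime] [Finite S] in
theorem eq_self_of_central {z : Ω} (hz : z ∈ F.center) (hZ : F.IsCentral F.center)
    {P : Subgroup Ω} {φ : P →* Ω} (hφ : φ ∈ F.Hom P) (h : z ∈ P) : φ ⟨z, h⟩ = z := by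
  obtain ⟨ψ, -, hψ, hfix⟩ := hZ.2 P φ hφ
  exact (hψ ⟨z, h⟩).symm.trans (hfix ⟨z, hz⟩)

/-- `foc(F) ∩ Z(F) ≤ S'`. -/
theorem focal_inf_center (hS : IsPGroup p S) (hF : F.IsSaturated p) :
    F.focalSubgroup ⊓ F.center = ⁅S, S⁆ ⊓ F.center := by
  refine le_antisymm ?_ (inf_le_inf_right _ commutator_le_focalSubgroup)
  rintro z ⟨hz1, hz2⟩
  refine ⟨?_, hz2⟩
  have hZ := isCentral_center (F := F)
  obtain ⟨m, T, hpm, hker, hval⟩ := exists_fusion_transfer_hom hS hF (Abelianization.of (G := S))
  let u : S := ⟨z, hZ.1 hz2⟩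
  have h1 : T u = Abelianization.of u ^ m := by
    refine hval u fun P φ hφ a b ha h hb => ?_
    have hac : (a : Ω) ∈ F.center := by
      obtain ⟨i, rfl⟩ := Subgroup.mem_zpowers_iff.1 ha
      rw [SubgroupClass.coe_zpow]
      exact F.center.zpow_mem hz2 i
    have h2 := eq_self_of_central hac hZ hφ h
    rw [hb] at h2
    rw [Subtype.ext h2]
  have h2 : Abelianization.of u ^ m = 1 := h1 ▸ hker (show (u : Ω) ∈ F.focalSubgroup from hz1)
  have h3 : Abelianization.of u = 1 := by
    obtain ⟨k, hk⟩ := IsPGroup.iff_orderOf.1 hS u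
    refine orderOf_eq_one_iff.1 (Nat.eq_one_of_dvd_coprimes
      ((((Fact.out : p.Prime).coprime_iff_not_dvd.2 hpm).pow_left k).symm)
      (orderOf_dvd_of_pow_eq_one h2) ?_)
    exact hk ▸ orderOf_map_dvd _ u
  rw [commutator_eq_map]
  refine ⟨u, ?_, rfl⟩
  rw [← Abelianization.ker_of, SetLike.mem_coe, MonoidHom.mem_ker]
  exact h3

end CfsgLib.Fusion
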