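import Cfsg.Agent.Lib.Fusion.PSolvableRealization
import Cfsg.Agent.Lib.Fusion.CoreCentric
import Cfsg.Agent.Lib.Fusion.SubnormalConstrained
import Cfsg.Agent.Lib.Fusion.PPowerIndexExists
import Cfsg.Agent.Lib.Fusion.PPowerIndexNormal
import Cfsg.Agent.Lib.Fusion.PPrimeResidual
import Cfsg.Agent.Lib.Fusion.ResidualNormal
import Cfsg.Agent.Lib.Fusion.ResidualDescent
import Cfsg.Agent.Lib.Fusion.PullSystem
import Cfsg.Agent.Lib.Fusion.PPrimeGen
import Cfsg.Agent.Lib.Fusion.HypFocal
import Cfsg.Agent.Lib.Transfer.Basic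
import Cfsg.Agent.Lib.Transfer.PairProducts.Reduction

/-!
# Terminating residual series and `p`-solvable models
-/

set_option autoImplicit false

open Cfsg Cfsg.FusionSystem
open scoped commutatorElement

namespace CfsgLib.Fusion.Terminating

universe u

variable {p : ℕ} [Fact p.Prime]

/-! ### Groups -/

theorem isPSolvable_ext_aux : ∀ (n : ℕ) (G Q : Type u) [Group G] [Finite G] [Group Q] (f : G →* Q),
    Nat.card G = n → Function.Surjective f → IsPSolvable p f.ker → IsPSolvable p Q →
      IsPSolvable p G := by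
  intro n
  induction n using Nat.strong_induction_on with
  | _ n ih =>
  intro G Q _ _ _ f hn hf hk hQ
  by_cases hK : f.ker = ⊥
  · refine CfsgLib.Fusion.isPSolvable_of_ker_pGroup hf ?_ hQ
    rw [hK]
    exact IsPGroup.of_bot
  haveI : Nontrivial ↥f.ker := (Subgroup.nontrivial_iff_ne_bot _).2 hK
  have step : ∀ C : Subgroup ↥f.ker, C.Characteristic → C ≠ ⊥ →
      IsPGroup p C ∨ ¬ p ∣ Nat.card C → IsPSolvable p G := by
    intro C hC hne hcase
    set M := C.map f.ker.subtype with hMdef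
    have hM : M.Normal := inferInstance
    have hMker : M ≤ f.ker := Subgroup.map_subtype_le _
    let f' : G ⧸ M →* Q := QuotientGroup.lift M f hMker
    have hcard : Nat.card M = Nat.card C :=
      Subgroup.card_map_of_injective f.ker.subtype_injective
    have hne' : M ≠ ⊥ := fun h => hne
      ((Subgroup.map_eq_bot_iff_of_injective _ f.ker.subtype_injective).1 h)
    have hlt : Nat.card (G ⧸ M) < n := by
      rw [← hn, Subgroup.card_eq_card_quotient_mul_card_subgroup M]
      exact lt_mul_of_one_lt_right Nat.card_pos ((Subgroup.one_lt_card_iff_ne_bot _).2 hne')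
    have hker : f'.ker = f.ker.map (QuotientGroup.mk' M) := QuotientGroup.ker_lift _ _ _
    have hq : IsPSolvable p (G ⧸ M) := by
      refine ih _ hlt _ _ f' rfl
        (fun q => let ⟨g, hg⟩ := hf q; ⟨QuotientGroup.mk' M g, hg⟩) ?_ hQ
      rw [hker]
      exact CfsgLib.Transfer.isPSolvable_map_subgroup hk _
    rcases hcase with hp | hp
    · refine CfsgLib.Fusion.isPSolvable_of_ker_pGroup (QuotientGroup.mk'_surjective M) ?_ hq
      rw [QuotientGroup.ker_mk']
      exact hp.map _
    · refine CfsgLib.Modular.FongSwan.isPSolvable_of_ker_coprime (QuotientGroup.mk'_surjective M)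
        ?_ hq
      rw [QuotientGroup.ker_mk', hcard]
      exact hp
  rcases CfsgLib.Transfer.PairProducts.core_ne_bot_of_isPSolvable hk with h | h
  · exact step _ (CfsgLib.Cores.pPrimeCore_characteristic p) h (Or.inr
      ((Fact.out : p.Prime).coprime_iff_not_dvd.1 (CfsgLib.Cores.coprime_card_pPrimeCore p).symm))
  · exact step _ (CfsgLib.Cores.pCore_characteristic p) h (Or.inl (CfsgLib.Cores.isPGroup_pCore p))

/-- An extension of `p`-solvable groups is `p`-solvable. -/
theorem isPSolvable_ext {G : Type u} [Group G] [Finite G] (N : Subgroup G) [N.Normal]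
    (hN : IsPSolvable p N) (hQ : IsPSolvable p (G ⧸ N)) : IsPSolvable p G :=
  isPSolvable_ext_aux _ G _ (QuotientGroup.mk' N) rfl (QuotientGroup.mk'_surjective N)
    ((QuotientGroup.ker_mk' N).symm ▸ hN) hQ

/-- A subgroup of a `p`-solvable subgroup is `p`-solvable. -/
theorem isPSolvable_of_le {G : Type*} [Group G] {A B : Subgroup G} (h : A ≤ B)
    (hB : IsPSolvable p B) : IsPSolvable p A :=
  CfsgLib.Transfer.isPSolvable_of_surjective (CfsgLib.Transfer.isPSolvable_subgroup hB _)
    (f := (Subgroup.subgroupOfEquivOfLe h).toMonoidHom) (Subgroup.subgroupOfEquivOfLe h).surjective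

/-- An element whose image is a `p`-element lifts to a `p`-element. -/
theorem exists_pElement_lift {A B : Type*} [Group A] [Finite A] [Group B] (f : A →* B) {x : A}
    {k : ℕ} (h : orderOf (f x) = p ^ k) :
    ∃ m : ℕ, f (x ^ m) = f x ∧ ∃ j, orderOf (x ^ m) = p ^ j := by
  have hp : p.Prime := Fact.out
  obtain ⟨a, b, hb, hx⟩ := Nat.exists_eq_pow_mul_and_not_dvd (orderOf_pos x).ne' p hp.ne_one
  obtain ⟨m, hm0, hm1⟩ := Nat.chineseRemainder
    (((hp.coprime_iff_not_dvd.2 hb).symm).pow_right k) 0 1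
  refine ⟨m, ?_, ?_⟩
  · rw [map_pow]
    conv_rhs => rw [← pow_one (f x)]
    rw [pow_eq_pow_iff_modEq, h]
    exact hm1
  · obtain ⟨c, hc⟩ := Nat.modEq_zero_iff_dvd.1 hm0
    obtain ⟨j, -, hj⟩ := (Nat.dvd_prime_pow hp).1 (show orderOf (x ^ m) ∣ p ^ a by
      refine orderOf_dvd_of_pow_eq_one ?_
      rw [← pow_mul, hc, show b * c * p ^ a = p ^ a * b * c by ring, ← hx, pow_mul,
        pow_orderOf_eq_one, one_pow])
    exact ⟨j, hj⟩

/-- A nontrivial `p`-solvable group generated by its `p`-elements is not its own `O^p`. -/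
theorem pResidual_ne_top {H : Type*} [Group H] [Finite H] [Nontrivial H]
    (hH : IsPSolvable p H) (hgen : Subgroup.closure {g : H | ∃ k : ℕ, orderOf g = p ^ k} = ⊤) :
    pResidual p H ≠ ⊤ := by
  intro htop
  obtain ⟨n, A, h0, hl, hm, hn, hstep⟩ := hH
  obtain ⟨i, hi, hi'⟩ : ∃ i : Fin n, A i.castSucc ≠ ⊤ ∧ A i.succ = ⊤ := by
    by_contra hcon
    push Not at hcon
    have h : ∀ i, A i ≠ ⊤ := Fin.induction (h0 ▸ bot_ne_top) fun i hi => hcon i hi
    exact h _ hl
  have := hn i.castSucc
  have hs := hstep i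
  rw [hi', Subgroup.relIndex_top_right] at hs
  refine hi (eq_top_iff.2 ?_)
  rcases hs with ⟨m, hm'⟩ | hco
  · rw [← htop]
    exact CfsgLib.Transfer.pResidual_le (IsPGroup.of_card (by rw [← Subgroup.index_eq_card, hm']))
  · rw [← hgen, Subgroup.closure_le]
    rintro g ⟨k, hk⟩
    have h1 : orderOf (QuotientGroup.mk' (A i.castSucc) g) ∣ p ^ k := hk ▸ orderOf_map_dvd _ g
    have h2 : orderOf (QuotientGroup.mk' (A i.castSucc) g) ∣ (A i.castSucc).index :=
      orderOf_dvd_natCard _
    have h3 := Nat.dvd_gcd h2 h1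
    rw [(hco.pow_right k).gcd_eq_one, Nat.dvd_one, orderOf_eq_one_iff] at h3
    exact (QuotientGroup.eq_one_iff g).1 h3

variable {Ω : Type u} [Group Ω]

/-- Every automizer is `p`-solvable. -/
def AllPS (p : ℕ) {S : Subgroup Ω} (F : FusionSystem S) : Prop :=
  ∀ P ≤ S, IsPSolvable p ↥(F.autGroup P)

section
variable {S T : Subgroup Ω} [Finite S] {F : FusionSystem S}

/-- In a realized system every automizer is induced by a normalizer. -/
theorem exists_aut_lift {G : Type*} [Group G] [Finite G] {ι : S →* G} (h : F.IsRealizedBy ι)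
    {P : Subgroup Ω} (hP : P ≤ S) :
    ∃ (N : Subgroup G) (f : N →* MulAut P), F.autGroup P ≤ f.range ∧
      ∀ (g : N) (x : P), ι ⟨f g x, hP (f g x).2⟩ = g * ι ⟨x, hP x.2⟩ * (g : G)⁻¹ := by
  set M : Subgroup G := (P.subgroupOf S).map ι
  let η : P →* M := (ι.comp (Subgroup.inclusion hP)).codRestrict M fun x =>
    ⟨⟨x, hP x.2⟩, x.2, rfl⟩
  have hη : Function.Bijective η := by
    refine ⟨fun a b h' => Subgroup.inclusion_injective hP (h.1 (congrArg Subtype.val h')), ?_⟩
    rintro ⟨_, s, hs, rfl⟩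
    exact ⟨⟨s, hs⟩, rfl⟩
  let η' : P ≃* M := MulEquiv.ofBijective η hη
  let f : Subgroup.normalizer (M : Set G) →* MulAut P :=
    (MulAut.congr η'.symm).toMonoidHom.comp M.normalizerMonoidHom
  have hf : ∀ (g : Subgroup.normalizer (M : Set G)) (x : P),
      ι ⟨f g x, hP (f g x).2⟩ = g * ι ⟨x, hP x.2⟩ * (g : G)⁻¹ := by
    intro g x
    have h1 : η' (f g x) = M.normalizerMonoidHom g (η' x) := by
      change η' (η'.symm (M.normalizerMonoidHom g (η' x))) = _
      rw [η'.apply_symm_apply]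
    exact congrArg Subtype.val h1
  refine ⟨_, f, fun α hα => ?_, hf⟩
  obtain ⟨g, hg⟩ := (h.2 P hP _ fun x => hP ((α : MulAut P) x).2).1 ((mem_autGroup_iff F hP).1 hα)
  have hgN : g ∈ Subgroup.normalizer (M : Set G) := by
    refine mem_normalizer_of_forall ?_
    rintro _ ⟨s, hs, rfl⟩
    exact ⟨⟨α ⟨s, hs⟩, hP (α ⟨s, hs⟩).2⟩, (α ⟨s, hs⟩).2, hg ⟨s, hs⟩⟩
  refine ⟨⟨g, hgN⟩, MulEquiv.ext fun x => Subgroup.inclusion_injective hP (h.1 ?_)⟩
  exact (hf _ x).trans (hg x).symm

/-- The automizers of a system of a `p`-solvable group are `p`-solvable. -/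
theorem allPS_of_realized {G : Type*} [Group G] [Finite G] {ι : S →* G} (h : F.IsRealizedBy ι)
    (hG : IsPSolvable p G) : AllPS p F := by
  intro P hP
  obtain ⟨N, f, hle, -⟩ := exists_aut_lift h hP
  exact isPSolvable_of_le hle (CfsgLib.Transfer.isPSolvable_of_surjective
    (CfsgLib.Transfer.isPSolvable_subgroup hG N) f.rangeRestrict_surjective)

/-- Automizers of subsystems of `p`-solvable systems. -/
theorem AllPS.of_subsystem (h : AllPS p F) {E : FusionSystem T} (hE : E.IsSubsystemOf F)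
    (hT : T ≤ S) : AllPS p E := fun P hP =>
  isPSolvable_of_le (autGroup_mono hE P) (h P (hP.trans hT))

/-- From a subsystem of index prime to `p` upwards. -/
theorem AllPS.of_primeToPIndex {E : FusionSystem S} (h : AllPS p E)
    (hE : E.HasPrimeToPIndexIn F p) : AllPS p F := by
  intro P hP
  have := finite_of_le hP
  set A := F.autGroup P
  set N : Subgroup A := Subgroup.closure {α : A | ∃ k : ℕ, orderOf α = p ^ k} with hN
  have hNn : N.Normal := ⟨fun x hx g => by
    have h1 : x ∈ N.comap (MulAut.conj g).toMonoidHom := by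
      refine (Subgroup.closure_le _).2 ?_ hx
      rintro a ⟨k, hk⟩
      exact Subgroup.subset_closure ⟨k, by
        rw [← hk]; exact MulEquiv.orderOf_eq (MulAut.conj g) a⟩
    simpa using h1⟩
  refine isPSolvable_ext N ?_ (CfsgLib.Transfer.PairProducts.isPSolvable_of_not_dvd_card ?_)
  · have h2 : IsPSolvable p ↥(N.map A.subtype) := isPSolvable_of_le (hE.2 P hP) (h P hP)
    exact CfsgLib.Transfer.isPSolvable_of_surjective h2
      (f := (N.equivMapOfInjective _ A.subtype_injective).symm.toMonoidHom)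
      (MulEquiv.surjective _)
  · obtain ⟨Q⟩ : Nonempty (Sylow p A) := inferInstance
    rw [← Subgroup.index_eq_card]
    intro hd
    refine Q.not_dvd_index (hd.trans (Subgroup.index_dvd_of_le fun x hx => ?_))
    obtain ⟨k, hk⟩ := Q.2 ⟨x, hx⟩
    obtain ⟨j, -, hj⟩ := (Nat.dvd_prime_pow (Fact.out : p.Prime)).1
      (orderOf_dvd_of_pow_eq_one (show x ^ p ^ k = 1 from congrArg Subtype.val hk))
    exact Subgroup.subset_closure ⟨j, hj⟩

/-- From a subsystem of `p`-power index upwards. -/
theorem AllPS.of_pPowerIndex (hS : IsPGroup p S) (hF : F.IsSaturated p)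
    {D : FusionSystem (F.hyperfocalSubgroup p)} (h : AllPS p D) (hD : D.HasPPowerIndexIn F p) :
    AllPS p F := by
  intro P hP
  have hT : F.StronglyClosed (F.hyperfocalSubgroup p) := stronglyClosed_of_hyperfocal_le hS hF (hyperfocalSubgroup_le p)
    (le_normalizer_hyperfocalSubgroup p) le_rfl
  have := finite_of_le hP
  set U := P ⊓ F.hyperfocalSubgroup p with hUdef
  have hUP : U ≤ P := inf_le_left
  have hUT : U ≤ F.hyperfocalSubgroup p := inf_le_right
  set A := F.autGroup P with hA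
  have hmove : ∀ (α : A) (x : P), (x : Ω) ∈ U → (((α : MulAut P) x : P) : Ω) ∈ U := by
    intro α x hx
    exact ⟨((α : MulAut P) x).2, hT.2 U hUT _
      (res_mem F ((mem_autGroup_iff F hP).1 α.2) hUP) ⟨x, hx⟩⟩
  let r : A →* MulAut U :=
    { toFun := fun α =>
        { toFun := fun x => ⟨(α : MulAut P) (Subgroup.inclusion hUP x), hmove α _ x.2⟩
          invFun := fun x => ⟨(α : MulAut P)⁻¹ (Subgroup.inclusion hUP x), hmove α⁻¹ _ x.2⟩
          left_inv := fun x => Subtype.ext (by
            change (((α : MulAut P)⁻¹ ((α : MulAut P) (Subgroup.inclusion hUP x)) : P) : Ω) = x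
            rw [MulAut.inv_apply_self]
            rfl)
          right_inv := fun x => Subtype.ext (by
            change (((α : MulAut P) ((α : MulAut P)⁻¹ (Subgroup.inclusion hUP x)) : P) : Ω) = x
            rw [MulAut.apply_inv_self]
            rfl)
          map_mul' := fun x y => Subtype.ext (by simp only [map_mul, Subgroup.coe_mul]) }
      map_one' := MulEquiv.ext fun x => Subtype.ext rfl
      map_mul' := fun a b => MulEquiv.ext fun x => Subtype.ext rfl }
  set N := pResidual p A with hN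
  have hNn : N.Normal := CfsgLib.Transfer.pResidual_normal_inst
  refine isPSolvable_ext N ?_ (CfsgLib.Transfer.PairProducts.isPSolvable_of_isPGroup'
    CfsgLib.Transfer.isPGroup_quotient_pResidual)
  have himg : N.map r ≤ D.autGroup U := by
    rw [hN, pResidual, MonoidHom.map_closure, Subgroup.closure_le]
    rintro _ ⟨α, hα, rfl⟩
    have hm : r α ∈ F.autGroup U := mem_autGroup_of_mem
      (φ := (P.subtype.comp (α : MulAut P).toMonoidHom).comp (Subgroup.inclusion hUP)) F
      (res_mem F ((mem_autGroup_iff F hP).1 α.2) hUP) fun x => rfl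
    refine mem_autGroup_of_coprime_pPowerIndex hD hUT hm ?_
    exact Nat.Coprime.coprime_dvd_left (orderOf_map_dvd r α) hα
  let r' : N →* MulAut U := r.comp N.subtype
  have hr : r'.range = N.map r := by rw [MonoidHom.range_comp, Subgroup.range_subtype]
  refine CfsgLib.Fusion.isPSolvable_of_ker_pGroup r'.rangeRestrict_surjective ?_
    (isPSolvable_of_le (hr.le.trans himg) (h U hUT))
  rw [MonoidHom.ker_rangeRestrict]
  intro n
  obtain ⟨⟨α, hα⟩, hn⟩ := n
  have hfix : ∀ x : P, (x : Ω) ∈ U → (α : MulAut P) x = x := by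
    intro x hx
    have h1 : r α = 1 := hn
    have h2 := congrArg (fun f : MulAut U => ((f ⟨x, hx⟩ : U) : Ω)) h1
    exact Subtype.ext h2
  have hdiff : ∀ x : P, ((x⁻¹ * (α : MulAut P) x : P) : Ω) ∈ U := fun x =>
    ⟨(x⁻¹ * (α : MulAut P) x).2, Subgroup.subset_closure ⟨P, α, x, hP, hα, rfl⟩⟩
  have := finite_of_le (hUP.trans hP)
  obtain ⟨k, hk⟩ := (hS.to_le (hUP.trans hP)).exists_card_eq
  refine ⟨k, Subtype.ext (Subtype.ext (Subtype.ext ?_))⟩
  refine MulEquiv.ext fun x => ?_
  have hpow : ∀ m : ℕ, ((α : MulAut P) ^ m) x = x * (x⁻¹ * (α : MulAut P) x) ^ m := by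
    intro m
    induction m with
    | zero => simp
    | succ m ihm =>
      rw [pow_succ', MulAut.mul_apply, ihm, map_mul, map_pow, hfix _ (hdiff x), pow_succ',
        ← mul_assoc x, mul_inv_cancel_left]
  change ((α : MulAut P) ^ p ^ k) x = x
  rw [hpow]
  have h1 : (⟨_, hdiff x⟩ : U) ^ p ^ k = 1 := by
    rw [← hk]
    exact pow_card_eq_one'
  have h2 : (x⁻¹ * (α : MulAut P) x) ^ p ^ k = 1 := Subtype.ext (congrArg Subtype.val h1 :)
  rw [h2, mul_one]

/-- Solvability climbs from an invariant subsystem. -/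
theorem isSolvableSystem_of_invariant (hS : IsPGroup p S) (hF : F.IsSaturated p)
    {D : FusionSystem T} (hinv : D.IsInvariantIn F) (hDs : D.IsSaturated p)
    (hsol : D.IsSolvableSystem)
    (hup : ∀ W : Subgroup Ω, T ≤ W → W ≤ S → S ≤ Subgroup.normalizer (W : Set Ω) →
      F.StronglyClosed W) : F.IsSolvableSystem := by
  have hT := hinv.2.1
  have := finite_of_le hT.1
  refine isSolvableSystem_of_step hS hF fun R hR hRS => ?_
  by_cases hTR : T ≤ R
  · have hnil : Group.IsNilpotent S := hS.isNilpotent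
    obtain ⟨n, hn⟩ := (inferInstance : Group.IsSolvable S).solvable
    set R' := R.subgroupOf S with hR'
    obtain ⟨k, hk, hk'⟩ : ∃ k, ¬ derivedSeries S k ≤ R' ∧ derivedSeries S (k + 1) ≤ R' := by
      by_contra hcon
      push Not at hcon
      have hall : ∀ k, ¬ derivedSeries S k ≤ R' := fun k => by
        induction k with
        | zero =>
          intro h
          exact hRS (le_antisymm hR.1 fun s hs => h (x := ⟨s, hs⟩) (Subgroup.mem_top _))
        | succ k ihk => exact hcon k ihk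
      exact hall n (hn ▸ bot_le)
    have hTn : (T.subgroupOf S).Normal := ⟨fun x hx g => Subgroup.mem_subgroupOf.2
      (conj_mem_of_mem_normalizer (le_normalizer_of_stronglyClosed hT g.2) hx)⟩
    have hR'n : R'.Normal := ⟨fun x hx g => Subgroup.mem_subgroupOf.2
      (conj_mem_of_mem_normalizer (le_normalizer_of_stronglyClosed hR g.2) hx)⟩
    have hDn : (derivedSeries S k).Normal := derivedSeries_normal S k
    set X := T.subgroupOf S ⊔ derivedSeries S k with hX
    have hXn : X.Normal := inferInstance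
    set W := X.map S.subtype with hW
    have hWS : W ≤ S := Subgroup.map_subtype_le _
    have hTW : T ≤ W := fun t ht =>
      ⟨⟨t, hT.1 ht⟩, Subgroup.mem_sup_left (Subgroup.mem_subgroupOf.2 ht), rfl⟩
    have hSW : S ≤ Subgroup.normalizer (W : Set Ω) := fun s hs => by
      have := finite_of_le hWS
      refine mem_normalizer_of_forall ?_
      rintro _ ⟨y, hy, rfl⟩
      exact ⟨(⟨s, hs⟩ : S) * y * (⟨s, hs⟩ : S)⁻¹, hXn.conj_mem _ hy _, rfl⟩
    refine ⟨W, hup W hTW hWS hSW, fun h => hk fun y hy => ?_, ?_⟩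
    · exact h ⟨y, Subgroup.mem_sup_right hy, rfl⟩
    rw [hW, ← Subgroup.map_commutator, Subgroup.map_le_iff_le_comap]
    have h1 : ⁅X, X⁆.map (QuotientGroup.mk' R') ≤ ⊥ := by
      rw [Subgroup.map_commutator]
      have h2 : X.map (QuotientGroup.mk' R') = (derivedSeries S k).map (QuotientGroup.mk' R') := by
        rw [hX, Subgroup.map_sup, sup_eq_right]
        refine le_trans (Subgroup.map_mono fun t ht => hTR ht : _ ≤ R'.map _) ?_
        rw [QuotientGroup.map_mk'_self]
        exact bot_le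
      rw [h2, ← Subgroup.map_commutator, Subgroup.map_le_iff_le_comap, MonoidHom.comap_bot,
        QuotientGroup.ker_mk']
      rwa [derivedSeries_succ] at hk'
    rwa [Subgroup.map_le_iff_le_comap, MonoidHom.comap_bot, QuotientGroup.ker_mk'] at h1
  · obtain ⟨n, C, hC0, hCn, -, hCc, hCa⟩ :=
      exists_abelian_chain (hS.to_le hT.1) hDs hsol (stronglyClosed_of_isNormal isNormal_bot)
    obtain ⟨i, hi, hi'⟩ : ∃ i, ¬ derivedClosed D i ≤ R ∧ derivedClosed D (i + 1) ≤ R := by
      by_contra hcon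
      push Not at hcon
      have hall : ∀ i, ¬ derivedClosed D i ≤ R := fun i => by
        induction i with
        | zero => exact hTR
        | succ i ihi => exact hcon i ihi
      refine hall n ?_
      have h := derivedClosed_le_chain hCn hCc hCa 0
      rw [Fin.val_zero, Nat.sub_zero, hC0] at h
      exact h.trans bot_le
    exact ⟨_, stronglyClosed_derivedClosed_of_invariant hinv i, hi,
      le_trans (le_sInf fun V hV => hV.2) hi'⟩

/-- The `p`-residual system of the `p'`-residual system of a nontrivial `p`-solvable system is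
smaller. -/
theorem hyperfocal_residual_lt (hS : IsPGroup p S) (hF : F.IsSaturated p) (hne : S ≠ ⊥)
    {G : Type*} [Group G] [Finite G] {ι : S →* G} (hG : IsPSolvable p G) (hι : F.IsRealizedBy ι)
    (P₀ : Sylow p G) (hP₀ : (P₀ : Subgroup G) = ι.range) {E : FusionSystem S}
    (hE : F.IsPPrimeResidual p E) : E.hyperfocalSubgroup p < S := by
  have hp : p.Prime := Fact.out
  set H : Subgroup G := Subgroup.closure {g : G | ∃ k : ℕ, orderOf g = p ^ k} with hH
  have hιH : ι.range ≤ H := by
    rintro _ ⟨s, rfl⟩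
    obtain ⟨k, hk⟩ := hS s
    obtain ⟨j, -, hj⟩ := (Nat.dvd_prime_pow hp).1
      (orderOf_dvd_of_pow_eq_one (show ι s ^ p ^ k = 1 by rw [← map_pow, hk, map_one]))
    exact Subgroup.subset_closure ⟨j, hj⟩
  let κ : S →* H := ι.codRestrict H fun s => hιH ⟨s, rfl⟩
  have hκ : Function.Injective κ := fun a b h => hι.1 (congrArg Subtype.val h)
  let F₀ : FusionSystem S := pullSys (groupFusionSystem κ.range) κ hκ rfl
  have hreal : F₀.IsRealizedBy κ := by
    refine ⟨hκ, fun P hP φ hφ => ⟨?_, ?_⟩⟩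
    · rintro ⟨_, _, ψ, ⟨_, _, g, hg⟩, hψ⟩
      exact ⟨g, fun x => (hψ x).symm.trans (hg _)⟩
    · rintro ⟨g, hg⟩
      refine ⟨hP, hφ, conjHom _ g, ⟨Subgroup.map_le_range _ _, ?_, g, fun y => rfl⟩,
        fun x => (hg x).symm⟩
      rintro ⟨_, ⟨z, hz, rfl⟩⟩
      exact ⟨_, hg ⟨z, hz⟩⟩
  have hκr : κ.range = ι.range.subgroupOf H := by
    ext y
    constructor
    · rintro ⟨s, rfl⟩; exact ⟨s, rfl⟩
    · rintro ⟨s, hs⟩; exact ⟨s, Subtype.ext hs⟩
  have hP₀H : (P₀ : Subgroup G) ≤ H := hP₀ ▸ hιH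
  let P₁ : Sylow p H := P₀.subtype hP₀H
  have hP₁ : (P₁ : Subgroup H) = κ.range := by
    rw [hκr, ← hP₀]
    rfl
  have hF₀ : F₀.IsSaturated p := isSaturated_of_isRealizedBy hS hreal P₁ hP₁
  have hsub : F₀.IsSubsystemOf F := by
    intro P φ hφ
    obtain ⟨hP, hφS⟩ := F₀.le_of_mem hφ
    obtain ⟨g, hg⟩ := (hreal.2 P hP φ hφS).1 hφ
    exact (hι.2 P hP φ hφS).2 ⟨g, fun x => congrArg Subtype.val (hg x)⟩
  have hidx : F₀.HasPrimeToPIndexIn F p := by
    refine ⟨hsub, fun P hP => ?_⟩
    rw [MonoidHom.map_closure, Subgroup.closure_le]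
    rintro _ ⟨α, ⟨k, hk⟩, rfl⟩
    obtain ⟨N, f, hle, hf⟩ := exists_aut_lift hι hP
    obtain ⟨g, hg⟩ := hle α.2
    have hk' : orderOf (f g) = p ^ k := by
      rw [hg, ← hk, Subgroup.orderOf_coe]
    obtain ⟨m, hm, j, hj⟩ := exists_pElement_lift f hk'
    have hmH : ((g ^ m : N) : G) ∈ H := Subgroup.subset_closure
      ⟨j, by rw [Subgroup.orderOf_coe, hj]⟩
    refine (mem_autGroup_iff F₀ hP).2
      ((hreal.2 P hP _ fun x => hP ((α : MulAut P) x).2).2 ⟨⟨_, hmH⟩, fun x => Subtype.ext ?_⟩)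
    have h1 := hf (g ^ m) x
    have h2 : f (g ^ m) = (α : MulAut P) := hm.trans hg
    rw [h2] at h1
    exact h1
  have hEF₀ : E.IsSubsystemOf F₀ := hE.2.2 F₀ hF₀ hidx
  set N := pResidual p H with hN
  have hNn : N.Normal := CfsgLib.Transfer.pResidual_normal_inst
  have hH0 : Nontrivial H := by
    obtain ⟨⟨s, hs⟩, hsne⟩ : ∃ s : S, s ≠ 1 := by
      by_contra hcon
      push Not at hcon
      exact hne ((Subgroup.eq_bot_iff_forall _).2 fun s hs =>
        congrArg Subtype.val (hcon ⟨s, hs⟩))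
    exact ⟨⟨κ ⟨s, hs⟩, 1, fun h => hsne (hκ (h.trans κ.map_one.symm))⟩⟩
  have hgen : Subgroup.closure {g : H | ∃ k : ℕ, orderOf g = p ^ k} = ⊤ := by
    rw [← top_le_iff, ← Subgroup.closure_closure_coe_preimage
      (k := {g : G | ∃ k : ℕ, orderOf g = p ^ k})]
    refine Subgroup.closure_mono ?_
    rintro ⟨g, hg⟩ ⟨k, hk⟩
    exact ⟨k, by rw [Subgroup.orderOf_mk, hk]⟩
  have hNtop : N ≠ ⊤ := pResidual_ne_top (CfsgLib.Transfer.isPSolvable_subgroup hG H) hgen
  set M := (N.comap κ).map S.subtype with hM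
  refine lt_of_le_of_ne (hyperfocalSubgroup_le p) fun heq => ?_
  have hle : E.hyperfocalSubgroup p ≤ M := by
    refine (Subgroup.closure_le M).2 ?_
    rintro _ ⟨P, α, x, hP, hα, rfl⟩
    obtain ⟨L, f, hrange, hf⟩ := exists_aut_lift hreal hP
    have hmap : (pResidual p (E.autGroup P)).map (E.autGroup P).subtype ≤
        (N.subgroupOf L).map f := by
      rw [pResidual, MonoidHom.map_closure, Subgroup.closure_le]
      rintro _ ⟨a, ha, rfl⟩
      obtain ⟨g, hg⟩ := hrange (autGroup_mono hEF₀ P a.2)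
      obtain ⟨m, hm, hm'⟩ := exists_pPrime_lift f (x := g) (p := p) (by
        rw [hg, Subgroup.orderOf_coe]; exact ha)
      refine ⟨g ^ m, Subgroup.mem_subgroupOf.2 (CfsgLib.Transfer.mem_pResidual_of_coprime ?_),
        hm.trans hg⟩
      rw [Subgroup.orderOf_coe]
      exact hm'
    obtain ⟨g, hgN, hg⟩ := hmap ⟨α, hα, rfl⟩
    refine ⟨(⟨x, hP x.2⟩ : S)⁻¹ * ⟨(α : MulAut P) x, hP ((α : MulAut P) x).2⟩, ?_, rfl⟩
    rw [SetLike.mem_coe, Subgroup.mem_comap, map_mul, map_inv]
    have h1 := hf g x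
    rw [hg] at h1
    rw [show κ ⟨(α : MulAut P) x, hP ((α : MulAut P) x).2⟩ = _ from h1, ← mul_assoc]
    refine N.mul_mem ?_ (N.inv_mem (Subgroup.mem_subgroupOf.1 hgN))
    simpa [mul_assoc] using hNn.conj_mem _ (Subgroup.mem_subgroupOf.1 hgN) (κ ⟨x, hP x.2⟩)⁻¹
  have hP₁N : (P₁ : Subgroup H) ≤ N := by
    rw [hP₁]
    rintro _ ⟨⟨s, hs⟩, rfl⟩
    obtain ⟨y, hy, hys⟩ := hle (heq.ge hs)
    rw [show (⟨s, hs⟩ : S) = y from Subtype.ext hys.symm]
    exact hy
  refine P₁.not_dvd_index (dvd_trans ?_ (Subgroup.index_dvd_of_le hP₁N))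
  obtain ⟨k, hk⟩ := CfsgLib.Transfer.index_pResidual (G := H) (p := p)
  have hk0 : k ≠ 0 := fun h0 => hNtop (Subgroup.index_eq_one.1 (by rw [hk, h0, pow_zero]))
  rw [hk]
  exact dvd_pow_self p hk0

/-- A saturated system is normal in itself. -/
theorem isWeaklyNormalIn_self (hS : IsPGroup p S) (hF : F.IsSaturated p) :
    F.IsWeaklyNormalIn F p := ⟨hF, hF, isInvariantIn_self hS hF⟩

/-- Models of constrained systems with `p`-solvable automizers. -/
theorem isPSolvable_model (hS : IsPGroup p S) (hC : F.IsConstrained p) (hA : AllPS p F)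
    {G : Type u} [Group G] {ι : S →* G} (hM : F.IsModel p G ι) : IsPSolvable p G := by
  have hcore : F.IsNormal F.core := isNormal_core
  have hcc : F.IsCentric F.core := by
    obtain ⟨-, Q₀, hQ₀, hQ₀c⟩ := hC
    exact isCentric_of_le (le_sSup hQ₀) hcore.1 hQ₀c
  obtain ⟨f, hf, hker⟩ := exists_hom_autGroup hS hM hcore
  have hle := hker.trans (centralizer_img_le_of_isModel hS hM hcore hcc)
  have : Finite G := hM.1
  exact CfsgLib.Fusion.isPSolvable_of_ker_pGroup hf
    (((hS.to_subgroup _).map ι).to_le hle) (hA _ hcore.1)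

end

/-- Terminating series give solvable systems with `p`-solvable automizers. -/
theorem forward {S : Subgroup Ω} {F : FusionSystem S} {p : ℕ}
    (h : F.HasTerminatingResidualSeries p) :
    ∀ [Fact p.Prime] [Finite S], IsPGroup p S → F.IsSaturated p →
      F.IsSolvableSystem ∧ AllPS p F := by
  induction h with
  | trivial F p hbot =>
    intro _ _ hS hF
    refine ⟨isSolvableSystem_of_step hS hF fun R hR hne => absurd ?_ hne, fun P hP => ?_⟩
    · exact le_antisymm hR.1 (hbot ▸ bot_le)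
    · have hPb : P = ⊥ := le_bot_iff.1 (hbot ▸ hP)
      subst hPb
      refine CfsgLib.Transfer.PairProducts.isPSolvable_of_isPGroup' fun α => ⟨0, ?_⟩
      exact Subtype.ext (MulEquiv.ext fun x => Subsingleton.elim _ _)
  | step F E p D hE hD _ ih =>
    intro _ _ hS hF
    have hEF := isNormalIn_residual_of_weaklyNormal hS (isWeaklyNormalIn_self hS hF) hE
    have hEs := hE.1
    have hTS : E.hyperfocalSubgroup p ≤ _ := hyperfocalSubgroup_le p
    have := finite_of_le hTS
    have hDn := isNormalIn_of_hasPPowerIndex hS hEs hTS (le_normalizer_hyperfocalSubgroup p)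
      hD.1 hD.2
    obtain ⟨hsol, hps⟩ := ih (hS.to_le hTS) hD.1
    have hEsol : E.IsSolvableSystem :=
      isSolvableSystem_of_invariant hS hEs hDn.1.2.2 hD.1 hsol fun W hTW hWS hWn =>
        stronglyClosed_of_hyperfocal_le hS hEs hWS hWn hTW
    refine ⟨isSolvableSystem_of_invariant hS hF hEF.1.2.2 hEs hEsol fun W hTW hWS _ => ?_,
      (hps.of_pPowerIndex hS hEs hD.2).of_primeToPIndex hE.2.1⟩
    rw [le_antisymm hWS hTW]
    exact ⟨le_rfl, fun _ _ φ hφ x => apply_mem_S F hφ x⟩

/-- Constrained systems with `p`-solvable automizers have terminating series. -/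
theorem backward : ∀ (n : ℕ) (S : Subgroup Ω) (F : FusionSystem S) [Finite S],
    Nat.card S = n → IsPGroup p S → F.IsConstrained p → AllPS p F →
      F.HasTerminatingResidualSeries p := by
  intro n
  induction n using Nat.strong_induction_on with
  | _ n ih =>
  intro S F _ hn hS hC hA
  by_cases hbot : S = ⊥
  · exact .trivial F p hbot
  have hF := hC.1
  set E := pPrimeResidualSys F p
  have hE : F.IsPPrimeResidual p E := isPPrimeResidual_pPrimeResidualSys hS hF
  have hEn := isNormalIn_residual_of_weaklyNormal hS (isWeaklyNormalIn_self hS hF) hE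
  have hEs := hE.1
  have hEC : E.IsConstrained p := isConstrained_of_isWeaklyNormalIn hS hC hEn.1
  have hEA : AllPS p E := hA.of_subsystem hE.2.1.1 le_rfl
  obtain ⟨G, _, _, ι, hsol, hι, P₀, hP₀⟩ :=
    (realizable_pSolvable_iff hS hF).2 ⟨hC, hA _ (isNormal_core (F := F)).1⟩
  have hlt := hyperfocal_residual_lt hS hF hbot hsol hι P₀ hP₀ hE
  obtain ⟨D, hDs, hD⟩ := exists_saturated_pPowerIndex hS hEs hlt.le le_rfl
  have := finite_of_le hlt.le
  have hDn := isNormalIn_of_hasPPowerIndex hS hEs hlt.le (le_normalizer_hyperfocalSubgroup p)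
    hDs hD
  refine .step F E p D hE ⟨hDs, hD⟩ (ih _ ?_ _ D rfl (hS.to_le hlt.le)
    (isConstrained_of_isWeaklyNormalIn hS hEC hDn.1) (hEA.of_subsystem hD.1 hlt.le))
  rw [← hn]
  exact lt_of_le_of_ne (Subgroup.card_le_of_le hlt.le)
    fun h => hlt.ne (Subgroup.eq_of_le_of_card_ge hlt.le h.ge)

/-- The residual series of a saturated system terminates exactly for constrained systems with
`p`-solvable models. -/
theorem iff_constrained {S : Subgroup Ω} [Finite S] {F : FusionSystem S} (hS : IsPGroup p S)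
    (hF : F.IsSaturated p) : F.HasTerminatingResidualSeries p ↔
      (F.IsConstrained p ∧ ∀ (G : Type u) [Group G] (ι : S →* G), F.IsModel p G ι →
        IsPSolvable p G) := by
  constructor
  · intro h
    obtain ⟨hsol, hA⟩ := forward h hS hF
    have hC := isConstrained_of_isSolvableSystem hS hF hsol
    exact ⟨hC, fun G _ ι hM => isPSolvable_model hS hC hA hM⟩
  · rintro ⟨hC, hM⟩
    obtain ⟨G, _, ι, hG⟩ := exists_model hS hC
    have : Finite G := hG.1
    exact backward _ S F rfl hS hC (allPS_of_realized hG.2.1 (hM G ι hG))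

end CfsgLib.Fusion.Terminating
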