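import Mathlib
import Cfsg.Agent.Lib.Fusion.TateApps

/-!
# Thompson's transfer lemma for saturated fusion systems
-/

set_option autoImplicit false

open Cfsg Cfsg.FusionSystem

namespace CfsgLib.Fusion

open MulAction

universe u

/-- An invariant set of a conjugation action, all of whose stabilizers have order dividing `e`
properly, in the divisibility form. -/
theorem dvd_mul_card_of_orbits {G : Type*} [Group G] [Finite G] {Y : Type*} [MulAction G Y]
    [Finite Y] (a e : ℕ) (h : ∀ y : Y, a * Nat.card (stabilizer G y) ∣ e) :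
    a * Nat.card G ∣ e * Nat.card Y := by
  classical
  have := Fintype.ofFinite (Quotient (orbitRel G Y))
  rw [Nat.card_congr (selfEquivSigmaOrbits G Y), Nat.card_sigma, Finset.mul_sum]
  refine Finset.dvd_sum fun q _ => ?_
  rw [← Nat.card_congr (orbitEquivQuotientStabilizer G q.out).symm,
    (stabilizer G q.out).card_eq_card_quotient_mul_card_subgroup, mul_comm e]
  rw [mul_comm (Nat.card (G ⧸ stabilizer G q.out)), ← mul_assoc, mul_comm (Nat.card (G ⧸ _)) e]
  exact mul_dvd_mul_right (h q.out) _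

variable {Ω : Type u} [Group Ω] {S : Subgroup Ω} {F : FusionSystem S} [Finite S]

/-- **Thompson transfer.** -/
theorem thompson_transfer (hS : IsPGroup 2 S) (hF : F.IsSaturated 2) {T : Subgroup Ω}
    (hT : T.relIndex S = 2) {i : Ω} (hi : i ∈ S) (hi2 : orderOf i = 2)
    (h : ∀ j : Ω, F.IsConjElt i j → F.IsFullyNormalized (Subgroup.zpowers j) → j ∉ T) :
    i ∉ F.focalSubgroup := by
  classical
  have := Fintype.ofFinite S
  set T' := T.subgroupOf S with hT'
  have hidx : T'.index = 2 := hT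
  let θ : S → Multiplicative (ZMod 2) := fun a => if a ∈ T' then 1 else Multiplicative.ofAdd 1
  have hθ : ∀ a b, θ (a * b) = θ a * θ b := by
    intro a b
    have hab := Subgroup.mul_mem_iff_of_index_two hidx (a := a) (b := b)
    by_cases ha : a ∈ T' <;> by_cases hb : b ∈ T' <;>
      simp only [θ, ha, hb, if_true, if_false, hab, iff_self, iff_true, iff_false, not_false_eq_true,
        one_mul, mul_one] <;> decide
  obtain ⟨X, _, _, hstab, ⟨m, hm, hpm⟩, hα, hfix⟩ := exists_biset (F := F) hS hF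
  have hst : ∀ (x : X) (a b : S), (a, b) • x = x → ∃ (P : Subgroup Ω) (φ : P →* Ω), φ ∈ F.Hom P ∧
      ∃ h : (a : Ω) ∈ P, φ ⟨a, h⟩ = b := by
    intro x a b hab
    obtain ⟨P, φ, hφ, hx⟩ := hstab x
    have h1 : (a, b) ∈ stabilizer (S × S) x := hab
    rw [hx] at h1
    exact ⟨P, φ, hφ, h1⟩
  have hfree : ∀ (b : S) (x : X), ((1 : S), b) • x = x → b = 1 := by
    intro b x hb
    obtain ⟨P, φ, -, h, hb⟩ := hst x 1 b hb
    exact Subtype.ext (hb.symm.trans (map_one φ))
  obtain ⟨T₀, hT1, hT2, -, -, hT5⟩ := exists_transfer (X := X) (N := (⊤ : Subgroup S)) (f := θ)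
    hfree (fun a _ b => hθ a b) (fun a _ b => hθ b a) (fun _ => ⟨1, fun _ _ _ => trivial⟩)
  let Th : S →* Multiplicative (ZMod 2) := MonoidHom.mk' T₀ fun u v => by
    have := hT1 u v
    rw [hθ u v, div_self', one_pow, div_eq_one] at this
    exact this.symm
  have hker : F.focalSubgroup ≤ Th.ker.map S.subtype := by
    refine (Subgroup.closure_le _).2 ?_
    rintro _ ⟨P, φ, x, hφ, rfl⟩
    let a : S := ⟨x, le_S F hφ x.2⟩
    let b : S := ⟨φ x, apply_mem_S F hφ x⟩
    refine ⟨a⁻¹ * b, ?_, rfl⟩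
    rw [SetLike.mem_coe, MonoidHom.mem_ker, map_mul, map_inv, inv_mul_eq_one]
    obtain ⟨α, hα'⟩ := hα P φ hφ
    exact (hT2 a trivial b trivial α (fun c x => hα' 1 1 c P.one_mem x (map_one φ))
      (fun y => hα' a b 1 x.2 y rfl)).symm
  intro hfoc
  set u : S := ⟨i, hi⟩
  have hu1 : Th u = 1 := by
    obtain ⟨v, hv, hvu⟩ := hker hfoc
    rwa [show v = u from Subtype.ext hvu] at hv
  have hu2 : u * u = 1 := Subtype.ext (by
    change i * i = 1
    rw [← pow_two, ← hi2, pow_orderOf_eq_one])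
  have : Finite (RightOrbits S X) := Quotient.finite _
  have := Fintype.ofFinite (RightOrbits S X)
  let s : RightOrbits S X → X := Quotient.out
  have hs : ∀ ω, rmk (s ω) = ω := Quotient.out_eq
  choose d hd using exists_delta (s := s) hs u
  have hTu : (1 : Multiplicative (ZMod 2)) = ∏ ω, θ (d ω) :=
    hu1.symm.trans (hT5 u s d trivial hs hd fun _ => trivial)
  -- pairs of moved orbits cancel
  set Fix := (Finset.univ : Finset (RightOrbits S X)).filter fun ω => actR u ω = ω
  have hinv : ∀ ω : RightOrbits S X, actR u (actR u ω) = ω := fun ω => by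
    rw [actR_actR, hu2, actR_one]
  have hθ1 : θ 1 = 1 := if_pos T'.one_mem
  have hmoved : ∏ ω ∈ Finset.univ.filter (fun ω => ¬ actR u ω = ω), θ (d ω) = 1 := by
    refine Finset.prod_involution (fun ω _ => actR u ω) (fun ω _ => ?_) (fun ω hω _ => (Finset.mem_filter.1 hω).2)
      (fun ω hω => ?_) (fun ω _ => hinv ω)
    · rw [← hθ]
      have h2 : ((u, d (actR u ω)) : S × S) • ((u, d ω) • s ω) = s ω := by rw [hd, hd, hinv]
      rw [smul_smul, Prod.mk_mul_mk, hu2] at h2
      rw [mul_comm] at *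
      have h3 := hfree _ _ h2
      rw [hθ, mul_comm, ← hθ, h3, hθ1]
    · refine Finset.mem_filter.2 ⟨Finset.mem_univ _, ?_⟩
      rw [hinv]
      exact Ne.symm (Finset.mem_filter.1 hω).2
  -- parity of the number of orbits
  have hpar : ∀ (s' : Finset (RightOrbits S X)), (∀ ω ∈ s', actR u ω ∈ s' ∧ actR u ω ≠ ω) →
      2 ∣ s'.card := by
    intro s' hs'
    have h1 : ∏ _ω ∈ s', (Multiplicative.ofAdd (1 : ZMod 2)) = 1 :=
      Finset.prod_involution (fun ω _ => actR u ω) (fun _ _ => by decide) (fun ω hω _ => (hs' ω hω).2)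
        (fun ω hω => (hs' ω hω).1) (fun ω _ => hinv ω)
    rw [Finset.prod_const, ← ofAdd_nsmul, ofAdd_eq_one, nsmul_one] at h1
    exact (ZMod.natCast_eq_zero_iff _ 2).1 h1
  have hrodd : ¬ 2 ∣ Fix.card := by
    intro hdv
    refine hpm ?_
    have h1 : m = Fintype.card (RightOrbits S X) := by
      rw [← Nat.card_eq_fintype_card]
      exact (Nat.eq_of_mul_eq_mul_left Nat.card_pos (hm.symm.trans (card_eq_mul hfree)))
    rw [h1, ← Finset.card_univ,
      ← Finset.card_filter_add_card_filter_not (s := Finset.univ) fun ω => actR u ω = ω]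
    refine dvd_add hdv (hpar _ fun ω hω => ?_)
    have h2 := (Finset.mem_filter.1 hω).2
    exact ⟨Finset.mem_filter.2 ⟨Finset.mem_univ _, by rw [hinv]; exact Ne.symm h2⟩, h2⟩
  set Fix0 := Fix.filter fun ω => d ω ∈ T'
  have hr0 : ¬ 2 ∣ Fix0.card := by
    intro hdv
    have h1 : ∏ ω ∈ Fix, θ (d ω) = Multiplicative.ofAdd ((Fix.filter fun ω => ¬ d ω ∈ T').card : ZMod 2) := by
      rw [← Finset.prod_filter_mul_prod_filter_not Fix (fun ω => d ω ∈ T'),
        Finset.prod_eq_one (fun ω hω => if_pos (Finset.mem_filter.1 hω).2), one_mul,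
        Finset.prod_congr rfl (g := fun _ => Multiplicative.ofAdd (1 : ZMod 2))
          (fun ω hω => if_neg (Finset.mem_filter.1 hω).2), Finset.prod_const, ← ofAdd_nsmul, nsmul_one]
    rw [← Finset.prod_filter_mul_prod_filter_not Finset.univ (fun ω => actR u ω = ω), hmoved, mul_one,
      h1, eq_comm, ofAdd_eq_one, ZMod.natCast_eq_zero_iff] at hTu
    refine hrodd ?_
    rw [← Finset.card_filter_add_card_filter_not (s := Fix) fun ω => d ω ∈ T']
    exact dvd_add hdv hTu
  -- the conjugates of `i`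
  let C : Set S := {k | F.IsConjElt i (k : Ω)}
  have hCu : u ∈ C := ⟨_, id_mem F (Subgroup.zpowers_le.2 hi), rfl⟩
  have hfixC : ∀ (x : X) (k : S), (u, k) • x = x → k ∈ C := by
    intro x k hk
    obtain ⟨P, φ, hφ, hP, hφk⟩ := hst x u k hk
    exact ⟨_, res_mem F hφ (Subgroup.zpowers_le.2 hP), hφk⟩
  let Fx : S → Type u := fun k => {x : X // ((u, k) : S × S) • x = x}
  have hconst : ∀ k ∈ C, Nat.card (Fx k) = Nat.card (Fx u) := by
    have hK : ∀ k ∈ C, InF F (Subgroup.zpowers ((u, k) : S × S)) ∧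
        pr1 (Subgroup.zpowers ((u, k) : S × S)) = Subgroup.zpowers i := by
      rintro k ⟨φ, hφ, hφk⟩
      have hpr : pr1 (Subgroup.zpowers ((u, k) : S × S)) = Subgroup.zpowers i :=
        (MonoidHom.map_zpowers _ _)
      have hgen : ∀ (z : ℤ) (y : Subgroup.zpowers i), (y : Ω) = i ^ z → φ y = (k : Ω) ^ z :=
        fun z y hy => by
          rw [show y = ⟨i, Subgroup.mem_zpowers i⟩ ^ z from
            Subtype.ext (by rw [SubgroupClass.coe_zpow]; exact hy), map_zpow, hφk]
      refine ⟨⟨_, φ, hφ, ?_⟩, hpr⟩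
      ext ⟨a, b⟩
      constructor
      · rintro ⟨z, hz⟩
        have hz1 : u ^ z = a := congrArg Prod.fst hz
        have hz2 : k ^ z = b := congrArg Prod.snd hz
        subst hz1 hz2
        exact ⟨⟨z, by simp [u]⟩, (hgen z _ (by simp [u])).trans (by simp)⟩
      · rintro ⟨⟨z, hz⟩, hb⟩
        refine ⟨z, Prod.ext (Subtype.ext (by simpa [u] using hz)) (Subtype.ext ?_)⟩
        rw [← hb, hgen z _ hz.symm]
        simp
    intro k hk
    have e : ∀ k, Nat.card (Fx k) = fixCard X (Subgroup.zpowers ((u, k) : S × S)) := fun k =>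
      Nat.card_congr (Equiv.subtypeEquivRight fun x => by rw [Subgroup.zpowers_le, mem_stabilizer_iff])
    rw [e, e]
    obtain ⟨h1, h1'⟩ := hK k hk
    obtain ⟨h2, h2'⟩ := hK u hCu
    refine hfix _ _ h1 h2 ?_
    rw [h1', h2']
    exact isConj_refl (Subgroup.zpowers_le.2 hi)
  -- counting
  have hcount : ∀ (D : Set S), D ⊆ C → (∀ g : S, ∀ k ∈ D, g * k * g⁻¹ ∈ D) →
      Nat.card D * Nat.card (Fx u) = (Fix.filter fun ω => d ω ∈ D).card * Nat.card S := by
    intro D hDC hD
    have h1 : Nat.card D * Nat.card (Fx u) = Nat.card (Σ k : D, Fx k) := by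
      rw [Nat.card_sigma, Finset.sum_congr rfl (g := fun _ : D => Nat.card (Fx u))
        (fun (k : D) _ => hconst k.1 (hDC k.2)), Finset.sum_const, Finset.card_univ, smul_eq_mul,
        Nat.card_eq_fintype_card]
    rw [h1, ← Fintype.card_coe, ← Nat.card_eq_fintype_card, ← Nat.card_prod]
    refine (Nat.card_congr (Equiv.ofBijective
      (fun p : ↥(Fix.filter fun ω => d ω ∈ D) × S =>
        (⟨⟨p.2 * d p.1 * p.2⁻¹, hD _ _ (Finset.mem_filter.1 p.1.2).2⟩,
          ((1 : S), p.2) • s p.1, by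
            rw [smul_smul, show ((u, p.2 * d p.1.1 * p.2⁻¹) * ((1 : S), p.2) : S × S) =
              ((1 : S), p.2) * (u, d p.1.1) by simp [mul_assoc], mul_smul, hd,
              (Finset.mem_filter.1 (Finset.mem_filter.1 p.1.2).1).2]⟩ : Σ k : D, Fx k))
      ⟨?_, ?_⟩)).symm
    · rintro ⟨ω, b⟩ ⟨ω', b'⟩ he
      have h2 : ((1 : S), b) • s ω.1 = ((1 : S), b') • s ω'.1 :=
        congrArg (fun z : Σ k : D, Fx k => (z.2.1 : X)) he
      have h3 : ω = ω' := Subtype.ext (by
        have := congrArg (rmk (G := S)) h2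
        rwa [rmk_right, rmk_right, hs, hs] at this)
      subst h3
      exact Prod.ext rfl (right_cancel hfree h2)
    · rintro ⟨⟨k, hk⟩, x, hx⟩
      obtain ⟨b, hb⟩ := Quotient.exact (hs (rmk x))
      have hω : actR u (rmk x) = rmk (G := S) x := by
        rw [actR_rmk, ← rmk_smul u k, hx]
      have hd' := hd (rmk x)
      rw [hω] at hd'
      have hk' : b * d (rmk x) * b⁻¹ = k := by
        refine right_cancel hfree (u := u) (x := x) ?_
        have h5 : ((u, b * d (rmk x) * b⁻¹) : S × S) • (((1 : S), b) • s (rmk x)) =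
            ((1 : S), b) • s (rmk x) := by
          rw [smul_smul, show ((u, b * d (rmk x) * b⁻¹) * ((1 : S), b) : S × S) =
            ((1 : S), b) * (u, d (rmk x)) by simp [mul_assoc], mul_smul, hd']
        rw [hb] at h5
        exact h5.trans hx.symm
      have hdD : d (rmk x) ∈ D := by
        have := hD b⁻¹ k hk
        rw [← hk'] at this
        simpa [mul_assoc] using this
      refine ⟨⟨⟨rmk x, Finset.mem_filter.2 ⟨Finset.mem_filter.2 ⟨Finset.mem_univ _, hω⟩, hdD⟩⟩, b⟩, ?_⟩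
      refine Sigma.ext (Subtype.ext hk') ?_
      subst hk'
      exact heq_of_eq (Subtype.ext hb)
  -- centralizers
  have hconjC : ∀ g : S, ∀ k ∈ C, g * k * g⁻¹ ∈ C := by
    rintro g k ⟨φ, hφ, hφk⟩
    have hle : φ.range ≤ S := range_le_S F hφ
    refine ⟨_, F.comp_mem hφ (F.conj_mem hle g.2) (fun x => ⟨x, rfl⟩), ?_⟩
    change (g : Ω) * φ _ * (g : Ω)⁻¹ = _
    rw [hφk]
    rfl
  have hcdvd : ∀ k ∈ C, Nat.card (Subgroup.centralizer ({k} : Set S)) ∣ Nat.card (Fx u) := by
    intro k hk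
    let orb : Set S := orbit (ConjAct S) k
    have horb : orb ⊆ C := by
      rintro _ ⟨g, rfl⟩
      exact hconjC (ConjAct.ofConjAct g) k hk
    have horb' : ∀ g : S, ∀ k' ∈ orb, g * k' * g⁻¹ ∈ orb := fun g k' hk' =>
      mem_orbit_of_mem_orbit (ConjAct.toConjAct g) hk'
    have h1 := hcount orb horb horb'
    have h2 : Nat.card S = Nat.card orb * Nat.card (Subgroup.centralizer ({k} : Set S)) := by
      rw [Nat.card_congr (orbitEquivQuotientStabilizer (ConjAct S) k),
        ← Nat.card_congr (ConjAct.toConjAct (G := S)).toEquiv.symm,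
        (stabilizer (ConjAct S) k).card_eq_card_quotient_mul_card_subgroup,
        Subgroup.centralizer_eq_comap_stabilizer]
      congr 1
    rw [h2, mul_left_comm] at h1
    exact ⟨_, (Nat.eq_of_mul_eq_mul_left (Nat.card_pos_iff.2
      ⟨⟨⟨k, mem_orbit_self k⟩⟩, inferInstance⟩) h1).trans (mul_comm _ _)⟩
  -- a fully normalized conjugate
  obtain ⟨Q, hQ, hQn⟩ := exists_fullyNormalized F (P := Subgroup.zpowers i) (Subgroup.zpowers_le.2 hi)
  obtain ⟨φ, hφ, hφQ⟩ := hQ
  set k₀ : S := ⟨φ ⟨i, Subgroup.mem_zpowers i⟩, apply_mem_S F hφ _⟩ with hk₀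
  have hk₀C : k₀ ∈ C := ⟨φ, hφ, rfl⟩
  have hord : ∀ k ∈ C, orderOf (k : Ω) = 2 := by
    rintro k ⟨ψ, hψ, hψk⟩
    rw [← hψk, orderOf_injective ψ (F.injective_of_mem hψ), Subgroup.orderOf_mk, hi2]
  have hQk : Q = Subgroup.zpowers (k₀ : Ω) := by
    rw [← hφQ, MonoidHom.range_eq_map]
    have : (⊤ : Subgroup (Subgroup.zpowers i)) = Subgroup.zpowers ⟨i, Subgroup.mem_zpowers i⟩ := by
      refine (top_le_iff.1 ?_).symm
      rintro ⟨_, z, rfl⟩ -
      exact ⟨z, Subtype.ext (by simp)⟩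
    rw [this, MonoidHom.map_zpowers]
  have hcen : ∀ k ∈ C, Nat.card (Subgroup.centralizer ({k} : Set S)) =
      Nat.card (normalizerIn S (Subgroup.zpowers (k : Ω))) := by
    intro k hk
    refine Nat.card_congr
      { toFun := fun g => ⟨(g.1 : Ω), g.1.2, ?_⟩
        invFun := fun g => ⟨⟨g.1, g.2.1⟩, ?_⟩
        left_inv := fun g => rfl
        right_inv := fun g => rfl }
    · refine mem_normalizer_of_forall_commute ?_
      rintro _ ⟨z, rfl⟩
      have h1 : Commute (k : Ω) (g.1 : Ω) := congrArg Subtype.val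
        (Subgroup.mem_centralizer_singleton_iff.1 g.2).symm
      exact h1.zpow_left z
    · rw [Subgroup.mem_centralizer_singleton_iff]
      refine Subtype.ext ?_
      have h1 := conj_mem_of_mem_normalizer g.2.2 (Subgroup.mem_zpowers (k : Ω))
      obtain ⟨z, hz⟩ := h1
      have hk2 : (k : Ω) ^ (2 : ℤ) = 1 := by
        rw [zpow_ofNat, ← hord k hk, pow_orderOf_eq_one]
      change g.1 * (k : Ω) = (k : Ω) * g.1
      change (k : Ω) ^ z = _ at hz
      rcases Int.even_or_odd z with ⟨w, rfl⟩ | ⟨w, rfl⟩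
      · rw [← two_mul, zpow_mul, hk2, one_zpow] at hz
        have : (k : Ω) = 1 := by
          have := congrArg (fun y => g.1⁻¹ * y * g.1) hz
          simpa [mul_assoc] using this.symm
        have hh := hord k hk
        rw [this, orderOf_one] at hh
        omega
      · rw [zpow_add_one, zpow_mul, hk2, one_zpow, one_mul] at hz
        exact mul_inv_eq_iff_eq_mul.1 hz.symm
  set D : Set S := {k | k ∈ C ∧ k ∈ T'}
  have hT'n : T'.Normal := Subgroup.normal_of_index_eq_two hidx
  have hDinv : ∀ g : S, ∀ k ∈ D, g * k * g⁻¹ ∈ D := fun g k hk =>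
    ⟨hconjC g k hk.1, hT'n.conj_mem k hk.2 g⟩
  let Y : SubMulAction (ConjAct S) S :=
    { carrier := D
      smul_mem' := fun g k hk => hDinv (ConjAct.ofConjAct g) k hk }
  have hdiv : ∀ y : Y, 2 * Nat.card (stabilizer (ConjAct S) y) ∣
      Nat.card (Subgroup.centralizer ({k₀} : Set S)) := by
    rintro ⟨k, hk⟩
    have hst : Nat.card (stabilizer (ConjAct S) (⟨k, hk⟩ : Y)) =
        Nat.card (Subgroup.centralizer ({k} : Set S)) := by
      rw [SubMulAction.stabilizer_of_subMul, Subgroup.centralizer_eq_comap_stabilizer]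
      rfl
    rw [hst]
    have hkQ : F.IsConj Q (Subgroup.zpowers (k : Ω)) := by
      obtain ⟨ψ, hψ, hψk⟩ := hk.1
      refine isConj_trans (isConj_symm ⟨φ, hφ, hφQ⟩) ⟨ψ, hψ, ?_⟩
      rw [MonoidHom.range_eq_map]
      have : (⊤ : Subgroup (Subgroup.zpowers i)) = Subgroup.zpowers ⟨i, Subgroup.mem_zpowers i⟩ := by
        refine (top_le_iff.1 ?_).symm
        rintro ⟨_, z, rfl⟩ -
        exact ⟨z, Subtype.ext (by simp)⟩
      rw [this, MonoidHom.map_zpowers, hψk]
    have hle := hQn.2 _ hkQ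
    have hne : Nat.card (normalizerIn S (Subgroup.zpowers (k : Ω))) ≠
        Nat.card (normalizerIn S Q) := fun he =>
      h (k : Ω) hk.1 ⟨Subgroup.zpowers_le.2 k.2, fun R hR => he ▸ hQn.2 R (isConj_trans hkQ hR)⟩ hk.2
    rw [hQk, ← hcen k₀ hk₀C, ← hcen k hk.1] at hle hne
    obtain ⟨a, ha⟩ := IsPGroup.iff_card.1 (hS.to_subgroup (Subgroup.centralizer ({k} : Set S)))
    obtain ⟨b, hb⟩ := IsPGroup.iff_card.1 (hS.to_subgroup (Subgroup.centralizer ({k₀} : Set S)))
    rw [ha, hb] at hle hne ⊢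
    rw [← pow_succ']
    refine pow_dvd_pow 2 ?_
    have : a ≤ b := (Nat.pow_le_pow_iff_right (le_refl 2)).1 hle
    have : a ≠ b := fun e => hne (by rw [e])
    omega
  have h1 := dvd_mul_card_of_orbits (G := ConjAct S) (Y := Y) 2 _ hdiv
  rw [← Nat.card_congr (ConjAct.toConjAct (G := S)).toEquiv] at h1
  obtain ⟨q, hq⟩ := hcdvd k₀ hk₀C
  have h2 := hcount D (fun k hk => hk.1) hDinv
  replace h2 : Nat.card D * Nat.card (Fx u) = Fix0.card * Nat.card S := by
    rw [h2]
    congr 2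
    exact Finset.ext fun ω => by
      simp only [Fix0, Finset.mem_filter]
      exact ⟨fun h => ⟨h.1, h.2.2⟩, fun h => ⟨h.1, hfixC (s ω) (d ω)
        (by rw [hd, (Finset.mem_filter.1 h.1).2]), h.2⟩⟩
  refine hr0 ((Nat.mul_dvd_mul_iff_right (Nat.card_pos (α := S))).1 ?_)
  rw [← h2, hq]
  have e : Nat.card D * (Nat.card (Subgroup.centralizer ({k₀} : Set S)) * q) =
      Nat.card (Subgroup.centralizer ({k₀} : Set S)) * Nat.card Y * q := by
    rw [show Nat.card Y = Nat.card D from rfl]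
    ring
  rw [e]
  exact Dvd.dvd.mul_right h1 q

end CfsgLib.Fusion
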