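import Cfsg.Agent.Lib.Fusion.PullSystem
import Cfsg.Agent.Lib.Fusion.NormSys
import Cfsg.Agent.Lib.Fusion.Invariant
import Cfsg.Agent.Lib.Fusion.Alperin
import Cfsg.Agent.Lib.Fusion.FactorBasic

/-!
# Properties carried along an isomorphism of fusion systems
-/

set_option autoImplicit false

open Cfsg Cfsg.FusionSystem

namespace CfsgLib.Fusion

variable {Ω Ω' : Type*} [Group Ω] [Group Ω'] {S : Subgroup Ω} {S' : Subgroup Ω'}
  {F : FusionSystem S} {F' : FusionSystem S'} {ι : S →* Ω'}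

theorem mem_imageAlong_iff {P : Subgroup Ω} {y : Ω'} :
    y ∈ imageAlong ι P ↔ ∃ x : S, (x : Ω) ∈ P ∧ ι x = y := Iff.rfl

theorem mem_imageAlong_apply_iff (hι : Function.Injective ι) {P : Subgroup Ω} {x : S} :
    ι x ∈ imageAlong ι P ↔ (x : Ω) ∈ P :=
  ⟨fun ⟨z, hz, hzx⟩ => hι hzx ▸ hz, apply_mem_imageAlong⟩

theorem imageAlong_comp_inclusion {T P : Subgroup Ω} (hT : T ≤ S) (hP : P ≤ T) :
    imageAlong (ι.comp (Subgroup.inclusion hT)) P = imageAlong ι P := by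
  ext y
  constructor
  · rintro ⟨x, hx, rfl⟩
    exact apply_mem_imageAlong (x := Subgroup.inclusion hT x) hx
  · rintro ⟨x, hx, rfl⟩
    exact ⟨⟨x, hP hx⟩, hx, rfl⟩

theorem range_comp_inclusion_eq_imageAlong {T : Subgroup Ω} (hT : T ≤ S) :
    (ι.comp (Subgroup.inclusion hT)).range = imageAlong ι T := by
  ext y
  constructor
  · rintro ⟨x, rfl⟩
    exact apply_mem_imageAlong (x := Subgroup.inclusion hT x) x.2
  · rintro ⟨x, hx, rfl⟩
    exact ⟨⟨x, hx⟩, rfl⟩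

theorem imageAlong_sup {P Q : Subgroup Ω} (hP : P ≤ S) (hQ : Q ≤ S) :
    imageAlong ι (P ⊔ Q) = imageAlong ι P ⊔ imageAlong ι Q := by
  refine le_antisymm ?_ (sup_le (imageAlong_mono le_sup_left) (imageAlong_mono le_sup_right))
  have h : P ⊔ Q ≤ ((imageAlong ι P ⊔ imageAlong ι Q).comap ι).map S.subtype := sup_le
    (fun x hx => ⟨⟨x, hP hx⟩, Subgroup.mem_sup_left (apply_mem_imageAlong (ι := ι) (x := ⟨x, hP hx⟩) hx),
      rfl⟩)
    fun x hx => ⟨⟨x, hQ hx⟩, Subgroup.mem_sup_right (apply_mem_imageAlong (ι := ι) (x := ⟨x, hQ hx⟩) hx),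
      rfl⟩
  rintro _ ⟨x, hx, rfl⟩
  obtain ⟨z, hz, hzx⟩ := h hx
  rw [← Subtype.ext hzx]
  exact hz

theorem Transported.finite [Finite S] (h : Transported F F' ι) : Finite S' :=
  h.range_eq ▸ Finite.of_surjective ι.rangeRestrict ι.rangeRestrict_surjective

theorem Transported.isPGroup {p : ℕ} (h : Transported F F' ι) (hS : IsPGroup p S) :
    IsPGroup p S' := by
  rw [← h.range_eq]
  exact hS.of_surjective ι.rangeRestrict ι.rangeRestrict_surjective

theorem Transported.congr_hom (h : Transported F F' ι) {κ : S →* Ω'} (hκ : ∀ x, κ x = ι x) :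
    Transported F F' κ := by
  obtain rfl : κ = ι := MonoidHom.ext hκ
  exact h

/-- The inverse homomorphism. -/
noncomputable def Transported.inv (h : Transported F F' ι) : S' →* Ω :=
  S.subtype.comp
    ((MonoidHom.ofInjective h.inj).trans (MulEquiv.subgroupCongr h.range_eq)).symm.toMonoidHom

theorem Transported.inv_apply (h : Transported F F' ι) (x : S) (hx : ι x ∈ S') :
    h.inv ⟨ι x, hx⟩ = x := by
  refine congrArg Subtype.val ((MulEquiv.symm_apply_eq _).2 (Subtype.ext ?_))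
  rfl

theorem Transported.exists_preimage (h : Transported F F' ι) (y : S') : ∃ x : S, ι x = y :=
  h.range_eq.ge y.2

theorem Transported.apply_inv (h : Transported F F' ι) (y : S') (hy : h.inv y ∈ S) :
    ι ⟨h.inv y, hy⟩ = y := by
  obtain ⟨x, hx⟩ := h.exists_preimage y
  have h1 : y = ⟨ι x, hx ▸ y.2⟩ := Subtype.ext hx.symm
  have h2 : h.inv y = x := by rw [h1, h.inv_apply]
  rw [← hx]
  exact congrArg ι (Subtype.ext h2)

theorem Transported.inv_range (h : Transported F F' ι) : h.inv.range = S := by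
  refine le_antisymm ?_ fun x hx => ⟨⟨ι ⟨x, hx⟩, h.range_eq.le ⟨_, rfl⟩⟩, h.inv_apply _ _⟩
  rintro _ ⟨y, rfl⟩
  exact (((MonoidHom.ofInjective h.inj).trans (MulEquiv.subgroupCongr h.range_eq)).symm y).2

theorem Transported.inv_injective (h : Transported F F' ι) : Function.Injective h.inv :=
  Subtype.val_injective.comp (MulEquiv.injective _)

theorem Transported.imageAlong_inv (h : Transported F F' ι) {P' : Subgroup Ω'} (hP' : P' ≤ S') :
    imageAlong ι (imageAlong h.inv P') = P' := by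
  ext y
  constructor
  · rintro ⟨x, ⟨z, hz, hzx⟩, rfl⟩
    have h1 : ι x = z := by
      rw [← h.apply_inv z (hzx ▸ x.2)]
      exact congrArg ι (Subtype.ext hzx.symm)
    rw [h1]
    exact hz
  · intro hy
    obtain ⟨x, hx⟩ := h.exists_preimage ⟨y, hP' hy⟩
    refine ⟨x, ⟨⟨y, hP' hy⟩, hy, ?_⟩, hx⟩
    have h1 : (⟨y, hP' hy⟩ : S') = ⟨ι x, hx ▸ hP' hy⟩ := Subtype.ext hx.symm
    exact (congrArg h.inv h1).trans (h.inv_apply _ _)

theorem Transported.inv_imageAlong (h : Transported F F' ι) {P : Subgroup Ω} (hP : P ≤ S) :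
    imageAlong h.inv (imageAlong ι P) = P := by
  ext x
  constructor
  · rintro ⟨z, ⟨y, hy, hyz⟩, rfl⟩
    have h1 : z = ⟨ι y, hyz ▸ z.2⟩ := Subtype.ext hyz.symm
    rw [h1, h.inv_apply]
    exact hy
  · intro hx
    exact ⟨⟨ι ⟨x, hP hx⟩, h.range_eq.le ⟨_, rfl⟩⟩, apply_mem_imageAlong hx, h.inv_apply _ _⟩

theorem Transported.imageAlong_inv_le (h : Transported F F' ι) (P' : Subgroup Ω') :
    imageAlong h.inv P' ≤ S :=
  (Subgroup.map_le_range _ _).trans h.inv_range.le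

/-- Pushing a map forward. -/
theorem Transported.push (h : Transported F F' ι) {P : Subgroup Ω} {P' : Subgroup Ω'}
    (he : imageAlong ι P = P') {φ : P →* Ω} (hφ : φ ∈ F.Hom P) :
    ∃ φ' ∈ F'.Hom P', ∀ (x : P) (hx : (x : Ω) ∈ S) (hφx : φ x ∈ S) (hx' : ι ⟨x, hx⟩ ∈ P'),
      φ' ⟨ι ⟨x, hx⟩, hx'⟩ = ι ⟨φ x, hφx⟩ := by
  subst he
  obtain ⟨ψ, hψ, hψe⟩ := (h.hom_iff P (le_S F hφ) φ (apply_mem_S F hφ)).1 hφ
  exact ⟨ψ, hψ, fun x hx hφx hx' => hψe x⟩

/-- Pulling a map back. -/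
theorem Transported.pullHom (h : Transported F F' ι) {P : Subgroup Ω} {P' : Subgroup Ω'}
    (hP : P ≤ S) (he : imageAlong ι P = P') {φ' : P' →* Ω'} (hφ' : φ' ∈ F'.Hom P') :
    ∃ φ ∈ F.Hom P, ∀ (x : P) (hx : (x : Ω) ∈ S) (hφx : φ x ∈ S) (hx' : ι ⟨x, hx⟩ ∈ P'),
      φ' ⟨ι ⟨x, hx⟩, hx'⟩ = ι ⟨φ x, hφx⟩ := by
  subst he
  obtain ⟨φ, hφ, hφS, hφe⟩ := h.pull hP hφ'
  exact ⟨φ, hφ, fun x hx hφx hx' => (hφe x).symm⟩

/-- Two homomorphisms on an image agree as soon as they agree on the images. -/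
theorem hom_ext_imageAlong {P : Subgroup Ω} {P' : Subgroup Ω'} (he : imageAlong ι P = P')
    {f g : P' →* Ω'}
    (h : ∀ (x : P) (hx : (x : Ω) ∈ S) (hx' : ι ⟨x, hx⟩ ∈ P'), f ⟨_, hx'⟩ = g ⟨_, hx'⟩) :
    f = g := by
  refine MonoidHom.ext fun y => ?_
  obtain ⟨x, hx, hxy⟩ := he.ge y.2
  have h1 : y = ⟨ι x, hxy ▸ y.2⟩ := Subtype.ext hxy.symm
  rw [h1]
  exact h ⟨x, hx⟩ x.2 _

/-- The inverse of an isomorphism of fusion systems. -/
theorem Transported.symm (h : Transported F F' ι) : Transported F' F h.inv := by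
  refine ⟨h.inv_injective, h.inv_range, fun P' hP' φ' hφ' => ?_⟩
  have hP := h.imageAlong_inv_le P'
  have he := h.imageAlong_inv hP'
  constructor
  · intro hφ
    obtain ⟨φ, hφF, hφe⟩ := h.pullHom hP he hφ
    refine ⟨φ, hφF, fun y => ?_⟩
    have hy : h.inv ⟨y, hP' y.2⟩ ∈ S := h.inv_range.le ⟨_, rfl⟩
    have hi := h.apply_inv ⟨y, hP' y.2⟩ hy
    have h1 := hφe ⟨h.inv ⟨y, hP' y.2⟩, apply_mem_imageAlong y.2⟩ hy (apply_mem_S F hφF _)
      (by rw [hi]; exact y.2)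
    have h2 : (⟨φ' y, hφ' y⟩ : S') = ⟨ι ⟨φ ⟨h.inv ⟨y, hP' y.2⟩, apply_mem_imageAlong y.2⟩,
        apply_mem_S F hφF _⟩, h.range_eq.le ⟨_, rfl⟩⟩ := by
      refine Subtype.ext (Eq.trans ?_ h1)
      exact congrArg φ' (Subtype.ext hi.symm)
    rw [h2, h.inv_apply]
  · rintro ⟨ψ, hψ, hψe⟩
    obtain ⟨χ, hχ, hχe⟩ := h.push he hψ
    suffices φ' = χ by rw [this]; exact hχ
    refine hom_ext_imageAlong he fun x hx hx' => ?_
    rw [hχe x hx (apply_mem_S F hψ _) hx']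
    have h1 := hψe ⟨ι ⟨x, hx⟩, hx'⟩
    have h2 : (⟨h.inv ⟨ι ⟨(x : Ω), hx⟩, hP' hx'⟩, apply_mem_imageAlong hx'⟩ :
        imageAlong h.inv P') = x := Subtype.ext (h.inv_apply _ _)
    rw [h2] at h1
    refine (h.apply_inv ⟨φ' ⟨_, hx'⟩, hφ' _⟩ (h.inv_range.le ⟨_, rfl⟩)).symm.trans ?_
    exact congrArg ι (Subtype.ext h1.symm)

/-! ### Subsystems -/

variable {T : Subgroup Ω} {T' : Subgroup Ω'} {C : FusionSystem T} {C' : FusionSystem T'}

/-- The image of a subsystem exists. -/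
theorem exists_transported_image {Ω' : Type*} [Group Ω'] {κ : T →* Ω'}
    (hκ : Function.Injective κ) {U : Subgroup Ω'} (hU : κ.range = U) (C : FusionSystem T) :
    ∃ C' : FusionSystem U, Transported C C' κ := by
  let e : T ≃* U := (MonoidHom.ofInjective hκ).trans (MulEquiv.subgroupCongr hU)
  let j : U →* Ω := T.subtype.comp e.symm.toMonoidHom
  have hj : Function.Injective j := Subtype.val_injective.comp (MulEquiv.injective _)
  have hjr : j.range = T := by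
    refine le_antisymm ?_ fun x hx => ⟨e ⟨x, hx⟩, congrArg Subtype.val (e.symm_apply_apply _)⟩
    rintro _ ⟨y, rfl⟩
    exact (e.symm y).2
  refine ⟨pullSys C j hj hjr, (transported_pullSys C j hj hjr).symm.congr_hom fun x => ?_⟩
  have hm : j (e x) = x := congrArg Subtype.val (e.symm_apply_apply x)
  obtain ⟨z, hz⟩ := (transported_pullSys C j hj hjr).symm.exists_preimage (e x)
  have hjm : j (e x) ∈ T := hm.symm ▸ x.2
  have h1 := (transported_pullSys C j hj hjr).inv_apply (e x) hjm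
  have h2 : x = ⟨j (e x), hjm⟩ := Subtype.ext hm.symm
  refine Eq.trans ?_ (congrArg (transported_pullSys C j hj hjr).inv h2).symm
  rw [h1]
  rfl

theorem Transported.stronglyClosed (h : Transported F F' ι) (hT : F.StronglyClosed T) :
    F'.StronglyClosed (imageAlong ι T) := by
  refine ⟨h.imageAlong_le T, fun R' hR' φ' hφ' y => ?_⟩
  have hR'S := hR'.trans (h.imageAlong_le T)
  have hR := h.imageAlong_inv_le R'
  have he := h.imageAlong_inv hR'S
  have hRT : imageAlong h.inv R' ≤ T := by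
    rw [← h.inv_imageAlong hT.1]
    exact imageAlong_mono hR'
  obtain ⟨φ, hφ, hφe⟩ := h.pullHom hR he hφ'
  obtain ⟨x, hx, hxy⟩ := he.ge y.2
  have h1 : y = ⟨ι x, hxy ▸ y.2⟩ := Subtype.ext hxy.symm
  rw [h1, hφe ⟨x, hx⟩ x.2 (apply_mem_S F hφ _)]
  exact apply_mem_imageAlong (hT.2 _ hRT φ hφ _)

theorem Transported.isSubsystemOf (h : Transported F F' ι) (hTS : T ≤ S)
    (hC : Transported C C' (ι.comp (Subgroup.inclusion hTS))) (hCF : C.IsSubsystemOf F) :
    C'.IsSubsystemOf F' := by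
  intro P' φ' hφ'
  have hP' := le_S C' hφ'
  have he := hC.imageAlong_inv hP'
  have hPT := hC.imageAlong_inv_le P'
  obtain ⟨φ, hφ, hφe⟩ := hC.pullHom hPT he hφ'
  obtain ⟨χ, hχ, hχe⟩ := h.push ((imageAlong_comp_inclusion hTS hPT).symm.trans he) (hCF _ hφ)
  suffices φ' = χ by rw [this]; exact hχ
  refine hom_ext_imageAlong he fun x hx hx' => ?_
  exact (hφe x hx (apply_mem_S C hφ x) hx').trans
    (hχe x (hTS hx) (hTS (apply_mem_S C hφ x)) hx').symm

theorem Transported.range_subsystem (hTS : T ≤ S)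
    (hC : Transported C C' (ι.comp (Subgroup.inclusion hTS))) : T' = imageAlong ι T :=
  hC.range_eq.symm.trans (range_comp_inclusion_eq_imageAlong hTS)

/-- Transporting an automorphism. -/
theorem Transported.exists_aut (h : Transported F F' ι) {P : Subgroup Ω} (hP : P ≤ S)
    {P' : Subgroup Ω'} (he : imageAlong ι P = P') {α' : MulAut P'} (hα' : α' ∈ F'.autGroup P') :
    ∃ α ∈ F.autGroup P, orderOf α = orderOf α' ∧
      ∀ (x : P) (hx' : ι ⟨x, hP x.2⟩ ∈ P'),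
        ((α' ⟨_, hx'⟩ : P') : Ω') = ι ⟨α x, hP (α x).2⟩ := by
  subst he
  obtain ⟨α, hα, hαe⟩ := (h.autGroup_map hP).ge hα'
  refine ⟨α, hα, ?_, fun x hx' => ?_⟩
  · rw [← hαe]
    exact ((MulAut.congr (imageEquiv h.inj hP)).orderOf_eq α).symm
  · rw [← hαe]
    change ((imageEquiv h.inj hP (α ((imageEquiv h.inj hP).symm (imageEquiv h.inj hP x))) :
      imageAlong ι P) : Ω') = _
    rw [MulEquiv.symm_apply_apply]
    rfl

theorem Transported.exists_aut_push (h : Transported F F' ι) {P : Subgroup Ω} (hP : P ≤ S)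
    {P' : Subgroup Ω'} (he : imageAlong ι P = P') {α : MulAut P} (hα : α ∈ F.autGroup P) :
    ∃ α' ∈ F'.autGroup P', ∀ (x : P) (hx' : ι ⟨x, hP x.2⟩ ∈ P'),
        ((α' ⟨_, hx'⟩ : P') : Ω') = ι ⟨α x, hP (α x).2⟩ := by
  subst he
  refine ⟨MulAut.congr (imageEquiv h.inj hP) α,
    (h.autGroup_map hP).le (Subgroup.mem_map_of_mem _ hα), fun x hx' => ?_⟩
  change ((imageEquiv h.inj hP (α ((imageEquiv h.inj hP).symm (imageEquiv h.inj hP x))) :
    imageAlong ι P) : Ω') = _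
  rw [MulEquiv.symm_apply_apply]
  rfl

theorem Transported.isInvariantIn (h : Transported F F' ι) (hTS : T ≤ S)
    (hC : Transported C C' (ι.comp (Subgroup.inclusion hTS))) (hCF : C.IsInvariantIn F) :
    C'.IsInvariantIn F' := by
  obtain rfl := Transported.range_subsystem hTS hC
  refine ⟨h.isSubsystemOf hTS hC hCF.1, h.stronglyClosed hCF.2.1, ?_, ?_⟩
  · intro P' hP' φ' hφ' α' hα'
    obtain ⟨α, hα, -, hαe⟩ := h.exists_aut hTS rfl hα'
    have hPT := hC.imageAlong_inv_le P'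
    have he := hC.imageAlong_inv hP'
    obtain ⟨φ, hφ, hφe⟩ := hC.pullHom hPT he hφ'
    obtain ⟨χ, hχ, hχe⟩ := hCF.2.2.1 _ hPT φ hφ α hα
    have he2 : imageAlong (ι.comp (Subgroup.inclusion hTS))
        (((imageAlong hC.inv P').subgroupOf T).map (T.subtype.comp α.toMonoidHom)) =
        (P'.subgroupOf (imageAlong ι T)).map ((imageAlong ι T).subtype.comp α'.toMonoidHom) := by
      ext y
      constructor
      · rintro ⟨w, ⟨x, hx, hxw⟩, rfl⟩
        obtain rfl : w = α x := Subtype.ext hxw.symm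
        refine ⟨⟨ι ⟨(x : Ω), hTS x.2⟩, apply_mem_imageAlong x.2⟩, ?_, hαe x _⟩
        exact he.le ⟨x, hx, rfl⟩
      · rintro ⟨z, hz, rfl⟩
        obtain ⟨x, hx, hxz⟩ := he.ge hz
        refine ⟨⟨(α x : Ω), (α x).2⟩, ⟨x, hx, rfl⟩, Eq.trans (hαe x (hxz ▸ z.2)).symm ?_⟩
        exact congrArg (fun u => (α' u : Ω')) (Subtype.ext hxz)
    obtain ⟨χ', hχ', hχ'e⟩ := hC.push he2 hχ
    refine ⟨χ', hχ', fun y hφy hαy => ?_⟩
    obtain ⟨x, hx, hxy⟩ := he.ge y.2
    have hx' : ι ⟨(x : Ω), hTS x.2⟩ ∈ imageAlong ι T := apply_mem_imageAlong x.2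
    have hv : φ ⟨x, hx⟩ ∈ T := apply_mem_S C hφ _
    have h1 : φ' y = ι ⟨φ ⟨x, hx⟩, hTS hv⟩ := by
      rw [show y = ⟨ι ⟨(x : Ω), hTS x.2⟩, hxy ▸ y.2⟩ from Subtype.ext hxy.symm]
      exact hφe ⟨x, hx⟩ x.2 hv _
    have h2 : (⟨(y : Ω'), hP' y.2⟩ : imageAlong ι T) = ⟨_, hx'⟩ := Subtype.ext hxy.symm
    have h3 : (⟨φ' y, hφy⟩ : imageAlong ι T) = ⟨_, apply_mem_imageAlong (x := ⟨_, hTS hv⟩) hv⟩ :=
      Subtype.ext h1
    have hm : ((α x : T) : Ω) ∈ ((imageAlong hC.inv P').subgroupOf T).map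
        (T.subtype.comp α.toMonoidHom) := ⟨x, hx, rfl⟩
    have h4 := hχ'e ⟨(α x : T), hm⟩ (α x).2 (apply_mem_S C hχ _) (he2.le (apply_mem_imageAlong hm))
    have h5 : (⟨((α' ⟨y, hP' y.2⟩ : imageAlong ι T) : Ω'), hαy⟩ :
        ↥((P'.subgroupOf (imageAlong ι T)).map ((imageAlong ι T).subtype.comp α'.toMonoidHom))) =
        ⟨_, he2.le (apply_mem_imageAlong (x := ⟨((α x : T) : Ω), (α x).2⟩) hm)⟩ :=
      Subtype.ext ((congrArg (fun u => (α' u : Ω')) h2).trans (hαe x hx'))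
    rw [h5, h4, h3, hαe ⟨_, hv⟩]
    exact congrArg ι (Subtype.ext (hχe ⟨x, hx⟩ hv hm))
  · intro P' hP' φ' hφ'
    have hPT := hC.imageAlong_inv_le P'
    have heC := hC.imageAlong_inv hP'
    have he : imageAlong ι (imageAlong hC.inv P') = P' :=
      (imageAlong_comp_inclusion hTS hPT).symm.trans heC
    obtain ⟨φ, hφ, hφe⟩ := h.pullHom (hPT.trans hTS) he hφ'
    obtain ⟨α, hα, φ₀, hφ₀, h0⟩ := hCF.2.2.2 _ hPT φ hφ
    obtain ⟨α', hα', hαe⟩ := h.exists_aut_push hTS rfl hα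
    obtain ⟨φ₀', hφ₀', h0e⟩ := hC.push heC hφ₀
    refine ⟨α', hα', φ₀', hφ₀', fun y hy => ?_⟩
    obtain ⟨y, hym⟩ := y
    obtain ⟨x, hx, rfl⟩ := heC.ge hym
    have hv := apply_mem_S C hφ₀ ⟨x, hx⟩
    have h1 : (⟨_, hy⟩ : imageAlong ι T) =
        ⟨ι ⟨φ₀ ⟨x, hx⟩, hTS hv⟩, apply_mem_imageAlong (x := ⟨_, hTS hv⟩) hv⟩ :=
      Subtype.ext (h0e ⟨x, hx⟩ x.2 hv _)
    rw [h1, hαe ⟨_, hv⟩]
    exact (hφe ⟨x, hx⟩ (hTS x.2) (apply_mem_S F hφ _) hym).trans
      (congrArg ι (Subtype.ext (h0 ⟨x, hx⟩ hv)))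

theorem Transported.centralizerIn_image (h : Transported F F' ι) (hTS : T ≤ S) :
    centralizerIn S' (imageAlong ι T) = imageAlong ι (centralizerIn S T) := by
  ext y
  constructor
  · rintro ⟨hy, hc⟩
    obtain ⟨x, rfl⟩ := h.range_eq.ge hy
    refine apply_mem_imageAlong ⟨x.2, fun t ht => ?_⟩
    have h1 := hc (ι ⟨t, hTS ht⟩) (apply_mem_imageAlong ht)
    rw [← map_mul, ← map_mul] at h1
    exact congrArg Subtype.val (h.inj h1)
  · rintro ⟨x, hx, rfl⟩
    refine ⟨h.range_eq.le ⟨x, rfl⟩, ?_⟩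
    rintro _ ⟨t, ht, rfl⟩
    rw [← map_mul, ← map_mul]
    exact congrArg ι (Subtype.ext (hx.2 t ht))

variable {p : ℕ} [Fact p.Prime]

theorem Transported.isSaturated_push [Finite S] (hS : IsPGroup p S) (h : Transported F F' ι)
    (hF : F.IsSaturated p) : F'.IsSaturated p := by
  have := h.finite
  exact h.symm.isSaturated (h.isPGroup hS) hF

theorem Transported.isNormalIn [Finite S] (hS : IsPGroup p S) (h : Transported F F' ι)
    (hTS : T ≤ S) (hC : Transported C C' (ι.comp (Subgroup.inclusion hTS)))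
    (hCF : C.IsNormalIn F p) : C'.IsNormalIn F' p := by
  obtain ⟨⟨hCs, hF, hinv⟩, hext⟩ := hCF
  have := finite_of_le hTS
  refine ⟨⟨hC.isSaturated_push (hS.to_le hTS) hCs, h.isSaturated_push hS hF,
    h.isInvariantIn hTS hC hinv⟩, ?_⟩
  obtain rfl := Transported.range_subsystem hTS hC
  intro α' hα'
  obtain ⟨α, hα, -, hαe⟩ := hC.exists_aut le_rfl
    (imageAlong_comp_inclusion hTS le_rfl) hα'
  obtain ⟨β, hβ, hβT, hβC⟩ := hext α hα
  have hMS : T ⊔ centralizerIn S T ≤ S := sup_le hTS (centralizerIn_le T)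
  have heM : imageAlong ι (T ⊔ centralizerIn S T) =
      imageAlong ι T ⊔ centralizerIn S' (imageAlong ι T) := by
    rw [imageAlong_sup hTS (centralizerIn_le T), h.centralizerIn_image hTS]
  obtain ⟨β', hβ', hβe⟩ := h.exists_aut_push hMS heM hβ
  refine ⟨β', hβ', fun y => ?_, fun c hc => ?_⟩
  · obtain ⟨y, hym⟩ := y
    obtain ⟨x, hx, rfl⟩ := id hym
    refine (hβe (Subgroup.inclusion le_sup_left ⟨(x : Ω), hx⟩) _).trans ?_
    refine Eq.trans ?_ (hαe ⟨(x : Ω), hx⟩ _).symm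
    exact congrArg ι (Subtype.ext (hβT ⟨(x : Ω), hx⟩))
  · obtain ⟨c, hcm⟩ := c
    obtain ⟨x, hx, rfl⟩ := (h.centralizerIn_image hTS).le hc
    have h1 := hβe (Subgroup.inclusion le_sup_right ⟨(x : Ω), hx⟩) hcm
    have h2 := hβC (Subgroup.inclusion le_sup_right ⟨(x : Ω), hx⟩) hx
    change (ι x)⁻¹ * (β' ⟨ι x, hcm⟩ : Ω') ∈ _
    rw [show (β' ⟨ι x, hcm⟩ : Ω') = _ from h1]
    change (ι x)⁻¹ * ι _ ∈ _
    rw [← map_inv, ← map_mul]
    refine ⟨apply_mem_imageAlong h2.1, ?_⟩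
    rintro _ ⟨t, ht, rfl⟩
    rw [← map_mul, ← map_mul]
    exact congrArg ι (Subtype.ext (h2.2 t ht))

omit [Fact p.Prime] in
theorem Transported.hyperfocalSubgroup_le (h : Transported F F' ι) :
    F'.hyperfocalSubgroup p ≤ imageAlong ι (F.hyperfocalSubgroup p) := by
  refine (Subgroup.closure_le _).2 ?_
  rintro _ ⟨P', α', y, hP', hα', rfl⟩
  let A : Subgroup (MulAut P') :=
    { carrier := {β | ∀ z : P', (z : Ω')⁻¹ * (β z : Ω') ∈ imageAlong ι (F.hyperfocalSubgroup p)}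
      one_mem' := fun z => by simp
      mul_mem' := fun {a b} ha hb z => by
        have h1 := mul_mem (hb z) (ha (b z))
        simpa [mul_assoc] using h1
      inv_mem' := fun {a} ha z => by
        have h1 := inv_mem (ha (a⁻¹ z))
        simpa using h1 }
  suffices hA : (α' : MulAut P') ∈ A from hA y
  refine (Subgroup.closure_le (A.subgroupOf (F'.autGroup P'))).2 ?_ hα'
  intro b hb z
  have hP := h.imageAlong_inv_le P'
  have he := h.imageAlong_inv hP'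
  obtain ⟨α, hα, hord, hαe⟩ := h.exists_aut hP he b.2
  obtain ⟨z, hzm⟩ := z
  obtain ⟨x, hx, rfl⟩ := he.ge hzm
  change (ι x)⁻¹ * ((b : MulAut P') ⟨ι x, hzm⟩ : Ω') ∈ _
  rw [show ((b : MulAut P') ⟨ι x, hzm⟩ : Ω') = _ from hαe ⟨(x : Ω), hx⟩ hzm]
  rw [← map_inv, ← map_mul]
  refine apply_mem_imageAlong (Subgroup.subset_closure
    ⟨imageAlong h.inv P', ⟨α, hα⟩, ⟨(x : Ω), hx⟩, hP, Subgroup.subset_closure ?_, rfl⟩)
  change (orderOf (⟨α, hα⟩ : F.autGroup _)).Coprime p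
  rw [Subgroup.orderOf_mk, hord, Subgroup.orderOf_coe]
  exact hb

theorem Transported.hyperfocalSubgroup_eq (h : Transported F F' ι) :
    F'.hyperfocalSubgroup p = imageAlong ι (F.hyperfocalSubgroup p) := by
  refine le_antisymm h.hyperfocalSubgroup_le ?_
  have h1 : ∀ {X : Subgroup Ω'}, X ≤ S' → imageAlong ι (imageAlong h.inv X) = X :=
    fun hX => h.imageAlong_inv hX
  calc imageAlong ι (F.hyperfocalSubgroup p)
      ≤ imageAlong ι (imageAlong h.inv (F'.hyperfocalSubgroup p)) :=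
        imageAlong_mono h.symm.hyperfocalSubgroup_le
    _ = F'.hyperfocalSubgroup p := h1 (CfsgLib.Fusion.hyperfocalSubgroup_le p)

omit [Fact p.Prime] in
theorem Transported.isCentral (h : Transported F F' ι) {Q : Subgroup Ω} (hQ : F.IsCentral Q) :
    F'.IsCentral (imageAlong ι Q) := by
  refine ⟨h.imageAlong_le Q, fun P' φ' hφ' => ?_⟩
  have hP' := le_S F' hφ'
  have hP := h.imageAlong_inv_le P'
  have he := h.imageAlong_inv hP'
  obtain ⟨φ, hφ, hφe⟩ := h.pullHom hP he hφ'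
  obtain ⟨ψ, hψ, hψe, hψQ⟩ := hQ.2 _ φ hφ
  obtain ⟨ψ', hψ', hψ'e⟩ := h.push (P' := P' ⊔ imageAlong ι Q)
    ((imageAlong_sup hP hQ.1).trans (congrArg (· ⊔ imageAlong ι Q) he)) hψ
  refine ⟨ψ', hψ', fun y => ?_, fun y => ?_⟩
  · obtain ⟨y, hym⟩ := y
    obtain ⟨x, hx, rfl⟩ := he.ge hym
    rw [hφe ⟨(x : Ω), hx⟩ x.2 (apply_mem_S F hφ _)]
    refine (hψ'e (Subgroup.inclusion le_sup_left ⟨(x : Ω), hx⟩) x.2 (apply_mem_S F hψ _) _).trans ?_
    exact congrArg ι (Subtype.ext (hψe _))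
  · obtain ⟨y, hym⟩ := y
    obtain ⟨x, hx, rfl⟩ := id hym
    refine (hψ'e (Subgroup.inclusion le_sup_right ⟨(x : Ω), hx⟩) x.2 (apply_mem_S F hψ _) _).trans ?_
    exact congrArg ι (Subtype.ext (hψQ ⟨(x : Ω), hx⟩))

omit [Fact p.Prime] in
theorem Transported.center_eq [Finite S] (h : Transported F F' ι) :
    F'.center = imageAlong ι F.center := by
  have := h.finite
  refine le_antisymm ?_ (le_sSup (h.isCentral isCentral_center))
  have h1 : imageAlong h.inv F'.center ≤ F.center := le_sSup (h.symm.isCentral isCentral_center)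
  calc F'.center = imageAlong ι (imageAlong h.inv F'.center) :=
        (h.imageAlong_inv (isCentral_center (F := F')).1).symm
    _ ≤ imageAlong ι F.center := imageAlong_mono h1

theorem Transported.isSimple [Finite S] (hS : IsPGroup p S) (h : Transported F F' ι)
    (hF : F.IsSimple p) : F'.IsSimple p := by
  obtain ⟨hFs, hne, hsimp⟩ := hF
  have := h.finite
  refine ⟨h.isSaturated_push hS hFs, fun hbot => hne ?_, fun U' D' hD' => ?_⟩
  · refine (Subgroup.eq_bot_iff_forall _).2 fun x hx => ?_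
    have h1 : ι ⟨x, hx⟩ ∈ S' := h.range_eq.le ⟨_, rfl⟩
    rw [hbot, Subgroup.mem_bot, ← map_one ι] at h1
    exact congrArg Subtype.val (h.inj h1)
  have hU' := hD'.1.2.2.2.1.1
  obtain ⟨D, hD⟩ := exists_transported_image (κ := h.inv.comp (Subgroup.inclusion hU'))
    (U := imageAlong h.inv U') (h.inv_injective.comp (Subgroup.inclusion_injective hU'))
    (range_comp_inclusion_eq_imageAlong hU') D'
  rcases hsimp _ D (h.symm.isNormalIn (h.isPGroup hS) hU' hD hD') with hb | ⟨hUS, hhom⟩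
  · left
    rw [← h.imageAlong_inv hU', hb]
    exact (Subgroup.map_eq_bot_iff _).2 (by simp)
  right
  have hUS' : U' = S' := by
    refine le_antisymm hU' ?_
    rw [← h.imageAlong_inv hU', hUS]
    intro y hy
    obtain ⟨x, rfl⟩ := h.range_eq.ge hy
    exact apply_mem_imageAlong x.2
  refine ⟨hUS', fun P' => Set.Subset.antisymm (hD'.1.2.2.1 P') fun φ' hφ' => ?_⟩
  have hP' := le_S F' hφ'
  obtain ⟨φ, hφ, hφe⟩ := h.symm.push (P := P') rfl hφ'
  obtain ⟨ψ, hψ, hψe⟩ := hD.pullHom (hP'.trans hUS'.ge)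
    (imageAlong_comp_inclusion hU' (hP'.trans hUS'.ge)) ((hhom _).ge hφ)
  suffices φ' = ψ by rw [this]; exact hψ
  refine MonoidHom.ext fun y => ?_
  have hy : h.inv ⟨y, hP' y.2⟩ ∈ imageAlong h.inv P' := apply_mem_imageAlong y.2
  have h1 := hψe y (hUS'.ge (hP' y.2)) (apply_mem_S D' hψ y) hy
  have h2 := hφe y (hP' y.2) (apply_mem_S F' hφ' y) hy
  have h3 := h.inv_injective (h2.symm.trans h1)
  exact congrArg Subtype.val h3

theorem Transported.quasisimple [Finite S] (hS : IsPGroup p S) (h : Transported F F' ι)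
    (hF : F.Quasisimple p) : F'.Quasisimple p := by
  obtain ⟨hFs, hhyp, hsimp⟩ := hF
  have := h.finite
  refine ⟨h.isSaturated_push hS hFs, ?_, fun E' hE' => ?_⟩
  · rw [h.hyperfocalSubgroup_eq, hhyp]
    refine le_antisymm (h.imageAlong_le S) fun y hy => ?_
    obtain ⟨x, rfl⟩ := h.range_eq.ge hy
    exact apply_mem_imageAlong x.2
  -- the isomorphism of the quotients by the centres
  have hZ := h.center_eq
  let ι₀ : S →* S' := ι.codRestrict S' fun x => h.range_eq.le ⟨x, rfl⟩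
  have hcom : F.center.subgroupOf S ≤ (F'.center.subgroupOf S').comap ι₀ := fun x hx =>
    hZ.ge (apply_mem_imageAlong hx)
  let θ := QuotientGroup.mk' (F.center.subgroupOf S)
  let θ' := QuotientGroup.mk' (F'.center.subgroupOf S')
  let κ₀ : (S ⧸ F.center.subgroupOf S) →* (S' ⧸ F'.center.subgroupOf S') :=
    QuotientGroup.map _ _ ι₀ hcom
  have hκ : ∀ x : S, κ₀ (θ x) = θ' (ι₀ x) := fun x => rfl
  let κ : ↥(⊤ : Subgroup (S ⧸ F.center.subgroupOf S)) →* (S' ⧸ F'.center.subgroupOf S') :=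
    κ₀.comp (Subgroup.subtype _)
  have hκi : Function.Injective κ := by
    intro a b hab
    obtain ⟨x, hx⟩ := QuotientGroup.mk'_surjective (F.center.subgroupOf S) (a⁻¹ * b : ↥(⊤ : Subgroup _))
    have h1 : κ (a⁻¹ * b) = 1 := by rw [map_mul, map_inv, hab, inv_mul_cancel]
    change κ₀ _ = 1 at h1
    rw [show (⊤ : Subgroup (S ⧸ F.center.subgroupOf S)).subtype (a⁻¹ * b) = θ x from hx.symm,
      hκ] at h1
    have h2 := (QuotientGroup.eq_one_iff _).1 h1
    have h3 : (x : Ω) ∈ F.center :=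
      (mem_imageAlong_apply_iff h.inj).1 (hZ.le h2)
    refine inv_mul_eq_one.1 (Subtype.ext (hx.symm.trans ?_))
    exact (QuotientGroup.eq_one_iff x).2 h3
  have hκr : κ.range = ⊤ := by
    refine eq_top_iff.2 fun q _ => ?_
    obtain ⟨y, rfl⟩ := QuotientGroup.mk'_surjective (F'.center.subgroupOf S') q
    obtain ⟨x, hx⟩ := h.exists_preimage y
    refine ⟨⟨θ x, trivial⟩, ?_⟩
    change κ₀ (θ x) = _
    rw [hκ, show ι₀ x = y from Subtype.ext hx]
  have htr := transported_pullSys E' κ hκi hκr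
  refine htr.isSimple ?_ (hsimp _ ⟨(isCentral_center (F := F)).1,
    fun x => (QuotientGroup.eq_one_iff x), MonoidHom.range_eq_top.2 (QuotientGroup.mk'_surjective _),
    fun P φ => ?_⟩)
  · exact hS.of_surjective (θ.codRestrict ⊤ fun _ => trivial) fun q => by
      obtain ⟨x, hx⟩ := QuotientGroup.mk'_surjective (F.center.subgroupOf S) (q : S ⧸ _)
      exact ⟨x, Subtype.ext hx⟩
  have hpre : imageAlong ι (preimageAlong θ P) = preimageAlong θ' (imageAlong κ P) := by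
    ext y
    constructor
    · rintro ⟨x, ⟨z, hz, hzx⟩, rfl⟩
      obtain rfl := Subtype.ext hzx
      exact ⟨ι₀ z, ⟨⟨θ z, trivial⟩, hz, hκ z⟩, rfl⟩
    · rintro ⟨z, ⟨q, hq, hqz⟩, rfl⟩
      obtain ⟨x, hx⟩ := QuotientGroup.mk'_surjective (F.center.subgroupOf S) (q : S ⧸ _)
      have h1 : θ' (ι₀ x) = θ' z := by
        rw [← hκ, ← hqz]
        exact congrArg κ₀ hx
      replace h1 := QuotientGroup.eq.1 h1
      obtain ⟨c, hc, hcx⟩ := hZ.le (show ((ι₀ x)⁻¹ * z : S').1 ∈ F'.center from h1)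
      refine ⟨x * c, ⟨x * c, ?_, rfl⟩, ?_⟩
      · change θ (x * c) ∈ P
        rw [map_mul, show θ c = 1 from (QuotientGroup.eq_one_iff c).2 hc, mul_one]
        exact hx ▸ hq
      · rw [map_mul, hcx]
        change ι x * ((ι x)⁻¹ * (z : Ω')) = _
        rw [mul_inv_cancel_left]
        rfl
  have hpS : preimageAlong θ P ≤ S := by rintro _ ⟨x, -, rfl⟩; exact x.2
  constructor
  · rintro ⟨hP, hφ, ψ, hψ, hψe⟩
    obtain ⟨-, φ', hφ', hP'', hφ'S, hP''', hind⟩ := (hE'.2.2.2 _ _).1 hψ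
    obtain ⟨χ, hχ, hχe⟩ := h.pullHom hpS hpre hφ'
    refine ⟨le_top, χ, hχ, hpS, apply_mem_S F hχ, fun x => (mem_preimageAlong (s := ⟨(x : Ω), hpS x.2⟩)).1 x.2, fun x => ?_⟩
    have hxm : (θ ⟨x, hpS x.2⟩) ∈ P := (mem_preimageAlong (s := ⟨(x : Ω), hpS x.2⟩)).1 x.2
    have h1 := hχe x (hpS x.2) (apply_mem_S F hχ x) (hpre.le (apply_mem_imageAlong x.2))
    have h2 := hind ⟨ι ⟨x, hpS x.2⟩, hpre.le (apply_mem_imageAlong x.2)⟩
    have h3 := hψe ⟨θ ⟨x, hpS x.2⟩, hxm⟩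
    have h4 : κ ⟨φ ⟨θ ⟨x, hpS x.2⟩, hxm⟩, hφ _⟩ = κ ⟨θ ⟨χ x, apply_mem_S F hχ x⟩, trivial⟩ := by
      rw [← h3]
      refine Eq.trans ?_ (h2.trans (congrArg θ' (Subtype.ext h1)))
      exact congrArg ψ (Subtype.ext rfl)
    exact congrArg Subtype.val (hκi h4)
  · rintro ⟨-, χ, hχ, hP, hχS, hP₂, hind⟩
    obtain ⟨φ', hφ', hφ'e⟩ := h.push hpre hχ
    have hPS' : imageAlong κ P ≤ ⊤ := le_top
    refine ⟨le_top, fun _ => trivial, ?_⟩
    let e := imageEquiv hκi (le_top : P ≤ ⊤)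
    let ψ : imageAlong κ P →* (S' ⧸ F'.center.subgroupOf S') :=
      (κ.comp (φ.codRestrict ⊤ fun _ => trivial)).comp e.symm.toMonoidHom
    have hψe : ∀ x : P, ψ (e x) = κ ⟨φ x, trivial⟩ := fun x =>
      congrArg (fun z => κ ⟨φ z, trivial⟩) (e.symm_apply_apply x)
    refine ⟨ψ, (hE'.2.2.2 _ _).2 ⟨le_top, φ', hφ', ?_⟩, fun x => hψe x⟩
    have hp' : preimageAlong θ' (imageAlong κ P) ≤ S' := by rintro _ ⟨x, -, rfl⟩; exact x.2
    refine ⟨hp', apply_mem_S F' hφ', fun y => (mem_preimageAlong (s := ⟨(y : Ω'), hp' y.2⟩)).1 y.2, fun y => ?_⟩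
    obtain ⟨y, hym⟩ := y
    obtain ⟨x, hx, rfl⟩ := hpre.ge hym
    have hxm : θ x ∈ P := mem_preimageAlong.1 hx
    have h1 := hφ'e ⟨(x : Ω), hx⟩ x.2 (hχS _) hym
    refine Eq.trans (congrArg ψ (Subtype.ext rfl : _ = e ⟨θ x, hxm⟩)) ((hψe _).trans ?_)
    refine Eq.trans (congrArg κ (show (_ : ↥(⊤ : Subgroup (S ⧸ F.center.subgroupOf S))) =
      ⟨θ ⟨χ ⟨(x : Ω), hx⟩, hχS _⟩, trivial⟩ from Subtype.ext (hind ⟨(x : Ω), hx⟩))) ?_
    exact congrArg θ' (Subtype.ext h1.symm)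

omit [Fact p.Prime] in
theorem Transported.isSubnormalIn {E : FusionSystem T} (hsub : E.IsSubnormalIn F p) (hfin : Finite S)
    (hp : p.Prime) (hS : IsPGroup p S) (h : Transported F F' ι) :
    ∃ hTS : T ≤ S, ∀ {T' : Subgroup Ω'} (E' : FusionSystem T'),
      Transported E E' (ι.comp (Subgroup.inclusion hTS)) → E'.IsSubnormalIn F' p := by
  induction hsub generalizing S' F' with
  | refl F p =>
    refine ⟨le_rfl, fun {T'} E' hE' => ?_⟩
    obtain rfl : T' = _ := hE'.range_eq.symm.trans h.range_eq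
    suffices E' = F' by rw [this]; exact IsSubnormalIn.refl _ _
    have key : ∀ {E₁ E₂ : FusionSystem T'}, Transported F E₁ ι → Transported F E₂ ι →
        E₁.IsSubsystemOf E₂ := fun h₁ h₂ P' φ' hφ' => by
      obtain ⟨φ, hφ, hφe⟩ := h₁.pullHom (h₁.imageAlong_inv_le P')
        (h₁.imageAlong_inv (le_S _ hφ')) hφ'
      obtain ⟨χ, hχ, hχe⟩ := h₂.push (h₁.imageAlong_inv (le_S _ hφ')) hφ
      suffices φ' = χ by rw [this]; exact hχ
      refine hom_ext_imageAlong (h₁.imageAlong_inv (le_S _ hφ')) fun x hx hx' => ?_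
      rw [hφe x hx (apply_mem_S _ hφ x) hx', hχe x hx (apply_mem_S _ hφ x) hx']
    exact ext_hom fun P => Set.Subset.antisymm (key hE' h P) (key h hE' P)
  | @step U S E D F p hED hDF ih =>
    have hUS := hDF.1.2.2.2.1.1
    have := finite_of_le hUS
    have := Fact.mk hp
    obtain ⟨D', hD'⟩ := exists_transported_image (κ := ι.comp (Subgroup.inclusion hUS))
      (h.inj.comp (Subgroup.inclusion_injective hUS)) (range_comp_inclusion_eq_imageAlong hUS) D
    obtain ⟨hTU, hih⟩ := ih inferInstance hp (hS.to_le hUS) hD'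
    refine ⟨hTU.trans hUS, fun {T'} E' hE' => ?_⟩
    exact IsSubnormalIn.step (hih E' hE') (h.isNormalIn hS hUS hD' hDF)

/-- Components go to components. -/
theorem Transported.isComponentIn [Finite S] (hS : IsPGroup p S) (h : Transported F F' ι)
    (hTS : T ≤ S) (hC : Transported C C' (ι.comp (Subgroup.inclusion hTS)))
    (hcomp : C.IsComponentIn F p) : C'.IsComponentIn F' p := by
  have := finite_of_le hTS
  exact ⟨(Transported.isSubnormalIn hcomp.1 inferInstance (Fact.out : p.Prime) hS h).2 C' hC,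
    hC.quasisimple (hS.to_le hTS) hcomp.2⟩

end CfsgLib.Fusion
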