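import Cfsg.Agent.Lib.Fusion.CenterIndexPSq

/-!
# p-groups with a unique abelian subgroup of index p
-/

set_option autoImplicit false

open Cfsg Cfsg.FusionSystem
open scoped commutatorElement

namespace CfsgLib.Fusion.UniqueAbelian

open CenterIndexPSq (zed zed_comm)

variable {Ω : Type*} [Group Ω]

/-- `A` is an abelian subgroup of index `p` of the nonabelian group `S`, and the only one. -/
structure Setting (S A : Subgroup Ω) (p : ℕ) : Prop where
  le : A ≤ S
  comm : ∀ a ∈ A, ∀ b ∈ A, a * b = b * a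
  idx : A.relIndex S = p
  na : ¬ ∀ a ∈ S, ∀ b ∈ S, a * b = b * a
  uniq : ∀ B : Subgroup Ω, B ≤ S → (∀ a ∈ B, ∀ b ∈ B, a * b = b * a) → B.relIndex S = p → B = A

variable {S A : Subgroup Ω} [Finite S] {p : ℕ} [Fact p.Prime]

theorem eq_of_lt_of_relIndex {B H : Subgroup Ω} (hlt : B < H) (hH : H ≤ S)
    (hB : B.relIndex S = p) : H = S := by
  have hp : p.Prime := Fact.out
  have h1 := Subgroup.relIndex_mul_relIndex _ _ _ hlt.le hH
  rw [hB] at h1
  rcases (Nat.dvd_prime hp).1 (Dvd.intro _ h1 : B.relIndex H ∣ p) with e | e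
  · exact absurd (Subgroup.relIndex_eq_one.1 e) hlt.not_ge
  · rw [e] at h1
    exact le_antisymm hH (Subgroup.relIndex_eq_one.1
      (Nat.eq_of_mul_eq_mul_left hp.pos (h1.trans (mul_one p).symm)))

theorem relIndex_eq_prime {B H : Subgroup Ω} (hS : IsPGroup p S) (hH : H ≤ S)
    (hne : ¬ H ≤ B) (hle : B.relIndex H ≤ p) : B.relIndex H = p := by
  have hp : p.Prime := Fact.out
  have := finite_of_le hH
  obtain ⟨e, he⟩ := (hS.to_le hH).exists_card_eq
  obtain ⟨j, -, hj⟩ := (Nat.dvd_prime_pow hp).1 (he ▸ Subgroup.relIndex_dvd_card B H)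
  rcases j with _ | _ | j
  · exact absurd (Subgroup.relIndex_eq_one.1 (by rw [hj, pow_zero])) hne
  · rw [hj, zero_add, pow_one]
  · exfalso
    rw [hj] at hle
    have h2 : p ^ 2 ≤ p ^ (j + 1 + 1) := Nat.pow_le_pow_right hp.pos (by omega)
    have h3 := hp.two_le
    nlinarith

variable (hS : IsPGroup p S) (st : Setting S A p)

include hS st in
theorem Setting.le_normalizer : S ≤ Subgroup.normalizer (A : Set Ω) := by
  have hlt : A < S := lt_of_le_of_ne st.le fun e => by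
    have h := st.idx
    rw [e, Subgroup.relIndex_self] at h
    exact (Fact.out : p.Prime).one_lt.ne h
  exact (eq_of_lt_of_relIndex (lt_normalizerIn hS hlt) (normalizerIn_le A) st.idx).ge.trans
    inf_le_right

include hS st in
theorem Setting.conj_mem {s a : Ω} (hs : s ∈ S) (ha : a ∈ A) : s * a * s⁻¹ ∈ A :=
  conj_mem_of_mem_normalizer (st.le_normalizer hS hs) ha

include st in
theorem Setting.gen {y : Ω} (hy : y ∈ S) (hyA : y ∉ A) : A ⊔ Subgroup.zpowers y = S :=
  eq_of_lt_of_relIndex (lt_of_le_not_ge le_sup_left fun e =>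
    hyA (e (Subgroup.mem_sup_right (Subgroup.mem_zpowers y))))
    (sup_le st.le (Subgroup.zpowers_le.2 hy)) st.idx

include hS st in
/-- Every element is `a * y ^ i`. -/
theorem Setting.decomp {y s : Ω} (hy : y ∈ S) (hyA : y ∉ A) (hs : s ∈ S) :
    ∃ a ∈ A, ∃ i : ℤ, s = a * y ^ i := by
  have hn : Subgroup.zpowers y ≤ Subgroup.normalizer (A : Set Ω) :=
    Subgroup.zpowers_le.2 (st.le_normalizer hS hy)
  have h1 : s ∈ A ⊔ Subgroup.zpowers y := (st.gen hy hyA).ge hs
  rw [← SetLike.mem_coe, Subgroup.coe_mul_of_right_le_normalizer_left _ _ hn] at h1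
  obtain ⟨a, ha, _, ⟨i, rfl⟩, rfl⟩ := h1
  exact ⟨a, ha, i, rfl⟩

include st in
/-- A subgroup generated by `A` and an element commuting with it is `A`. -/
theorem Setting.mem_of_commute {z : Ω} (hz : z ∈ S) (h : ∀ a ∈ A, z * a = a * z) : z ∈ A := by
  by_contra hzA
  refine st.na fun a ha b hb => ?_
  have hgen := st.gen hz hzA
  have hle : S ≤ Subgroup.centralizer (S : Set Ω) := by
    rw [← hgen]
    refine sup_le (fun u hu => ?_) (Subgroup.zpowers_le.2 ?_)
    · rw [Subgroup.mem_centralizer_iff]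
      intro g hg
      suffices hh : A ⊔ Subgroup.zpowers z ≤ Subgroup.centralizer ({u} : Set Ω) from
        Subgroup.mem_centralizer_singleton_iff.1 (hh hg)
      refine sup_le (fun v hv => ?_) (Subgroup.zpowers_le.2 ?_)
      · exact Subgroup.mem_centralizer_singleton_iff.2 (st.comm v hv u hu)
      · exact Subgroup.mem_centralizer_singleton_iff.2 (h u hu)
    · rw [Subgroup.mem_centralizer_iff]
      intro g hg
      suffices hh : A ⊔ Subgroup.zpowers z ≤ Subgroup.centralizer ({z} : Set Ω) from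
        Subgroup.mem_centralizer_singleton_iff.1 (hh hg)
      refine sup_le (fun v hv => ?_) (Subgroup.zpowers_le.2 ?_)
      · exact Subgroup.mem_centralizer_singleton_iff.2 (h v hv).symm
      · exact Subgroup.mem_centralizer_singleton_iff.2 rfl
  exact (Subgroup.mem_centralizer_iff.1 (hle ha) b hb).symm

include st in
theorem Setting.zed_le : zed S ≤ A := fun _ hz =>
  st.mem_of_commute hz.1 fun a ha => (zed_comm hz (st.le ha)).symm

include hS st in
/-- An element of `A` is central when it commutes with one element outside `A`. -/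
theorem Setting.mem_zed {y a : Ω} (hy : y ∈ S) (hyA : y ∉ A) (ha : a ∈ A)
    (h : Commute y a) : a ∈ zed S := by
  refine ⟨st.le ha, Subgroup.mem_centralizer_iff.2 fun s hs => ?_⟩
  obtain ⟨b, hb, i, rfl⟩ := st.decomp hS hy hyA hs
  exact ((Commute.mul_left (show Commute b a from st.comm b hb a ha) (h.zpow_left i))).eq

omit [Fact p.Prime] in
theorem conj_eq_of_mem_zed {y z : Ω} (hy : y ∈ S) (hz : z ∈ zed S) : y * z * y⁻¹ = z := by
  rw [zed_comm hz hy, mul_inv_cancel_right]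

/-- The second centre of `S` inside the ambient group. -/
def sec (S : Subgroup Ω) : Subgroup Ω := (Subgroup.upperCentralSeries ↥S 2).map S.subtype

theorem mem_sec {y : Ω} : y ∈ sec S ↔ y ∈ S ∧ ∀ s ∈ S, ⁅y, s⁆ ∈ zed S := by
  constructor
  · rintro ⟨w, hw, rfl⟩
    refine ⟨w.2, fun s hs => ?_⟩
    rw [SetLike.mem_coe, Subgroup.mem_upperCentralSeries_succ_iff] at hw
    have h1 := hw ⟨s, hs⟩
    rw [Subgroup.upperCentralSeries_one] at h1
    rw [← CenterIndexPSq.map_center]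
    exact ⟨_, h1, by simp [commutatorElement_def]⟩
  · rintro ⟨hyS, h⟩
    refine ⟨⟨y, hyS⟩, ?_, rfl⟩
    rw [SetLike.mem_coe, Subgroup.mem_upperCentralSeries_succ_iff]
    intro s
    rw [Subgroup.upperCentralSeries_one]
    have h1 := h s s.2
    rw [← CenterIndexPSq.map_center] at h1
    obtain ⟨w, hw, hwe⟩ := h1
    have e : w = ⁅(⟨y, hyS⟩ : S), s⁆ := Subtype.ext (hwe.trans (by simp [commutatorElement_def]))
    exact e ▸ hw

/-- The commutator map with `x`, on `A`. -/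
def bracket (hS : IsPGroup p S) (st : Setting S A p) {x : Ω} (hx : x ∈ S) : ↥A →* ↥A where
  toFun a := ⟨⁅x, (a : Ω)⁆, by
    rw [commutatorElement_def]
    exact A.mul_mem (st.conj_mem hS hx a.2) (A.inv_mem a.2)⟩
  map_one' := by ext; simp
  map_mul' a b := by
    refine Subtype.ext ?_
    show ⁅x, (a : Ω) * b⁆ = ⁅x, (a : Ω)⁆ * ⁅x, (b : Ω)⁆
    have h : (a : Ω)⁻¹ * (x * b * x⁻¹) = (x * b * x⁻¹) * (a : Ω)⁻¹ :=
      st.comm _ (A.inv_mem a.2) _ (st.conj_mem hS hx b.2)
    have h2 : (b : Ω)⁻¹ * (a : Ω)⁻¹ = (a : Ω)⁻¹ * (b : Ω)⁻¹ :=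
      st.comm _ (A.inv_mem b.2) _ (A.inv_mem a.2)
    calc ⁅x, (a : Ω) * b⁆ = x * a * x⁻¹ * (x * b * x⁻¹) * ((b : Ω)⁻¹ * (a : Ω)⁻¹) := by
          rw [commutatorElement_def]; group
      _ = x * a * x⁻¹ * ((x * b * x⁻¹) * (a : Ω)⁻¹) * (b : Ω)⁻¹ := by rw [h2]; group
      _ = _ := by rw [← h, commutatorElement_def, commutatorElement_def]; group

/-- The elements of `A` that commute with `x` into `W`. -/
def pre (hS : IsPGroup p S) (st : Setting S A p) {x : Ω} (hx : x ∈ S) (W : Subgroup Ω) :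
    Subgroup Ω := ((W.subgroupOf A).comap (bracket hS st hx)).map A.subtype

variable {x : Ω} (hx : x ∈ S) (hxA : x ∉ A)

theorem mem_pre {W : Subgroup Ω} {a : Ω} : a ∈ pre hS st hx W ↔ a ∈ A ∧ ⁅x, a⁆ ∈ W := by
  constructor
  · rintro ⟨b, hb, rfl⟩
    exact ⟨b.2, hb⟩
  · rintro ⟨ha, h⟩
    exact ⟨⟨a, ha⟩, h, rfl⟩

/-- The commutators with `x`. -/
def imgR (hS : IsPGroup p S) (st : Setting S A p) {x : Ω} (hx : x ∈ S) : Subgroup Ω :=
  (bracket hS st hx).range.map A.subtype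

theorem mem_imgR {r : Ω} : r ∈ imgR hS st hx ↔ ∃ a ∈ A, ⁅x, a⁆ = r := by
  constructor
  · rintro ⟨_, ⟨a, rfl⟩, rfl⟩
    exact ⟨a, a.2, rfl⟩
  · rintro ⟨a, ha, rfl⟩
    exact ⟨_, ⟨⟨a, ha⟩, rfl⟩, rfl⟩

theorem imgR_le : imgR hS st hx ≤ A := Subgroup.map_subtype_le _

include hxA in
theorem ker_bracket : (bracket hS st hx).ker = (zed S).subgroupOf A := by
  ext a
  rw [MonoidHom.mem_ker, Subgroup.mem_subgroupOf]
  constructor
  · intro h
    exact st.mem_zed hS hx hxA a.2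
      (commutatorElement_eq_one_iff_mul_comm.1 (congrArg Subtype.val h))
  · intro h
    exact Subtype.ext (commutatorElement_eq_one_iff_mul_comm.2 (zed_comm h hx))

include hxA in
theorem card_pre (W : Subgroup Ω) :
    Nat.card (pre hS st hx W) = Nat.card (zed S) * Nat.card (imgR hS st hx ⊓ W : Subgroup Ω) := by
  have := finite_of_le st.le
  set f := bracket hS st hx
  set D := (W.subgroupOf A).comap f
  have hD : Nat.card (pre hS st hx W) = Nat.card D := Subgroup.card_subtype _ _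
  let g : ↥D →* ↥A := f.comp D.subtype
  have hker : Nat.card g.ker = Nat.card (zed S) := by
    have h1 : g.ker.map D.subtype = (zed S).subgroupOf A := by
      rw [← ker_bracket hS st hx hxA]
      ext a
      constructor
      · rintro ⟨b, hb, rfl⟩; exact hb
      · intro ha
        refine ⟨⟨a, ?_⟩, ha, rfl⟩
        show f a ∈ W.subgroupOf A
        rw [MonoidHom.mem_ker.1 ha]; exact one_mem _
    rw [← Subgroup.card_subtype D g.ker, h1,
      Nat.card_congr (Subgroup.subgroupOfEquivOfLe st.zed_le).toEquiv]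
  have hr : Nat.card g.range = Nat.card (imgR hS st hx ⊓ W : Subgroup Ω) := by
    rw [← Subgroup.card_subtype A g.range]
    congr 2
    ext r
    constructor
    · rintro ⟨_, ⟨⟨a, ha⟩, rfl⟩, rfl⟩
      exact ⟨⟨_, ⟨a, rfl⟩, rfl⟩, ha⟩
    · rintro ⟨⟨_, ⟨a, rfl⟩, rfl⟩, hW⟩
      exact ⟨_, ⟨⟨a, hW⟩, rfl⟩, rfl⟩
  rw [hD, ← g.ker.card_mul_index, Subgroup.index_ker, hker, hr]

include hxA in
theorem card_imgR : Nat.card A = Nat.card (zed S) * Nat.card (imgR hS st hx) := by
  have h1 : pre hS st hx A = A := by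
    ext a
    rw [mem_pre]
    exact ⟨fun h => h.1, fun h => ⟨h, imgR_le hS st hx ((mem_imgR hS st hx).2 ⟨a, h, rfl⟩)⟩⟩
  have h2 := card_pre hS st hx hxA A
  rwa [h1, inf_eq_left.2 (imgR_le hS st hx)] at h2

include hxA in
/-- The commutator subgroup is the set of commutators with `x`. -/
theorem imgR_eq : imgR hS st hx = (commutator ↥S).map S.subtype := by
  have hRS : imgR hS st hx ≤ S := (imgR_le hS st hx).trans st.le
  rw [Subgroup.map_subtype_commutator]
  refine le_antisymm ?_ (Subgroup.commutator_le.2 ?_)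
  · intro r hr
    obtain ⟨a, ha, rfl⟩ := (mem_imgR hS st hx).1 hr
    exact Subgroup.commutator_mem_commutator hx (st.le ha)
  set R := imgR hS st hx
  have hmem : ∀ b ∈ A, ⁅x, b⁆ ∈ R := fun b hb => (mem_imgR hS st hx).2 ⟨b, hb, rfl⟩
  -- powers of `x`
  have hpow : ∀ i : ℤ, ∀ b ∈ A, ⁅x ^ i, b⁆ ∈ R := by
    intro i
    induction i using Int.induction_on with
    | zero => intro b _; rw [zpow_zero, commutatorElement_one_left]; exact one_mem R
    | succ i ih =>
      intro b hb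
      have : ⁅x ^ ((i : ℤ) + 1), b⁆ = ⁅x, x ^ (i : ℤ) * b * (x ^ (i : ℤ))⁻¹⁆ * ⁅x ^ (i : ℤ), b⁆ := by
        simp only [commutatorElement_def]; group
      rw [this]
      exact mul_mem (hmem _ (st.conj_mem hS (zpow_mem hx _) hb)) (ih b hb)
    | pred i ih =>
      intro b hb
      have : ⁅x ^ (-(i : ℤ) - 1), b⁆ =
          ⁅x, x ^ (-(i : ℤ) - 1) * b * (x ^ (-(i : ℤ) - 1))⁻¹⁆⁻¹ * ⁅x ^ (-(i : ℤ)), b⁆ := by
        simp only [commutatorElement_def]; group
      rw [this]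
      exact mul_mem (inv_mem (hmem _ (st.conj_mem hS (zpow_mem hx _) hb))) (ih b hb)
  intro s hs t ht
  obtain ⟨a, ha, i, rfl⟩ := st.decomp hS hx hxA hs
  obtain ⟨b, hb, j, rfl⟩ := st.decomp hS hx hxA ht
  have hu : x ^ i * b * (x ^ i)⁻¹ ∈ A := st.conj_mem hS (zpow_mem hx _) hb
  have hv : x ^ j * a⁻¹ * (x ^ j)⁻¹ ∈ A := st.conj_mem hS (zpow_mem hx _) (A.inv_mem ha)
  have hb' : b⁻¹ ∈ A := A.inv_mem hb
  have e1 : x ^ j * a⁻¹ * (x ^ j)⁻¹ * b⁻¹ = b⁻¹ * (x ^ j * a⁻¹ * (x ^ j)⁻¹) :=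
    st.comm _ hv _ hb'
  have e2 : a * (x ^ i * b * (x ^ i)⁻¹ * b⁻¹) = (x ^ i * b * (x ^ i)⁻¹ * b⁻¹) * a :=
    st.comm _ ha _ (A.mul_mem hu hb')
  have : ⁅a * x ^ i, b * x ^ j⁆ = ⁅x ^ i, b⁆ * ⁅x ^ j, a⁆⁻¹ := by
    calc ⁅a * x ^ i, b * x ^ j⁆
        = a * (x ^ i * b * (x ^ i)⁻¹) * (x ^ j * a⁻¹ * (x ^ j)⁻¹ * b⁻¹) := by
          rw [commutatorElement_def]; group
      _ = (a * (x ^ i * b * (x ^ i)⁻¹ * b⁻¹)) * (x ^ j * a⁻¹ * (x ^ j)⁻¹) := by rw [e1]; group
      _ = _ := by rw [e2, commutatorElement_def, commutatorElement_def]; group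
  rw [this]
  exact mul_mem (hpow i b hb) (inv_mem (hpow j a ha))

include hxA in
/-- The second centre meets `A` in the elements commuting with `x` into the centre. -/
theorem pre_zed_eq : pre hS st hx (zed S) = sec S ⊓ A := by
  ext a
  rw [mem_pre, Subgroup.mem_inf, mem_sec]
  constructor
  · rintro ⟨ha, h⟩
    refine ⟨⟨st.le ha, fun s hs => ?_⟩, ha⟩
    obtain ⟨b, hb, i, rfl⟩ := st.decomp hS hx hxA hs
    have h1 : ⁅a, x⁆ ∈ zed S := by
      rw [← commutatorElement_inv]; exact inv_mem h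
    -- the elements with commutator in the centre form a subgroup
    let T : Subgroup Ω :=
      { carrier := {s | s ∈ S ∧ ⁅a, s⁆ ∈ zed S}
        one_mem' := ⟨one_mem _, by rw [commutatorElement_one_right]; exact one_mem _⟩
        mul_mem' := fun {u v} hu hv => ⟨mul_mem hu.1 hv.1, by
          rw [show ⁅a, u * v⁆ = ⁅a, u⁆ * (u * ⁅a, v⁆ * u⁻¹) by
            simp only [commutatorElement_def]; group, conj_eq_of_mem_zed hu.1 hv.2]
          exact mul_mem hu.2 hv.2⟩
        inv_mem' := fun {u} hu => ⟨inv_mem hu.1, by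
          rw [show ⁅a, u⁻¹⁆ = u⁻¹ * ⁅a, u⁆⁻¹ * u⁻¹⁻¹ by
            simp only [commutatorElement_def]; group,
            conj_eq_of_mem_zed (inv_mem hu.1) (inv_mem hu.2)]
          exact inv_mem hu.2⟩ }
    have hbT : b ∈ T := ⟨st.le hb, by
      rw [commutatorElement_eq_one_iff_mul_comm.2 (st.comm a ha b hb)]; exact one_mem _⟩
    have hxT : x ∈ T := ⟨hx, h1⟩
    exact (T.mul_mem hbT (T.zpow_mem hxT i)).2
  · rintro ⟨⟨-, h⟩, ha⟩
    exact ⟨ha, by rw [← commutatorElement_inv]; exact inv_mem (h x hx)⟩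

end CfsgLib.Fusion.UniqueAbelian
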