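import Cfsg.Agent.Lib.Fusion.UniqueAbelianStructure

/-!
# Core-free systems in which the abelian subgroup of index p is not essential
-/

set_option autoImplicit false

open Cfsg Cfsg.FusionSystem
open scoped commutatorElement

namespace CfsgLib.Fusion.UniqueAbelian

open CenterIndexPSq (zed zed_comm le_core exists_pow_inner aut_zed)

variable {Ω : Type*} [Group Ω] {S A : Subgroup Ω} [Finite S] {p : ℕ} [Fact p.Prime]
  {F : FusionSystem S} (hS : IsPGroup p S) (hF : F.IsSaturated p) (st : Setting S A p)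

/-- `R` is conjugate to a subgroup of an essential subgroup. -/
def InEssential (F : FusionSystem S) (p : ℕ) (R : Subgroup Ω) : Prop :=
  ∃ R' E : Subgroup Ω, F.IsConj R R' ∧ F.IsEssential p E ∧ R' ≤ E

/-- The restrictions of the automorphisms of `S`, and all maps on subgroups inside essentials. -/
def autOrInSys (F : FusionSystem S) (p : ℕ) : FusionSystem S where
  Hom R := {φ | φ ∈ F.Hom R ∧ (InEssential F p R ∨
    ∃ α ∈ F.autGroup S, ∀ (y : R) (h : (y : Ω) ∈ S), φ y = ((α ⟨y, h⟩ : S) : Ω))}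
  le_of_mem := fun h => F.le_of_mem h.1
  injective_of_mem := fun h => F.injective_of_mem h.1
  conj_mem := by
    intro P g hP hg
    refine ⟨F.conj_mem hP hg, Or.inr ⟨normAut g (Subgroup.le_normalizer hg),
      autInducedBy_le_autGroup le_rfl (mem_autInducedBy_iff.2 ⟨g, hg, fun _ => rfl⟩), fun y h => ?_⟩⟩
    simp
  comp_mem := by
    intro P Q φ ψ hφ hψ h
    refine ⟨F.comp_mem hφ.1 hψ.1 h, ?_⟩
    rcases hφ.2 with hin | ⟨α, hα, hαe⟩
    · exact Or.inl hin
    rcases hψ.2 with ⟨R', E, hc, hE, hle⟩ | ⟨β, hβ, hβe⟩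
    · left
      obtain ⟨e, he⟩ := isConj_iff.1 hc
      have hconjP : F.IsConj P φ.range := ⟨φ, hφ.1, rfl⟩
      obtain ⟨f, hf, -⟩ := he.exists_res (R := φ.range) (by
        rintro _ ⟨y, rfl⟩; exact h y)
      refine ⟨_, E, isConj_trans hconjP (isConj_iff.2 ⟨f, hf⟩), hE, ?_⟩
      exact ((img_le_range _ _).trans (range_subtype_comp e).le).trans hle
    · refine Or.inr ⟨β * α, mul_mem hβ hα, fun y hy => ?_⟩
      have h1 := hαe y hy
      refine (hβe ⟨φ y, h y⟩ (by show φ y ∈ S; rw [h1]; exact (α _).2)).trans ?_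
      show ((β _ : S) : Ω) = ((β (α ⟨y, hy⟩) : S) : Ω)
      exact congrArg (fun t : S => ((β t : S) : Ω)) (Subtype.ext h1)
  inv_mem := by
    intro P φ hφ
    obtain ⟨ψ, hψ, hψe⟩ := F.inv_mem hφ.1
    refine ⟨ψ, ⟨hψ, ?_⟩, hψe⟩
    rcases hφ.2 with ⟨R', E, hc, hE, hle⟩ | ⟨α, hα, hαe⟩
    · exact Or.inl ⟨R', E, isConj_trans (isConj_symm ⟨φ, hφ.1, rfl⟩) hc, hE, hle⟩
    · refine Or.inr ⟨α⁻¹, inv_mem hα, ?_⟩
      rintro ⟨_, y, rfl⟩ h
      rw [hψe]
      have e : (⟨φ y, h⟩ : S) = α ⟨y, (F.le_of_mem hφ.1).1 y.2⟩ := Subtype.ext (hαe y _)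
      rw [e, MulAut.inv_apply_self]

include hS hF in
/-- A map on a subgroup that lies in no essential subgroup up to conjugation is induced by an
automorphism of `S`. -/
theorem exists_aut_of_not_inEssential {R : Subgroup Ω} {φ : R →* Ω} (hφ : φ ∈ F.Hom R)
    (hR : ¬ InEssential F p R) :
    ∃ α ∈ F.autGroup S, ∀ (y : R) (h : (y : Ω) ∈ S), φ y = ((α ⟨y, h⟩ : S) : Ω) := by
  have hle : F ≤ autOrInSys F p := by
    refine alperin hS hF _ ?_
    intro P hP α hα
    have hPS : P ≤ S := by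
      rcases hP with rfl | hP
      · exact le_rfl
      · exact hP.1.1
    refine mem_autGroup_of_mem (φ := P.subtype.comp α.toMonoidHom) _
      ⟨(mem_autGroup_iff F hPS).1 hα, ?_⟩ fun _ => rfl
    rcases hP with rfl | hP
    · exact Or.inr ⟨α, hα, fun y h => rfl⟩
    · exact Or.inl ⟨P, P, isConj_refl hPS, hP, le_rfl⟩
  exact (hle R hφ).2.resolve_left hR

include hS st in
theorem sec_conj_mem {s y : Ω} (hs : s ∈ S) (hy : y ∈ sec S) : s * y * s⁻¹ ∈ sec S := by
  obtain ⟨hyS, hyc⟩ := mem_sec.1 hy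
  refine mem_sec.2 ⟨S.mul_mem (S.mul_mem hs hyS) (S.inv_mem hs), fun t ht => ?_⟩
  have h : ⁅s * y * s⁻¹, t⁆ = s * ⁅y, s⁻¹ * t * s⁆ * s⁻¹ := by
    simp only [commutatorElement_def]; group
  rw [h, conj_eq_of_mem_zed hs (hyc _ (S.mul_mem (S.mul_mem (S.inv_mem hs) ht) hs))]
  exact hyc _ (S.mul_mem (S.mul_mem (S.inv_mem hs) ht) hs)

include hS hF st in
theorem card_sec {P : Subgroup Ω} (hP : F.IsEssential p P) (hPA : P ≠ A) :
    Nat.card (sec S) = Nat.card (zed S) * p := by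
  have h := relIndex_zed_sec hS hF st hP hPA
  rw [inf_eq_left.2 (sec_le hS hF st hP hPA)] at h
  obtain ⟨x, hxP, hxA⟩ := exists_notMem st hP hPA
  have hle : zed S ≤ sec S := fun z hz => mem_sec.2 ⟨hz.1, fun s hs => by
    rw [commutatorElement_eq_one_iff_mul_comm.2 (zed_comm hz hs).symm]; exact one_mem _⟩
  rw [card_eq_inf_mul (B := zed S) (H := sec S), inf_eq_left.2 hle, h]

include hS hF st in
/-- The order of a nonabelian essential subgroup. -/
theorem card_le_of_nonabelian {P E : Subgroup Ω} (hP : F.IsEssential p P) (hPA : P ≠ A)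
    (hE : F.IsEssential p E) {u v : Ω} (hu : u ∈ E) (hv : v ∈ E) (huv : u * v ≠ v * u) :
    ∃ y ∈ E, y ∉ A ∧ E ⊓ A = sec S ∧ Nat.card E = Nat.card (sec S) * p := by
  have hEA : E ≠ A := fun e => huv (st.comm u (e ▸ hu) v (e ▸ hv))
  obtain ⟨y, hyE, hyA⟩ := exists_notMem st hE hEA
  refine ⟨y, hyE, hyA, ?_⟩
  rcases eq_sup hS hF st hE hyE hyA with ⟨-, e⟩ | ⟨-, e⟩
  · exact absurd (comm_of_inter_le hS st hE hyE hyA e.le u hu v hv) huv
  · exact ⟨e, by rw [st.card_eq hS hE.1.1 hyE hyA, e]⟩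

variable {P : Subgroup Ω} (hP : F.IsEssential p P) {x : Ω} (hxP : x ∈ P) (hxA : x ∉ A)

include hS hF st hP hxP hxA in
/-- The normalizer of an abelian essential subgroup lies in no essential subgroup. -/
theorem not_inEssential_normalizer_abelian (h0 : P ⊓ A = zed S) :
    ¬ InEssential F p (normalizerIn S P) := by
  classical
  have hp : p.Prime := Fact.out
  have hPA : P ≠ A := fun e => hxA (e ▸ hxP)
  have hPS := hP.1.1
  have hxS := hPS hxP
  have hxN : x ∈ normalizerIn S P := le_normalizerIn hPS hxP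
  have hsecA := sec_le hS hF st hP hPA
  have hcs := card_sec hS hF st hP hPA
  have hNA : normalizerIn S P ⊓ A = sec S := by
    rw [normalizer_inter hS st hP hxP hxA, h0, pre_zed_eq hS st hxS hxA, inf_eq_left.2 hsecA]
  have hfsec : Finite (sec S) := finite_of_le (hsecA.trans st.le)
  have hfz : Finite (zed S) := finite_of_le (inf_le_left : zed S ≤ S)
  rintro ⟨R', E, hc, hE, hle⟩
  obtain ⟨g, hg, hgP⟩ := exists_normalizing hS hF st hP hxP hxA
  have hgx : g * x ≠ x * g := fun e =>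
    hgP (zed_le_ess hP (st.mem_zed hS hxS hxA hg.2 e.symm))
  obtain ⟨e, he⟩ := isConj_iff.1 hc
  have hfE : Finite E := finite_of_le hE.1.1
  obtain ⟨y₀, hy₀E, hy₀A, hEA, hEc⟩ := card_le_of_nonabelian hS hF st hP hPA hE
    (hle (e ⟨g, hg.1⟩).2) (hle (e ⟨x, hxN⟩).2) (by
      intro h
      refine hgx ?_
      have h1 : e (⟨g, hg.1⟩ * ⟨x, hxN⟩) = e (⟨x, hxN⟩ * ⟨g, hg.1⟩) :=
        Subtype.ext (by rw [map_mul, map_mul]; exact h)
      exact congrArg Subtype.val (e.injective h1))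
  have hNc : Nat.card (normalizerIn S P) = Nat.card (sec S) * p := by
    rw [st.card_eq hS (normalizerIn_le P) hxN hxA, hNA]
  have hR : R' = E := Subgroup.eq_of_le_of_card_ge hle (by rw [hEc, ← hNc, card_eq_of_isConj hc])
  subst R'
  -- the image of `P`
  set φ : ↥P →* Ω := (E.subtype.comp e.toMonoidHom).comp (Subgroup.inclusion (le_normalizerIn hPS))
    with hφdef
  have hφ : φ ∈ F.Hom P := res_mem F he (le_normalizerIn hPS)
  set P' := φ.range with hP'
  have hconj : F.IsConj P P' := ⟨φ, hφ, rfl⟩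
  have hP'E : P' ≤ E := by rintro _ ⟨v, rfl⟩; exact (e _).2
  have hP'c : Nat.card P' = Nat.card (zed S) * p := by
    rw [← card_eq_of_isConj hconj, st.card_eq hS hPS hxP hxA, h0]
  have hzP' : zed S ≤ P' := by
    intro z hz
    have hzE : z ∈ E := zed_le_ess hE hz
    set u := e.symm ⟨z, hzE⟩ with hu
    have hcen : ∀ v : normalizerIn S P, v * u = u * v := fun v => e.injective (by
      rw [map_mul, map_mul, hu, e.apply_symm_apply]
      exact Subtype.ext (zed_comm hz (hE.1.1 (e v).2)))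
    have huP : (u : Ω) ∈ P := hP.1.2 P (isConj_refl hPS)
      ⟨normalizerIn_le P u.2, Subgroup.mem_centralizer_iff.2 fun v hv =>
        congrArg Subtype.val (hcen ⟨v, le_normalizerIn hPS hv⟩)⟩
    refine ⟨⟨u, huP⟩, ?_⟩
    show ((e (Subgroup.inclusion _ ⟨(u : Ω), huP⟩) : E) : Ω) = z
    rw [show Subgroup.inclusion (le_normalizerIn hPS) ⟨(u : Ω), huP⟩ = u from Subtype.ext rfl, hu,
      e.apply_symm_apply]
  -- `P` cannot be conjugate to the second centre
  have hnot : ¬ F.IsConj P (sec S) := by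
    intro h
    have h1 := hP.2.1.2 _ h
    have h2 : normalizerIn S (sec S) = S := le_antisymm (normalizerIn_le _) fun s hs =>
      ⟨hs, mem_normalizer_of_forall fun y hy => sec_conj_mem hS st hs hy⟩
    rw [h2, hNc, ← hEc] at h1
    exact (essential_lt hS hF hE).ne (Subgroup.eq_of_le_of_card_ge hE.1.1 h1)
  by_cases hP'A : P' ≤ A
  · have : P' = sec S := Subgroup.eq_of_le_of_card_ge ((le_inf hP'E hP'A).trans hEA.le)
      (by rw [hcs, hP'c])
    exact hnot (this ▸ hconj)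
  obtain ⟨y', hy'P, hy'A⟩ := SetLike.not_le_iff_exists.1 hP'A
  obtain ⟨α, hα, w, hw, hwA⟩ := exists_move hS hF st hE hy₀E hy₀A
  set y : Ω := ((α w : E) : Ω) with hy
  have hyE : y ∈ E := (α w).2
  have hyS : y ∈ S := hE.1.1 hyE
  have hsecE : sec S ≤ E := hEA.ge.trans inf_le_left
  set φ₁ : ↥(sec S) →* Ω := (E.subtype.comp α.toMonoidHom).comp (Subgroup.inclusion hsecE) with hφ₁
  have hφ₁m : φ₁ ∈ F.Hom (sec S) := res_mem F ((mem_autGroup_iff F hE.1.1).1 hα) hsecE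
  set P₁ := φ₁.range with hP₁
  have hconj₁ : F.IsConj (sec S) P₁ := ⟨φ₁, hφ₁m, rfl⟩
  have hwsec : (w : Ω) ∈ sec S := hEA.le ⟨w.2, hw⟩
  have hP₁comm : ∀ v ∈ P₁, Commute y v := by
    rintro _ ⟨v, rfl⟩
    have h1 : w * Subgroup.inclusion hsecE v = Subgroup.inclusion hsecE v * w :=
      Subtype.ext (st.comm w hw v (hsecA v.2))
    have h2 := congrArg Subtype.val (congrArg α h1)
    rw [map_mul, map_mul] at h2
    exact h2
  have hyP₁ : y ∈ P₁ := ⟨⟨w, hwsec⟩, rfl⟩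
  -- decompose `y` along `P'`
  obtain ⟨b, hb, j, hyb⟩ := st.decompIn hS hE.1.1 (hP'E hy'P) hy'A hyE
  have hbsec : b ∈ sec S := hEA.le hb
  obtain ⟨g₁, hg₁, hg₁E⟩ := exists_normalizing hS hF st hE hyE hwA
  rw [normalizer_inter hS st hE hyE hwA, mem_pre, hEA] at hg₁
  set r := ⁅y, g₁⁆ with hr
  have hrz : r ∉ zed S := fun h => hg₁E (hsecE (by
    have : g₁ ∈ pre hS st hyS (zed S) := (mem_pre hS st hyS).2 ⟨hg₁.1, h⟩
    rw [pre_zed_eq hS st hyS hwA] at this
    exact this.1))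
  have hzsec : zed S ≤ sec S := fun z hz => hEA.le ⟨zed_le_ess hE hz, st.zed_le hz⟩
  have hlt : zed S < zed S ⊔ Subgroup.zpowers r := lt_of_le_not_ge le_sup_left fun h =>
    hrz (h (Subgroup.mem_sup_right (Subgroup.mem_zpowers r)))
  have hgen : zed S ⊔ Subgroup.zpowers r = sec S := by
    have hi := relIndex_zed_sec hS hF st hP hPA
    rw [inf_eq_left.2 hsecA] at hi
    exact eq_of_lt_of_relIndex hlt (sup_le hzsec (Subgroup.zpowers_le.2 hg₁.2)) hi
  have hn : Subgroup.zpowers r ≤ Subgroup.normalizer (zed S : Set Ω) :=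
    Subgroup.zpowers_le.2 (mem_normalizer_of_forall fun z hz => by
      rw [conj_eq_of_mem_zed (st.le (hsecA hg₁.2)) hz]; exact hz)
  have hb' := hgen.ge hbsec
  rw [← SetLike.mem_coe, Subgroup.coe_mul_of_right_le_normalizer_left _ _ hn] at hb'
  obtain ⟨z, hz, _, ⟨k, rfl⟩, hbz⟩ := hb'
  have hbz' : z * r ^ k = b := hbz
  set a := g₁ ^ k with ha
  have haA : a ∈ A := A.zpow_mem hg₁.1 k
  have hbr : ⁅y, a⁆ = r ^ k := by
    have e := congrArg Subtype.val (map_zpow (bracket hS st hyS) ⟨g₁, hg₁.1⟩ k)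
    rw [Subgroup.coe_zpow] at e
    refine Eq.trans ?_ e
    show ⁅y, a⁆ = ⁅y, (((⟨g₁, hg₁.1⟩ : A) ^ k : A) : Ω)⁆
    rw [Subgroup.coe_zpow]
  have hay : a * y * a⁻¹ ∈ P' := by
    have h1 : a * y * a⁻¹ = (r ^ k)⁻¹ * y := by
      rw [← hbr, commutatorElement_def]; group
    rw [h1, show (r ^ k)⁻¹ = b⁻¹ * z from ?_, hyb]
    · have h2 : b⁻¹ * z * (b * y' ^ j) = z * y' ^ j := by
        rw [show b⁻¹ * z = z * b⁻¹ from zed_comm hz (S.inv_mem (st.le hb.2))]
        group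
      rw [h2]
      exact P'.mul_mem (hzP' hz) (P'.zpow_mem hy'P j)
    · rw [← hbz']; group
  have hP₁E : P₁ ≤ E := by rintro _ ⟨v, rfl⟩; exact (α _).2
  have hsub : conjSub a P₁ ≤ P' := by
    rintro _ ⟨v, hv, rfl⟩
    show a * v * a⁻¹ ∈ P'
    obtain ⟨c, hc', i, hvc⟩ := st.decompIn hS hE.1.1 hyE hwA (hP₁E hv)
    have hcP₁ : c ∈ P₁ := by
      rw [show c = v * (y ^ i)⁻¹ by rw [hvc]; group]
      exact P₁.mul_mem hv (P₁.inv_mem (P₁.zpow_mem hyP₁ i))
    have hcz : c ∈ zed S := st.mem_zed hS hyS hwA hc'.2 (hP₁comm c hcP₁)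
    rw [hvc, show a * (c * y ^ i) * a⁻¹ = (a * c * a⁻¹) * (a * y * a⁻¹) ^ i by rw [conj_zpow]; group,
      conj_eq_of_mem_zed (st.le haA) hcz]
    exact P'.mul_mem (hzP' hcz) (P'.zpow_mem hay i)
  have hfP' : Finite P' := finite_of_le (hP'E.trans hE.1.1)
  have heq : conjSub a P₁ = P' := Subgroup.eq_of_le_of_card_ge hsub
    (by rw [card_conjSub, ← card_eq_of_isConj hconj₁, hcs, hP'c])
  have hc1 : F.IsConj P₁ P' := heq ▸ isConj_conjSub F (hP₁E.trans hE.1.1) (st.le haA)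
  exact hnot (isConj_trans hconj (isConj_symm (isConj_trans hconj₁ hc1)))

include hS hF st hP hxP hxA in
/-- The normalizer of a nonabelian essential subgroup lies in no essential subgroup. -/
theorem not_inEssential_normalizer_nonabelian (h0 : P ⊓ A = sec S) :
    ¬ InEssential F p (normalizerIn S P) := by
  have hPA : P ≠ A := fun e => hxA (e ▸ hxP)
  have hxS := hP.1.1 hxP
  have hxN : x ∈ normalizerIn S P := le_normalizerIn hP.1.1 hxP
  rintro ⟨R', E, hc, hE, hle⟩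
  obtain ⟨g, hg, hgP⟩ := exists_normalizing hS hF st hP hxP hxA
  have hgx : g * x ≠ x * g := fun e =>
    hgP (zed_le_ess hP (st.mem_zed hS hxS hxA hg.2 e.symm))
  obtain ⟨e, he⟩ := isConj_iff.1 hc
  obtain ⟨y₀, hy₀E, hy₀A, hEA, hEc⟩ := card_le_of_nonabelian hS hF st hP hPA hE
    (hle (e ⟨g, hg.1⟩).2) (hle (e ⟨x, hxN⟩).2) (by
      intro h
      refine hgx ?_
      have h1 : e (⟨g, hg.1⟩ * ⟨x, hxN⟩) = e (⟨x, hxN⟩ * ⟨g, hg.1⟩) :=
        Subtype.ext (by rw [map_mul, map_mul]; exact h)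
      exact congrArg Subtype.val (e.injective h1))
  have hfE : Finite E := finite_of_le hE.1.1
  have h1 : Nat.card (normalizerIn S P) ≤ Nat.card E :=
    (card_eq_of_isConj hc).le.trans (Subgroup.card_le_of_le hle)
  rw [hEc, ← h0, ← st.card_eq hS hP.1.1 hxP hxA] at h1
  have hfN : Finite (normalizerIn S P) := finite_of_le (normalizerIn_le P)
  have hlt := lt_normalizerIn hS (essential_lt hS hF hP)
  exact hlt.ne (Subgroup.eq_of_le_of_card_ge hlt.le h1)

end CfsgLib.Fusion.UniqueAbelian
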