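import Cfsg.Agent.Lib.Fusion.UniqueAbelianBasic
import Cfsg.Agent.Lib.Fusion.SmallEssential

/-!
# Essential subgroups over a p-group with a unique abelian subgroup of index p
-/

set_option autoImplicit false

open Cfsg Cfsg.FusionSystem
open scoped commutatorElement

namespace CfsgLib.Fusion.UniqueAbelian

open CenterIndexPSq (zed zed_comm)

variable {Ω : Type*} [Group Ω] {S A : Subgroup Ω} [Finite S] {p : ℕ} [Fact p.Prime]
  {F : FusionSystem S} (hS : IsPGroup p S) (hF : F.IsSaturated p) (st : Setting S A p)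

theorem card_eq_inf_mul {B H : Subgroup Ω} :
    Nat.card H = Nat.card (B ⊓ H : Subgroup Ω) * B.relIndex H := by
  rw [← Subgroup.inf_relIndex_right B H, ← Subgroup.relIndex_bot_left H,
    ← Subgroup.relIndex_mul_relIndex ⊥ (B ⊓ H) H bot_le inf_le_right, Subgroup.relIndex_bot_left]

include hS st in
theorem Setting.relIndex_of_notMem {H : Subgroup Ω} (hH : H ≤ S) {y : Ω} (hy : y ∈ H) (hyA : y ∉ A) :
    A.relIndex H = p :=
  relIndex_eq_prime hS hH (fun h => hyA (h hy))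
    ((Subgroup.relIndex_le_of_le_right hH (by rw [st.idx]; exact (Fact.out : p.Prime).ne_zero)).trans
      st.idx.le)

include hS st in
theorem Setting.card_eq {H : Subgroup Ω} (hH : H ≤ S) {y : Ω} (hy : y ∈ H) (hyA : y ∉ A) :
    Nat.card H = Nat.card (H ⊓ A : Subgroup Ω) * p := by
  rw [card_eq_inf_mul (B := A), st.relIndex_of_notMem hS hH hy hyA, inf_comm]

include hS st in
theorem Setting.decompIn {H : Subgroup Ω} (hH : H ≤ S) {y v : Ω} (hy : y ∈ H) (hyA : y ∉ A)
    (hv : v ∈ H) : ∃ b ∈ H ⊓ A, ∃ i : ℤ, v = b * y ^ i := by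
  obtain ⟨b, hb, i, rfl⟩ := st.decomp hS (hH hy) hyA (hH hv)
  refine ⟨b, ⟨?_, hb⟩, i, rfl⟩
  simpa using H.mul_mem hv (H.inv_mem (H.zpow_mem hy i))

variable {P : Subgroup Ω} (hP : F.IsEssential p P) (hPA : P ≠ A)

include hP in
theorem zed_le_ess : zed S ≤ P := fun _ hz =>
  hP.1.2 P (isConj_refl hP.1.1) ⟨hz.1, Subgroup.mem_centralizer_iff.2 fun _ hg =>
    zed_comm hz (hP.1.1 hg)⟩

include st hP hPA in
theorem exists_notMem : ∃ x ∈ P, x ∉ A := by
  by_contra hno
  push Not at hno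
  exact hPA (le_antisymm hno fun a ha => hP.1.2 P (isConj_refl hP.1.1)
    ⟨st.le ha, Subgroup.mem_centralizer_iff.2 fun g hg => st.comm g (hno g hg) a ha⟩)

variable {x : Ω} (hxP : x ∈ P) (hxA : x ∉ A)

include hP hxP hxA st hS in
theorem mem_normalizer_of_bracket {a : Ω} (ha : a ∈ A) (h : ⁅x, a⁆ ∈ P) :
    a ∈ Subgroup.normalizer (P : Set Ω) := by
  have := finite_of_le hP.1.1
  refine mem_normalizer_of_forall fun v hv => ?_
  obtain ⟨b, hb, i, rfl⟩ := st.decompIn hS hP.1.1 hxP hxA hv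
  have e1 : a * (b * x ^ i) * a⁻¹ = b * (a * x * a⁻¹) ^ i := by
    rw [conj_zpow]
    calc a * (b * x ^ i) * a⁻¹ = (a * b) * x ^ i * a⁻¹ := by group
      _ = (b * a) * x ^ i * a⁻¹ := by rw [st.comm a ha b hb.2]
      _ = _ := by group
  rw [e1]
  refine P.mul_mem hb.1 (P.zpow_mem ?_ i)
  have e2 : a * x * a⁻¹ = ⁅x, a⁆⁻¹ * x := by rw [commutatorElement_def]; group
  rw [e2]
  exact P.mul_mem (P.inv_mem h) hxP

include hP hxP hxA st hS in
theorem normalizer_inter : normalizerIn S P ⊓ A = pre hS st (hP.1.1 hxP) (P ⊓ A) := by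
  ext a
  rw [mem_pre, Subgroup.mem_inf]
  constructor
  · rintro ⟨hN, ha⟩
    refine ⟨ha, ?_, ?_⟩
    · have h1 := conj_mem_of_mem_normalizer hN.2 (P.inv_mem hxP)
      have h2 := P.mul_mem hxP h1
      rwa [commutatorElement_def, show x * a * x⁻¹ * a⁻¹ = x * (a * x⁻¹ * a⁻¹) by group]
    · exact A.mul_mem (st.conj_mem hS (hP.1.1 hxP) ha) (A.inv_mem ha)
  · rintro ⟨ha, h1, -⟩
    exact ⟨⟨st.le ha, mem_normalizer_of_bracket hS st hP hxP hxA ha h1⟩, ha⟩

include hS hF st hP hxP hxA in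
theorem exists_normalizing : ∃ g ∈ normalizerIn S P ⊓ A, g ∉ P := by
  obtain ⟨g, hg, hgP⟩ := SetLike.exists_of_lt (lt_normalizerIn hS (essential_lt hS hF hP))
  obtain ⟨b, hb, i, rfl⟩ := st.decompIn hS (normalizerIn_le P) (le_normalizerIn hP.1.1 hxP) hxA hg
  exact ⟨b, hb, fun h => hgP (P.mul_mem h (P.zpow_mem hxP i))⟩

include hS st hP in
theorem comm_of_inter_le (hxP : x ∈ P) (hxA : x ∉ A) (h : P ⊓ A ≤ zed S) :
    ∀ u ∈ P, ∀ v ∈ P, u * v = v * u := by
  intro u hu v hv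
  obtain ⟨b, hb, i, rfl⟩ := st.decompIn hS hP.1.1 hxP hxA hu
  obtain ⟨c, hc, j, rfl⟩ := st.decompIn hS hP.1.1 hxP hxA hv
  have h1 : Commute b (c * x ^ j) :=
    (zed_comm (h hb) (S.mul_mem (st.le hc.2) (S.zpow_mem (hP.1.1 hxP) j))).symm
  have h2 : Commute (x ^ i) (c * x ^ j) :=
    Commute.mul_right (zed_comm (h hc) (S.zpow_mem (hP.1.1 hxP) i)) (Commute.zpow_zpow (Commute.refl x) i j)
  exact (h1.mul_left h2).eq

include hS hF st hP hxP hxA in
/-- In the abelian case there are at most `p` central commutators. -/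
theorem abelian_bound (h0 : P ⊓ A ≤ zed S) :
    Nat.card (imgR hS st (hP.1.1 hxP) ⊓ zed S : Subgroup Ω) ≤ p := by
  classical
  have hp : p.Prime := Fact.out
  have hPS := hP.1.1
  have hxS := hPS hxP
  have := finite_of_le hPS
  have hZP : zed S ≤ P := zed_le_ess hP
  have hcomm := comm_of_inter_le hS st hP hxP hxA h0
  have hPc : IsPGroup p P := hS.to_le hPS
  set Z₀ := (zed S).subgroupOf P with hZ₀
  have hidx : Z₀.index = p := by
    show (zed S).relIndex P = p
    have h1 : A ⊓ P = zed S := le_antisymm (inf_comm A P ▸ h0) (le_inf st.zed_le hZP)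
    rw [← h1, Subgroup.inf_relIndex_right, st.relIndex_of_notMem hS hPS hxP hxA]
  set G := F.autGroup P
  set E := autInducedBy S P with hEdef
  have hEG : E ≤ G := autInducedBy_le_autGroup hPS
  -- the Sylow property
  obtain ⟨hauto, -⟩ := fullyAutomized_receptive_of_fullyNormalized hS hF hP.2.1
  obtain ⟨-, Rs, hRs⟩ := hauto
  have hsyl : ∀ H : Subgroup (MulAut P), H ≤ G → IsPGroup p H → Nat.card H ≤ Nat.card E := by
    intro H hH hHp
    have hHp' : IsPGroup p (H.subgroupOf G) := hHp.comap_subtype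
    obtain ⟨Q, hQ⟩ := hHp'.exists_le_sylow
    have h2 : Nat.card Rs = Nat.card E := by
      show Nat.card (Rs : Subgroup G) = _
      rw [hRs, Nat.card_congr (Subgroup.subgroupOfEquivOfLe hEG).toEquiv]
    rw [← Nat.card_congr (Subgroup.subgroupOfEquivOfLe hH).toEquiv, ← h2,
      Nat.card_congr (Sylow.equiv Rs Q).toEquiv]
    exact Subgroup.card_le_of_le hQ
  have hRA := imgR_eq hS st hxS hxA
  have hfix : ∀ β ∈ E, ∀ z ∈ Z₀, β z = z := by
    intro β hβ z hz
    obtain ⟨g, hg, hge⟩ := mem_autInducedBy_iff.1 hβ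
    exact Subtype.ext ((hge z).trans (conj_eq_of_mem_zed hg hz))
  have hmove : ∀ β ∈ E, ∀ v, v⁻¹ * β v ∈ Z₀ := by
    intro β hβ v
    refine h0 ⟨(v⁻¹ * β v).2, ?_⟩
    obtain ⟨g, hg, hge⟩ := mem_autInducedBy_iff.1 hβ
    refine imgR_le hS st hxS (hRA.ge ?_)
    rw [Subgroup.map_subtype_commutator]
    have e : ((v⁻¹ * β v : P) : Ω) = ⁅(v : Ω)⁻¹, g⁆ := by
      rw [Subgroup.coe_mul, Subgroup.coe_inv, hge, commutatorElement_def]; group
    show ((v⁻¹ * β v : P) : Ω) ∈ _
    rw [e]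
    exact Subgroup.commutator_mem_commutator (S.inv_mem (hPS v.2)) hg
  -- a conjugate of `E` different from `E`
  have hinn : Cfsg.Inn P = ⊥ := eq_bot_iff.2 fun a ha => by
    obtain ⟨u, rfl⟩ := ha
    exact Subgroup.mem_bot.2 (MulEquiv.ext fun v => Subtype.ext (by
      simp [hcomm u u.2 v v.2]))
  obtain ⟨α, hα, β, hβ, hαβ⟩ : ∃ α ∈ G, ∃ β ∈ E, α * β * α⁻¹ ∉ E := by
    by_contra hno
    push Not at hno
    have hN : (E.subgroupOf G).Normal := ⟨fun a ha b => hno b b.2 a ha⟩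
    have hle := le_inn_of_normal_pgroup (isRadical_of_isEssential hS hP) hEG hN
      (isPGroup_autInducedBy hS P)
    obtain ⟨g, hg, hgP⟩ := exists_normalizing hS hF st hP hxP hxA
    refine hgP (mem_of_normAut_mem_inn hPS (hP.1.2 P (isConj_refl hPS)) (st.le hg.2) (hg := hg.1.2) ?_)
    exact hle (mem_autInducedBy_iff.2 ⟨g, st.le hg.2, fun _ => rfl⟩)
  set E' := E.map (MulAut.conj α).toMonoidHom with hE'
  have hE'G : E' ≤ G := by
    rintro _ ⟨γ, hγ, rfl⟩
    exact mul_mem (mul_mem hα (hEG hγ)) (inv_mem hα)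
  have hE'c : Nat.card E' = Nat.card E := Subgroup.card_map_of_injective (MulAut.conj α).injective
  set Z₁ := Z₀.map α.toMonoidHom with hZ₁
  have hidx₁ : Z₁.index = p := (Subgroup.index_map_of_bijective α.bijective Z₀).trans hidx
  have hfix' : ∀ γ ∈ E', ∀ z ∈ Z₁, γ z = z := by
    rintro _ ⟨γ, hγ, rfl⟩ _ ⟨z, hz, rfl⟩
    show α (γ (α⁻¹ (α z))) = α z
    rw [MulAut.inv_apply_self, hfix γ hγ z hz]
  have hmove' : ∀ γ ∈ E', ∀ v, v⁻¹ * γ v ∈ Z₁ := by
    rintro _ ⟨γ, hγ, rfl⟩ v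
    refine ⟨(α⁻¹ v)⁻¹ * γ (α⁻¹ v), hmove γ hγ _, ?_⟩
    show α ((α⁻¹ v)⁻¹ * γ (α⁻¹ v)) = v⁻¹ * α (γ (α⁻¹ v))
    rw [map_mul, map_inv, MulAut.apply_inv_self]
  -- series with trivial action on a hyperplane
  have hser : ∀ (Z : Subgroup P), (∀ γ ∈ E', ∀ z ∈ Z, γ z = z) → (∀ γ ∈ E', ∀ v, v⁻¹ * γ v ∈ Z) →
      ∀ (W : Subgroup P), W ≤ Z → ∀ σ : MulAut P, σ ∈ G → (∀ w ∈ W, σ w = w) →
        (∀ v, v⁻¹ * σ v ∈ W) → σ ∈ E' := by
    intro Z hfZ hmZ W hWZ σ hσ hσW hσv
    let D : ℕ → Subgroup P := fun i => if i = 0 then ⊥ else if i = 1 then W else if i = 2 then Z else ⊤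
    have key : ∀ γ ∈ G, (∀ w ∈ W, γ w = w) → (∀ z ∈ Z, z⁻¹ * γ z ∈ W) → (∀ v, v⁻¹ * γ v ∈ Z) →
        γ ∈ stabSeries G D 3 := by
      intro γ hγ h1 h2 h3
      refine mem_stabSeries.2 ⟨hγ, fun i hi v => ?_, fun i hi v hv => ?_⟩
      · interval_cases i
        · simp [D]
        · constructor
          · intro hv; exact (h1 v hv).symm ▸ hv
          · intro hv
            have e : γ (γ v) = γ v := h1 _ hv
            exact (γ.injective e) ▸ hv
        · constructor
          · intro hv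
            have h := Z.mul_mem hv (h3 v)
            rw [mul_inv_cancel_left] at h
            exact h
          · intro hv
            have h := Z.mul_mem hv (Z.inv_mem (h3 v))
            rw [mul_inv_rev, inv_inv, mul_inv_cancel_left] at h
            exact h
        · simp [D]
      · interval_cases i
        · simp only [D, Nat.zero_add, one_ne_zero, ↓reduceIte, Subgroup.mem_bot] at hv ⊢
          rw [h1 v hv, inv_mul_cancel]
        · exact h2 v hv
        · exact h3 v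
    have hp' : IsPGroup p (stabSeries G D 3) := by
      refine isPGroup_of_stabilizes hPc _ D 3 (fun v => by simp [D]) ?_ fun a ha => ha.2.2
      intro a _ _ _ v hv
      simp only [D, ↓reduceIte, Subgroup.mem_bot] at hv
      rw [hv, map_one]
    have hE'le : E' ≤ stabSeries G D 3 := fun γ hγ => key γ (hE'G hγ) (fun w hw => hfZ γ hγ w (hWZ hw))
      (fun z hz => by rw [hfZ γ hγ z hz, inv_mul_cancel]; exact one_mem _) (hmZ γ hγ)
    have heq : E' = stabSeries G D 3 := Subgroup.eq_of_le_of_card_ge hE'le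
      ((hsyl _ (fun γ hγ => (mem_stabSeries.1 hγ).1) hp').trans hE'c.ge)
    rw [heq]
    exact key σ hσ hσW (fun z _ => hσv z) fun v => hWZ (hσv v)
  have hZne : Z₁ ≠ Z₀ := by
    intro e
    refine hαβ ?_
    have hle : E ≤ E' := fun γ hγ =>
      hser Z₁ hfix' hmove' Z₀ e.ge γ (hEG hγ) (hfix γ hγ) (hmove γ hγ)
    rw [Subgroup.eq_of_le_of_card_ge hle hE'c.le]
    exact ⟨β, hβ, rfl⟩
  -- the central commutators avoid the second hyperplane
  set Rp := (imgR hS st hxS ⊓ zed S).subgroupOf P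
  have hdisj : Z₁ ⊓ Rp = ⊥ := by
    rw [eq_bot_iff]
    rintro r ⟨hr1, hr2, hr3'⟩
    have hr3 : (r : Ω) ∈ zed S := hr3'
    have hxi : x⁻¹ ∈ S := S.inv_mem hxS
    have hxiA : x⁻¹ ∉ A := fun h => hxA (inv_inv x ▸ A.inv_mem h)
    have hr2' : (r : Ω) ∈ imgR hS st hxi := (imgR_eq hS st hxi hxiA).ge (hRA.le hr2)
    obtain ⟨a, ha, hae⟩ := (mem_imgR hS st hxi).1 hr2'
    have hax : a * x * a⁻¹ = x * (r : Ω) := by rw [← hae, commutatorElement_def]; group
    have haK : ⁅x, a⁆ ∈ zed S := by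
      have : ⁅x, a⁆ = x * (x * (r : Ω))⁻¹ := by rw [← hax, commutatorElement_def]; group
      rw [this, mul_inv_rev, ← mul_assoc, zed_comm (inv_mem hr3) hxS, mul_inv_cancel_right]
      exact inv_mem hr3
    have haN : a ∈ Subgroup.normalizer (P : Set Ω) :=
      mem_normalizer_of_bracket hS st hP hxP hxA ha (hZP haK)
    set σ := normAut a haN with hσ
    have hσE : σ ∈ E := mem_autInducedBy_iff.2 ⟨a, st.le ha, fun _ => rfl⟩
    have hσv : ∀ v, v⁻¹ * σ v ∈ Subgroup.zpowers r := by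
      intro v
      obtain ⟨b, hb, i, hv⟩ := st.decompIn hS hPS hxP hxA v.2
      refine ⟨i, Subtype.ext ?_⟩
      show ((r ^ i : P) : Ω) = (v : Ω)⁻¹ * (a * v * a⁻¹)
      have hrx : Commute x (r : Ω) := zed_comm hr3 hxS
      rw [hv, show a * (b * x ^ i) * a⁻¹ = a * b * x ^ i * a⁻¹ by group, st.comm a ha b hb.2,
        show b * a * x ^ i * a⁻¹ = b * (a * x * a⁻¹) ^ i by rw [conj_zpow]; group, hax,
        hrx.mul_zpow, Subgroup.coe_zpow]
      group
    have hσE' : σ ∈ E' := hser Z₁ hfix' hmove' (Subgroup.zpowers r) (Subgroup.zpowers_le.2 hr1) σ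
      (hEG hσE) (by
        rintro _ ⟨k, rfl⟩
        rw [map_zpow, hfix σ hσE r hr3]) hσv
    -- `σ` fixes two hyperplanes
    have hlt : Z₀ < Z₀ ⊔ Z₁ := lt_of_le_not_ge le_sup_left fun h => hZne
      (Subgroup.eq_of_le_of_card_ge (le_sup_right.trans h)
        (by rw [hZ₁, Subgroup.card_map_of_injective α.injective]))
    have htop : Z₀ ⊔ Z₁ = ⊤ := by
      have h1 := Subgroup.relIndex_mul_index hlt.le
      rw [hidx] at h1
      rcases (Nat.dvd_prime hp).1 (Dvd.intro _ h1) with e | e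
      · exact absurd (Subgroup.relIndex_eq_one.1 e) hlt.not_ge
      · rw [e] at h1
        exact Subgroup.index_eq_one.1 (Nat.eq_of_mul_eq_mul_left hp.pos (h1.trans (mul_one p).symm))
    have hle : Z₀ ⊔ Z₁ ≤ MonoidHom.eqLocus σ.toMonoidHom (MonoidHom.id P) :=
      sup_le (hfix σ hσE) (hfix' σ hσE')
    rw [htop] at hle
    have hσx : ((σ ⟨x, hxP⟩ : P) : Ω) = x := congrArg Subtype.val (hle (Subgroup.mem_top ⟨x, hxP⟩))
    rw [hσ, normAut_apply, hax] at hσx
    refine Subgroup.mem_bot.2 (Subtype.ext ?_)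
    simpa using hσx
  have hle : imgR hS st hxS ⊓ zed S ≤ P := inf_le_right.trans hZP
  rw [← Nat.card_congr (Subgroup.subgroupOfEquivOfLe hle).toEquiv, card_eq_inf_mul (B := Z₁) (H := Rp),
    hdisj, Subgroup.card_bot, one_mul]
  refine (Subgroup.relIndex_le_of_le_right le_top ?_).trans ?_ <;> rw [Subgroup.relIndex_top_right, hidx₁]
  exact hp.ne_zero

include hS hF st hP hxP hxA in
/-- Some automorphism moves `P ⊓ A`. -/
theorem exists_move :
    ∃ α ∈ F.autGroup P, ∃ w : P, (w : Ω) ∈ A ∧ ((α w : P) : Ω) ∉ A := by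
  have hPS := hP.1.1
  set P₀ := P ⊓ A
  by_contra hno
  push Not at hno
  obtain ⟨g, hg, hgP⟩ := exists_normalizing hS hF st hP hxP hxA
  refine hgP (mem_of_normAut_mem_inn hPS (hP.1.2 P (isConj_refl hPS)) (st.le hg.2) (hg := hg.1.2) ?_)
  refine mem_inn_of_stabilizes hS hP
    (fun i => if i = 0 then ⊥ else if i = 1 then P₀.subgroupOf P else ⊤) 2 (by simp) (by simp)
    ?_ (autInducedBy_le_autGroup hPS (mem_autInducedBy_iff.2 ⟨g, st.le hg.2, fun _ => rfl⟩)) ?_
  · intro γ hγ i hi v hv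
    interval_cases i
    · simp only [if_true, Subgroup.mem_bot] at hv ⊢
      rw [hv, map_one]
    · simp only [one_ne_zero, if_false, if_true] at hv ⊢
      exact ⟨(γ v).2, hno γ hγ v hv.2⟩
    · simp
  · intro i hi v hv
    interval_cases i
    · simp only [Nat.zero_add, one_ne_zero, if_false, if_true, Subgroup.mem_bot] at hv ⊢
      rw [inv_mul_eq_one]
      refine Subtype.ext ?_
      show (v : Ω) = g * v * g⁻¹
      rw [st.comm g hg.2 v hv.2, mul_inv_cancel_right]
    · simp only [one_ne_zero, if_false, if_true]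
      refine ⟨(v⁻¹ * normAut g hg.1.2 v).2, ?_⟩
      show (v : Ω)⁻¹ * (g * v * g⁻¹) ∈ A
      rw [show (v : Ω)⁻¹ * (g * v * g⁻¹) = ((v : Ω)⁻¹ * g * (v : Ω)⁻¹⁻¹) * g⁻¹ by group]
      exact A.mul_mem (st.conj_mem hS (S.inv_mem (hPS v.2)) hg.2) (A.inv_mem hg.2)

include hS hF st hP hxP hxA in
/-- The nonabelian case. -/
theorem nonabelian_case (h0 : ¬ P ⊓ A ≤ zed S) :
    P ⊓ A = sec S ⊓ A ∧ (zed S).relIndex (P ⊓ A) = p := by
  have hp : p.Prime := Fact.out
  have hPS := hP.1.1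
  have hxS := hPS hxP
  have := finite_of_le hPS
  have hZP : zed S ≤ P := zed_le_ess hP
  set P₀ := P ⊓ A with hP₀
  have hZ₀ : zed S ≤ P₀ := le_inf hZP st.zed_le
  have hP₀i : (P₀.subgroupOf P).index = p := by
    show P₀.relIndex P = p
    rw [hP₀, inf_comm, Subgroup.inf_relIndex_right, st.relIndex_of_notMem hS hPS hxP hxA]
  have hcen : ∀ v : P, (∀ u : P, u * v = v * u) ↔ (v : Ω) ∈ zed S := by
    intro v
    refine ⟨fun h => ?_, fun h u => Subtype.ext (zed_comm h (hPS u.2))⟩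
    by_cases hvA : (v : Ω) ∈ A
    · exact st.mem_zed hS hxS hxA hvA (congrArg Subtype.val (h ⟨x, hxP⟩))
    · exact absurd (fun u hu => st.mem_zed hS (hPS v.2) hvA hu.2
        (congrArg Subtype.val (h ⟨u, hu.1⟩)).symm) h0
  have hinvZ : ∀ α : MulAut P, ∀ v : P, (v : Ω) ∈ zed S → ((α v : P) : Ω) ∈ zed S := fun α v hv =>
    (hcen _).1 fun u => by
      have h := congrArg α ((hcen v).2 hv (α.symm u))
      rwa [map_mul, map_mul, α.apply_symm_apply] at h
  -- an automorphism moving `P₀`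
  obtain ⟨α, hα, w, hw, hwA⟩ := exists_move hS hF st hP hxP hxA
  set y : P := α w with hy
  have hyS : (y : Ω) ∈ S := hPS y.2
  set P₁ := (P₀.subgroupOf P).map α.toMonoidHom with hP₁
  have hn₀ : (P₀.subgroupOf P).Normal := ⟨fun v hv u =>
    ⟨(u * v * u⁻¹).2, st.conj_mem hS (hPS u.2) hv.2⟩⟩
  have hn₁ : P₁.Normal := hn₀.map _ α.surjective
  have hyP₁ : y ∈ P₁ := ⟨w, ⟨w.2, hw⟩, rfl⟩
  have hint : P₀.subgroupOf P ⊓ P₁ ≤ (zed S).subgroupOf P := by
    rintro v ⟨hv, ⟨u, hu, rfl⟩⟩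
    refine st.mem_zed hS hyS hwA hv.2 ?_
    have : w * u = u * w := Subtype.ext (st.comm w hw u hu.2)
    have h := congrArg Subtype.val (congrArg α this)
    rwa [map_mul, map_mul] at h
  have hrel : (zed S).relIndex P₀ = p := by
    refine relIndex_eq_prime hS (inf_le_left.trans hPS) h0 ?_
    have h1 := Subgroup.relIndex_mul_relIndex _ _ _ hZ₀ (inf_le_left : P₀ ≤ P)
    rw [show P₀.relIndex P = p from hP₀i] at h1
    have h2 : (zed S).relIndex P ≤ p * p := by
      refine (Nat.le_of_dvd ?_ (Subgroup.index_dvd_of_le hint)).trans ?_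
      · exact Nat.pos_of_ne_zero Subgroup.index_ne_zero_of_finite
      · refine (Subgroup.index_inf_le (H := P₀.subgroupOf P) (K := P₁)).trans ?_
        rw [hP₀i, hP₁, Subgroup.index_map_of_bijective (f := α.toMonoidHom) α.bijective, hP₀i]
    rw [← h1] at h2
    exact Nat.le_of_mul_le_mul_right h2 hp.pos
  refine ⟨le_antisymm (fun v hv => ?_) (fun a ha => ?_), hrel⟩
  · rw [← pre_zed_eq hS st hyS hwA, mem_pre]
    refine ⟨hv.2, ?_⟩
    refine hint (show ⁅y, ⟨v, hv.1⟩⁆ ∈ P₀.subgroupOf P ⊓ P₁ from ⟨?_, ?_⟩)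
    · rw [commutatorElement_def]
      exact (P₀.subgroupOf P).mul_mem (hn₀.conj_mem _ ⟨hv.1, hv.2⟩ y)
        ((P₀.subgroupOf P).inv_mem ⟨hv.1, hv.2⟩)
    · rw [commutatorElement_def, show y * (⟨v, hv.1⟩ : P) * y⁻¹ * (⟨v, hv.1⟩ : P)⁻¹ =
        y * ((⟨v, hv.1⟩ : P) * y⁻¹ * (⟨v, hv.1⟩ : P)⁻¹) by group]
      exact P₁.mul_mem hyP₁ (hn₁.conj_mem _ (P₁.inv_mem hyP₁) _)
  · refine ⟨?_, ha.2⟩
    obtain ⟨hasec, haA⟩ := ha
    obtain ⟨haS, hac⟩ := mem_sec.1 hasec
    have hxa : ⁅x, a⁆ ∈ zed S := by rw [← commutatorElement_inv]; exact inv_mem (hac x hxS)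
    have haN := mem_normalizer_of_bracket hS st hP hxP hxA haA (hZP hxa)
    refine mem_of_normAut_mem_inn hPS (hP.1.2 P (isConj_refl hPS)) haS (hg := haN) ?_
    refine mem_inn_of_stabilizes hS hP
      (fun i => if i = 0 then ⊥ else if i = 1 then (zed S).subgroupOf P else ⊤) 2 (by simp) (by simp)
      ?_ (autInducedBy_le_autGroup hPS (mem_autInducedBy_iff.2 ⟨a, haS, fun _ => rfl⟩)) ?_
    · intro γ hγ i hi v hv
      interval_cases i
      · simp only [if_true, Subgroup.mem_bot] at hv ⊢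
        rw [hv, map_one]
      · simp only [one_ne_zero, if_false, if_true] at hv ⊢
        exact hinvZ γ v hv
      · simp
    · intro i hi v hv
      interval_cases i
      · simp only [Nat.zero_add, one_ne_zero, if_false, if_true, Subgroup.mem_bot] at hv ⊢
        rw [inv_mul_eq_one]
        refine Subtype.ext ?_
        show (v : Ω) = a * v * a⁻¹
        exact (conj_eq_of_mem_zed haS hv).symm
      · simp only [one_ne_zero, if_false, if_true]
        show (v : Ω)⁻¹ * (a * v * a⁻¹) ∈ zed S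
        have h := inv_mem (hac _ (S.inv_mem (hPS v.2)))
        rwa [commutatorElement_inv, commutatorElement_def, inv_inv,
          show (v : Ω)⁻¹ * a * v * a⁻¹ = (v : Ω)⁻¹ * (a * v * a⁻¹) by group] at h

include hS hF st hP hxP hxA in
theorem card_imgR_zed : Nat.card (imgR hS st (hP.1.1 hxP) ⊓ zed S : Subgroup Ω) = p := by
  have hp : p.Prime := Fact.out
  have hxS := hP.1.1 hxP
  have := finite_of_le (normalizerIn_le (S := S) P)
  have : Finite (zed S) := finite_of_le (inf_le_left : zed S ≤ S)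
  have hZ0 : 0 < Nat.card (zed S) := by
    have := finite_of_le (inf_le_left : zed S ≤ S)
    exact Nat.card_pos
  by_cases h0 : P ⊓ A ≤ zed S
  · have heq : P ⊓ A = zed S := le_antisymm h0 (le_inf (zed_le_ess hP) st.zed_le)
    have hne : ¬ (imgR hS st hxS ⊓ zed S : Subgroup Ω) ≤ ⊥ := by
      intro h
      obtain ⟨g, hg, hgP⟩ := exists_normalizing hS hF st hP hxP hxA
      rw [normalizer_inter hS st hP hxP hxA, heq] at hg
      have hgc := card_pre hS st hxS hxA (zed S)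
      rw [le_bot_iff.1 h, Subgroup.card_bot, mul_one] at hgc
      have hle : zed S ≤ pre hS st hxS (zed S) := fun z hz => (mem_pre hS st hxS).2
        ⟨st.zed_le hz, by rw [commutatorElement_eq_one_iff_mul_comm.2 (zed_comm hz hxS)]; exact one_mem _⟩
      have : Finite (pre hS st hxS (zed S)) :=
        finite_of_le ((Subgroup.map_subtype_le _).trans st.le : pre hS st hxS (zed S) ≤ S)
      exact hgP (zed_le_ess hP ((Subgroup.eq_of_le_of_card_ge hle hgc.le).ge hg))
    have h1 := relIndex_eq_prime hS (inf_le_right.trans inf_le_left) hne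
      (by rw [Subgroup.relIndex_bot_left]; exact abelian_bound hS hF st hP hxP hxA h0)
    rwa [Subgroup.relIndex_bot_left] at h1
  · obtain ⟨h1, h2⟩ := nonabelian_case hS hF st hP hxP hxA h0
    rw [h1, ← pre_zed_eq hS st hxS hxA] at h2
    have h3 := card_eq_inf_mul (B := zed S) (H := pre hS st hxS (zed S))
    rw [h2, card_pre hS st hxS hxA] at h3
    have hle : zed S ≤ pre hS st hxS (zed S) := fun z hz => (mem_pre hS st hxS).2
      ⟨st.zed_le hz, by rw [commutatorElement_eq_one_iff_mul_comm.2 (zed_comm hz hxS)]; exact one_mem _⟩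
    rw [inf_eq_left.2 hle] at h3
    exact Nat.eq_of_mul_eq_mul_left hZ0 h3

include hS hF st hP hPA in
theorem relIndex_zed_sec : (zed S).relIndex (sec S ⊓ A) = p := by
  obtain ⟨x, hxP, hxA⟩ := exists_notMem st hP hPA
  have hxS := hP.1.1 hxP
  have h3 := card_eq_inf_mul (B := zed S) (H := pre hS st hxS (zed S))
  rw [card_pre hS st hxS hxA, card_imgR_zed hS hF st hP hxP hxA] at h3
  have hle : zed S ≤ pre hS st hxS (zed S) := fun z hz => (mem_pre hS st hxS).2
    ⟨st.zed_le hz, by rw [commutatorElement_eq_one_iff_mul_comm.2 (zed_comm hz hxS)]; exact one_mem _⟩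
  rw [inf_eq_left.2 hle, pre_zed_eq hS st hxS hxA] at h3
  have : Finite (zed S) := finite_of_le (inf_le_left : zed S ≤ S)
  exact (Nat.eq_of_mul_eq_mul_left Nat.card_pos h3).symm

include hS hF st hP hxP hxA in
/-- The two kinds of essential subgroups. -/
theorem inter_cases : P ⊓ A = zed S ∨ P ⊓ A = sec S ⊓ A := by
  by_cases h0 : P ⊓ A ≤ zed S
  · exact Or.inl (le_antisymm h0 (le_inf (zed_le_ess hP) st.zed_le))
  · exact Or.inr (nonabelian_case hS hF st hP hxP hxA h0).1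

include hS hF st hP hPA in
/-- The second centre lies in `A`. -/
theorem sec_le : sec S ≤ A := by
  obtain ⟨x, hxP, hxA⟩ := exists_notMem st hP hPA
  have hxS := hP.1.1 hxP
  have hp : p.Prime := Fact.out
  intro y hy
  by_contra hyA
  obtain ⟨hyS, hyc⟩ := mem_sec.1 hy
  have hAK : A ≤ sec S ⊓ A := fun a ha => by
    rw [← pre_zed_eq hS st hyS hyA, mem_pre]
    exact ⟨ha, hyc a (st.le ha)⟩
  have hK : A = sec S ⊓ A := le_antisymm hAK inf_le_right
  obtain ⟨g, hg, hgP⟩ := exists_normalizing hS hF st hP hxP hxA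
  rcases inter_cases hS hF st hP hxP hxA with e | e
  · -- `P` would be abelian of index `p`
    refine hPA (st.uniq P hP.1.1 (comm_of_inter_le hS st hP hxP hxA e.le) ?_)
    have h1 := relIndex_zed_sec hS hF st hP hPA
    rw [← hK] at h1
    have hc1 := st.card_eq hS hP.1.1 hxP hxA
    have hc2 := st.card_eq hS (le_refl S) hxS hxA
    rw [inf_eq_right.2 st.le, card_eq_inf_mul (B := zed S) (H := A), h1, inf_eq_left.2 st.zed_le,
      ← e, ← hc1, card_eq_inf_mul (B := P) (H := S), inf_eq_left.2 hP.1.1] at hc2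
    have := finite_of_le hP.1.1
    exact Nat.eq_of_mul_eq_mul_left Nat.card_pos hc2
  · exact hgP ((e.trans hK.symm).ge hg.2).1

include hS hF st hP hxP hxA in
/-- The index in the normalizer. -/
theorem relIndex_normalizer : P.relIndex (normalizerIn S P) = p := by
  have hp : p.Prime := Fact.out
  have hPA : P ≠ A := fun e => hxA (e ▸ hxP)
  have hxS := hP.1.1 hxP
  have := finite_of_le hP.1.1
  have := finite_of_le (normalizerIn_le (S := S) P)
  refine relIndex_eq_prime hS (normalizerIn_le P) (lt_normalizerIn hS (essential_lt hS hF hP)).not_ge ?_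
  have hc1 := card_eq_inf_mul (B := P) (H := normalizerIn S P)
  rw [inf_eq_left.2 (le_normalizerIn hP.1.1)] at hc1
  have hc2 := st.card_eq hS (normalizerIn_le P) (le_normalizerIn hP.1.1 hxP) hxA
  rw [normalizer_inter hS st hP hxP hxA, card_pre hS st hxS hxA] at hc2
  set R := imgR hS st hxS
  have : Finite (P ⊓ A : Subgroup Ω) := finite_of_le (inf_le_left.trans hP.1.1)
  have hZP : zed S ≤ P ⊓ A := le_inf (zed_le_ess hP) st.zed_le
  have := finite_of_le (inf_le_left : zed S ≤ S)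
  have := finite_of_le (inf_le_left.trans hP.1.1 : P ⊓ A ≤ S)
  have hR : Nat.card (R ⊓ (P ⊓ A) : Subgroup Ω) ≤ p * (zed S).relIndex (P ⊓ A) := by
    rw [card_eq_inf_mul (B := zed S) (H := R ⊓ (P ⊓ A))]
    refine Nat.mul_le_mul (le_of_eq ?_)
      (Subgroup.relIndex_le_of_le_right inf_le_right ?_)
    · rw [show zed S ⊓ (R ⊓ (P ⊓ A)) = R ⊓ zed S from ?_, card_imgR_zed hS hF st hP hxP hxA]
      rw [← inf_assoc, inf_comm (zed S) R, inf_assoc, inf_eq_left.2 hZP]
    · exact Subgroup.index_ne_zero_of_finite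
  have hcP := st.card_eq hS hP.1.1 hxP hxA
  have hcZ := card_eq_inf_mul (B := zed S) (H := P ⊓ A)
  rw [inf_eq_left.2 hZP] at hcZ
  rw [hc2] at hc1
  refine le_of_mul_le_mul_left (a := Nat.card P) ?_ Nat.card_pos
  rw [← hc1, hcP, hcZ]
  calc Nat.card (zed S) * Nat.card (R ⊓ (P ⊓ A) : Subgroup Ω) * p
      ≤ Nat.card (zed S) * (p * (zed S).relIndex (P ⊓ A)) * p := by gcongr
    _ = _ := by ring

end CfsgLib.Fusion.UniqueAbelian
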