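import Cfsg.Agent.Lib.Fusion.UniqueAbelianCoreFree

/-!
# The centre is inside the commutator subgroup in the core-free case
-/

set_option autoImplicit false

open Cfsg Cfsg.FusionSystem
open scoped commutatorElement

namespace CfsgLib.Fusion.UniqueAbelian

open CenterIndexPSq (zed zed_comm le_core exists_pow_inner aut_zed)

variable {Ω : Type*} [Group Ω] {S A : Subgroup Ω} [Finite S] {p : ℕ} [Fact p.Prime]
  {F : FusionSystem S} (hS : IsPGroup p S) (hF : F.IsSaturated p) (st : Setting S A p)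

/-- The fixed data of a transvection on an abelian essential subgroup, as seen on the centre. -/
structure CentreData (F : FusionSystem S) (c : Ω) (P : Subgroup Ω) where
  K : Subgroup Ω
  ψ : MulAut S
  hK : K ≤ zed S
  hcK : c ∉ K
  hdec : ∀ z ∈ zed S, ∃ i : ℤ, z * (c ^ i)⁻¹ ∈ K
  invK : ∀ α ∈ F.autGroup P, ∀ v : P, (v : Ω) ∈ K → ((α v : P) : Ω) ∈ K
  hψ : ψ ∈ F.autGroup S
  hψK : ∀ (z : Ω) (hzS : z ∈ S), z ∈ K → ((ψ ⟨z, hzS⟩ : S) : Ω) = z
  hψc : ∀ hcS : c ∈ S, ((ψ ⟨c, hcS⟩ : S) : Ω) = c⁻¹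

variable {P : Subgroup Ω} (hP : F.IsEssential p P) {x : Ω} (hxP : x ∈ P) (hxA : x ∉ A)

include hS hF st hP hxP hxA in
theorem exists_centreData (h0 : P ⊓ A = zed S) {c : Ω}
    (hc : imgR hS st (hP.1.1 hxP) ⊓ zed S = Subgroup.zpowers c) :
    Nonempty (CentreData F c P) := by
  classical
  have hp : p.Prime := Fact.out
  have hPS := hP.1.1
  have hxS := hPS hxP
  have := finite_of_le hPS
  have hZP : zed S ≤ P := zed_le_ess hP
  have hcomm := comm_of_inter_le hS st hP hxP hxA h0.le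
  have hcR : c ∈ imgR hS st hxS ⊓ zed S := hc.ge (Subgroup.mem_zpowers c)
  have hcZ : c ∈ zed S := hcR.2
  have hoc : orderOf c = p := by
    rw [← Nat.card_zpowers, ← hc]; exact card_imgR_zed hS hF st hP hxP hxA
  letI : CommGroup ↥P :=
    { (inferInstance : Group ↥P) with mul_comm := fun u v => Subtype.ext (hcomm u u.2 v v.2) }
  obtain ⟨g, hg, hgP⟩ := exists_normalizing hS hF st hP hxP hxA
  set σ := normAut g hg.1.2 with hσdef
  have hσS : σ ∈ autInducedBy S P := mem_autInducedBy_iff.2 ⟨g, st.le hg.2, fun _ => rfl⟩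
  have hσA : σ ∈ F.autGroup P := autInducedBy_le_autGroup hPS hσS
  set Z₀ := (zed S).subgroupOf P with hZ₀
  set c₀ : ↥P := ⟨c, hZP hcZ⟩ with hc₀
  have hidx : Z₀.index = p := by
    show (zed S).relIndex P = p
    rw [← h0, inf_comm, Subgroup.inf_relIndex_right, st.relIndex_of_notMem hS hPS hxP hxA]
  have hfix : ∀ v : P, σ v = v ↔ v ∈ Z₀ := by
    intro v
    constructor
    · intro h
      by_contra hv
      have hvA : (v : Ω) ∉ A := fun h' => hv (h0.le ⟨v.2, h'⟩)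
      have h1 := congrArg Subtype.val h
      rw [hσdef, normAut_apply, mul_inv_eq_iff_eq_mul] at h1
      exact hgP (hZP (st.mem_zed hS (hPS v.2) hvA hg.2 h1.symm))
    · intro h
      exact Subtype.ext (conj_eq_of_mem_zed (st.le hg.2) (show (v : Ω) ∈ zed S from h))
  have him : ∀ v : P, v⁻¹ * σ v ∈ Subgroup.zpowers c₀ := by
    intro v
    have e : ((v⁻¹ * σ v : P) : Ω) = ⁅(v : Ω)⁻¹, g⁆ := by
      rw [Subgroup.coe_mul, Subgroup.coe_inv, hσdef, normAut_apply, commutatorElement_def]; group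
    have h1 : ((v⁻¹ * σ v : P) : Ω) ∈ imgR hS st hxS := by
      rw [imgR_eq hS st hxS hxA, Subgroup.map_subtype_commutator, e]
      exact Subgroup.commutator_mem_commutator (S.inv_mem (hPS v.2)) (st.le hg.2)
    obtain ⟨k, hk⟩ := hc.le ⟨h1, h0.le ⟨(v⁻¹ * σ v).2, imgR_le hS st hxS h1⟩⟩
    exact ⟨k, Subtype.ext (by rw [← hk]; rfl)⟩
  have hT : PlaneTransvection.IsTr (p := p) σ Z₀ c₀ :=
    ⟨hfix, him, hcZ, hidx, by rw [← Subgroup.orderOf_coe]; exact hoc⟩
  -- the induced automorphisms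
  have hN : ∀ n, ∀ hn : n ∈ normalizerIn S P, normAut n hn.2 ∈ Subgroup.zpowers σ := by
    let T : Subgroup Ω := ((Subgroup.zpowers σ).comap P.normalizerMonoidHom).map
      (Subgroup.normalizer (P : Set Ω)).subtype
    have hgT : g ∈ T := ⟨⟨g, hg.1.2⟩, Subgroup.mem_zpowers σ, rfl⟩
    have hPT : P ≤ T := fun u hu => ⟨⟨u, Subgroup.le_normalizer hu⟩, ⟨0, by
      show σ ^ (0 : ℤ) = _
      rw [zpow_zero]
      refine MulEquiv.ext fun v => Subtype.ext ?_
      show (v : Ω) = u * v * u⁻¹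
      rw [hcomm u hu v v.2, mul_inv_cancel_right]⟩, rfl⟩
    have := finite_of_le (normalizerIn_le (S := S) P)
    have hgen : P ⊔ Subgroup.zpowers g = normalizerIn S P :=
      eq_of_lt_of_relIndex (lt_of_le_not_ge le_sup_left fun h =>
        hgP (h (Subgroup.mem_sup_right (Subgroup.mem_zpowers g))))
        (sup_le (le_normalizerIn hPS) (Subgroup.zpowers_le.2 hg.1))
        (relIndex_normalizer hS hF st hP hxP hxA)
    intro n hn
    obtain ⟨⟨n', hn'⟩, hmem, rfl⟩ := (sup_le hPT (Subgroup.zpowers_le.2 hgT)) (hgen.ge hn)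
    exact hmem
  have hAutS : autInducedBy S P = Subgroup.zpowers σ := by
    refine le_antisymm (fun a ha => ?_) (Subgroup.zpowers_le.2 hσS)
    obtain ⟨n, hn, hne⟩ := mem_autInducedBy_iff.1 ha
    have hnN : n ∈ normalizerIn S P := ⟨hn, mem_normalizer_of_aut hne⟩
    rw [show a = normAut n hnN.2 from MulEquiv.ext fun v => Subtype.ext (hne v)]
    exact hN n hnN
  obtain ⟨hauto, hrec⟩ := fullyAutomized_receptive_of_fullyNormalized hS hF hP.2.1
  obtain ⟨-, R, hR⟩ := hauto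
  have hsyl : ∀ H : Subgroup (MulAut P), H ≤ F.autGroup P → IsPGroup p H → Nat.card H ≤ p := by
    intro H hH hHp
    have hHp' : IsPGroup p (H.subgroupOf (F.autGroup P)) := hHp.comap_subtype
    obtain ⟨Q, hQ⟩ := hHp'.exists_le_sylow
    have h2 : Nat.card R = p := by
      show Nat.card (R : Subgroup (F.autGroup P)) = p
      rw [hR, Nat.card_congr (Subgroup.subgroupOfEquivOfLe (autInducedBy_le_autGroup hPS)).toEquiv,
        hAutS, Nat.card_zpowers, orderOf_eq_prime hT.pow_eq_one hT.ne_one]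
    rw [← Nat.card_congr (Subgroup.subgroupOfEquivOfLe hH).toEquiv, ← h2,
      Nat.card_congr (Sylow.equiv R Q).toEquiv]
    exact Subgroup.card_le_of_le hQ
  have hnn : ∃ β ∈ F.autGroup P, β * σ * β⁻¹ ∉ Subgroup.zpowers σ := by
    by_contra hno
    push Not at hno
    have hNn : ((Subgroup.zpowers σ).subgroupOf (F.autGroup P)).Normal := ⟨fun a ha b => by
      rw [Subgroup.mem_subgroupOf] at ha ⊢
      obtain ⟨k, hk⟩ := ha
      simp only [Subgroup.coe_mul, Subgroup.coe_inv]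
      rw [← hk]
      show (b : MulAut P) * σ ^ k * (b : MulAut P)⁻¹ ∈ _
      rw [← conj_zpow]
      exact zpow_mem (hno b b.2) k⟩
    have hle := le_inn_of_normal_pgroup (isRadical_of_isEssential hS hP) (K := Subgroup.zpowers σ)
      (Subgroup.zpowers_le.2 hσA) hNn
      (IsPGroup.of_card (n := 1) (by rw [Nat.card_zpowers, orderOf_eq_prime hT.pow_eq_one hT.ne_one, pow_one]))
    exact hgP (mem_of_normAut_mem_inn hPS (hP.1.2 P (isConj_refl hPS)) (st.le hg.2) (hg := hg.1.2)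
      (hle (Subgroup.mem_zpowers σ)))
  obtain ⟨M, K, m, -, -, -, hKZ, hcK, hdec, hKinv, -, -, h, hhA, hhK, hhc, hhσ⟩ :=
    PlaneTransvection.structure_thm (hS.to_le hPS) hsyl hT hσA hnn
  -- extension to the normalizer, then to `S`
  have hiso : IsIso F (h : P ≃* P) := (mem_autGroup_iff F hPS).1 hhA
  obtain ⟨ψ₀, hψ₀, hψ₀e⟩ := exists_extension hrec hiso (le_normalizerIn hPS) (fun n hn => by
    refine mem_extender_iso_iff.2 ⟨hn.1, hn.2, ?_⟩
    rw [hAutS]
    obtain ⟨k, hk⟩ := hN n hn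
    rw [← hk]
    show MulAut.congr h (σ ^ k) ∈ _
    rw [map_zpow]
    refine zpow_mem ?_ k
    show h * σ * h⁻¹ ∈ Subgroup.zpowers σ
    rw [hhσ]
    exact Subgroup.mem_zpowers σ)
  obtain ⟨ψ, hψ, hψe⟩ := exists_aut_of_not_inEssential hS hF hψ₀
    (not_inEssential_normalizer_abelian hS hF st hP hxP hxA h0)
  have hψP : ∀ (v : P) (hv : (v : Ω) ∈ S), ((ψ ⟨v, hv⟩ : S) : Ω) = (h v : P) := fun v hv =>
    (hψe (Subgroup.inclusion (le_normalizerIn hPS) v) hv).symm.trans (hψ₀e v)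
  refine ⟨{
    K := K.map P.subtype
    ψ := ψ
    hK := ?_
    hcK := ?_
    hdec := ?_
    invK := ?_
    hψ := hψ
    hψK := ?_
    hψc := ?_ }⟩
  · rintro _ ⟨v, hv, rfl⟩; exact hKZ hv
  · rintro ⟨v, hv, hvc⟩
    exact hcK ((Subtype.ext hvc : v = c₀) ▸ hv)
  · intro z hz
    obtain ⟨i, hi⟩ := hdec ⟨z, hZP hz⟩ hz
    exact ⟨i, _, hi, by simp [c₀]⟩
  · rintro α hα v ⟨u, hu, huv⟩
    obtain rfl : u = v := Subtype.ext huv
    exact ⟨_, hKinv α hα _ hu, rfl⟩
  · rintro _ hzS ⟨v, hv, rfl⟩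
    exact (hψP v hzS).trans (congrArg Subtype.val (hhK v hv))
  · intro hcS
    exact (hψP c₀ hcS).trans (congrArg Subtype.val hhc)

/-- An automorphism of `S` inverting `c` and moving central elements by powers of `c`. -/
def Negates (F : FusionSystem S) (c : Ω) (ψ : MulAut S) : Prop :=
  ψ ∈ F.autGroup S ∧ (∀ hcS : c ∈ S, ψ ⟨c, hcS⟩ = (⟨c, hcS⟩ : S)⁻¹) ∧
    ∀ (hcS : c ∈ S) (z : S), (z : Ω) ∈ zed S → ∃ i : ℤ, ψ z = z * (⟨c, hcS⟩ : S) ^ i

theorem CentreData.negates {c : Ω} (D : CentreData F c P) : Negates F c D.ψ := by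
  refine ⟨D.hψ, fun hcS => Subtype.ext (D.hψc hcS), fun hcS z hz => ?_⟩
  obtain ⟨j, hj⟩ := D.hdec z hz
  refine ⟨-(2 * j), ?_⟩
  set cS : S := ⟨c, hcS⟩
  have hval : ((z * (cS ^ j)⁻¹ : S) : Ω) = (z : Ω) * (c ^ j)⁻¹ := by simp [cS]
  have hk : D.ψ (z * (cS ^ j)⁻¹) = z * (cS ^ j)⁻¹ := Subtype.ext (by
    rw [show (z * (cS ^ j)⁻¹ : S) = ⟨(z : Ω) * (c ^ j)⁻¹, (D.hK hj).1⟩ from Subtype.ext hval]
    exact D.hψK _ (D.hK hj).1 hj)
  conv_lhs => rw [show z = z * (cS ^ j)⁻¹ * cS ^ j from (inv_mul_cancel_right z _).symm]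
  rw [map_mul, hk, map_zpow, show D.ψ cS = cS⁻¹ from Subtype.ext (D.hψc hcS)]
  group

include hS hF in
theorem Negates.eq_on_zed {c : Ω} (hcS : c ∈ S) (hoc : orderOf c = p) {ψ ψ' : MulAut S}
    (h : Negates F c ψ) (h' : Negates F c ψ') {z : S} (hz : (z : Ω) ∈ zed S) : ψ z = ψ' z := by
  have hp : p.Prime := Fact.out
  set cS : S := ⟨c, hcS⟩ with hcSd
  set γ := ψ⁻¹ * ψ'
  have hγA : γ ∈ F.autGroup S := mul_mem (inv_mem h.1) h'.1
  have hc1 : ψ cS = cS⁻¹ := h.2.1 hcS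
  have hc2 : ψ' cS = cS⁻¹ := h'.2.1 hcS
  have hcinv : ψ⁻¹ cS = cS⁻¹ := by
    apply ψ.injective
    rw [MulAut.apply_inv_self, map_inv, hc1, inv_inv]
  have hγc : γ cS = cS := by
    show ψ⁻¹ (ψ' cS) = cS
    rw [hc2, map_inv, hcinv, inv_inv]
  obtain ⟨i, hi⟩ := h.2.2 hcS z hz
  obtain ⟨j, hj⟩ := h'.2.2 hcS z hz
  have hγz : γ z = z * cS ^ (i - j) := by
    show ψ⁻¹ (ψ' z) = _
    apply ψ.injective
    rw [MulAut.apply_inv_self, hj, map_mul, map_zpow, hc1, hi, ← hcSd]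
    group
  obtain ⟨n, hn, g, hg, hge⟩ := exists_pow_inner hS hF hγA
  have hit : ∀ k : ℕ, (γ ^ k) z = z * (cS ^ (i - j)) ^ k := by
    intro k
    induction k with
    | zero => simp
    | succ k ih =>
      rw [pow_succ', MulAut.mul_apply, ih, map_mul, map_pow, map_zpow, hγc, hγz, pow_succ', mul_assoc]
  have h1 : (γ ^ n) z = z := Subtype.ext (by rw [hge, zed_comm hz hg, mul_inv_cancel_right])
  rw [hit] at h1
  have h2 : (cS ^ (i - j)) ^ n = 1 := mul_left_cancel (h1.trans (mul_one z).symm)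
  have h3 : cS ^ (i - j) = 1 := by
    have ho : orderOf (cS ^ (i - j)) ∣ Nat.gcd n p := Nat.dvd_gcd (orderOf_dvd_of_pow_eq_one h2)
      (orderOf_dvd_of_pow_eq_one (by
        rw [← zpow_natCast, ← zpow_mul, mul_comm, zpow_mul, zpow_natCast,
          show cS ^ p = 1 from Subtype.ext (by
            rw [Subgroup.coe_pow, ← hoc]; exact pow_orderOf_eq_one c), one_zpow]))
    rw [Nat.Coprime.gcd_eq_one ((hp.coprime_iff_not_dvd.2 hn).symm)] at ho
    exact orderOf_eq_one_iff.1 (Nat.dvd_one.1 ho)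
  rw [h3, mul_one] at hγz
  have := congrArg ψ hγz
  rw [show ψ (γ z) = ψ' z from MulAut.apply_inv_self S ψ _] at this
  exact this.symm

theorem CentreData.mem_K_iff (hp2 : p ≠ 2) {c : Ω} (D : CentreData F c P) (hcS : c ∈ S)
    (hoc : orderOf c = p) {z : S} (hz : (z : Ω) ∈ zed S) : (z : Ω) ∈ D.K ↔ D.ψ z = z := by
  have hp : p.Prime := Fact.out
  refine ⟨fun h => Subtype.ext (D.hψK z z.2 h), fun h => ?_⟩
  obtain ⟨j, hj⟩ := D.hdec z hz
  set cS : S := ⟨c, hcS⟩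
  have e1 : D.ψ (z * (cS ^ j)⁻¹) = z * (cS ^ j)⁻¹ := Subtype.ext (by
    rw [show (z * (cS ^ j)⁻¹ : S) = ⟨(z : Ω) * (c ^ j)⁻¹, (D.hK hj).1⟩ from Subtype.ext (by simp [cS])]
    exact D.hψK _ (D.hK hj).1 hj)
  rw [map_mul, h, mul_left_cancel_iff, map_inv, inv_inj, map_zpow,
    show D.ψ cS = cS⁻¹ from Subtype.ext (D.hψc hcS)] at e1
  have h2 : c ^ (2 * j) = 1 := by
    have := congrArg Subtype.val e1
    simp only [Subgroup.coe_zpow, Subgroup.coe_inv, cS] at this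
    rw [two_mul, zpow_add]
    nth_rw 1 [← this]
    rw [inv_zpow, inv_mul_cancel]
  have hdiv : (p : ℤ) ∣ 2 * j := hoc ▸ orderOf_dvd_iff_zpow_eq_one.2 h2
  have hj0 : (p : ℤ) ∣ j := by
    rcases (Nat.prime_iff_prime_int.1 hp).dvd_mul.1 hdiv with h2 | h2
    · exact absurd ((Nat.prime_dvd_prime_iff_eq hp Nat.prime_two).1 (by exact_mod_cast h2)) hp2
    · exact h2
  have hcj : c ^ j = 1 := orderOf_dvd_iff_zpow_eq_one.1 (by rwa [hoc])
  rwa [hcj, inv_one, mul_one] at hj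

include hS hF st hP hxP hxA in
/-- Automorphisms of a nonabelian essential subgroup act on the centre as automorphisms of `S`. -/
theorem exists_aut_on_zed (h0 : P ⊓ A = sec S) {α : MulAut P} (hα : α ∈ F.autGroup P) :
    ∃ β ∈ F.autGroup S, ∀ (v : P) (hv : (v : Ω) ∈ S), (v : Ω) ∈ zed S →
      ((α v : P) : Ω) = ((β ⟨v, hv⟩ : S) : Ω) := by
  have hp : p.Prime := Fact.out
  have hPA : P ≠ A := fun e => hxA (e ▸ hxP)
  have hPS := hP.1.1
  have := finite_of_le hPS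
  have hsne : ¬ P ⊓ A ≤ zed S := fun h => by
    have h1 := relIndex_zed_sec hS hF st hP hPA
    rw [inf_eq_left.2 (sec_le hS hF st hP hPA), ← h0, Subgroup.relIndex_eq_one.2 h] at h1
    exact hp.one_lt.ne h1
  have hcen : ∀ α' : MulAut P, ∀ v : P, (v : Ω) ∈ zed S → ((α' v : P) : Ω) ∈ zed S := by
    intro α' v hv
    have hu : ∀ u : P, u * α' v = α' v * u := fun u => by
      have h1 : α'.symm u * v = v * α'.symm u := Subtype.ext (zed_comm hv (hPS (α'.symm u).2))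
      have h := congrArg α' h1
      rwa [map_mul, map_mul, α'.apply_symm_apply] at h
    by_cases hvA : ((α' v : P) : Ω) ∈ A
    · exact st.mem_zed hS (hPS hxP) hxA hvA (congrArg Subtype.val (hu ⟨x, hxP⟩))
    · exact absurd (fun u hu' => st.mem_zed hS (hPS (α' v).2) hvA hu'.2
        (congrArg Subtype.val (hu ⟨u, hu'.1⟩)).symm) hsne
  -- the automorphisms fixing the centre
  let O : Subgroup (F.autGroup P) :=
    { carrier := {a | ∀ v : P, (v : Ω) ∈ zed S → (a : MulAut P) v = v}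
      one_mem' := fun _ _ => rfl
      mul_mem' := fun {a b} ha hb v hv => by
        show (a : MulAut P) ((b : MulAut P) v) = v
        rw [hb v hv, ha v hv]
      inv_mem' := fun {a} ha v hv => by
        show (a : MulAut P)⁻¹ v = v
        conv_lhs => rw [← ha v hv]
        exact MulAut.inv_apply_self P _ v }
  have hOn : O.Normal := ⟨fun a ha b v hv => by
    show (b : MulAut P) ((a : MulAut P) ((b : MulAut P)⁻¹ v)) = v
    rw [ha _ (hcen _ v hv), MulAut.apply_inv_self]⟩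
  obtain ⟨⟨-, Y, hY⟩, hrec⟩ := fullyAutomized_receptive_of_fullyNormalized hS hF hP.2.1
  have hYO : (Y : Subgroup (F.autGroup P)) ≤ O := by
    intro a ha v hv
    rw [hY, Subgroup.mem_subgroupOf] at ha
    obtain ⟨g, hg, hge⟩ := mem_autInducedBy_iff.1 ha
    exact Subtype.ext ((hge v).trans (conj_eq_of_mem_zed hg hv))
  have htop := Sylow.normalizer_sup_eq_top' Y hYO
  have hmem : (⟨α, hα⟩ : F.autGroup P) ∈ Subgroup.normalizer (Y : Set (F.autGroup P)) ⊔ O :=
    htop.ge (Subgroup.mem_top _)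
  rw [← SetLike.mem_coe, Subgroup.mul_normal] at hmem
  obtain ⟨a, ha, o, ho, hao⟩ := hmem
  obtain ⟨ψ₀, hψ₀, hψ₀e⟩ := exists_extension hrec ((mem_autGroup_iff F hPS).1 a.2) (le_normalizerIn hPS)
    (fun g hg => by
      refine mem_extender_iso_iff.2 ⟨hg.1, hg.2, ?_⟩
      have h1 : normAut g hg.2 ∈ autInducedBy S P :=
        mem_autInducedBy_iff.2 ⟨g, hg.1, fun _ => rfl⟩
      have h2 := (Subgroup.mem_normalizer_iff.1 ha
        ⟨normAut g hg.2, autInducedBy_le_autGroup hPS h1⟩).1 (by rwa [hY, Subgroup.mem_subgroupOf])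
      rw [hY, Subgroup.mem_subgroupOf] at h2
      convert h2 using 1
      exact MulEquiv.ext fun y => rfl)
  obtain ⟨β, hβ, hβe⟩ := exists_aut_of_not_inEssential hS hF hψ₀
    (not_inEssential_normalizer_nonabelian hS hF st hP hxP hxA h0)
  refine ⟨β, hβ, fun v hv hvz => ?_⟩
  have hαv : α v = (a : MulAut P) v := by
    rw [show α = ((a * o : F.autGroup P) : MulAut P) from (congrArg Subtype.val hao).symm,
      Subgroup.coe_mul, MulAut.mul_apply, ho v hvz]
  rw [hαv]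
  exact (hψ₀e v).symm.trans (hβe (Subgroup.inclusion (le_normalizerIn hPS) v) hv)

include hS hF st in
theorem main (hp2 : p ≠ 2) (hcore : F.core = ⊥) (hAe : ¬ F.IsEssential p A) :
    (∃ x ∈ S, x ∉ A ∧ F.IsEssential p (zed S ⊔ Subgroup.zpowers x)) ∧
      zed S ≤ (commutator ↥S).map S.subtype ∧
      ∀ n : ℕ, Nat.card S = p ^ n → 3 ≤ n → Subgroup.lowerCentralSeries S (n - 2) ≠ ⊥ := by
  classical
  have hp : p.Prime := Fact.out
  have hfz : Finite (zed S) := finite_of_le (inf_le_left : zed S ≤ S)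
  have hS1 : S ≠ ⊥ := fun e => st.na fun a ha b hb => by
    rw [e, Subgroup.mem_bot] at ha; rw [ha, one_mul, mul_one]
  have hzne : zed S ≠ ⊥ := fun e => by
    have : Nontrivial ↥S := (Subgroup.nontrivial_iff_ne_bot S).2 hS1
    have h := IsPGroup.center_nontrivial hS
    have h2 : Subgroup.center ↥S = ⊥ :=
      (Subgroup.map_eq_bot_iff_of_injective _ S.subtype_injective).1 (CenterIndexPSq.map_center.trans e)
    rw [Subgroup.nontrivial_iff_ne_bot] at h
    exact h h2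
  have hzS : ∀ (α : MulAut S) (z : S), (z : Ω) ∈ zed S → ((α z : S) : Ω) ∈ zed S :=
    fun α z hz => aut_zed α hz
  have hne : ∀ P, F.IsEssential p P → P ≠ A := fun P hP e => hAe (e ▸ hP)
  -- an abelian essential subgroup
  obtain ⟨P, hP, x, hxP, hxA, hPeq, h0⟩ : ∃ P, F.IsEssential p P ∧ ∃ x ∈ P, x ∉ A ∧
      P = zed S ⊔ Subgroup.zpowers x ∧ P ⊓ A = zed S := by
    by_contra hno
    push Not at hno
    refine hzne (le_core (isNormal_of_autGroup_invariant hS hF fun P hP => ?_) hcore)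
    rcases hP with rfl | hP
    · exact ⟨inf_le_left, fun α _ z hz => hzS α z hz⟩
    · obtain ⟨x, hxP, hxA⟩ := exists_notMem st hP (hne P hP)
      rcases eq_sup hS hF st hP hxP hxA with ⟨e1, e2⟩ | ⟨-, e⟩
      · exact absurd e2 (hno P hP x hxP hxA e1)
      refine ⟨zed_le_ess hP, fun α hα v hv => ?_⟩
      obtain ⟨β, -, hβe⟩ := exists_aut_on_zed hS hF st hP hxP hxA e hα
      rw [hβe v (hP.1.1 v.2) hv]
      exact hzS β _ hv
  have hxS := hP.1.1 hxP
  have hPA := hne P hP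
  have hcard := card_imgR_zed hS hF st hP hxP hxA
  -- a generator of the central commutators
  have hfR : Finite (imgR hS st hxS ⊓ zed S : Subgroup Ω) := finite_of_le (inf_le_right.trans inf_le_left)
  obtain ⟨c₁, hc₁⟩ := (isCyclic_of_prime_card (p := p) hcard).exists_generator
  set c : Ω := (c₁ : Ω)
  have hc : imgR hS st hxS ⊓ zed S = Subgroup.zpowers c := by
    refine le_antisymm (fun r hr => ?_) (Subgroup.zpowers_le.2 c₁.2)
    obtain ⟨k, hk⟩ := hc₁ ⟨r, hr⟩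
    exact ⟨k, congrArg Subtype.val hk⟩
  have hoc : orderOf c = p := by rw [← Nat.card_zpowers, ← hc]; exact hcard
  have hcZ : c ∈ zed S := c₁.2.2
  have hcS : c ∈ S := hcZ.1
  obtain ⟨D⟩ := exists_centreData hS hF st hP hxP hxA h0 hc
  have hinvS : ∀ α ∈ F.autGroup S, ∀ z : S, (z : Ω) ∈ D.K → ((α z : S) : Ω) ∈ D.K := by
    intro α hα z hz
    set cS : S := ⟨c, hcS⟩
    have hchar : ∀ β : MulAut S, ∃ k : ℤ, β cS = cS ^ k := by
      intro β
      have hcR : (cS : Ω) ∈ (commutator ↥S).map S.subtype := (imgR_eq hS st hxS hxA).le c₁.2.1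
      obtain ⟨w, hw, hwe⟩ := hcR
      obtain rfl : w = cS := Subtype.ext hwe
      have h1 : β cS ∈ commutator ↥S := by
        have h2 : (commutator ↥S).map β.toMonoidHom = commutator ↥S :=
          Subgroup.characteristic_iff_map_eq.1 inferInstance β
        exact h2.le ⟨cS, hw, rfl⟩
      obtain ⟨k, hk⟩ := hc.le (Subgroup.mem_inf.2 ⟨(imgR_eq hS st hxS hxA).ge ⟨_, h1, rfl⟩,
        hzS β cS hcZ⟩)
      exact ⟨k, Subtype.ext (by rw [Subgroup.coe_zpow]; exact hk.symm)⟩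
    have hneg : Negates F c (α⁻¹ * D.ψ * α) := by
      refine ⟨mul_mem (mul_mem (inv_mem hα) D.hψ) hα, fun _ => ?_, fun _ w hw => ?_⟩
      · obtain ⟨k, hk⟩ := hchar α
        show α⁻¹ (D.ψ (α cS)) = cS⁻¹
        rw [hk, map_zpow, show D.ψ cS = cS⁻¹ from Subtype.ext (D.hψc hcS), inv_zpow, map_inv, ← hk,
          MulAut.inv_apply_self]
      · obtain ⟨i, hi⟩ := D.negates.2.2 hcS (α w) (hzS α w hw)
        obtain ⟨k, hk⟩ := hchar α⁻¹
        refine ⟨k * i, ?_⟩
        show α⁻¹ (D.ψ (α w)) = _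
        rw [hi, map_mul, map_zpow, hk, MulAut.inv_apply_self, ← zpow_mul]
    have hzZ : (z : Ω) ∈ zed S := D.hK hz
    have h := Negates.eq_on_zed hS hF hcS hoc D.negates hneg hzZ
    rw [(D.mem_K_iff hp2 hcS hoc hzZ).1 hz] at h
    have h2 := congrArg α h
    rw [show α ((α⁻¹ * D.ψ * α) z) = D.ψ (α z) from MulAut.apply_inv_self _ α _] at h2
    exact (D.mem_K_iff hp2 hcS hoc (hzS α z hzZ)).2 h2.symm
  have hK : D.K = ⊥ := by
    refine le_core (isNormal_of_autGroup_invariant hS hF fun Q hQ => ?_) hcore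
    rcases hQ with rfl | hQ
    · exact ⟨fun z hz => (D.hK hz).1, hinvS⟩
    obtain ⟨y, hyQ, hyA⟩ := exists_notMem st hQ (hne Q hQ)
    refine ⟨D.hK.trans (zed_le_ess hQ), fun α hα v hv => ?_⟩
    rcases eq_sup hS hF st hQ hyQ hyA with ⟨-, e⟩ | ⟨-, e⟩
    · obtain ⟨D'⟩ := exists_centreData hS hF st hQ hyQ hyA e (c := c) (by
        rw [imgR_eq hS st (hQ.1.1 hyQ) hyA, ← imgR_eq hS st hxS hxA, hc])
      have heq : ∀ z : S, (z : Ω) ∈ zed S → ((z : Ω) ∈ D.K ↔ (z : Ω) ∈ D'.K) := fun z hz => by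
        rw [D.mem_K_iff hp2 hcS hoc hz, D'.mem_K_iff hp2 hcS hoc hz,
          Negates.eq_on_zed hS hF hcS hoc D.negates D'.negates hz]
      have hvZ := D.hK hv
      have h := D'.invK α hα v ((heq ⟨v, hvZ.1⟩ hvZ).1 hv)
      exact (heq ⟨_, (D'.hK h).1⟩ (D'.hK h)).2 h
    · obtain ⟨β, hβ, hβe⟩ := exists_aut_on_zed hS hF st hQ hyQ hyA e hα
      rw [hβe v (hQ.1.1 v.2) (D.hK hv)]
      exact hinvS β hβ _ hv
  have hzed : zed S = Subgroup.zpowers c := by
    refine le_antisymm (fun z hz => ?_) (Subgroup.zpowers_le.2 hcZ)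
    obtain ⟨i, hi⟩ := D.hdec z hz
    rw [hK, Subgroup.mem_bot, mul_inv_eq_one] at hi
    exact hi ▸ zpow_mem (Subgroup.mem_zpowers c) i
  refine ⟨⟨x, hxS, hxA, hPeq ▸ hP⟩, ?_, fun n hn hn3 hbot => ?_⟩
  · rw [hzed, ← imgR_eq hS st hxS hxA, Subgroup.zpowers_le]
    exact c₁.2.1
  · obtain ⟨m, rfl⟩ : ∃ m, n = m + 3 := ⟨n - 3, by omega⟩
    have h := card_imgR_le hS hF st hP hxP hxA (n := m)
      (le_of_eq_of_le (show Subgroup.lowerCentralSeries S (m + 1) = ⊥ from hbot) bot_le)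
    have hzc : Nat.card (zed S) = p := by rw [hzed, Nat.card_zpowers, hoc]
    have hA := card_imgR hS st hxS hxA
    have hSc := st.card_eq hS (le_refl S) hxS hxA
    rw [inf_eq_right.2 st.le, hA, hzc, hn, mul_comm p, mul_assoc, show p ^ (m + 3) = p ^ (m + 1) * (p * p) by ring] at hSc
    have hR : p ^ (m + 1) = Nat.card (imgR hS st hxS) :=
      Nat.eq_of_mul_eq_mul_right (Nat.mul_pos hp.pos hp.pos) hSc
    -- one step of the chain is strict
    have h2 : Nat.card (imgR hS st hxS) ≤ p ^ m * 1 := by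
      refine (card_iter_le hS st hxA hxS hcard m).trans (Nat.mul_le_mul_left _ ?_)
      have hsub : (iter hS st hxS (m + 1)).map A.subtype ≤ ⊥ := (iter_le hS st hxS _).trans hbot.le
      rw [← Subgroup.card_subtype A, le_bot_iff.1 hsub, Subgroup.card_bot]
    rw [mul_one, ← hR] at h2
    exact absurd ((Nat.pow_le_pow_iff_right hp.one_lt).1 h2) (by omega)

end CfsgLib.Fusion.UniqueAbelian
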