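import Cfsg.Agent.Lib.Fusion.UniqueAbelianEssential

/-!
# Structure forced by an essential subgroup beyond the abelian subgroup of index p
-/

set_option autoImplicit false

open Cfsg Cfsg.FusionSystem
open scoped commutatorElement

namespace CfsgLib.Fusion.UniqueAbelian

open CenterIndexPSq (zed zed_comm)

variable {Ω : Type*} [Group Ω] {S A : Subgroup Ω} [Finite S] {p : ℕ} [Fact p.Prime]
  {F : FusionSystem S} (hS : IsPGroup p S) (hF : F.IsSaturated p) (st : Setting S A p)
variable {P : Subgroup Ω} (hP : F.IsEssential p P) {x : Ω} (hxP : x ∈ P) (hxA : x ∉ A)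

theorem Setting.mk' (hna : ¬ IsMulCommutative ↥S)
    (hA : A ≤ S ∧ IsMulCommutative ↥A ∧ (A.subgroupOf S).index = p)
    (huniq : ∀ B : Subgroup Ω, B ≤ S → IsMulCommutative ↥B → (B.subgroupOf S).index = p → B = A) :
    Setting S A p := by
  refine ⟨hA.1, fun a ha b hb => ?_, hA.2.2, fun h => hna ⟨⟨fun a b => Subtype.ext (h a a.2 b b.2)⟩⟩,
    fun B hB hc hi => huniq B hB ⟨⟨fun a b => Subtype.ext (hc a a.2 b b.2)⟩⟩ hi⟩
  have := hA.2.1
  exact congrArg Subtype.val (this.is_comm.comm (⟨a, ha⟩ : A) ⟨b, hb⟩)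

include hS hF st hP hxP hxA in
/-- An essential subgroup other than `A` is a centre or second centre extended by an element. -/
theorem eq_sup : (P = zed S ⊔ Subgroup.zpowers x ∧ P ⊓ A = zed S) ∨
    (P = sec S ⊔ Subgroup.zpowers x ∧ P ⊓ A = sec S) := by
  have hPA : P ≠ A := fun e => hxA (e ▸ hxP)
  have key : ∀ B : Subgroup Ω, P ⊓ A = B → P = B ⊔ Subgroup.zpowers x := by
    rintro B rfl
    refine le_antisymm (fun v hv => ?_) (sup_le inf_le_left (Subgroup.zpowers_le.2 hxP))
    obtain ⟨b, hb, i, rfl⟩ := st.decompIn hS hP.1.1 hxP hxA hv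
    exact mul_mem (Subgroup.mem_sup_left hb) (zpow_mem (Subgroup.mem_sup_right (Subgroup.mem_zpowers x)) i)
  rcases inter_cases hS hF st hP hxP hxA with e | e
  · exact Or.inl ⟨key _ e, e⟩
  · rw [inf_eq_left.2 (sec_le hS hF st hP hPA)] at e
    exact Or.inr ⟨key _ e, e⟩

/-- The image of `A` under iterated commutation with `x`. -/
def iter (hS : IsPGroup p S) (st : Setting S A p) {x : Ω} (hx : x ∈ S) : ℕ → Subgroup ↥A
  | 0 => ⊤
  | n + 1 => (iter hS st hx n).map (bracket hS st hx)

theorem iter_le (hx : x ∈ S) (n : ℕ) :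
    (iter hS st hx n).map A.subtype ≤ Subgroup.lowerCentralSeries S n := by
  induction n with
  | zero =>
    rw [Subgroup.lowerCentralSeries_zero]
    exact (Subgroup.map_subtype_le _).trans st.le
  | succ n ih =>
    rintro _ ⟨_, ⟨a, ha, rfl⟩, rfl⟩
    rw [Subgroup.lowerCentralSeries_succ]
    have h1 : (a : Ω) ∈ Subgroup.lowerCentralSeries S n := ih ⟨a, ha, rfl⟩
    have h2 := Subgroup.commutator_mem_commutator (H₂ := Subgroup.lowerCentralSeries S n) hx h1
    rw [Subgroup.commutator_comm] at h2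
    exact h2

include hxA in
theorem card_iter_le (hx : x ∈ S) (hc : Nat.card (imgR hS st hx ⊓ zed S : Subgroup Ω) = p) (n : ℕ) :
    Nat.card (imgR hS st hx) ≤ p ^ n * Nat.card (iter hS st hx (n + 1)) := by
  have := finite_of_le st.le
  set f := bracket hS st hx with hf
  induction n with
  | zero =>
    rw [pow_zero, one_mul]
    show _ ≤ Nat.card ((⊤ : Subgroup ↥A).map f)
    rw [← MonoidHom.range_eq_map]
    exact (Subgroup.card_subtype A f.range).le
  | succ n ih =>
    set U := iter hS st hx (n + 1) with hU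
    have h1 : Nat.card U ≤ p * Nat.card (U.map f) := by
      let g : ↥U →* ↥A := f.comp U.subtype
      have hker : Nat.card g.ker ≤ p := by
        rw [← hc, ← Subgroup.card_subtype U g.ker, ← Subgroup.card_subtype A]
        have := finite_of_le (inf_le_right.trans inf_le_left : imgR hS st hx ⊓ zed S ≤ S)
        refine Subgroup.card_le_of_le ?_
        rintro _ ⟨_, ⟨a, ha, rfl⟩, rfl⟩
        refine ⟨?_, ?_⟩
        · obtain ⟨b, -, hb⟩ := a.2
          refine ⟨_, ⟨b, hb⟩, rfl⟩
        · have h2 : ((a : U) : A) ∈ f.ker := ha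
          rw [hf, ker_bracket hS st hx hxA] at h2
          exact h2
      have hr : g.range = U.map f := by
        rw [MonoidHom.range_eq_map, ← Subgroup.map_map, ← MonoidHom.range_eq_map, Subgroup.range_subtype]
      rw [← hr, ← Subgroup.index_ker, ← g.ker.card_mul_index]
      gcongr
    calc Nat.card (imgR hS st hx) ≤ p ^ n * Nat.card U := ih
      _ ≤ p ^ n * (p * Nat.card (U.map f)) := by gcongr
      _ = _ := by rw [pow_succ, mul_assoc]; rfl

include hS hF st hP hxP hxA in
/-- If a late term of the lower central series is central, there are few commutators. -/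
theorem card_imgR_le {n : ℕ} (h : Subgroup.lowerCentralSeries S (n + 1) ≤ zed S) :
    Nat.card (imgR hS st (hP.1.1 hxP)) ≤ p ^ (n + 1) := by
  have hxS := hP.1.1 hxP
  have hc := card_imgR_zed hS hF st hP hxP hxA
  refine (card_iter_le hS st hxA hxS hc n).trans ?_
  rw [pow_succ]
  gcongr
  refine le_trans ?_ hc.le
  rw [← Subgroup.card_subtype A]
  have := finite_of_le (inf_le_right.trans inf_le_left : imgR hS st hxS ⊓ zed S ≤ S)
  refine Subgroup.card_le_of_le fun r hr => ⟨?_, h (iter_le hS st hxS _ hr)⟩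
  obtain ⟨_, ⟨a, -, rfl⟩, rfl⟩ := hr
  exact ⟨_, ⟨a, rfl⟩, rfl⟩

end CfsgLib.Fusion.UniqueAbelian
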