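import Mathlib.GroupTheory.FreeGroup.Reduce
import Mathlib.GroupTheory.SemidirectProduct
import Mathlib.GroupTheory.GroupAction.Transitive

/-!
# Paths in a graph with a group action, and the group of lifted paths

For a group `Q` acting on a graph (`src`, `tgt : E → V`), the pairs (reduced word which is a
path from `v0` to `q • v0`, `q`) form a subgroup of `FreeGroup E ⋊ Q`. If the action on
vertices is transitive, each of its finite subgroups is conjugate into the stabilizer of `v0`.
-/

set_option autoImplicit false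

namespace CfsgLib.Fusion.VirtFree

open FreeGroup

section Word

variable {E E' : Type*} [DecidableEq E] [DecidableEq E']

theorem toWord_map_injective {f : E → E'} (hf : Function.Injective f) (x : FreeGroup E) :
    (FreeGroup.map f x).toWord = x.toWord.map (fun l => (f l.1, l.2)) := by
  conv_lhs => rw [← FreeGroup.mk_toWord (x := x)]
  rw [FreeGroup.map.mk, FreeGroup.toWord_mk]
  refine FreeGroup.IsReduced.reduce_eq ?_
  exact List.isChain_map_of_isChain _ (fun a b h hab => h (hf hab)) isReduced_toWord

theorem norm_map_injective {f : E → E'} (hf : Function.Injective f) (x : FreeGroup E) :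
    FreeGroup.norm (FreeGroup.map f x) = FreeGroup.norm x := by
  simp [FreeGroup.norm, toWord_map_injective hf]

theorem toWord_of_isReduced {L : List (E × Bool)} (h : IsReduced L) :
    (FreeGroup.mk L).toWord = L := by rw [FreeGroup.toWord_mk, h.reduce_eq]

/-- Moving one step along a geodesic of length at least two strictly decreases the maximum of
the distances to any point. -/
theorem norm_step_lt (u p : FreeGroup E) (l : E × Bool) (rest : List (E × Bool))
    (hu : u.toWord = l :: rest) (hrest : rest ≠ []) :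
    FreeGroup.norm ((FreeGroup.mk [l])⁻¹ * p) < FreeGroup.norm p ∨
      FreeGroup.norm ((FreeGroup.mk [l])⁻¹ * p) < FreeGroup.norm (u⁻¹ * p) := by
  rcases hp : p.toWord with _ | ⟨m, p'⟩
  · right
    have hp1 : p = 1 := toWord_injective (by rw [hp, toWord_one])
    subst hp1
    rw [mul_one, mul_one, norm_inv_eq, norm_inv_eq]
    refine lt_of_le_of_lt norm_mk_le ?_
    have : 0 < rest.length := List.length_pos_of_ne_nil hrest
    simp [FreeGroup.norm, hu]
    omega
  · by_cases hml : m = l
    · left
      subst hml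
      have hp2 : p = FreeGroup.mk [m] * FreeGroup.mk p' := by
        rw [FreeGroup.mul_mk, List.singleton_append, ← hp, mk_toWord]
      rw [hp2, inv_mul_cancel_left, ← hp2]
      refine lt_of_le_of_lt norm_mk_le ?_
      simp [FreeGroup.norm, hp]
    · right
      have hur : IsReduced (invRev (l :: rest)) := by
        have : IsReduced (u⁻¹).toWord := isReduced_toWord
        rwa [toWord_inv, hu] at this
      have hpr : IsReduced (m :: p') := hp ▸ isReduced_toWord
      have hlp : IsReduced ([(l.1, !l.2)] ++ m :: p') := by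
        refine List.isChain_cons_cons.2 ⟨?_, hpr⟩
        intro h1
        rcases l with ⟨a, b⟩
        rcases m with ⟨a', b'⟩
        simp only at h1 ⊢
        subst h1
        cases b <;> cases b' <;> simp_all
      have hbig : IsReduced (invRev rest ++ [(l.1, !l.2)] ++ m :: p') := by
        refine List.IsChain.append_overlap ?_ hlp (by simp)
        rw [invRev_cons] at hur
        simpa [invRev, FreeGroup.IsReduced] using hur
      have h1 : (FreeGroup.mk [l])⁻¹ * p = FreeGroup.mk ([(l.1, !l.2)] ++ m :: p') := by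
        rw [← mk_toWord (x := p), hp, inv_mk, FreeGroup.mul_mk]
        simp [invRev]
      have h2 : u⁻¹ * p = FreeGroup.mk (invRev rest ++ [(l.1, !l.2)] ++ m :: p') := by
        rw [← mk_toWord (x := p), hp, ← mk_toWord (x := u), hu, inv_mk, FreeGroup.mul_mk]
        simp [invRev]
      rw [h1, h2]
      simp only [FreeGroup.norm, toWord_of_isReduced hlp, toWord_of_isReduced hbig]
      have : 0 < rest.length := List.length_pos_of_ne_nil hrest
      simp
      omega

end Word

section Graph

variable {E V : Type*} (src tgt : E → V)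

/-- Initial vertex of an oriented letter. -/
def lStart (l : E × Bool) : V := if l.2 then src l.1 else tgt l.1

/-- Final vertex of an oriented letter. -/
def lEnd (l : E × Bool) : V := if l.2 then tgt l.1 else src l.1

/-- `L` is an edge path from the first vertex to the last one. -/
def IsPath : V → List (E × Bool) → V → Prop
  | a, [], b => a = b
  | a, l :: L, b => lStart src tgt l = a ∧ IsPath (lEnd src tgt l) L b

theorem isPath_append {a b : V} {L₁ L₂ : List (E × Bool)} :
    IsPath src tgt a (L₁ ++ L₂) b ↔ ∃ c, IsPath src tgt a L₁ c ∧ IsPath src tgt c L₂ b := by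
  induction L₁ generalizing a with
  | nil => simp [IsPath]
  | cons l L ih =>
    simp only [List.cons_append, IsPath, ih]
    grind

theorem lStart_not (l : E × Bool) : lStart src tgt (l.1, !l.2) = lEnd src tgt l := by
  rcases l with ⟨e, b⟩; cases b <;> rfl

theorem lEnd_not (l : E × Bool) : lEnd src tgt (l.1, !l.2) = lStart src tgt l := by
  rcases l with ⟨e, b⟩; cases b <;> rfl

theorem isPath_step {a b : V} {L₁ L₂ : List (E × Bool)} (h : FreeGroup.Red.Step L₁ L₂)
    (hp : IsPath src tgt a L₁ b) : IsPath src tgt a L₂ b := by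
  cases h with
  | @not M₁ M₂ x s =>
    obtain ⟨c, h1, hc, h2, h3⟩ := (isPath_append src tgt).1 hp
    refine (isPath_append src tgt).2 ⟨c, h1, ?_⟩
    have : lEnd src tgt (x, !s) = c := by rw [← hc]; exact lEnd_not src tgt (x, s)
    rwa [this] at h3

theorem isPath_red {a b : V} {L₁ L₂ : List (E × Bool)} (h : FreeGroup.Red L₁ L₂)
    (hp : IsPath src tgt a L₁ b) : IsPath src tgt a L₂ b := by
  induction h with
  | refl => exact hp
  | tail _ h2 ih => exact isPath_step src tgt h2 ih

theorem isPath_invRev {a b : V} {L : List (E × Bool)} (hp : IsPath src tgt a L b) :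
    IsPath src tgt b (invRev L) a := by
  induction L generalizing a with
  | nil => exact (show a = b from hp).symm
  | cons l L ih =>
    obtain ⟨h1, h2⟩ := hp
    rw [invRev_cons]
    refine (isPath_append src tgt).2 ⟨_, ih h2, ?_⟩
    exact ⟨lStart_not src tgt l, (lEnd_not src tgt l).trans h1⟩

theorem isPath_unique {a b b' : V} {L : List (E × Bool)} (hp : IsPath src tgt a L b)
    (hp' : IsPath src tgt a L b') : b = b' := by
  induction L generalizing a with
  | nil => exact (show a = b from hp).symm.trans hp'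
  | cons l L ih => exact ih hp.2 hp'.2

variable {Q : Type*} [Group Q] [MulAction Q E] [MulAction Q V]
  (hsrc : ∀ (q : Q) (e : E), src (q • e) = q • src e)
  (htgt : ∀ (q : Q) (e : E), tgt (q • e) = q • tgt e)

/-- The action on oriented letters. -/
def actL (q : Q) (l : E × Bool) : E × Bool := (q • l.1, l.2)

include hsrc htgt in
theorem isPath_map (q : Q) {a b : V} {L : List (E × Bool)} (hp : IsPath src tgt a L b) :
    IsPath src tgt (q • a) (L.map (actL q)) (q • b) := by
  induction L generalizing a with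
  | nil => exact congrArg (q • ·) (show a = b from hp)
  | cons l L ih =>
    obtain ⟨h1, h2⟩ := hp
    refine ⟨?_, ?_⟩
    · rcases l with ⟨e, _ | _⟩ <;> simp_all [lStart, actL]
    · have : lEnd src tgt (actL q l) = q • lEnd src tgt l := by
        rcases l with ⟨e, _ | _⟩ <;> simp_all [lEnd, actL]
      rw [this]
      exact ih h2

variable (Q E) in
/-- The action by automorphisms on the free group on the edges. -/
def act : Q →* MulAut (FreeGroup E) where
  toFun q := FreeGroup.freeGroupCongr (MulAction.toPerm q)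
  map_one' := by
    refine MulEquiv.ext fun x => ?_
    show FreeGroup.map _ x = x
    conv_rhs => rw [← FreeGroup.map.id x]
    congr 2
    ext e
    simp
  map_mul' q r := by
    refine MulEquiv.ext fun x => ?_
    show FreeGroup.map _ x = FreeGroup.map _ (FreeGroup.map _ x)
    rw [FreeGroup.map.comp]
    congr 2
    ext e
    simp [mul_smul]

theorem act_mk (q : Q) (L : List (E × Bool)) :
    act E Q q (FreeGroup.mk L) = FreeGroup.mk (L.map (actL q)) := FreeGroup.map.mk

theorem act_apply (q : Q) (x : FreeGroup E) :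
    act E Q q x = FreeGroup.map (fun e => q • e) x := rfl

theorem toWord_act [DecidableEq E] (q : Q) (x : FreeGroup E) :
    (act E Q q x).toWord = x.toWord.map (actL q) :=
  toWord_map_injective (MulAction.injective q) x

theorem norm_act [DecidableEq E] (q : Q) (x : FreeGroup E) :
    FreeGroup.norm (act E Q q x) = FreeGroup.norm x :=
  norm_map_injective (MulAction.injective q) x

variable (v0 : V)

/-- The group of lifted closed paths of the quotient graph. -/
def pathGroup : Subgroup (FreeGroup E ⋊[act E Q] Q) where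
  carrier := {g | ∃ L, FreeGroup.mk L = g.left ∧ IsPath src tgt v0 L (g.right • v0)}
  one_mem' := ⟨[], by rfl, show v0 = _ by simp⟩
  mul_mem' := by
    rintro g h ⟨L, hL, hp⟩ ⟨M, hM, hq⟩
    refine ⟨L ++ M.map (actL g.right), ?_, ?_⟩
    · rw [← FreeGroup.mul_mk, ← act_mk, hL, hM, SemidirectProduct.mul_left]
    · refine (isPath_append src tgt).2 ⟨_, hp, ?_⟩
      rw [SemidirectProduct.mul_right, mul_smul]
      exact isPath_map src tgt hsrc htgt _ hq
  inv_mem' := by
    rintro g ⟨L, hL, hp⟩
    refine ⟨(invRev L).map (actL g.right⁻¹), ?_, ?_⟩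
    · rw [← act_mk, ← inv_mk, hL, SemidirectProduct.inv_left]
    · have := isPath_map src tgt hsrc htgt g.right⁻¹ (isPath_invRev src tgt hp)
      rwa [inv_smul_smul] at this

theorem mem_pathGroup {g : FreeGroup E ⋊[act E Q] Q} :
    g ∈ pathGroup src tgt hsrc htgt v0 ↔
      ∃ L, FreeGroup.mk L = g.left ∧ IsPath src tgt v0 L (g.right • v0) := Iff.rfl

theorem isPath_toWord [DecidableEq E] {g : FreeGroup E ⋊[act E Q] Q}
    (hg : g ∈ pathGroup src tgt hsrc htgt v0) :
    IsPath src tgt v0 g.left.toWord (g.right • v0) := by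
  obtain ⟨L, hL, hp⟩ := hg
  rw [← hL, toWord_mk]
  exact isPath_red src tgt reduce.red hp

/-- An element with trivial word part fixes the base vertex. -/
theorem smul_eq_of_left_eq_one {g : FreeGroup E ⋊[act E Q] Q}
    (hg : g ∈ pathGroup src tgt hsrc htgt v0) (h1 : g.left = 1) : g.right • v0 = v0 := by
  classical
  have h := isPath_toWord src tgt hsrc htgt v0 hg
  rw [h1, toWord_one] at h
  exact (show v0 = _ from h).symm

/-- Finite subgroups are conjugate into the stabilizer of the base vertex. -/
theorem exists_conj_into_stabilizer [MulAction.IsPretransitive Q V]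
    (H : Subgroup (FreeGroup E ⋊[act E Q] Q)) [Finite H]
    (hH : H ≤ pathGroup src tgt hsrc htgt v0) :
    ∃ g ∈ pathGroup src tgt hsrc htgt v0, ∀ h ∈ H,
      (g⁻¹ * h * g).left = 1 ∧ (g⁻¹ * h * g).right • v0 = v0 := by
  classical
  set P := pathGroup src tgt hsrc htgt v0 with hP
  have : Fintype H := Fintype.ofFinite _
  let r : FreeGroup E → ℕ := fun x =>
    Finset.univ.sup fun h : H => FreeGroup.norm (x⁻¹ * (h : FreeGroup E ⋊[act E Q] Q).left)
  obtain ⟨g, hg, hmin⟩ : ∃ g ∈ P, ∀ g' ∈ P, r g.left ≤ r g'.left := by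
    have hex : ∃ n, ∃ g ∈ P, r g.left = n := ⟨_, 1, P.one_mem, rfl⟩
    obtain ⟨g, hg, h2⟩ := Nat.find_spec hex
    exact ⟨g, hg, fun g' hg' => h2 ▸ Nat.find_min' hex ⟨g', hg', rfl⟩⟩
  have hr : ∀ (h : H) (x : FreeGroup E), r ((h : FreeGroup E ⋊[act E Q] Q).left
      * act E Q (h : FreeGroup E ⋊[act E Q] Q).right x) ≤ r x := by
    intro h x
    refine Finset.sup_le fun k _ => ?_
    refine le_trans (le_of_eq ?_) (Finset.le_sup (Finset.mem_univ (h⁻¹ * k)))
    have hk : ((h * (h⁻¹ * k) : H) : FreeGroup E ⋊[act E Q] Q).left = (k : FreeGroup E ⋊[act E Q] Q).left := by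
      rw [mul_inv_cancel_left]
    rw [Subgroup.coe_mul, SemidirectProduct.mul_left] at hk
    rw [← hk, ← norm_act (E := E) (h : FreeGroup E ⋊[act E Q] Q).right
      (x⁻¹ * ((h⁻¹ * k : H) : FreeGroup E ⋊[act E Q] Q).left)]
    simp [mul_assoc]
  -- two minimizers are at distance at most one
  have hdiam : ∀ g₁ ∈ P, ∀ g₂ ∈ P, r g₁.left ≤ r g.left → r g₂.left ≤ r g.left →
      FreeGroup.norm (g₁.left⁻¹ * g₂.left) ≤ 1 := by
    intro g₁ hg₁ g₂ hg₂ h₁ h₂
    by_contra hlong
    rcases hu : (g₁.left⁻¹ * g₂.left).toWord with _ | ⟨l, rest⟩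
    · simp [FreeGroup.norm, hu] at hlong
    have hrest : rest ≠ [] := by
      rintro rfl
      simp [FreeGroup.norm, hu] at hlong
    obtain ⟨L₁, hL₁, hp₁⟩ := hg₁
    obtain ⟨L₂, hL₂, hp₂⟩ := hg₂
    have hpu : IsPath src tgt (g₁.right • v0) (l :: rest) (g₂.right • v0) := by
      rw [← hu, ← hL₁, ← hL₂, inv_mk, mul_mk, toWord_mk]
      exact isPath_red src tgt reduce.red
        ((isPath_append src tgt).2 ⟨v0, isPath_invRev src tgt hp₁, hp₂⟩)
    obtain ⟨a, ha⟩ := MulAction.exists_smul_eq Q v0 (lEnd src tgt l)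
    have hmid : (⟨g₁.left * FreeGroup.mk [l], a⟩ : FreeGroup E ⋊[act E Q] Q) ∈ P := by
      refine ⟨L₁ ++ [l], ?_, ?_⟩
      · rw [← mul_mk, hL₁]
      · exact (isPath_append src tgt).2 ⟨_, hp₁, hpu.1, show lEnd src tgt l = _ from ha.symm⟩
    have hle : r g.left ≤ r (g₁.left * FreeGroup.mk [l]) := hmin _ hmid
    obtain ⟨k, -, hk⟩ := Finset.exists_mem_eq_sup Finset.univ ⟨1, Finset.mem_univ _⟩
      (fun h : H => FreeGroup.norm ((g₁.left * FreeGroup.mk [l])⁻¹
        * (h : FreeGroup E ⋊[act E Q] Q).left))
    have hk' : r (g₁.left * FreeGroup.mk [l])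
        = FreeGroup.norm ((g₁.left * FreeGroup.mk [l])⁻¹ * (k : FreeGroup E ⋊[act E Q] Q).left) := hk
    have e1 : (g₁.left * FreeGroup.mk [l])⁻¹ * (k : FreeGroup E ⋊[act E Q] Q).left
        = (FreeGroup.mk [l])⁻¹ * (g₁.left⁻¹ * (k : FreeGroup E ⋊[act E Q] Q).left) := by simp [mul_inv_rev, mul_assoc]
    rcases norm_step_lt (g₁.left⁻¹ * g₂.left) (g₁.left⁻¹ * (k : FreeGroup E ⋊[act E Q] Q).left)
      l rest hu hrest with h3 | h3
    · have : FreeGroup.norm (g₁.left⁻¹ * (k : FreeGroup E ⋊[act E Q] Q).left) ≤ r g₁.left :=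
        Finset.le_sup (f := fun h : H => FreeGroup.norm (g₁.left⁻¹
          * (h : FreeGroup E ⋊[act E Q] Q).left)) (Finset.mem_univ k)
      rw [hk', e1] at hle
      omega
    · have : FreeGroup.norm (g₂.left⁻¹ * (k : FreeGroup E ⋊[act E Q] Q).left) ≤ r g₂.left :=
        Finset.le_sup (f := fun h : H => FreeGroup.norm (g₂.left⁻¹
          * (h : FreeGroup E ⋊[act E Q] Q).left)) (Finset.mem_univ k)
      have e2 : (g₁.left⁻¹ * g₂.left)⁻¹ * (g₁.left⁻¹ * (k : FreeGroup E ⋊[act E Q] Q).left)
          = g₂.left⁻¹ * (k : FreeGroup E ⋊[act E Q] Q).left := by simp [mul_inv_rev, mul_assoc]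
      rw [e2] at h3
      rw [hk', e1] at hle
      omega
  refine ⟨g, hg, fun h hh => ?_⟩
  have hh1 : r (h * g).left ≤ r g.left := hr ⟨h, hh⟩ g.left
  have hh2 : r (h * (h * g)).left ≤ r g.left := (hr ⟨h, hh⟩ (h * g).left).trans hh1
  set d := g.left⁻¹ * (h * g).left with hd
  have hd1 : FreeGroup.norm d ≤ 1 := hdiam g hg _ (P.mul_mem (hH hh) hg) le_rfl hh1
  have hd2 : FreeGroup.norm (d * act E Q h.right d) ≤ 1 := by
    have e : d * act E Q h.right d = g.left⁻¹ * (h * (h * g)).left := by
      simp [hd, SemidirectProduct.mul_left, mul_assoc]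
    rw [e]
    exact hdiam g hg _ (P.mul_mem (hH hh) (P.mul_mem (hH hh) hg)) le_rfl hh2
  have hd0 : d = 1 := by
    rcases hw : d.toWord with _ | ⟨m, _ | ⟨m', rest⟩⟩
    · exact toWord_injective (by rw [hw, toWord_one])
    · exfalso
      have hw2 : (d * act E Q h.right d).toWord = [m, actL h.right m] := by
        rw [toWord_mul, toWord_act, hw]
        refine IsReduced.reduce_eq ?_
        exact List.isChain_pair.2 fun _ => rfl
      simp [FreeGroup.norm, hw2] at hd2
    · simp [FreeGroup.norm, hw] at hd1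
  have hleft : (h * g).left = g.left := by
    rw [hd, inv_mul_eq_one] at hd0
    exact hd0.symm
  have hmem : g⁻¹ * h * g ∈ P := P.mul_mem (P.mul_mem (P.inv_mem hg) (hH hh)) hg
  have h0 : (g⁻¹ * h * g).left = 1 := by
    rw [mul_assoc, SemidirectProduct.mul_left, SemidirectProduct.inv_left, hleft,
      SemidirectProduct.inv_right]
    simp
  exact ⟨h0, smul_eq_of_left_eq_one src tgt hsrc htgt v0 hmem h0⟩

end Graph

end CfsgLib.Fusion.VirtFree
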