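import Cfsg.Agent.Lib.Fusion.VirtFreePath
import Cfsg.Prelude.Def_FusionSystem
import Mathlib.GroupTheory.FreeGroup.NielsenSchreier
import Mathlib.GroupTheory.Perm.Basic

/-!
# Virtually free realizations of fusion systems
-/

set_option autoImplicit false

universe u

namespace CfsgLib.Fusion.VirtFree

open FreeGroup

section Reg

variable (S : Type u) [Group S]

/-- The right regular action as a homomorphism to permutations. -/
def rreg : S →* Equiv.Perm S where
  toFun s := Equiv.mulRight s⁻¹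
  map_one' := by ext x; simp
  map_mul' s t := by ext x; simp [mul_assoc]

theorem rreg_apply (s x : S) : rreg S s x = x * s⁻¹ := rfl

theorem rreg_injective : Function.Injective (rreg S) := by
  intro s t h
  simpa [rreg_apply] using congrArg (fun e : Equiv.Perm S => e 1) h

variable {S}

/-- Two embeddings of a group into a finite group become conjugate in the symmetric group. -/
theorem exists_perm_conj [Finite S] {A : Type*} [Group A] (f g : A →* S)
    (hf : Function.Injective f) (hg : Function.Injective g) :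
    ∃ σ : Equiv.Perm S, ∀ a, σ * rreg S (f a) * σ⁻¹ = rreg S (g a) := by
  classical
  have key : ∀ (j : A →* S), Function.Injective j →
      Function.Bijective (fun z : (S ⧸ j.range) × A => z.1.out * j z.2) := by
    intro j hj
    constructor
    · rintro ⟨c, a⟩ ⟨c', a'⟩ h
      have hmk : ∀ (c : S ⧸ j.range) (a : A), (QuotientGroup.mk (c.out * j a) : S ⧸ j.range) = c := by
        intro c a
        rw [QuotientGroup.mk_mul_of_mem c.out (show j a ∈ j.range from ⟨a, rfl⟩), QuotientGroup.out_eq']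
      have hc : c = c' := by
        rw [← hmk c a, ← hmk c' a']
        exact congrArg _ h
      subst hc
      simpa [Prod.ext_iff] using hj (mul_left_cancel h)
    · intro x
      obtain ⟨a, ha⟩ : (QuotientGroup.mk x : S ⧸ j.range).out⁻¹ * x ∈ j.range := by
        rw [← QuotientGroup.eq, QuotientGroup.out_eq']
      exact ⟨⟨QuotientGroup.mk x, a⟩, by simp [ha]⟩
  have hcard : Nat.card (S ⧸ f.range) = Nat.card (S ⧸ g.range) := by
    have h1 : Nat.card f.range = Nat.card g.range :=
      (Nat.card_congr (MonoidHom.ofInjective hf).toEquiv).symm.trans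
        (Nat.card_congr (MonoidHom.ofInjective hg).toEquiv)
    have h2 := Subgroup.card_eq_card_quotient_mul_card_subgroup f.range
    have h3 := Subgroup.card_eq_card_quotient_mul_card_subgroup g.range
    rw [h1] at h2
    exact Nat.eq_of_mul_eq_mul_right Nat.card_pos (h2.symm.trans h3)
  let c : (S ⧸ f.range) ≃ (S ⧸ g.range) := (Finite.card_eq.mp hcard).some
  let ef := Equiv.ofBijective _ (key f hf)
  let eg := Equiv.ofBijective _ (key g hg)
  let σ : Equiv.Perm S := ef.symm.trans ((c.prodCongr (Equiv.refl A)).trans eg)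
  refine ⟨σ, fun a => ?_⟩
  rw [mul_inv_eq_iff_eq_mul]
  ext x
  obtain ⟨⟨q, b⟩, rfl⟩ := ef.surjective x
  have e1 : ef (q, b) * (f a)⁻¹ = ef (q, b * a⁻¹) := by
    simp [ef, mul_assoc]
  have e2 : ∀ z, σ (ef z) = eg (c z.1, z.2) := fun z => by simp [σ, Prod.map]
  rw [Equiv.Perm.mul_apply, Equiv.Perm.mul_apply, rreg_apply, rreg_apply, e1, e2, e2]
  simp [eg, mul_assoc]

end Reg

section Real

variable {Ω : Type u} [Group Ω] {S : Subgroup Ω} (F : Cfsg.FusionSystem S)

/-- The maps of the system, used as labels of the stable letters. -/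
abbrev Lab : Type u := Σ P : Subgroup Ω, {φ : P →* Ω // φ ∈ F.Hom P}

variable {F}

/-- The source of a label, embedded into `S`. -/
def dom (i : Lab F) : i.1 →* S := Subgroup.inclusion (F.le_of_mem i.2.2).1

/-- The map of a label, read into `S`. -/
def img (i : Lab F) : i.1 →* S := i.2.1.codRestrict S (F.le_of_mem i.2.2).2

theorem exists_perm_lab [Finite S] (i : Lab F) :
    ∃ σ : Equiv.Perm S, ∀ a, σ * rreg S (dom i a) * σ⁻¹ = rreg S (img i a) :=
  exists_perm_conj _ _ (Subgroup.inclusion_injective _) fun a b h =>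
    F.injective_of_mem i.2.2 (congrArg Subtype.val h)

variable [Finite S]

/-- The permutation of a label. -/
noncomputable def sigma (i : Lab F) : Equiv.Perm S := (exists_perm_lab i).choose

theorem sigma_spec (i : Lab F) (a : i.1) :
    sigma i * rreg S (dom i a) * (sigma i)⁻¹ = rreg S (img i a) :=
  (exists_perm_lab i).choose_spec a

/-- The edge stabilizer of a label. -/
def eStab (i : Lab F) : Subgroup (Equiv.Perm S) := ((rreg S).comp (img i)).range

variable (F)

/-- The edges. -/
abbrev Edge : Type u := Σ i : Lab F, Equiv.Perm S ⧸ eStab i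

instance instEdgeSMul : SMul (Equiv.Perm S) (Edge F) := ⟨fun q e => ⟨e.1, q • e.2⟩⟩

instance instEdgeAction : MulAction (Equiv.Perm S) (Edge F) where
  one_smul := fun ⟨i, c⟩ => congrArg (Sigma.mk i) (one_smul (Equiv.Perm S) c)
  mul_smul := fun q r ⟨i, c⟩ => congrArg (Sigma.mk i) (mul_smul q r c)

/-- The vertices. -/
abbrev Vert (_F : Cfsg.FusionSystem S) : Type u := Equiv.Perm S ⧸ (rreg S).range

variable {F}

/-- Initial vertex of an edge. -/
def eSrc (e : Edge F) : Vert F :=
  Quotient.liftOn' e.2 (fun y => QuotientGroup.mk y) fun y y' h => by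
    rw [QuotientGroup.leftRel_apply] at h
    obtain ⟨a, ha⟩ := h
    exact QuotientGroup.eq.2 ⟨img e.1 a, ha⟩

/-- Final vertex of an edge. -/
noncomputable def eTgt (e : Edge F) : Vert F :=
  Quotient.liftOn' e.2 (fun y => QuotientGroup.mk (y * sigma e.1)) fun y y' h => by
    rw [QuotientGroup.leftRel_apply] at h
    obtain ⟨a, ha⟩ := h
    refine QuotientGroup.eq.2 ⟨dom e.1 a, ?_⟩
    have := sigma_spec e.1 a
    rw [MonoidHom.comp_apply, ← this] at ha
    calc rreg S (dom e.1 a)
        = (sigma e.1)⁻¹ * (sigma e.1 * rreg S (dom e.1 a) * (sigma e.1)⁻¹) * sigma e.1 := by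
          simp [mul_assoc]
      _ = (y * sigma e.1)⁻¹ * (y' * sigma e.1) := by rw [ha]; simp [mul_assoc]

theorem eSrc_smul (q : Equiv.Perm S) (e : Edge F) : eSrc (q • e) = q • eSrc e := by
  obtain ⟨i, c⟩ := e
  induction c using Quotient.inductionOn'
  rfl

theorem eTgt_smul (q : Equiv.Perm S) (e : Edge F) : eTgt (q • e) = q • eTgt e := by
  obtain ⟨i, c⟩ := e
  induction c using Quotient.inductionOn' with
  | _ y => exact congrArg QuotientGroup.mk (mul_assoc q y (sigma i))

variable (F)

/-- The base vertex. -/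
abbrev base : Vert F := QuotientGroup.mk 1

/-- The realizing group. -/
noncomputable abbrev rgroup :
    Subgroup (FreeGroup (Edge F) ⋊[act (Edge F) (Equiv.Perm S)] Equiv.Perm S) :=
  pathGroup eSrc eTgt eSrc_smul eTgt_smul (base F)

variable {F}

theorem smul_base_eq_iff {q : Equiv.Perm S} : q • base F = base F ↔ q ∈ (rreg S).range := by
  rw [MulAction.Quotient.smul_mk, smul_eq_mul, mul_one, QuotientGroup.eq, mul_one, inv_mem_iff]

theorem inr_mem (s : S) :
    SemidirectProduct.inr (rreg S s) ∈ rgroup F :=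
  ⟨[], rfl, (smul_base_eq_iff.2 ⟨s, rfl⟩).symm⟩

variable (F)

/-- The embedding of `S`. -/
noncomputable def emb : S →* rgroup F :=
  (SemidirectProduct.inr.comp (rreg S)).codRestrict _ inr_mem

theorem emb_injective : Function.Injective (emb F) := fun _ _ h =>
  rreg_injective S (SemidirectProduct.inr_injective (congrArg Subtype.val h))

variable {F}

theorem letter_mem (i : Lab F) :
    (⟨FreeGroup.of ⟨i, QuotientGroup.mk 1⟩, sigma i⟩ :
      FreeGroup (Edge F) ⋊[act (Edge F) (Equiv.Perm S)] Equiv.Perm S) ∈ rgroup F := by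
  refine ⟨[(⟨i, QuotientGroup.mk 1⟩, true)], rfl, rfl, ?_⟩
  show (QuotientGroup.mk (1 * sigma i) : Vert F) = _
  simp

/-- A map of the system composed with a conjugation and another map of the system. -/
theorem comp_hom {P R : Subgroup Ω} {ψ : P →* Ω} {χ : R →* Ω} (hψ : ψ ∈ F.Hom P)
    (hχ : χ ∈ F.Hom R) (v : P → R) (hv : ∀ x, (v x : Ω) = ψ x) :
    ∃ η ∈ F.Hom P, ∀ x, η x = χ (v x) := by
  have h : ∀ x : P, ψ x ∈ R := fun x => hv x ▸ (v x).2
  refine ⟨_, F.comp_mem hψ hχ h, fun x => ?_⟩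
  exact congrArg χ (Subtype.ext (hv x).symm)

theorem comp_conj {P : Subgroup Ω} {ψ : P →* Ω} (hψ : ψ ∈ F.Hom P) (s : S) :
    ∃ η ∈ F.Hom P, ∀ x, η x = (s : Ω) * ψ x * (s : Ω)⁻¹ :=
  comp_hom hψ (F.conj_mem le_rfl s.2) (fun x => ⟨ψ x, (F.le_of_mem hψ).2 x⟩) fun _ => rfl

/-- Along a path fixed letterwise by the conjugates, the system's maps propagate. -/
theorem hom_of_fixed_path {P : Subgroup Ω} (r : P → Equiv.Perm S)
    (L : List (Edge F × Bool)) :
    ∀ a b : Equiv.Perm S, IsPath eSrc eTgt (QuotientGroup.mk a : Vert F) L (QuotientGroup.mk b) →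
      (∀ x, ∀ l ∈ L, actL (r x) l = l) →
      (∃ ψ ∈ F.Hom P, ∀ x, ∃ h : ψ x ∈ S, b⁻¹ * r x * b = rreg S ⟨ψ x, h⟩) →
      ∃ ψ ∈ F.Hom P, ∀ x, ∃ h : ψ x ∈ S, a⁻¹ * r x * a = rreg S ⟨ψ x, h⟩ := by
  induction L with
  | nil =>
    rintro a b hp - ⟨ψ, hψ, hb⟩
    obtain ⟨t, ht⟩ := QuotientGroup.eq.1 (show (QuotientGroup.mk a : Vert F) = QuotientGroup.mk b from hp)
    obtain ⟨η, hη, he⟩ := comp_conj hψ t
    refine ⟨η, hη, fun x => ⟨(F.le_of_mem hη).2 x, ?_⟩⟩
    obtain ⟨h, hx⟩ := hb x
    have : (⟨η x, (F.le_of_mem hη).2 x⟩ : S) = t * ⟨ψ x, h⟩ * t⁻¹ := Subtype.ext (he x)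
    rw [this, _root_.map_mul, _root_.map_mul, _root_.map_inv, ht, ← hx]
    simp [mul_assoc]
  | cons l L ih =>
    rintro a b ⟨hl, hp⟩ hfix hb
    obtain ⟨⟨i, c⟩, s⟩ := l
    obtain ⟨y, rfl⟩ := QuotientGroup.mk_surjective c
    have hxfix : ∀ x, ∃ p : i.1, y⁻¹ * r x * y = rreg S (img i p) := by
      intro x
      have := hfix x _ List.mem_cons_self
      simp only [actL, Prod.mk.injEq, and_true] at this
      have h2 : (QuotientGroup.mk (r x * y) : Equiv.Perm S ⧸ eStab i) = QuotientGroup.mk y :=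
        eq_of_heq (Sigma.mk.inj_iff.1 this).2
      obtain ⟨p, hp⟩ := QuotientGroup.eq.1 h2.symm
      exact ⟨p, by rw [mul_assoc]; exact hp.symm⟩
    choose p hp' using hxfix
    have hrel : ∀ x, (y * sigma i)⁻¹ * r x * (y * sigma i) = rreg S (dom i (p x)) := by
      intro x
      have h1 : (y * sigma i)⁻¹ * r x * (y * sigma i)
          = (sigma i)⁻¹ * (y⁻¹ * r x * y) * sigma i := by simp [mul_assoc]
      rw [h1, hp' x, ← sigma_spec i (p x)]
      simp [mul_assoc]
    have hfix' : ∀ x, ∀ m ∈ L, actL (r x) m = m := fun x m hm => hfix x m (List.mem_cons_of_mem _ hm)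
    cases s with
    | true =>
      obtain ⟨t, ht⟩ := QuotientGroup.eq.1
        (show (QuotientGroup.mk y : Vert F) = QuotientGroup.mk a from hl)
      obtain ⟨ψ, hψ, hc⟩ := ih (y * sigma i) b hp hfix' hb
      have hval : ∀ x, ((p x : i.1) : Ω) = ψ x := by
        intro x
        obtain ⟨h, hx⟩ := hc x
        exact congrArg Subtype.val (rreg_injective S ((hrel x).symm.trans hx))
      obtain ⟨η₁, hη₁, he₁⟩ := comp_hom hψ i.2.2 p hval
      obtain ⟨η, hη, he⟩ := comp_conj hη₁ t⁻¹
      refine ⟨η, hη, fun x => ⟨(F.le_of_mem hη).2 x, ?_⟩⟩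
      have : (⟨η x, (F.le_of_mem hη).2 x⟩ : S) = t⁻¹ * img i (p x) * t⁻¹⁻¹ :=
        Subtype.ext ((he x).trans (by rw [he₁ x]; rfl))
      rw [this, _root_.map_mul, _root_.map_mul, _root_.map_inv, _root_.map_inv, ← hp' x,
        show a = y * rreg S t by rw [ht]; simp]
      simp [mul_assoc]
    | false =>
      obtain ⟨t, ht⟩ := QuotientGroup.eq.1
        (show (QuotientGroup.mk (y * sigma i) : Vert F) = QuotientGroup.mk a from hl)
      obtain ⟨ψ, hψ, hc⟩ := ih y b hp hfix' hb
      have hval : ∀ x, (i.2.1 (p x) : Ω) = ψ x := by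
        intro x
        obtain ⟨h, hx⟩ := hc x
        exact congrArg Subtype.val (rreg_injective S ((hp' x).symm.trans hx))
      obtain ⟨χ, hχ, hχe⟩ := F.inv_mem i.2.2
      obtain ⟨η₁, hη₁, he₁⟩ := comp_hom hψ hχ (fun x => ⟨i.2.1 (p x), p x, rfl⟩) hval
      obtain ⟨η, hη, he⟩ := comp_conj hη₁ t⁻¹
      refine ⟨η, hη, fun x => ⟨(F.le_of_mem hη).2 x, ?_⟩⟩
      have : (⟨η x, (F.le_of_mem hη).2 x⟩ : S) = t⁻¹ * dom i (p x) * t⁻¹⁻¹ :=
        Subtype.ext ((he x).trans (by rw [he₁ x, hχe]; rfl))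
      rw [this, _root_.map_mul, _root_.map_mul, _root_.map_inv, _root_.map_inv, ← hrel x,
        show a = y * sigma i * rreg S t by rw [ht]; simp [mul_assoc]]
      simp [mul_assoc]

theorem isRealizedBy_emb : F.IsRealizedBy (emb F) := by
  classical
  refine ⟨emb_injective F, fun P hP φ hφ => ⟨fun hF => ?_, ?_⟩⟩
  · let i : Lab F := ⟨P, φ, hF⟩
    refine ⟨⟨_, letter_mem i⟩, fun x => ?_⟩
    refine Subtype.ext ?_
    have hs : sigma i * rreg S ⟨(x : Ω), hP x.2⟩ * (sigma i)⁻¹ = rreg S ⟨φ x, hφ x⟩ :=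
      sigma_spec i x
    have hfix : rreg S ⟨φ x, hφ x⟩ • (⟨i, QuotientGroup.mk 1⟩ : Edge F) = ⟨i, QuotientGroup.mk 1⟩ := by
      refine congrArg (Sigma.mk i) ?_
      rw [MulAction.Quotient.smul_mk, smul_eq_mul, mul_one]
      refine QuotientGroup.eq.2 ?_
      rw [mul_one, inv_mem_iff]
      exact ⟨x, rfl⟩
    refine SemidirectProduct.ext ?_ ?_
    · simp only [emb, MonoidHom.codRestrict_apply, MonoidHom.comp_apply, Subgroup.coe_mul,
        InvMemClass.coe_inv, SemidirectProduct.left_inr, SemidirectProduct.mul_left,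
        SemidirectProduct.mul_right, SemidirectProduct.inv_left, SemidirectProduct.right_inr,
        _root_.map_one, mul_one]
      rw [← MulAut.mul_apply, ← _root_.map_mul, hs, _root_.map_inv, act_apply, FreeGroup.map.of, hfix,
        mul_inv_cancel]
    · simp only [emb, MonoidHom.codRestrict_apply, MonoidHom.comp_apply, Subgroup.coe_mul,
        InvMemClass.coe_inv, SemidirectProduct.right_inr, SemidirectProduct.mul_right,
        SemidirectProduct.inv_right]
      exact hs.symm
  · rintro ⟨⟨g, hg⟩, hgx⟩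
    have hl : ∀ x : P, act (Edge F) _ (rreg S ⟨φ x, hφ x⟩) g.left = g.left ∧
        g.right * rreg S ⟨x, hP x.2⟩ * g.right⁻¹ = rreg S ⟨φ x, hφ x⟩ := by
      intro x
      have h0 := congrArg Subtype.val (hgx x)
      have hr : g.right * rreg S ⟨x, hP x.2⟩ * g.right⁻¹ = rreg S ⟨φ x, hφ x⟩ := by
        have := congrArg SemidirectProduct.right h0
        simpa [emb] using this.symm
      refine ⟨?_, hr⟩
      have h1 := congrArg SemidirectProduct.left h0
      simp only [emb, MonoidHom.codRestrict_apply, MonoidHom.comp_apply, Subgroup.coe_mul,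
        InvMemClass.coe_inv, SemidirectProduct.left_inr, SemidirectProduct.mul_left,
        SemidirectProduct.mul_right, SemidirectProduct.inv_left, SemidirectProduct.right_inr,
        _root_.map_one, mul_one] at h1
      rw [← MulAut.mul_apply, ← _root_.map_mul, hr, _root_.map_inv, eq_comm, mul_inv_eq_one] at h1
      exact h1.symm
    have hfix : ∀ x : P, ∀ l ∈ g.left.toWord, actL (rreg S ⟨φ x, hφ x⟩) l = l := by
      intro x l hl'
      have h1 : g.left.toWord.map (actL (rreg S ⟨φ x, hφ x⟩)) = g.left.toWord := by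
        rw [← toWord_act, (hl x).1]
      conv_rhs at h1 => rw [← List.map_id g.left.toWord]
      exact List.map_inj_left.1 h1 l hl'
    have hstart : ∃ ψ ∈ F.Hom P, ∀ x : P, ∃ h : ψ x ∈ S,
        g.right⁻¹ * rreg S ⟨φ x, hφ x⟩ * g.right = rreg S ⟨ψ x, h⟩ := by
      refine ⟨Cfsg.conjHom P 1, F.conj_mem hP S.one_mem, fun x => ?_⟩
      have hval : Cfsg.conjHom P 1 x = (x : Ω) := by simp [Cfsg.conjHom]
      refine ⟨hval ▸ hP x.2, ?_⟩
      have : (⟨Cfsg.conjHom P 1 x, hval ▸ hP x.2⟩ : S) = ⟨x, hP x.2⟩ := Subtype.ext hval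
      rw [this, ← (hl x).2]
      simp [mul_assoc]
    have hpath : IsPath eSrc eTgt (QuotientGroup.mk 1 : Vert F) g.left.toWord (QuotientGroup.mk g.right) := by
      have := isPath_toWord _ _ _ _ _ hg
      rwa [MulAction.Quotient.smul_mk, smul_eq_mul, mul_one] at this
    obtain ⟨ψ, hψ, he⟩ := hom_of_fixed_path _ g.left.toWord 1 g.right hpath hfix hstart
    have : φ = ψ := by
      refine MonoidHom.ext fun x => ?_
      obtain ⟨h, hx⟩ := he x
      simp only [inv_one, one_mul, mul_one] at hx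
      exact congrArg Subtype.val (rreg_injective S hx)
    rwa [this]

/-- Every fusion system on a finite group has a virtually free realization. -/
theorem exists_virtually_free_realization (F : Cfsg.FusionSystem S) :
    ∃ (G : Type u) (_ : Group G) (ι : S →* G), F.IsRealizedBy ι ∧
      (∀ H : Subgroup G, Finite H → ∃ g : G, ∀ h ∈ H, g * h * g⁻¹ ∈ ι.range) ∧
      ∃ N : Subgroup G, N.Normal ∧ IsFreeGroup N ∧ N.index ∣ (Nat.card S).factorial := by
  classical
  let π : rgroup F →* Equiv.Perm S := SemidirectProduct.rightHom.comp (rgroup F).subtype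
  refine ⟨rgroup F, inferInstance, emb F, isRealizedBy_emb, fun H hH => ?_, π.ker, inferInstance, ?_, ?_⟩
  · have : Finite (H.map (rgroup F).subtype) :=
      Finite.of_equiv _ (H.equivMapOfInjective _ Subtype.val_injective).toEquiv
    obtain ⟨g, hg, hgh⟩ := exists_conj_into_stabilizer eSrc eTgt eSrc_smul eTgt_smul (base F)
      (H.map (rgroup F).subtype) (Subgroup.map_subtype_le _)
    refine ⟨⟨g, hg⟩⁻¹, fun h hh => ?_⟩
    obtain ⟨h1, h2⟩ := hgh _ (Subgroup.mem_map_of_mem _ hh)
    obtain ⟨s, hs⟩ := smul_base_eq_iff.1 h2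
    refine ⟨s, Subtype.ext (SemidirectProduct.ext ?_ ?_)⟩
    · exact h1.symm.trans (by simp)
    · simpa [emb] using hs
  · let j : π.ker →* FreeGroup (Edge F) :=
      { toFun := fun k => (k.1.1 : FreeGroup (Edge F) ⋊[act (Edge F) (Equiv.Perm S)] Equiv.Perm S).left
        map_one' := rfl
        map_mul' := fun k k' => by
          have hk : k.1.1.right = 1 := k.2
          simp [SemidirectProduct.mul_left, hk] }
    have hj : Function.Injective j := fun k k' h =>
      Subtype.ext (Subtype.ext (SemidirectProduct.ext h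
        ((show k.1.1.right = 1 from k.2).trans (show k'.1.1.right = 1 from k'.2).symm)))
    exact IsFreeGroup.ofMulEquiv (MonoidHom.ofInjective hj).symm
  · rw [Subgroup.index_ker, ← Nat.card_perm]
    exact Subgroup.card_subgroup_dvd_card _

end Real

end CfsgLib.Fusion.VirtFree
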