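import Cfsg.Agent.Lib.Fusion.FactorHat
import Cfsg.Agent.Lib.Fusion.TateApps
import Cfsg.Agent.Lib.Fusion.NormSys
import Cfsg.Agent.Lib.Fusion.TateRelative
import Cfsg.Agent.Lib.PGroup.Basic

/-!
# A nilpotency criterion by weakly embedded subgroups

If every subgroup of order `d` of `S` is wedged between two strongly closed subgroups in the sense
of a weak embedding, and the normalizer systems of these subgroups are inner, then the system is
inner. The proof is by descending induction over the strongly closed subgroups `N` of order at most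
`d`, showing that automorphisms of order prime to `p` are trivial modulo `N`.
-/

set_option autoImplicit false

open Cfsg Cfsg.FusionSystem

namespace CfsgLib.Fusion

variable {Ω : Type*} [Group Ω] {S : Subgroup Ω} {F : FusionSystem S} {p : ℕ} [Fact p.Prime]

/-- Every subgroup of `S` of order `d` is weakly embedded. -/
def WeaklyEmbeddedOfOrder (F : FusionSystem S) (d : ℕ) : Prop :=
  ∀ Q : Subgroup Ω, Q ≤ S → Nat.card Q = d →
    ∃ P : Subgroup Ω, F.StronglyClosed P ∧ F.StronglyClosed (Q ⊔ P) ∧ F.StronglyClosed (Q ⊓ P)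

theorem stronglyClosed_bot_sub : F.StronglyClosed ⊥ := by
  refine ⟨bot_le, fun R hR φ _ x => ?_⟩
  have hx : x = 1 := Subtype.ext (Subgroup.mem_bot.1 (hR x.2))
  rw [hx, map_one]
  exact one_mem _

theorem stronglyClosed_inf_sub {A B : Subgroup Ω} (hA : F.StronglyClosed A)
    (hB : F.StronglyClosed B) : F.StronglyClosed (A ⊓ B) :=
  ⟨inf_le_left.trans hA.1, fun R hR φ hφ x =>
    ⟨hA.2 R (hR.trans inf_le_left) φ hφ x, hB.2 R (hR.trans inf_le_right) φ hφ x⟩⟩

theorem stronglyClosed_top_sub : F.StronglyClosed S :=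
  ⟨le_rfl, fun _ _ _ hφ x => apply_mem_S F hφ x⟩

/-- A subgroup of a given intermediate prime power order. -/
theorem exists_between_card [Finite S] (hS : IsPGroup p S) {A B : Subgroup Ω} (hAB : A ≤ B)
    (hB : B ≤ S) {j : ℕ} (h1 : Nat.card A ≤ p ^ j) (h2 : p ^ j ≤ Nat.card B) :
    ∃ Q : Subgroup Ω, A ≤ Q ∧ Q ≤ B ∧ Nat.card Q = p ^ j := by
  have := finite_of_le hB
  have hBp : IsPGroup p B := hS.to_le hB
  obtain ⟨m, hm⟩ := IsPGroup.iff_card.1 hBp
  have := finite_of_le (hAB.trans hB)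
  obtain ⟨i, hi⟩ := IsPGroup.iff_card.1 (hS.to_le (hAB.trans hB))
  have hp := (Fact.out : p.Prime).one_lt
  have hij : i ≤ j := (Nat.pow_le_pow_iff_right hp).1 (hi ▸ h1)
  have hjm : j ≤ m := (Nat.pow_le_pow_iff_right hp).1 (hm ▸ h2)
  obtain ⟨K, hK1, hK2⟩ := Sylow.exists_subgroup_card_pow_prime_le (p := p) (G := B)
    (n := i) (m := j) (hm ▸ pow_dvd_pow p hjm) (A.subgroupOf B)
    (by rw [Nat.card_congr (Subgroup.subgroupOfEquivOfLe hAB).toEquiv, hi]) hij
  refine ⟨K.map B.subtype, fun x hx => ⟨⟨x, hAB hx⟩, hK2 hx, rfl⟩, Subgroup.map_subtype_le _, ?_⟩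
  rw [Subgroup.card_subtype, hK1]

/-- Refinement: a family closed under joins and meets has a member of order `d` between any two
members that enclose that order. -/
theorem exists_refine_weaklyEmbedded [Finite S] (hS : IsPGroup p S) {j : ℕ}
    (hW : WeaklyEmbeddedOfOrder F (p ^ j)) {T : Subgroup Ω} (hTS : T ≤ S)
    (C : Subgroup Ω → Prop) (hsup : ∀ A B, C A → C B → C (A ⊔ B))
    (hinf : ∀ A B, C A → C B → C (A ⊓ B)) (hle : ∀ A, C A → A ≤ T) (hT : C T)
    (hclosed : ∀ P, F.StronglyClosed P → C (P ⊓ T)) {L₀ : Subgroup Ω} (hL₀ : C L₀)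
    (h1 : Nat.card L₀ ≤ p ^ j) (h2 : p ^ j ≤ Nat.card T) :
    ∃ K, C K ∧ L₀ ≤ K ∧ Nat.card K = p ^ j := by
  have := finite_of_le hTS
  obtain ⟨K, ⟨hK, hL₀K, hKc⟩, hmax⟩ := exists_max_card (S := S)
    (fun K => C K ∧ L₀ ≤ K ∧ Nat.card K ≤ p ^ j) (fun K => Nat.card K)
    (fun K hK => (hle K hK.1).trans hTS) ⟨L₀, hL₀, le_rfl, h1⟩
  refine ⟨K, hK, hL₀K, le_antisymm hKc (le_of_not_gt fun hlt => ?_)⟩
  -- the least member above `K` of large order
  have hne : ({n | ∃ B, C B ∧ K ≤ B ∧ p ^ j < Nat.card B ∧ Nat.card B = n} : Set ℕ).Nonempty := by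
    rcases eq_or_lt_of_le h2 with h | h
    · exfalso
      have := hmax T ⟨hT, hL₀K.trans (hle K hK), h ▸ le_rfl⟩
      omega
    · exact ⟨_, T, hT, hle K hK, h, rfl⟩
  obtain ⟨n, ⟨B, hB, hKB, hBc, hBn⟩, hmin⟩ :=
    Nat.lt_wfRel.wf.has_min _ hne
  have hBS : B ≤ S := (hle B hB).trans hTS
  have := finite_of_le hBS
  -- every member between `K` and `B` is `K` or `B`
  have hdich : ∀ X, C X → K ≤ X → X ≤ B → X = K ∨ X = B := by
    intro X hX hKX hXB
    rcases le_or_gt (Nat.card X) (p ^ j) with h | h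
    · have := finite_of_le ((hle X hX).trans hTS)
      exact Or.inl (Subgroup.eq_of_le_of_card_ge hKX
        (hmax X ⟨hX, hL₀K.trans hKX, h⟩)).symm
    · refine Or.inr (Subgroup.eq_of_le_of_card_ge hXB (le_of_not_gt fun hXlt => ?_))
      exact hmin _ ⟨X, hX, hKX, h, rfl⟩ (show Nat.card X < n from hBn ▸ hXlt)
  obtain ⟨Q, hKQ, hQB, hQc⟩ := exists_between_card hS hKB hBS hlt.le hBc.le
  have := finite_of_le (hQB.trans hBS)
  obtain ⟨P, hP, hQP, hQP'⟩ := hW Q (hQB.trans hBS) hQc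
  have hQK : Q ≠ K := fun h => by rw [h] at hQc; omega
  have hQT : Q ≤ T := hQB.trans (hle B hB)
  -- the meet
  have hX : Q ⊓ P ≤ K := by
    have h1 : C (Q ⊓ P ⊔ K) := hsup _ _ (by
      have := hclosed _ hQP'
      rwa [inf_eq_left.2 (inf_le_left.trans hQT)] at this) hK
    rcases hdich _ h1 le_sup_right (sup_le (inf_le_left.trans hQB) hKB) with h | h
    · exact sup_eq_right.1 h
    · exfalso
      have h3 : B ≤ Q := h ▸ sup_le inf_le_left hKQ
      have := Subgroup.card_le_of_le h3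
      omega
  -- the join
  have hY : B ≤ Q ⊔ P := by
    have h1 : C ((Q ⊔ P) ⊓ T ⊓ B) := hinf _ _ (hclosed _ hQP) hB
    rcases hdich _ h1 (le_inf (le_inf (hKQ.trans le_sup_left) (hle K hK)) hKB) inf_le_right
      with h | h
    · exfalso
      refine hQK (le_antisymm ?_ hKQ)
      exact h ▸ le_inf (le_inf le_sup_left hQT) hQB
    · exact h ▸ (inf_le_left.trans inf_le_left)
  have hPn : Q ≤ Subgroup.normalizer (P : Set Ω) :=
    (hQB.trans hBS).trans (le_normalizer_of_stronglyClosed hP)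
  -- `B` is generated by `Q` and `P ⊓ B`
  have hBQ : B ≤ Q ⊔ P ⊓ B := by
    intro x hx
    obtain ⟨q, hq, t, ht, rfl⟩ := exists_mul_of_mem_sup hPn (hY hx)
    refine Subgroup.mul_mem _ ((le_sup_left : Q ≤ Q ⊔ P ⊓ B) hq) ?_
    refine (le_sup_right : P ⊓ B ≤ Q ⊔ P ⊓ B) ⟨ht, ?_⟩
    have := B.mul_mem (B.inv_mem (hQB hq)) hx
    rwa [inv_mul_cancel_left] at this
  have h1 : C (P ⊓ B ⊔ K) := by
    have := hinf _ _ (hclosed _ hP) hB
    rw [inf_assoc, inf_eq_right.2 (hle B hB)] at this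
    exact hsup _ _ this hK
  rcases hdich _ h1 le_sup_right (sup_le inf_le_right hKB) with h | h
  · have h3 : B ≤ Q := hBQ.trans (sup_le le_rfl ((sup_eq_right.1 h).trans hKQ))
    have := Subgroup.card_le_of_le h3
    omega
  · refine hQK (le_antisymm (fun q hq => ?_) hKQ)
    have hn : K ≤ Subgroup.normalizer ((P ⊓ B : Subgroup Ω) : Set Ω) := by
      intro k hk
      refine Subgroup.mem_normalizer_iff.2 fun y => ?_
      have hkB : k ∈ B := hKB hk
      have hkP := Subgroup.mem_normalizer_iff.1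
        (le_normalizer_of_stronglyClosed hP (hBS hkB)) y
      constructor
      · rintro ⟨hy1, hy2⟩
        exact ⟨hkP.1 hy1, B.mul_mem (B.mul_mem hkB hy2) (B.inv_mem hkB)⟩
      · rintro ⟨hy1, hy2⟩
        refine ⟨hkP.2 hy1, ?_⟩
        have := B.mul_mem (B.mul_mem (B.inv_mem hkB) hy2) hkB
        rwa [mul_assoc, mul_assoc, inv_mul_cancel, mul_one, inv_mul_cancel_left] at this
    obtain ⟨k, hk, m, hm, rfl⟩ :=
      exists_mul_of_mem_sup hn (show q ∈ K ⊔ P ⊓ B by rw [sup_comm, h]; exact hQB hq)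
    have hmQ : m ∈ Q := by
      have := Q.mul_mem (Q.inv_mem (hKQ hk)) hq
      rwa [inv_mul_cancel_left] at this
    exact K.mul_mem hk (hX ⟨hmQ, hm.1⟩)

variable [Finite S]

/-- The automorphisms in `F` of `R` that are trivial modulo a strongly closed subgroup. -/
def autModClosed (F : FusionSystem S) (R T : Subgroup Ω) : Subgroup (F.autGroup R) where
  carrier := {β | ∀ x : R, (x : Ω)⁻¹ * ((β : MulAut R) x : Ω) ∈ T}
  one_mem' := fun x => by simp
  mul_mem' := fun {a b} ha hb x => by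
    have := T.mul_mem (hb x) (ha ((b : MulAut R) x))
    rwa [mul_assoc, mul_inv_cancel_left] at this
  inv_mem' := fun {a} ha x => by
    have := T.inv_mem (ha ((a : MulAut R)⁻¹ x))
    rwa [MulAut.apply_inv_self, mul_inv_rev, inv_inv] at this

theorem mem_autModClosed {R T : Subgroup Ω} {β : F.autGroup R} :
    β ∈ autModClosed F R T ↔ ∀ x : R, (x : Ω)⁻¹ * ((β : MulAut R) x : Ω) ∈ T := Iff.rfl

theorem normal_autModClosed {R T : Subgroup Ω} (hT : F.StronglyClosed T) :
    (autModClosed F R T).Normal :=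
  ⟨fun a ha b x => by
    have h1 := ha ((b : MulAut R)⁻¹ x)
    have h2 := autGroup_apply_mem hT b.2
      (x := ((b : MulAut R)⁻¹ x)⁻¹ * (a : MulAut R) ((b : MulAut R)⁻¹ x)) h1
    rw [map_mul, map_inv, MulAut.apply_inv_self] at h2
    exact h2⟩

/-- Automorphisms of order prime to `p` are trivial modulo `T`. -/
def PrimeTrivialModClosed (F : FusionSystem S) (p : ℕ) (T : Subgroup Ω) : Prop :=
  ∀ E : Subgroup Ω, E ≤ S → ∀ α : F.autGroup E, (orderOf α).Coprime p → α ∈ autModClosed F E T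

/-- Normality in `E` is inherited by joins and meets. -/
theorem le_normalizer_sup_inf {E A B : Subgroup Ω} (hA : E ≤ Subgroup.normalizer (A : Set Ω))
    (hB : E ≤ Subgroup.normalizer (B : Set Ω)) :
    E ≤ Subgroup.normalizer ((A ⊔ B : Subgroup Ω) : Set Ω) ∧
      E ≤ Subgroup.normalizer ((A ⊓ B : Subgroup Ω) : Set Ω) := by
  refine ⟨fun g hg => ?_, fun g hg => ?_⟩
  · rw [← conjSub_eq_iff_mem_normalizer] at *
    rw [conjSub, Subgroup.map_sup]
    change conjSub g A ⊔ conjSub g B = A ⊔ B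
    rw [conjSub_eq_iff_mem_normalizer.2 (hA hg), conjSub_eq_iff_mem_normalizer.2 (hB hg)]
  · refine Subgroup.mem_normalizer_iff.2 fun y => ?_
    change (y ∈ A ∧ y ∈ B) ↔ (g * y * g⁻¹ ∈ A ∧ g * y * g⁻¹ ∈ B)
    rw [← Subgroup.mem_normalizer_iff.1 (hA hg) y, ← Subgroup.mem_normalizer_iff.1 (hB hg) y]

/-- Inner normalizer systems make automorphisms of prime-to-`p` order of large subgroups
trivial. -/
theorem eq_one_of_card_ge_of_weaklyEmbedded (hS : IsPGroup p S) (hF : F.IsSaturated p) {j : ℕ}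
    (hW : WeaklyEmbeddedOfOrder F (p ^ j))
    (hN : ∀ H : Subgroup Ω, F.IsFullyNormalized H → Nat.card H = p ^ j →
      ∀ N : FusionSystem (normalizerIn S H), F.IsNormalizerSystem H N →
        ∀ P : Subgroup Ω, N.Hom P = (innerFusionSystem (normalizerIn S H)).Hom P)
    {E : Subgroup Ω} (hES : E ≤ S) (hEc : p ^ j ≤ Nat.card E) (α : F.autGroup E)
    (hα : (orderOf α).Coprime p) : α = 1 := by
  have := finite_of_le hES
  have hαF : IsIso F (α : MulAut E) := (mem_autGroup_iff F hES).1 α.2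
  let C : Subgroup Ω → Prop := fun A => A ≤ E ∧ E ≤ Subgroup.normalizer (A : Set Ω) ∧
    ∀ x : E, (x : Ω) ∈ A → ((α : MulAut E) x : Ω) ∈ A
  let comapA : Subgroup Ω → Subgroup E := fun A => A.subgroupOf E
  have hsup : ∀ A B, C A → C B → C (A ⊔ B) := by
    rintro A B ⟨hA, hA', hA''⟩ ⟨hB, hB', hB''⟩
    refine ⟨sup_le hA hB, (le_normalizer_sup_inf hA' hB').1, fun x hx => ?_⟩
    have hle : (A ⊔ B).subgroupOf E ≤
        ((A ⊔ B).subgroupOf E).comap (α : MulAut E).toMonoidHom := by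
      rw [Subgroup.subgroupOf_sup hA hB]
      refine sup_le (fun y hy => ?_) (fun y hy => ?_)
      · exact (le_sup_left : A.subgroupOf E ≤ A.subgroupOf E ⊔ B.subgroupOf E) (hA'' y hy)
      · exact (le_sup_right : B.subgroupOf E ≤ A.subgroupOf E ⊔ B.subgroupOf E) (hB'' y hy)
    exact hle hx
  have hinf : ∀ A B, C A → C B → C (A ⊓ B) := by
    rintro A B ⟨hA, hA', hA''⟩ ⟨-, hB', hB''⟩
    exact ⟨inf_le_left.trans hA, (le_normalizer_sup_inf hA' hB').2,
      fun x hx => ⟨hA'' x hx.1, hB'' x hx.2⟩⟩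
  have hT : C E := ⟨le_rfl, Subgroup.le_normalizer, fun x _ => ((α : MulAut E) x).2⟩
  have hclosed : ∀ P, F.StronglyClosed P → C (P ⊓ E) := fun P hP =>
    ⟨inf_le_right, (le_normalizer_sup_inf (hES.trans (le_normalizer_of_stronglyClosed hP))
      Subgroup.le_normalizer).2,
      fun x hx => ⟨autGroup_apply_mem hP α.2 hx.1, ((α : MulAut E) x).2⟩⟩
  have hbot : C ⊥ := ⟨bot_le, fun g _ => Subgroup.mem_normalizer_iff.2 fun y => by simp,
    fun x hx => by
      have : x = 1 := Subtype.ext (Subgroup.mem_bot.1 hx)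
      rw [this, map_one]
      exact one_mem _⟩
  obtain ⟨K, ⟨hKE, hKn, hKinv⟩, -, hKc⟩ := exists_refine_weaklyEmbedded hS hW hES C hsup hinf
    (fun A hA => hA.1) hT hclosed hbot
    (by rw [Subgroup.card_bot]; exact Nat.one_le_pow _ _ (Fact.out : p.Prime).pos) hEc
  have hKS := hKE.trans hES
  obtain ⟨H, hKH, hHn⟩ := exists_fullyNormalized F hKS
  obtain ⟨f, hle, hf, ψ, hψ, hψf, hψn⟩ :=
    exists_hom_normalizerIn_of_fullyNormalized hS hF hHn hKH
  have hEN : E ≤ normalizerIn S K := le_inf hES hKn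
  set E' := (ψ.comp (Subgroup.inclusion hEN)).range with hE'
  obtain ⟨e, he, hee⟩ : ∃ e : E ≃* E', IsIso F e ∧
      ∀ x : E, (e x : Ω) = ψ (Subgroup.inclusion hEN x) :=
    exists_iso_of_mem (res_mem F hψ hEN)
  have hE'n : E' ≤ normalizerIn S H := by
    rintro _ ⟨x, rfl⟩
    exact hψn _
  have hE'S : E' ≤ S := hE'n.trans (normalizerIn_le H)
  have := finite_of_le hE'S
  -- `e` carries `K` onto `H`
  have heK : ∀ x : E, (x : Ω) ∈ K → (e x : Ω) ∈ H := by
    intro x hx
    rw [hee x]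
    have h1 : Subgroup.inclusion hEN x = Subgroup.inclusion hle ⟨x, hx⟩ := rfl
    change ψ (Subgroup.inclusion hEN x) ∈ H
    rw [h1, hψf]
    exact (f _).2
  have heH : ∀ y : H, ∃ x : E, (x : Ω) ∈ K ∧ (e x : Ω) = y := by
    intro y
    refine ⟨⟨f.symm y, hKE (f.symm y).2⟩, (f.symm y).2, ?_⟩
    rw [hee]
    change ψ (Subgroup.inclusion hle (f.symm y)) = (y : Ω)
    rw [hψf, MulEquiv.apply_symm_apply]
  have hHE' : H ≤ E' := fun y hy => by
    obtain ⟨x, -, hx⟩ := heH ⟨y, hy⟩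
    have h1 := (e x).2
    rw [hx] at h1
    exact h1
  set β : F.autGroup E' := autEquiv he α with hβ
  have hβF : IsIso F (β : MulAut E') := (mem_autGroup_iff F hE'S).1 β.2
  have hβH : ∀ y : E', (y : Ω) ∈ H → ((β : MulAut E') y : Ω) ∈ H := by
    intro y hy
    obtain ⟨x, hxK, hx⟩ := heH ⟨y, hy⟩
    have hxy : e x = y := Subtype.ext hx
    rw [← hxy, autEquiv_coe]
    simp only [MulAut.congr, MulEquiv.coe_mk, Equiv.coe_fn_mk, MulEquiv.trans_apply,
      MulEquiv.symm_apply_apply]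
    exact heK _ (hKinv x hxK)
  -- `β` is a map of the normalizer system of `H`
  have hNS : E'.subtype.comp (β : MulAut E').toMonoidHom ∈ F.normalizerHom H E' := by
    obtain ⟨χ, hχ, hχe⟩ := mem_of_eq_sup (sup_eq_left.2 hHE').symm hβF
    refine ⟨hβF, hE'n, fun y => hE'n ((β : MulAut E') y).2, χ, hχ, fun y => by rw [hχe]; rfl, ?_⟩
    have := finite_of_le hHn.1
    refine Subgroup.eq_of_le_of_card_ge ?_
      (card_img (F.injective_of_mem hχ) le_sup_right).ge
    rintro _ ⟨z, hz, rfl⟩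
    obtain ⟨y, hy⟩ : ∃ y : E', Subgroup.inclusion le_sup_left y = z :=
      ⟨⟨z, hHE' hz⟩, rfl⟩
    subst hy
    rw [hχe]
    exact hβH y hz
  obtain ⟨-, g, hg, hge⟩ :=
    (hN H hHn ((card_eq_of_isConj hKH).symm.trans hKc) (normSys F H rfl hHn.1) (fun _ => rfl)
      E').le hNS
  have hgS : g ∈ S := normalizerIn_le H hg
  have hmem : (β : MulAut E') ∈ autInducedBy S E' :=
    mem_autInducedBy_iff.2 ⟨g, hgS, fun y => hge y⟩
  obtain ⟨m, hm⟩ := (isPGroup_autInducedBy hS E') ⟨_, hmem⟩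
  have hm' : β ^ p ^ m = 1 := Subtype.ext (by simpa using congrArg Subtype.val hm)
  have h1 : α ^ p ^ m = 1 := (autEquiv he).injective (by rw [map_pow, map_one]; exact hm')
  obtain ⟨k, hk⟩ := exists_pow_eq_self_of_coprime (hα.symm.pow_left m)
  rw [h1, one_pow] at hk
  exact hk.symm

/-- A congruence modulo a strongly closed subgroup passes to powers. -/
theorem pow_congr_mod_closed {E T : Subgroup Ω} (hT : F.StronglyClosed T) (α : F.autGroup E)
    (β : F.autGroup (E ⊔ T))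
    (h : ∀ x : E, (((α : MulAut E) x : Ω))⁻¹ *
      ((β : MulAut (E ⊔ T : Subgroup Ω)) (Subgroup.inclusion le_sup_left x) : Ω) ∈ T) (n : ℕ) :
    ∀ x : E, ((((α ^ n : F.autGroup E) : MulAut E) x : Ω))⁻¹ *
      (((β ^ n : F.autGroup (E ⊔ T)) : MulAut (E ⊔ T : Subgroup Ω))
        (Subgroup.inclusion le_sup_left x) : Ω) ∈ T := by
  induction n with
  | zero => intro x; simp
  | succ n ih =>
    intro x
    rw [pow_succ', pow_succ']
    set y := ((α ^ n : F.autGroup E) : MulAut E) x with hy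
    set z := ((β ^ n : F.autGroup (E ⊔ T)) : MulAut (E ⊔ T : Subgroup Ω))
      (Subgroup.inclusion le_sup_left x) with hz
    have h2 := autGroup_apply_mem hT β.2
      (x := (Subgroup.inclusion le_sup_left y)⁻¹ * z) (ih x)
    rw [map_mul, map_inv, Subgroup.coe_mul, Subgroup.coe_inv] at h2
    have h3 := T.mul_mem (h y) h2
    rw [mul_assoc, mul_inv_cancel_left] at h3
    exact h3

/-- An element of the automorphism group of coprime order lies in a subgroup containing one of its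
`p`-power powers. -/
theorem mem_of_pow_prime_pow_mem {G : Type*} [Group G] (K : Subgroup G) {g : G}
    (hg : (orderOf g).Coprime p) {m : ℕ} (h : g ^ p ^ m ∈ K) : g ∈ K := by
  obtain ⟨k, hk⟩ := exists_pow_eq_self_of_coprime (hg.symm.pow_left m)
  exact hk ▸ K.pow_mem h k

/-- If elements of order prime to `p` are trivial, every element has `p`-power order. -/
theorem exists_pow_eq_one_of_coprime_trivial {G : Type*} [Group G] [Finite G]
    (h : ∀ g : G, (orderOf g).Coprime p → g = 1) (g : G) : ∃ m : ℕ, g ^ p ^ m = 1 := by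
  obtain ⟨e, n', hn', he⟩ :=
    Nat.exists_eq_pow_mul_and_not_dvd (orderOf_pos g).ne' p (Fact.out : p.Prime).ne_one
  refine ⟨e, h _ ?_⟩
  have hpe : 0 < p ^ e := pow_pos (Fact.out : p.Prime).pos e
  rw [orderOf_pow' g hpe.ne', he, Nat.gcd_eq_right (dvd_mul_right _ _),
    Nat.mul_div_cancel_left _ hpe]
  exact ((Fact.out : p.Prime).coprime_iff_not_dvd.2 hn').symm

omit [Fact p.Prime] in
/-- A trivial action modulo `T` on all automorphisms of order prime to `p` bounds the hyperfocal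
subgroup. -/
theorem hyperfocalSubgroup_le_of_primeTrivial {T : Subgroup Ω}
    (h : PrimeTrivialModClosed F p T) : F.hyperfocalSubgroup p ≤ T := by
  refine (Subgroup.closure_le _).2 ?_
  rintro _ ⟨P, α, x, hP, hα, rfl⟩
  have h1 : pResidual p (F.autGroup P) ≤ autModClosed F P T :=
    (Subgroup.closure_le _).2 fun β hβ => h P hP β hβ
  exact h1 hα x

/-- Maps of `F` between strongly closed subgroups: the base step. -/
theorem primeTrivial_of_card_eq (hS : IsPGroup p S) (hF : F.IsSaturated p) {j : ℕ}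
    (hbig : ∀ E : Subgroup Ω, E ≤ S → p ^ j ≤ Nat.card E →
      ∀ α : F.autGroup E, (orderOf α).Coprime p → α = 1)
    {N : Subgroup Ω} (hN : F.StronglyClosed N) (hNc : Nat.card N = p ^ j) :
    PrimeTrivialModClosed F p N := by
  intro E hES α hα
  have := finite_of_le hES
  obtain ⟨ψ, hψ, hψe⟩ := exists_hat hS hF hN ((mem_autGroup_iff F hES).1 α.2)
  have hsupS : E ⊔ N ≤ S := sup_le hES hN.1
  have := finite_of_le hsupS
  have hr : ψ.range = E ⊔ N := by
    refine Subgroup.eq_of_le_of_card_ge ?_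
      (Nat.card_congr (MonoidHom.ofInjective (F.injective_of_mem hψ)).toEquiv).le
    have h1 : (E ⊔ N).subgroupOf (E ⊔ N) ≤ ((E ⊔ N : Subgroup Ω)).comap ψ := by
      rw [Subgroup.subgroupOf_sup le_sup_left le_sup_right]
      refine sup_le (fun y hy => ?_) (fun y hy => ?_)
      · have h1 := hψe ⟨y, hy⟩
        have h2 := (E ⊔ N).mul_mem
          ((le_sup_left : E ≤ E ⊔ N) ((α : MulAut E) ⟨y, hy⟩).2)
          ((le_sup_right : N ≤ E ⊔ N) h1)
        change ψ y ∈ E ⊔ N
        change ((α : MulAut E) ⟨y, hy⟩ : Ω) * (((α : MulAut E) ⟨y, hy⟩ : Ω)⁻¹ * ψ y) ∈ E ⊔ N at h2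
        rwa [mul_inv_cancel_left] at h2
      · have := hN.2 N le_rfl _ (res_mem F hψ le_sup_right) ⟨y, hy⟩
        exact (le_sup_right : N ≤ E ⊔ N) this
    rintro _ ⟨y, rfl⟩
    exact h1 (show y ∈ (E ⊔ N).subgroupOf (E ⊔ N) from y.2)
  obtain ⟨b, hb, hbe⟩ := exists_iso_of_range hψ hr
  set β : F.autGroup (E ⊔ N) := ⟨b, (mem_autGroup_iff F hsupS).2 hb⟩
  have : Finite (F.autGroup (E ⊔ N)) := inferInstance
  have hcard : p ^ j ≤ Nat.card (E ⊔ N : Subgroup Ω) :=
    hNc ▸ Subgroup.card_le_of_le le_sup_right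
  obtain ⟨m, hm⟩ := exists_pow_eq_one_of_coprime_trivial (hbig _ hsupS hcard) β
  refine mem_of_pow_prime_pow_mem _ hα (m := m) fun x => ?_
  have h2 := pow_congr_mod_closed hN α β (fun y => by
    rw [show ((β : MulAut (E ⊔ N : Subgroup Ω)) (Subgroup.inclusion le_sup_left y) : Ω) =
      ψ (Subgroup.inclusion le_sup_left y) from hbe _]
    exact hψe y) (p ^ m) x
  rw [hm] at h2
  have h3 := N.inv_mem h2
  simp only [OneMemClass.coe_one, MulAut.one_apply, Subgroup.coe_inclusion, mul_inv_rev,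
    inv_inv] at h3
  exact h3

/-- Automorphisms of order prime to `p` are trivial modulo `N` when they are so modulo a strongly
closed `L ≥ N` of index `p` and `S` acts trivially on `L / N`. -/
theorem primeTrivial_of_index_prime (hS : IsPGroup p S) (hF : F.IsSaturated p)
    (hAS : ∀ α : F.autGroup S, (orderOf α).Coprime p → α = 1)
    {N L : Subgroup Ω} (hN : F.StronglyClosed N) (hL : F.StronglyClosed L) (hNL : N ≤ L)
    (hact : ∀ g ∈ S, ∀ x ∈ L, x⁻¹ * (g * x * g⁻¹) ∈ N)
    (hgap : ∀ D : Subgroup Ω, N ≤ D → D ≤ L → D = N ∨ D = L)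
    (hT : PrimeTrivialModClosed F p L) : PrimeTrivialModClosed F p N := by
  have := finite_of_le hL.1
  have hLn : L ≤ Subgroup.normalizer (N : Set Ω) :=
    hL.1.trans (le_normalizer_of_stronglyClosed hN)
  -- every automorphism of `L` has a `p`-power that is trivial modulo `N`
  have hLfn : F.IsFullyNormalized L := by
    refine ⟨hL.1, fun Q hQ => ?_⟩
    obtain ⟨e, he⟩ := isConj_iff.1 hQ
    have h1 : Q = L := by
      have hQS := he.le_right
      have := finite_of_le hQS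
      refine Subgroup.eq_of_le_of_card_ge (fun y hy => ?_) (card_eq_of_isConj hQ).le
      have := hL.2 L le_rfl _ he (e.symm ⟨y, hy⟩)
      simpa using this
    rw [h1]
  obtain ⟨hLa, hLr⟩ := fullyAutomized_receptive_of_fullyNormalized hS hF hLfn
  obtain ⟨-, Y, hY⟩ := hLa
  have hK := normal_autModClosed (R := L) hN
  set K := autModClosed F L N with hKdef
  have hYK : (Y : Subgroup (F.autGroup L)) ≤ K := by
    intro β hβ x
    rw [hY, Subgroup.mem_subgroupOf, mem_autInducedBy_iff] at hβ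
    obtain ⟨g, hg, hge⟩ := hβ
    rw [hge]
    exact hact g hg x x.2
  have hrest : ∀ β ∈ Subgroup.normalizer (Y : Set (F.autGroup L)),
      ∃ γ : F.autGroup S, ∀ x : L,
        ((γ : MulAut S) ⟨x, hL.1 x.2⟩ : Ω) = ((β : MulAut L) x : Ω) := by
    intro β hβ
    have hβ' : IsIso F (β : MulAut L) := (mem_autGroup_iff F hL.1).1 β.2
    have hM : S ≤ extender S L (L.subtype.comp (β : MulAut L).toMonoidHom) := by
      intro g hg
      have hgn := le_normalizer_of_stronglyClosed hL hg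
      refine mem_extender_iso_iff.2 ⟨hg, hgn, ?_⟩
      have h1 : normAut g hgn ∈ autInducedBy S L := mem_autInducedBy_iff.2 ⟨g, hg, fun _ => rfl⟩
      have h2 := (Subgroup.mem_normalizer_iff.1 hβ
        ⟨normAut g hgn, autInducedBy_le_autGroup hL.1 h1⟩).1 (by rwa [hY, Subgroup.mem_subgroupOf])
      rw [hY, Subgroup.mem_subgroupOf] at h2
      convert h2 using 1
      exact MulEquiv.ext fun y => rfl
    obtain ⟨ψ, hψ, hψe⟩ := exists_extension hLr hβ' hL.1 hM
    have hr : ψ.range = S := eq_S_of_isConj_S ⟨ψ, hψ, rfl⟩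
    obtain ⟨γ, hγ, hγe⟩ := exists_iso_of_range hψ hr
    exact ⟨⟨γ, (mem_autGroup_iff F le_rfl).2 hγ⟩, fun x =>
      (hγe (Subgroup.inclusion hL.1 x)).trans (hψe x)⟩
  have hLpow : ∀ β : F.autGroup L, ∃ m : ℕ, β ^ p ^ m ∈ K := by
    intro β
    have htop := Sylow.normalizer_sup_eq_top' Y hYK
    have hmem : β ∈ Subgroup.normalizer (Y : Set (F.autGroup L)) ⊔ K := by
      rw [htop]; exact Subgroup.mem_top _
    rw [← SetLike.mem_coe, Subgroup.mul_normal] at hmem
    obtain ⟨n, hn, k, hk, rfl⟩ := hmem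
    obtain ⟨γ, hγ⟩ := hrest n hn
    obtain ⟨m, hm⟩ := exists_pow_eq_one_of_coprime_trivial hAS γ
    refine ⟨m, ?_⟩
    have hpow : ∀ (i : ℕ) (x : L), (((γ ^ i : F.autGroup S) : MulAut S) ⟨x, hL.1 x.2⟩ : Ω) =
        (((n ^ i : F.autGroup L) : MulAut L) x : Ω) := by
      intro i
      induction i with
      | zero => intro x; simp
      | succ i ih =>
        intro x
        rw [pow_succ', pow_succ']
        have h1 : ((γ ^ i : F.autGroup S) : MulAut S) ⟨x, hL.1 x.2⟩ =
            ⟨((n ^ i : F.autGroup L) : MulAut L) x, hL.1 (SetLike.coe_mem _)⟩ :=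
          Subtype.ext (ih x)
        change ((γ : MulAut S) (((γ ^ i : F.autGroup S) : MulAut S) ⟨x, hL.1 x.2⟩) : Ω) = _
        rw [h1, hγ]
        rfl
    have hn1 : n ^ p ^ m = 1 := by
      refine Subtype.ext (MulEquiv.ext fun x => Subtype.ext ?_)
      rw [← hpow, hm]
      rfl
    have hq : (QuotientGroup.mk' K) ((n * k) ^ p ^ m) = 1 := by
      rw [map_pow, map_mul, show (QuotientGroup.mk' K) k = 1 from
        (QuotientGroup.eq_one_iff k).2 hk, mul_one, ← map_pow, hn1, map_one]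
    exact (QuotientGroup.eq_one_iff _).1 hq
  intro E hES α hα
  have := finite_of_le hES
  -- triviality modulo `N` on `E ⊓ L`
  have hD : ∀ x : E, (x : Ω) ∈ L → (x : Ω)⁻¹ * ((α : MulAut E) x : Ω) ∈ N := by
    by_cases hcase : E ⊓ L ≤ N
    · intro x hx
      exact N.mul_mem (N.inv_mem (hcase ⟨x.2, hx⟩))
        (hcase ⟨((α : MulAut E) x).2, autGroup_apply_mem hL α.2 hx⟩)
    obtain ⟨ψ, hψ, hψe⟩ := exists_hat hS hF hN
      (res_mem F ((mem_autGroup_iff F hES).1 α.2) (inf_le_left : E ⊓ L ≤ E))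
    have hsup : (E ⊓ L) ⊔ N = L := (hgap _ le_sup_right (sup_le inf_le_right hNL)).resolve_left
      (fun h => hcase (sup_eq_right.1 h))
    obtain ⟨ψ', hψ', hψ'e⟩ := mem_of_eq_sup hsup hψ
    have hr : ψ'.range = L := by
      refine Subgroup.eq_of_le_of_card_ge ?_
        (Nat.card_congr (MonoidHom.ofInjective (F.injective_of_mem hψ')).toEquiv).le
      rintro _ ⟨y, rfl⟩
      exact hL.2 L le_rfl _ hψ' y
    obtain ⟨b, hb, hbe⟩ := exists_iso_of_range hψ' hr
    set β : F.autGroup L := ⟨b, (mem_autGroup_iff F hL.1).2 hb⟩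
    have hcong : ∀ x : E, ∀ hx : (x : Ω) ∈ L,
        (((α : MulAut E) x : Ω))⁻¹ * ((β : MulAut L) ⟨x, hx⟩ : Ω) ∈ N := by
      intro x hx
      have h1 := hψe ⟨x, x.2, hx⟩
      rw [show ((β : MulAut L) ⟨x, hx⟩ : Ω) = ψ' ⟨x, hx⟩ from hbe _, hψ'e]
      exact h1
    have hpow : ∀ (i : ℕ) (x : E) (hx : (x : Ω) ∈ L),
        ((((α ^ i : F.autGroup E) : MulAut E) x : Ω))⁻¹ *
          (((β ^ i : F.autGroup L) : MulAut L) ⟨x, hx⟩ : Ω) ∈ N := by
      intro i
      induction i with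
      | zero => intro x hx; simp
      | succ i ih =>
        intro x hx
        rw [pow_succ', pow_succ']
        have hy : (((α ^ i : F.autGroup E) : MulAut E) x : Ω) ∈ L :=
          autGroup_apply_mem hL (α ^ i).2 hx
        have h2 := autGroup_apply_mem hN β.2
          (x := (⟨_, hy⟩ : L)⁻¹ * ((β ^ i : F.autGroup L) : MulAut L) ⟨x, hx⟩) (ih x hx)
        rw [map_mul, map_inv, Subgroup.coe_mul, Subgroup.coe_inv] at h2
        have h3 := N.mul_mem (hcong _ hy) h2
        rw [mul_assoc, mul_inv_cancel_left] at h3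
        exact h3
    obtain ⟨m, hm⟩ := hLpow β
    intro x hx
    let A : Subgroup (F.autGroup E) :=
      { carrier := {γ | ∀ y : E, (y : Ω) ∈ L → (y : Ω)⁻¹ * ((γ : MulAut E) y : Ω) ∈ N}
        one_mem' := fun y _ => by simp
        mul_mem' := fun {a b} ha hb y hy => by
          have := N.mul_mem (hb y hy) (ha ((b : MulAut E) y) (autGroup_apply_mem hL b.2 hy))
          rwa [mul_assoc, mul_inv_cancel_left] at this
        inv_mem' := fun {a} ha y hy => by
          have := N.inv_mem (ha ((a : MulAut E)⁻¹ y) (autGroup_apply_mem hL (a⁻¹).2 hy))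
          rwa [MulAut.apply_inv_self, mul_inv_rev, inv_inv] at this }
    refine (mem_of_pow_prime_pow_mem A hα (m := m) fun y hy => ?_) x hx
    have h1 := N.mul_mem (hm ⟨y, hy⟩) (N.inv_mem (hpow (p ^ m) y hy))
    rw [mul_inv_rev, inv_inv, mul_assoc, mul_inv_cancel_left] at h1
    exact h1
  -- from `L` to `N`
  intro x
  set y : E := x⁻¹ * (α : MulAut E) x with hy
  have hyL : (y : Ω) ∈ L := hT E hES α hα x
  have hEn : E ≤ Subgroup.normalizer (N : Set Ω) :=
    hES.trans (le_normalizer_of_stronglyClosed hN)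
  have := Subgroup.normal_subgroupOf_iff_le_normalizer_inf (H := N) (K := E) |>.2
    ((le_normalizer_sup_inf hEn Subgroup.le_normalizer).2)
  let π := QuotientGroup.mk' (N.subgroupOf E)
  have hker : ∀ a b : E, π a = π b ↔ (a : Ω)⁻¹ * b ∈ N := by
    intro a b
    rw [QuotientGroup.mk'_apply, QuotientGroup.mk'_apply, QuotientGroup.eq]
    rfl
  have hαy : π ((α : MulAut E) y) = π y := ((hker _ _).2 (hD y hyL)).symm
  have hit : ∀ i : ℕ, π (((α ^ i : F.autGroup E) : MulAut E) x) = π x * π y ^ i := by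
    intro i
    induction i with
    | zero => simp
    | succ i ih =>
      rw [pow_succ']
      have h1 : π (((α ^ i : F.autGroup E) : MulAut E) x) = π (x * y ^ i) := by
        rw [ih, ← map_pow π, ← map_mul π]
      have h2 : π ((α : MulAut E) (((α ^ i : F.autGroup E) : MulAut E) x)) =
          π ((α : MulAut E) (x * y ^ i)) := by
        rw [hker] at h1 ⊢
        have := autGroup_apply_mem hN α.2
          (x := (((α ^ i : F.autGroup E) : MulAut E) x)⁻¹ * (x * y ^ i)) h1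
        rwa [map_mul, map_inv] at this
      change π ((α : MulAut E) (((α ^ i : F.autGroup E) : MulAut E) x)) = _
      rw [h2, map_mul (α : MulAut E), map_pow (α : MulAut E), map_mul π, map_pow π, hαy,
        pow_succ', ← mul_assoc]
      congr 1
      rw [← map_mul, hy, mul_inv_cancel_left]
  have h0 := hit (orderOf α)
  rw [pow_orderOf_eq_one] at h0
  have h1 : π y ^ orderOf α = 1 := by simpa using h0
  obtain ⟨m, hm⟩ := (hS.to_le hES) y
  have h2 : π y ^ p ^ m = 1 := by rw [← map_pow, hm, map_one]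
  have h3 : π y = 1 := by
    rw [← pow_one (π y), ← Nat.Coprime.gcd_eq_one (hα.pow_right m)]
    exact pow_gcd_eq_one.2 ⟨h1, h2⟩
  exact (QuotientGroup.eq_one_iff y).1 h3

/-- An element of every maximal subgroup containing `N` lies in `N Φ(G)`. -/
theorem mem_sup_frattini_of_forall_coatom {G : Type*} [Group G] [Finite G] (hG : IsPGroup p G)
    {N : Subgroup G} {y : G} (h : ∀ M : Subgroup G, IsCoatom M → N ≤ M → y ∈ M) :
    y ∈ N ⊔ frattini G := by
  by_contra hy
  obtain ⟨K, hK⟩ := (Set.toFinite {K : Subgroup G | N ⊔ frattini G ≤ K ∧ y ∉ K}).exists_maximal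
    ⟨_, le_rfl, hy⟩
  obtain ⟨hNK, hyK⟩ := hK.prop
  have hΦ : frattini G ≤ K := le_sup_right.trans hNK
  have hup : ∀ L, K < L → y ∈ L := fun L hL => by
    by_contra h
    exact hL.not_ge (hK.le_of_ge ⟨hNK.trans hL.le, h⟩ hL.le)
  have hKn : K.Normal := ⟨fun a ha g => by
    have := K.mul_mem (hΦ (PGroup.commutator_le_frattini hG (Subgroup.commutator_mem_commutator
      (Subgroup.mem_top g) (Subgroup.mem_top a)))) ha
    simpa [commutatorElement_def, mul_assoc] using this⟩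
  refine hyK (h K ⟨fun ht => hyK (ht ▸ Subgroup.mem_top y), fun L hL => ?_⟩
    (le_sup_left.trans hNK))
  refine (Subgroup.eq_top_iff' L).2 fun g => ?_
  by_cases hg : g ∈ K
  · exact hL.le hg
  have h1 := hup (K ⊔ Subgroup.zpowers g) (lt_of_le_of_ne le_sup_left fun h =>
    hg (h.symm ▸ Subgroup.mem_sup_right (Subgroup.mem_zpowers g)))
  rw [← SetLike.mem_coe, Subgroup.normal_mul] at h1
  obtain ⟨k, hk, _, ⟨i, rfl⟩, hki⟩ := h1
  have hnd : ¬ (p : ℤ) ∣ i := by
    rintro ⟨c, rfl⟩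
    refine hyK (hki ▸ K.mul_mem hk ?_)
    change g ^ ((p : ℤ) * c) ∈ K
    rw [zpow_mul, zpow_natCast]
    exact K.zpow_mem (hΦ (PGroup.pow_mem_frattini hG g)) c
  obtain ⟨a, b, hab⟩ := ((Nat.prime_iff_prime_int.1 Fact.out).coprime_iff_not_dvd (n := i)).2 hnd
  have hgi : g ^ i ∈ L := by
    have hy' : k * g ^ i ∈ L := by
      exact (show k * g ^ i = y from hki).symm ▸ hup L hL
    have := L.mul_mem (L.inv_mem (hL.le hk)) hy'
    rwa [inv_mul_cancel_left] at this
  have hgp : g ^ (p : ℤ) ∈ L := by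
    rw [zpow_natCast]
    exact hL.le (hΦ (PGroup.pow_mem_frattini hG g))
  rw [← zpow_one g, ← hab, zpow_add, mul_comm a, mul_comm b, zpow_mul, zpow_mul]
  exact L.mul_mem (L.zpow_mem hgp a) (L.zpow_mem hgi b)

/-- **The criterion**: weakly embedded subgroups of one order with inner normalizer systems force
the inner system. -/
theorem hom_eq_inner_of_weaklyEmbedded (hS : IsPGroup p S) (hF : F.IsSaturated p) {j : ℕ}
    (hj : p ^ j < Nat.card S) (hW : WeaklyEmbeddedOfOrder F (p ^ j))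
    (hN : ∀ H : Subgroup Ω, F.IsFullyNormalized H → Nat.card H = p ^ j →
      ∀ N : FusionSystem (normalizerIn S H), F.IsNormalizerSystem H N →
        ∀ P : Subgroup Ω, N.Hom P = (innerFusionSystem (normalizerIn S H)).Hom P)
    (P : Subgroup Ω) : F.Hom P = (innerFusionSystem S).Hom P := by
  refine hom_eq_inner_of_hyperfocal_eq_bot hS hF ?_ P
  by_contra hne
  set H := F.hyperfocalSubgroup p with hH
  have hbig : ∀ E : Subgroup Ω, E ≤ S → p ^ j ≤ Nat.card E →
      ∀ α : F.autGroup E, (orderOf α).Coprime p → α = 1 := fun E hES hEc α hα =>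
    eq_one_of_card_ge_of_weaklyEmbedded hS hF hW hN hES hEc α hα
  have hCsup : ∀ A B, F.StronglyClosed A → F.StronglyClosed B → F.StronglyClosed (A ⊔ B) :=
    fun A B hA hB => stronglyClosed_sup hS hF hA hB
  have hpj : 1 ≤ p ^ j := Nat.one_le_pow _ _ (Fact.out : p.Prime).pos
  -- a largest strongly closed subgroup of order at most `p ^ j` not containing `H`
  obtain ⟨N, ⟨hN', hHN, hNc⟩, hmax⟩ := exists_max_card (S := S)
    (fun X => F.StronglyClosed X ∧ ¬ H ≤ X ∧ Nat.card X ≤ p ^ j) (fun X => Nat.card X)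
    (fun X hX => hX.1.1) ⟨⊥, stronglyClosed_bot_sub, fun h => hne (le_bot_iff.1 h),
      Subgroup.card_bot.trans_le hpj⟩
  have := finite_of_le hN'.1
  have hlt : Nat.card N < p ^ j := by
    refine lt_of_le_of_ne hNc fun h => hHN ?_
    exact hyperfocalSubgroup_le_of_primeTrivial (primeTrivial_of_card_eq hS hF hbig hN' h)
  -- every strongly closed subgroup properly above `N` contains `H`
  have habove : ∀ X, F.StronglyClosed X → N < X → H ≤ X := by
    intro X hX hNX
    have := finite_of_le hX.1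
    have hcard : ∀ Y, F.StronglyClosed Y → N < Y → Nat.card Y ≤ p ^ j → H ≤ Y := by
      intro Y hY hNY hYc
      by_contra hcon
      have := finite_of_le hY.1
      exact hNY.ne (Subgroup.eq_of_le_of_card_ge hNY.le (hmax Y ⟨hY, hcon, hYc⟩))
    rcases le_or_gt (Nat.card X) (p ^ j) with h | h
    · exact hcard X hX hNX h
    obtain ⟨K, hK, hNK, hKc⟩ := exists_refine_weaklyEmbedded hS hW (T := X) hX.1
      (fun A => F.StronglyClosed A ∧ A ≤ X)
      (fun A B hA hB => ⟨hCsup A B hA.1 hB.1, sup_le hA.2 hB.2⟩)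
      (fun A B hA hB => ⟨stronglyClosed_inf_sub hA.1 hB.1, inf_le_left.trans hA.2⟩)
      (fun A hA => hA.2) ⟨hX, le_rfl⟩
      (fun A hA => ⟨stronglyClosed_inf_sub hA hX, inf_le_right⟩) ⟨hN', hNX.le⟩ hNc h.le
    refine (hcard K hK.1 (lt_of_le_of_ne hNK fun h' => ?_) hKc.le).trans hK.2
    rw [h', hKc] at hlt
    exact lt_irrefl _ hlt
  have hgen : ∀ E : Subgroup Ω, E ≤ S → ∀ α : F.autGroup E, (orderOf α).Coprime p →
      ∀ x : E, (x : Ω)⁻¹ * ((α : MulAut E) x : Ω) ∈ H := fun E hES α hα x =>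
    Subgroup.subset_closure ⟨E, α, x, hES, Subgroup.subset_closure hα, rfl⟩
  have hHcl : F.StronglyClosed H := by
    refine ⟨hyperfocalSubgroup_le p, fun R hR φ hφ x => ?_⟩
    obtain ⟨g, hg, h⟩ := exists_conj_mod_hyperfocal hS hF hφ
    have h1 := (conj_mem_iff_of_le_normalizer (le_normalizer_hyperfocalSubgroup p) hg).2 (hR x.2)
    have h2 := H.mul_mem h1 (h x)
    rwa [mul_inv_cancel_left] at h2
  set L := H ⊔ N with hLdef
  have hL : F.StronglyClosed L := hCsup H N hHcl hN'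
  have hNL : N < L := lt_of_le_of_ne le_sup_right fun h => hHN (h ▸ le_sup_left)
  have hLmin : ∀ D, F.StronglyClosed D → N < D → L ≤ D := fun D hD hND =>
    sup_le (habove D hD hND) hND.le
  obtain ⟨K, hK, hNK, hKc⟩ := exists_refine_weaklyEmbedded hS hW (T := S) le_rfl F.StronglyClosed
    hCsup (fun A B hA hB => stronglyClosed_inf_sub hA hB) (fun A hA => hA.1)
    stronglyClosed_top_sub (fun A hA => by rwa [inf_eq_left.2 hA.1]) hN' hNc hj.le
  have := finite_of_le hK.1
  have := finite_of_le hL.1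
  have hLK : L ≤ K := hLmin K hK
    (lt_of_le_of_ne hNK fun h => by rw [h, hKc] at hlt; exact lt_irrefl _ hlt)
  have hLc : Nat.card L ≤ p ^ j := hKc ▸ Subgroup.card_le_of_le hLK
  -- by Tate a maximal subgroup contains `N` and not `L`
  obtain ⟨M, hMcoat, hNM, hLM⟩ : ∃ M : Subgroup S, IsCoatom M ∧ N.subgroupOf S ≤ M ∧
      ¬ L.subgroupOf S ≤ M := by
    by_contra hcon
    push Not at hcon
    refine hHN (hyperfocalSubgroup_le_of_stronglyClosed_sup_frattini hS hF hN' fun y hy => ?_)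
    rw [← Subgroup.map_subgroupOf_eq_of_le hN'.1, ← Subgroup.map_sup]
    refine ⟨⟨y, hHcl.1 hy⟩, ?_, rfl⟩
    exact mem_sup_frattini_of_forall_coatom hS (fun M hM hNM =>
      hcon M hM hNM (show (⟨y, hHcl.1 hy⟩ : S) ∈ L.subgroupOf S from
        (le_sup_left : H ≤ L) hy))
  have hMn : M.Normal := PGroup.normal_of_isCoatom hS hMcoat
  have hMidx : M.index = p := PGroup.index_of_isCoatom hS hMcoat
  set M' := M.map S.subtype with hM'
  have hM'S : M' ≤ S := Subgroup.map_subtype_le _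
  have := finite_of_le hM'S
  have hNM' : N ≤ M' := fun y hy => ⟨⟨y, hN'.1 hy⟩, hNM hy, rfl⟩
  have hLM' : ¬ L ≤ M' := fun h => hLM fun y hy => by
    obtain ⟨z, hz, hze⟩ := h hy
    rwa [← show z = y from Subtype.ext hze]
  have hjM : p ^ j ≤ Nat.card M' := by
    have hMc : Nat.card S = p * Nat.card M' := by
      rw [Subgroup.card_subtype, mul_comm, ← hMidx, Subgroup.card_mul_index]
    obtain ⟨s, hs⟩ := IsPGroup.iff_card.1 hS
    have hsj : j < s := (Nat.pow_lt_pow_iff_right (Fact.out : p.Prime).one_lt).1 (hs ▸ hj)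
    refine Nat.le_of_mul_le_mul_left ?_ (Fact.out : p.Prime).pos
    rw [← hMc, hs, ← pow_succ']
    exact Nat.pow_le_pow_right (Fact.out : p.Prime).pos hsj
  by_cases hLMN : L ⊓ M' ≤ N
  · -- `L / N` has order `p`
    refine hHN (hyperfocalSubgroup_le_of_primeTrivial (primeTrivial_of_index_prime hS hF
      (hbig S le_rfl hj.le) hN' hL hNL.le ?_ ?_ fun E hES α hα x =>
        (le_sup_left : H ≤ L) (hgen E hES α hα x)))
    · intro g hg x hx
      refine hLMN ⟨L.mul_mem (L.inv_mem hx) (conj_mem_of_mem_normalizer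
        (le_normalizer_of_stronglyClosed hL hg) hx), ?_⟩
      obtain ⟨z, hz, hze⟩ := commutator_le_map_frattini hS
        (inv_mul_conj_mem_commutator (hL.1 hx) hg)
      exact ⟨z, frattini_le_coatom hMcoat hz, hze⟩
    · intro D hND hDL
      by_cases hDM : D ≤ M'
      · exact Or.inl (le_antisymm (fun y hy => hLMN ⟨hDL hy, hDM hy⟩) hND)
      refine Or.inr (le_antisymm hDL fun y hy => ?_)
      have hDS : D ≤ S := hDL.trans hL.1
      have htop : D.subgroupOf S ⊔ M = ⊤ := hMcoat.2 _ (lt_of_le_of_ne le_sup_right fun h => hDM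
        fun z hz => ⟨⟨z, hDS hz⟩, h ▸ (le_sup_left : _ ≤ D.subgroupOf S ⊔ M) hz, rfl⟩)
      have hmem : (⟨y, hL.1 hy⟩ : S) ∈ D.subgroupOf S ⊔ M := htop ▸ Subgroup.mem_top _
      rw [← SetLike.mem_coe, Subgroup.mul_normal] at hmem
      obtain ⟨a, ha, b, hb, hab⟩ := hmem
      have hab' : (a : Ω) * (b : Ω) = y := congrArg Subtype.val hab
      have hbL : (b : Ω) ∈ L := by
        have := L.mul_mem (L.inv_mem (hDL ha)) hy
        rw [← hab'] at this
        simpa using this
      exact hab' ▸ D.mul_mem ha (hND (hLMN ⟨hbL, ⟨b, hb, rfl⟩⟩))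
  -- a weakly embedded subgroup of `M'` containing `L ⊓ M'`
  obtain ⟨Q, hQ1, hQ2, hQc⟩ := exists_between_card hS (A := L ⊓ M') (B := M') inf_le_right hM'S
    ((Subgroup.card_le_of_le inf_le_left).trans hLc) hjM
  obtain ⟨R, hR, hQR, hQR'⟩ := hW Q (hQ2.trans hM'S) hQc
  have hNQ : N ≤ Q := le_trans (le_inf hNL.le hNM') hQ1
  have hX : Q ⊓ R ⊔ N = N := by
    by_contra h
    exact hLM' ((hLmin _ (hCsup _ _ hQR' hN') (lt_of_le_of_ne le_sup_right (Ne.symm h))).trans
      ((sup_le inf_le_left hNQ).trans hQ2))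
  by_cases hRN : R ≤ N
  · have hQeq : Q ⊔ R = Q := sup_eq_left.2 (hRN.trans hNQ)
    rw [hQeq] at hQR
    exact hLM' ((hLmin Q hQR (lt_of_le_of_ne hNQ fun h => hLMN (h ▸ hQ1))).trans hQ2)
  refine hLMN fun y hy => ?_
  have hLR : L ≤ R ⊔ N := hLmin _ (hCsup _ _ hR hN')
    (lt_of_le_of_ne le_sup_right fun h => hRN (h ▸ le_sup_left))
  obtain ⟨t, ht, n, hn, rfl⟩ :=
    exists_mul_of_mem_sup (hR.1.trans (le_normalizer_of_stronglyClosed hN')) (hLR hy.1)
  have htQ : t ∈ Q := by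
    have := Q.mul_mem (hQ1 hy) (Q.inv_mem (hNQ hn))
    rwa [mul_inv_cancel_right] at this
  exact N.mul_mem (hX.le ((le_sup_left : Q ⊓ R ≤ Q ⊓ R ⊔ N) ⟨htQ, ht⟩)) hn

end CfsgLib.Fusion
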