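import Cfsg.Agent.Lib.Fusion.Tate
import Cfsg.Agent.Lib.Fusion.Normal
import Cfsg.Agent.Lib.Fusion.NormSys
import Cfsg.Agent.Lib.Fusion.SmallControl
import Cfsg.Agent.Lib.Transfer.FusionInner
import Cfsg.Agent.S1952

/-!
# Yoshida's theorem for saturated fusion systems
-/

set_option autoImplicit false

open Cfsg Cfsg.FusionSystem
open scoped commutatorElement

namespace CfsgLib.Fusion.Yoshida

universe u

section Cocycle

variable {G : Type*} [Group G] {p : ℕ} [hp : Fact p.Prime] {Y : Type*} [MulAction G Y]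
  {A : Type*} [CommGroup A] {c : G → Y → A}

/-- No surjection onto a Sylow subgroup of the symmetric group of degree `p²`. -/
def NoWreath (G : Type*) [Group G] (p : ℕ) : Prop :=
  ¬ ∃ (W : Sylow p (Equiv.Perm (Fin (p ^ 2))))
    (f : G →* ↥(W : Subgroup (Equiv.Perm (Fin (p ^ 2))))), Function.Surjective f

/-- The cocycle rule. -/
def IsCocycle (c : G → Y → A) : Prop := ∀ u v ω, c (u * v) ω = c u (v • ω) * c v ω

theorem cocycle_one (hc : IsCocycle c) (ω : Y) : c 1 ω = 1 := by
  have := hc 1 1 ω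
  rw [one_mul, one_smul] at this
  exact mul_eq_left.1 this.symm

omit hp in
theorem cocycle_pow (hc : IsCocycle c) (x : G) (ω : Y) (n : ℕ) :
    c (x ^ n) ω = ∏ i ∈ Finset.range n, c x (x ^ i • ω) := by
  induction n with
  | zero => simpa using cocycle_one hc ω
  | succ n ih => rw [pow_succ', hc, ih, Finset.prod_range_succ, mul_comm]

/-- Without fixed points the values of a `p`-element multiply to `1`. -/
theorem prod_eq_one_of_no_fixed [Fintype Y] (hc : IsCocycle c) (x : G) {k : ℕ}
    (hk : x ^ p ^ k = 1) (hfree : ∀ ω : Y, x • ω ≠ ω)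
    (h0 : ∀ (ω : Y) (n : ℕ), p ∣ n → x ^ n • ω = ω → c (x ^ n) ω = 1) :
    ∏ ω, c x ω = 1 := by
  classical
  have hinv : ∀ (n : ℕ) (s : Finset Y), s.card = n → (∀ ω, ω ∈ s ↔ x • ω ∈ s) →
      ∏ ω ∈ s, c x ω = 1 := by
    intro n
    induction n using Nat.strong_induction_on with
    | _ n ih =>
    intro s hs hinv
    rcases s.eq_empty_or_nonempty with rfl | ⟨ω, hω⟩
    · simp
    set f : Y → Y := fun y => x • y with hf
    have hiter : ∀ i, f^[i] ω = x ^ i • ω := fun i => by
      induction i with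
      | zero => simp
      | succ i ih' => rw [Function.iterate_succ_apply', ih', pow_succ', mul_smul]
    set m := Function.minimalPeriod f ω with hm
    have hm0 : 0 < m := Function.IsPeriodicPt.minimalPeriod_pos (n := p ^ k)
      (pow_pos hp.out.pos k) (by show f^[p ^ k] ω = ω; rw [hiter, hk, one_smul])
    have hmdvd : m ∣ p ^ k := Function.IsPeriodicPt.minimalPeriod_dvd
      (by show f^[p ^ k] ω = ω; rw [hiter, hk, one_smul])
    have hmp : p ∣ m := by
      obtain ⟨j, -, hj⟩ := (Nat.dvd_prime_pow hp.out).1 hmdvd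
      rcases Nat.eq_zero_or_pos j with rfl | hj0
      · refine absurd ?_ (hfree ω)
        have h1 : f^[m] ω = ω := Function.iterate_minimalPeriod
        rwa [hiter, hj, pow_zero, pow_one] at h1
      · rw [hj]; exact dvd_pow_self p hj0.ne'
    have hmfix : x ^ m • ω = ω := by rw [← hiter]; exact Function.iterate_minimalPeriod
    set O := (Finset.range m).image (fun i => x ^ i • ω) with hO
    have hinj : Set.InjOn (fun i => x ^ i • ω) (Finset.range m : Set ℕ) := by
      intro i hi j hj h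
      refine Function.iterate_injOn_Iio_minimalPeriod (f := f) (x := ω) (Finset.mem_range.1 hi)
        (Finset.mem_range.1 hj) ?_
      show f^[i] ω = f^[j] ω
      rw [hiter, hiter]
      exact h
    have hOs : O ⊆ s := by
      intro y hy
      obtain ⟨i, -, rfl⟩ := Finset.mem_image.1 hy
      clear hy
      induction i with
      | zero => simpa using hω
      | succ i ih' => rw [pow_succ', mul_smul]; exact (hinv _).1 ih'
    have hOinv : ∀ y, y ∈ O ↔ x • y ∈ O := by
      have hfwd : ∀ y ∈ O, x • y ∈ O := by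
        intro y hy
        obtain ⟨i, hi, rfl⟩ := Finset.mem_image.1 hy
        rw [← mul_smul, ← pow_succ']
        rcases Nat.lt_or_ge (i + 1) m with h | h
        · exact Finset.mem_image.2 ⟨i + 1, Finset.mem_range.2 h, rfl⟩
        · rw [show i + 1 = m by have := Finset.mem_range.1 hi; omega, hmfix]
          exact Finset.mem_image.2 ⟨0, Finset.mem_range.2 hm0, by simp⟩
      intro y
      refine ⟨hfwd y, fun h => ?_⟩
      have : O.image (fun y => x • y) = O := Finset.eq_of_subset_of_card_le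
        (fun z hz => by obtain ⟨w, hw, rfl⟩ := Finset.mem_image.1 hz; exact hfwd w hw)
        (by rw [Finset.card_image_of_injective _ (MulAction.injective x)])
      rw [← this] at h
      obtain ⟨w, hw, hwy⟩ := Finset.mem_image.1 h
      exact MulAction.injective x hwy ▸ hw
    have hprodO : ∏ y ∈ O, c x y = 1 := by
      rw [hO, Finset.prod_image hinj, ← cocycle_pow hc]
      exact h0 ω m hmp hmfix
    rw [← Finset.prod_sdiff hOs, hprodO, mul_one]
    refine ih _ ?_ (s \ O) rfl fun y => by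
      rw [Finset.mem_sdiff, Finset.mem_sdiff, ← hinv, ← hOinv]
    rw [← hs]
    refine Finset.card_lt_card (Finset.sdiff_ssubset hOs ⟨ω, ?_⟩)
    exact Finset.mem_image.2 ⟨0, Finset.mem_range.2 hm0, by simp⟩
  exact hinv _ Finset.univ rfl fun ω => by simp

/-- On a nontrivial orbit the values of `x` multiply to `1` unless there is a wreath quotient. -/
theorem prod_eq_one_of_transitive [Finite G] [Fintype Y] [MulAction.IsPretransitive G Y]
    (hG : IsPGroup p G) (hnw : NoWreath G p) (hA : ∀ a : A, a ^ p = 1) (hc : IsCocycle c)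
    (hY : ∃ (ω : Y) (g : G), g • ω ≠ ω) (x : G)
    (h0 : ∀ (ω : Y) (n : ℕ), p ∣ n → x ^ n • ω = ω → c (x ^ n) ω = 1) :
    ∏ ω, c x ω = 1 := by
  classical
  obtain ⟨ω₀, g₀, hg₀⟩ := hY
  obtain ⟨R, hR, hleR⟩ := (eq_top_or_exists_le_coatom (MulAction.stabilizer G ω₀)).resolve_left
    fun h => hg₀ (show g₀ ∈ MulAction.stabilizer G ω₀ from h ▸ Subgroup.mem_top g₀)
  have := CfsgLib.PGroup.normal_of_isCoatom hG hR
  have hidx := CfsgLib.PGroup.index_of_isCoatom hG hR
  obtain ⟨k, hk⟩ := hG x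
  -- the map to `G ⧸ R`
  choose rep hrep using MulAction.exists_smul_eq (α := Y) G ω₀
  let π : Y → G ⧸ R := fun ω => (rep ω : G ⧸ R)
  have hπ : ∀ (g : G) (ω : Y), π (g • ω) = (g : G ⧸ R) * π ω := by
    intro g ω
    rw [← QuotientGroup.mk_mul]
    refine QuotientGroup.eq.2 (hleR ?_)
    rw [MulAction.mem_stabilizer_iff, mul_smul, inv_smul_eq_iff, hrep, mul_smul, hrep]
  by_cases hxR : x ∈ R
  swap
  · refine prod_eq_one_of_no_fixed hc x hk (fun ω h => hxR ?_) h0
    have := congrArg π h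
    rwa [hπ, mul_eq_right, QuotientGroup.eq_one_iff] at this
  -- the values on the fibres
  have : Fintype (G ⧸ R) := Fintype.ofFinite _
  let F : G ⧸ R → Finset Y := fun q => Finset.univ.filter fun ω => π ω = q
  have hFmem : ∀ (g : G) (q : G ⧸ R) (ω : Y), ω ∈ F q ↔ g • ω ∈ F ((g : G ⧸ R) * q) := fun g q ω => by
    simp [F, hπ]
  let μ : G ⧸ R → R →* A := fun q =>
    { toFun := fun r => ∏ ω ∈ F q, c r ω
      map_one' := Finset.prod_eq_one fun ω _ => by rw [Subgroup.coe_one]; exact cocycle_one hc ω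
      map_mul' := fun r s => by
        have hs : (((s : R) : G) : G ⧸ R) = 1 := (QuotientGroup.eq_one_iff _).2 s.2
        simp only [Subgroup.coe_mul]
        rw [Finset.prod_congr rfl fun ω _ => hc (r : G) (s : G) ω, Finset.prod_mul_distrib]
        congr 1
        refine Finset.prod_equiv (MulAction.toPerm (s : G)) (fun ω => ?_) fun ω _ => rfl
        simpa [hs] using hFmem (s : G) q ω }
  have hμ : ∀ (q : G ⧸ R) (r : R), μ q r = ∏ ω ∈ F q, c r ω := fun q r => rfl
  have hμconj : ∀ (g : G) (q : G ⧸ R) (r : R) (h : g * r * g⁻¹ ∈ R),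
      μ ((g : G ⧸ R) * q) ⟨g * r * g⁻¹, h⟩ = μ q r := by
    intro g q r h
    rw [hμ, hμ]
    calc ∏ ω ∈ F ((g : G ⧸ R) * q), c (g * r * g⁻¹) ω
        = ∏ ω ∈ F q, c (g * r * g⁻¹) (g • ω) :=
          (Finset.prod_equiv (MulAction.toPerm g) (fun ω => hFmem g q ω) fun ω _ => rfl).symm
      _ = ∏ ω ∈ F q, (c r ω * (c g ((r : G) • ω) * (c g ω)⁻¹)) := by
          refine Finset.prod_congr rfl fun ω _ => ?_
          have h1 := hc (g * r * g⁻¹) g ω
          rw [inv_mul_cancel_right, hc g (r : G) ω] at h1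
          calc c (g * r * g⁻¹) (g • ω) = c (g * r * g⁻¹) (g • ω) * c g ω * (c g ω)⁻¹ :=
                (mul_inv_cancel_right _ _).symm
            _ = _ := by rw [← h1]; ac_rfl
      _ = ∏ ω ∈ F q, c r ω := by
          rw [Finset.prod_mul_distrib, Finset.prod_mul_distrib]
          have hr : (((r : R) : G) : G ⧸ R) = 1 := (QuotientGroup.eq_one_iff _).2 r.2
          have e : ∏ ω ∈ F q, c g ((r : G) • ω) = ∏ ω ∈ F q, c g ω :=
            Finset.prod_equiv (MulAction.toPerm (r : G))
              (fun ω => by simpa [hr] using hFmem (r : G) q ω) (fun ω _ => rfl)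
          rw [e, Finset.prod_inv_distrib, mul_inv_cancel, mul_one]
  -- their common kernel
  let K : Subgroup G :=
    { carrier := {r | ∃ h : r ∈ R, ∀ q, μ q ⟨r, h⟩ = 1}
      one_mem' := ⟨R.one_mem, fun q => map_one (μ q)⟩
      mul_mem' := fun {a b} ⟨ha, ha'⟩ ⟨hb, hb'⟩ => ⟨R.mul_mem ha hb, fun q => by
        rw [show (⟨a * b, R.mul_mem ha hb⟩ : R) = ⟨a, ha⟩ * ⟨b, hb⟩ from rfl, map_mul, ha', hb',
          one_mul]⟩
      inv_mem' := fun {a} ⟨ha, ha'⟩ => ⟨R.inv_mem ha, fun q => by
        rw [show (⟨a⁻¹, R.inv_mem ha⟩ : R) = ⟨a, ha⟩⁻¹ from rfl, map_inv, ha', inv_one]⟩ }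
  have hKR : K ≤ R := by
    rintro r ⟨h, -⟩
    exact h
  have hKn : K.Normal := by
    constructor
    rintro r ⟨h, hr⟩ g
    refine ⟨Subgroup.Normal.conj_mem ‹R.Normal› r h g, fun q => ?_⟩
    have h1 := hμconj g ((g : G ⧸ R)⁻¹ * q) ⟨r, h⟩ (Subgroup.Normal.conj_mem ‹R.Normal› r h g)
    rw [mul_inv_cancel_left, hr] at h1
    exact h1
  set mk := QuotientGroup.mk' K with hmk
  set A' := R.map mk with hA'
  have hA'i : A'.index = p := by
    rw [hA', Subgroup.index_map_eq _ (QuotientGroup.mk'_surjective K)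
      (by rw [QuotientGroup.ker_mk']; exact hKR), hidx]
  have hker : ∀ a ∈ R, (∀ q (ha : a ∈ R), μ q ⟨a, ha⟩ = 1) → mk a = 1 := fun a ha h =>
    (QuotientGroup.eq_one_iff a).2 ⟨ha, fun q => h q ha⟩
  have hA'e : Cfsg.IsElementaryAbelian p A' := by
    refine CfsgLib.PGroup.isElementaryAbelian_mk ?_ ?_
    · rintro _ ⟨a, ha, rfl⟩ _ ⟨b, hb, rfl⟩
      rw [← commutatorElement_eq_one_iff_mul_comm, ← map_commutatorElement]
      have hab : ⁅a, b⁆ ∈ R := by
        rw [commutatorElement_def]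
        exact R.mul_mem (R.mul_mem (R.mul_mem ha hb) (R.inv_mem ha)) (R.inv_mem hb)
      refine hker _ hab fun q h => ?_
      rw [show (⟨⁅a, b⁆, h⟩ : R) = ⁅(⟨a, ha⟩ : R), ⟨b, hb⟩⁆ from Subtype.ext rfl,
        map_commutatorElement, commutatorElement_eq_one_iff_mul_comm, mul_comm]
    · rintro _ ⟨a, ha, rfl⟩
      rw [← map_pow]
      refine hker _ (R.pow_mem ha p) fun q h => ?_
      rw [show (⟨a ^ p, h⟩ : R) = (⟨a, ha⟩ : R) ^ p from Subtype.ext rfl, map_pow, hA]
  have hA'n : A'.Normal := Subgroup.Normal.map ‹_› mk (QuotientGroup.mk'_surjective K)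
  obtain ⟨y, hy⟩ : ∃ y : G, y ∉ R := by
    by_contra h
    push Not at h
    exact hR.1 (Subgroup.eq_top_iff' R |>.2 h)
  have hyA : mk y ∉ A' := by
    rintro ⟨r, hr, hry⟩
    refine hy ?_
    have h1 := R.mul_mem hr (hKR (QuotientGroup.eq.1 hry))
    rwa [mul_inv_cancel_left] at h1
  have hprod : ((List.range p).map fun i => ((mk y) ^ i)⁻¹ * mk x * (mk y) ^ i).prod = 1 := by
    by_contra hne
    obtain ⟨W, f, hf⟩ := Cfsg.Agent.S1952.result (hG.to_quotient K) A' hA'e hA'i (mk x) (mk y)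
      ⟨x, hxR, rfl⟩ hyA hne
    exact hnw ⟨W, f.comp mk, hf.comp (QuotientGroup.mk'_surjective K)⟩
  -- assemble
  have hcj : ∀ i : ℕ, (y ^ i)⁻¹ * x * y ^ i ∈ R := fun i => by
    simpa using Subgroup.Normal.conj_mem ‹_› x hxR (y ^ i)⁻¹
  let l : List R := (List.range p).map fun i => (⟨(y ^ i)⁻¹ * x * y ^ i, hcj i⟩ : R)
  have hl : ∀ q, μ q l.prod = 1 := by
    intro q
    have h1 : mk ((l.prod : R) : G) = 1 := by
      rw [Subgroup.val_list_prod, map_list_prod, List.map_map, List.map_map, ← hprod]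
      congr 1
    obtain ⟨h, hh⟩ := (QuotientGroup.eq_one_iff _).1 h1
    exact hh q
  have hyq : (y : G ⧸ R) ≠ 1 := fun h => hy ((QuotientGroup.eq_one_iff y).1 h)
  have hord : orderOf (y : G ⧸ R) = p := by
    have hcard : Nat.card (G ⧸ R) = p := by rw [← Subgroup.index_eq_card, hidx]
    exact ((Nat.dvd_prime hp.out).1 (hcard ▸ orderOf_dvd_natCard (y : G ⧸ R))).resolve_left
      (mt orderOf_eq_one_iff.1 hyq)
  have hbij : Function.Bijective (fun i : Fin p => (y : G ⧸ R) ^ (i : ℕ)) := by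
    refine (Fintype.bijective_iff_injective_and_card _).2 ⟨fun i j h => ?_, ?_⟩
    · exact Fin.ext (pow_injOn_Iio_orderOf (by rw [hord]; exact i.2) (by rw [hord]; exact j.2) h)
    · rw [Fintype.card_fin, ← Nat.card_eq_fintype_card, ← Subgroup.index_eq_card, hidx]
  calc ∏ ω, c x ω = ∏ q, μ q ⟨x, hxR⟩ := by
        exact (Finset.prod_fiberwise (Finset.univ : Finset Y) π (fun ω => c x ω)).symm
    _ = ∏ i : Fin p, μ ((y : G ⧸ R) ^ (i : ℕ)) ⟨x, hxR⟩ :=
        (Fintype.prod_bijective _ hbij _ _ fun i => rfl).symm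
    _ = ∏ i : Fin p, μ 1 ⟨(y ^ (i : ℕ))⁻¹ * x * y ^ (i : ℕ), hcj i⟩ := by
        refine Finset.prod_congr rfl fun i _ => ?_
        rw [← hμconj (y ^ (i : ℕ)) 1 ⟨_, hcj i⟩ (by simpa [mul_assoc] using hxR)]
        simp [mul_assoc, QuotientGroup.mk_pow]
    _ = μ 1 l.prod := by
        rw [map_list_prod, List.map_map]
        exact Fin.prod_univ_eq_prod_range
          (fun i => μ 1 ⟨(y ^ i)⁻¹ * x * y ^ i, hcj i⟩) p
    _ = 1 := hl 1

/-- The product over all points is that over the fixed points. -/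
theorem prod_eq_pow_fixed [Finite G] [Fintype Y] (hG : IsPGroup p G) (hnw : NoWreath G p)
    (hA : ∀ a : A, a ^ p = 1) (hc : IsCocycle c) (x : G)
    (h0 : ∀ (ω : Y) (n : ℕ), p ∣ n → x ^ n • ω = ω → c (x ^ n) ω = 1) (a : A)
    (hfix : ∀ ω : Y, ω ∈ MulAction.fixedPoints G Y → c x ω = a) :
    ∏ ω, c x ω = a ^ Nat.card (MulAction.fixedPoints G Y) := by
  classical
  have := Fintype.ofFinite (MulAction.orbitRel.Quotient G Y)
  have e1 : a ^ Nat.card (MulAction.fixedPoints G Y) =
      ∏ ω : Y, if ω ∈ MulAction.fixedPoints G Y then a else 1 := by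
    rw [Finset.prod_ite, Finset.prod_const_one, mul_one, Finset.prod_const, Nat.card_eq_fintype_card,
      Fintype.card_subtype]
  rw [e1]
  let e := MulAction.selfEquivSigmaOrbits' G Y
  rw [← e.symm.prod_comp (fun ω => c x ω),
    ← e.symm.prod_comp (fun ω => if ω ∈ MulAction.fixedPoints G Y then a else 1),
    Fintype.prod_sigma, Fintype.prod_sigma]
  refine Finset.prod_congr rfl fun q _ => ?_
  have heq : ∀ z : q.orbit, e.symm ⟨q, z⟩ = z.1 := fun z => rfl
  simp only [heq]
  by_cases hall : ∀ z : q.orbit, (z : Y) ∈ MulAction.fixedPoints G Y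
  · exact Finset.prod_congr rfl fun z _ => by rw [if_pos (hall z)]; exact hfix _ (hall z)
  · push Not at hall
    obtain ⟨z, hz⟩ := hall
    have hne : ∀ z' : q.orbit, (z' : Y) ∉ MulAction.fixedPoints G Y := by
      intro z' hz'
      obtain ⟨g, hg⟩ := MulAction.exists_smul_eq (α := q.orbit) G z' z
      refine hz ?_
      have h1 : g • (z' : Y) = z := congrArg Subtype.val hg
      rw [← h1, hz' g]
      exact hz'
    rw [Finset.prod_eq_one (f := fun z' : q.orbit =>
      if (z' : Y) ∈ MulAction.fixedPoints G Y then a else 1) fun z' _ => if_neg (hne z')]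
    simp only [MulAction.mem_fixedPoints, not_forall] at hz
    obtain ⟨g, hg⟩ := hz
    refine prod_eq_one_of_transitive (c := fun u (z' : q.orbit) => c u z') hG hnw hA
      (fun u v z' => hc u v z') ⟨z, g, fun h => hg (congrArg Subtype.val h)⟩ x
      fun z' n hn hz' => h0 z' n hn (congrArg Subtype.val hz')

end Cocycle

variable {Ω : Type u} [Group Ω] {S : Subgroup Ω} {F : FusionSystem S} {p : ℕ}
  [Fact p.Prime] [Finite S]

/-- If a homomorphism into a group of exponent `p` agrees with the automorphisms of `S` and `S`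
has no wreath quotient, it is trivial on the focal subgroup. -/
theorem eq_one_of_noWreath (hS : IsPGroup p S) (hF : F.IsSaturated p) (hnw : NoWreath S p)
    {A : Type*} [CommGroup A] (hA : ∀ a : A, a ^ p = 1) (θ : S →* A)
    (hθ : ∀ φ ∈ F.Hom S, ∀ (u : S) (h : φ u ∈ S), θ ⟨φ u, h⟩ = θ u) (z : S)
    (hz : (z : Ω) ∈ F.focalSubgroup) : θ z = 1 := by
  classical
  by_contra hne
  obtain ⟨x, ⟨hxF, hxθ⟩, hmin⟩ := (Set.toFinite {u : S | (u : Ω) ∈ F.focalSubgroup ∧ θ u ≠ 1}
    ).exists_minimalFor orderOf _ ⟨z, hz, hne⟩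
  have hsmall : ∀ u : S, (u : Ω) ∈ F.focalSubgroup → orderOf u < orderOf x → θ u = 1 := by
    intro u hu hlt
    by_contra h
    exact absurd (hmin ⟨hu, h⟩ hlt.le) (by omega)
  obtain ⟨X, _, _, hstab, ⟨m, hm, hpm⟩, hα, -⟩ := exists_biset (F := F) hS hF
  have hst : ∀ (x : X) (a b : S), (a, b) • x = x → ∃ (P : Subgroup Ω) (φ : P →* Ω), φ ∈ F.Hom P ∧
      MulAction.stabilizer (S × S) x = graphSub φ ∧ ∃ h : (a : Ω) ∈ P, φ ⟨a, h⟩ = b := by
    intro x a b hab
    obtain ⟨P, φ, hφ, hx⟩ := hstab x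
    have h1 : (a, b) ∈ MulAction.stabilizer (S × S) x := hab
    rw [hx] at h1
    exact ⟨P, φ, hφ, hx, h1⟩
  have hfree : ∀ (b : S) (x : X), ((1 : S), b) • x = x → b = 1 := by
    intro b x hb
    obtain ⟨P, φ, -, -, h, hb⟩ := hst x 1 b hb
    exact Subtype.ext (hb.symm.trans (map_one φ))
  have hcard : Nat.card (RightOrbits S X) = m :=
    Nat.eq_of_mul_eq_mul_left Nat.card_pos ((card_eq_mul hfree).symm.trans hm)
  obtain ⟨T, hT1, hT2, -, -, hT5⟩ := exists_transfer (X := X) (N := (⊤ : Subgroup S)) (f := θ) hfree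
    (fun a _ b => map_mul θ a b) (fun a _ b => map_mul θ b a)
    (fun _ => ⟨1, fun _ _ _ => trivial⟩)
  let T' : S →* A := MonoidHom.mk' T fun u v => by
    have := hT1 u v
    rw [map_mul θ, div_self', one_pow, div_eq_one] at this
    exact this.symm
  have hTfoc : F.focalSubgroup.subgroupOf S ≤ T'.ker := by
    rw [← Subgroup.map_le_map_iff_of_injective S.subtype_injective,
      Subgroup.map_subgroupOf_eq_of_le focalSubgroup_le]
    refine (Subgroup.closure_le _).2 ?_
    rintro _ ⟨P, φ, x, hφ, rfl⟩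
    obtain ⟨α, hα'⟩ := hα P φ hφ
    let a : S := ⟨x, le_S F hφ x.2⟩
    let b : S := ⟨φ x, apply_mem_S F hφ x⟩
    refine ⟨a⁻¹ * b, ?_, rfl⟩
    rw [SetLike.mem_coe, MonoidHom.mem_ker, map_mul, map_inv, inv_mul_eq_one]
    exact (hT2 a trivial b trivial α (fun b x => hα' 1 1 b P.one_mem x (map_one φ))
      (fun y => hα' a b 1 x.2 y rfl)).symm
  have hTx : T x = 1 := hTfoc hxF
  -- the cocycle
  have : Finite (RightOrbits S X) := Quotient.finite _
  have := Fintype.ofFinite (RightOrbits S X)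
  let inst : MulAction S (RightOrbits S X) :=
    { smul := actR
      one_smul := actR_one
      mul_smul := fun u v ω => (actR_actR u v ω).symm }
  let s : RightOrbits S X → X := fun ω => Quotient.out ω
  have hs : ∀ ω, rmk (s ω) = ω := fun ω => Quotient.out_eq ω
  choose d hd using exists_delta (s := s) hs
  have hc : IsCocycle (fun u ω => θ (d u ω)) := by
    intro u v ω
    rw [← map_mul]
    refine congrArg θ (right_cancel hfree (u := u * v) (x := s ω) ?_)
    rw [hd, show ((u * v, d u (v • ω) * d v ω) : S × S) = (u, d u (actR v ω)) * (v, d v ω) from rfl,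
      mul_smul, hd, hd, actR_actR]
  have hfixd : ∀ (u : S) (ω : RightOrbits S X), u • ω = ω → (u, d u ω) • s ω = s ω := by
    intro u ω h
    rw [hd]
    exact congrArg s h
  have h0 : ∀ (ω : RightOrbits S X) (n : ℕ), p ∣ n → x ^ n • ω = ω → θ (d (x ^ n) ω) = 1 := by
    intro ω n hn h
    obtain ⟨P, φ, hφ, -, hmem, hb⟩ := hst _ _ _ (hfixd _ _ h)
    refine hsmall _ ?_ ?_
    · rw [← hb]
      refine apply_mem_focal hφ ?_
      show ((x ^ n : S) : Ω) ∈ F.focalSubgroup
      rw [Subgroup.coe_pow]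
      exact F.focalSubgroup.pow_mem hxF n
    · have hx1 : x ≠ 1 := fun h => hxθ (by rw [h, map_one])
      have h1 : orderOf (d (x ^ n) ω) = orderOf (x ^ n) := by
        rw [← Subgroup.orderOf_coe (d (x ^ n) ω), ← hb,
          orderOf_injective φ (F.injective_of_mem hφ), ← Subgroup.orderOf_coe,
          ← Subgroup.orderOf_coe (x ^ n)]
      rw [h1]
      obtain ⟨e, he⟩ := hS.exists_orderOf_eq_pow x
      have he0 : e ≠ 0 := fun e0 => hx1 (orderOf_eq_one_iff.1 (by rw [he, e0, pow_zero]))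
      obtain ⟨j, rfl⟩ := hn
      rw [pow_mul]
      refine lt_of_le_of_lt (Nat.le_of_dvd (orderOf_pos _) (orderOf_pow_dvd j)) ?_
      rw [orderOf_pow_of_dvd (Fact.out : p.Prime).ne_zero (he ▸ dvd_pow_self p he0)]
      exact Nat.div_lt_self (orderOf_pos x) (Fact.out : p.Prime).one_lt
  have hfix : ∀ ω : RightOrbits S X, ω ∈ MulAction.fixedPoints S (RightOrbits S X) →
      θ (d x ω) = θ x := by
    intro ω h
    obtain ⟨P, φ, hφ, hgraph, hmem, hb⟩ := hst _ _ _ (hfixd x ω (h x))
    have hSP : S ≤ P := fun u hu => by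
      have h1 : ((⟨u, hu⟩ : S), d ⟨u, hu⟩ ω) ∈ MulAction.stabilizer (S × S) (s ω) :=
        hfixd _ ω (h ⟨u, hu⟩)
      rw [hgraph] at h1
      exact (mem_graphSub.1 h1).1
    obtain rfl : P = S := le_antisymm (le_S F hφ) hSP
    have hd' : d x ω = ⟨φ x, apply_mem_S F hφ x⟩ := Subtype.ext hb.symm
    rw [hd']
    exact hθ φ hφ x _
  have hprod := prod_eq_pow_fixed (Y := RightOrbits S X) hS hnw hA hc x h0 (θ x) hfix
  rw [← hT5 x s (fun ω => d x ω) trivial hs (fun ω => hd x ω) (fun _ => trivial), hTx] at hprod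
  have hord : orderOf (θ x) = p := orderOf_eq_prime (hA _) hxθ
  have h1 : p ∣ Nat.card (MulAction.fixedPoints S (RightOrbits S X)) :=
    hord ▸ orderOf_dvd_of_pow_eq_one hprod.symm
  have h2 := hS.card_modEq_card_fixedPoints (RightOrbits S X)
  rw [hcard] at h2
  exact hpm ((Nat.modEq_zero_iff_dvd).1 (h2.trans ((Nat.modEq_zero_iff_dvd).2 h1)))

theorem exists_wreath_of_focal_ne_aux (hS : IsPGroup p S) (hF : F.IsSaturated p)
    {T : Subgroup Ω} (hT : T = normalizerIn S S) (N : FusionSystem T) (hNsat : N.IsSaturated p)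
    (hN : ∀ P, N.Hom P = F.normalizerHom S P) (hne : N.focalSubgroup ≠ F.focalSubgroup) :
    ¬ NoWreath S p := by
  have hTS : T = S := hT.trans (le_antisymm (normalizerIn_le S) (le_inf le_rfl Subgroup.le_normalizer))
  subst hTS
  intro hnw
  have hsub : N.IsSubsystemOf F := fun P φ hφ => ((hN P).le hφ).1
  apply hne
  have hhyp : N.hyperfocalSubgroup p = F.hyperfocalSubgroup p := by
    refine hyperfocalSubgroup_eq_of_le_sup_frattini hS hF (le_normalizer_hyperfocalSubgroup p)
      (hyperfocalSubgroup_mono hsub p) ?_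
    set Φ := (frattini ↥T).map T.subtype with hΦ
    have hcomm : ⁅T, T⁆ ≤ Φ := by
      rw [← Subgroup.map_subtype_commutator, hΦ]
      exact Subgroup.map_mono (CfsgLib.PGroup.commutator_le_frattini hS)
    have hle : N.focalSubgroup ⊔ Φ ≤ T :=
      sup_le focalSubgroup_le (Subgroup.map_subtype_le _)
    set L := (N.focalSubgroup ⊔ Φ).subgroupOf T with hL
    have hLf : frattini ↥T ≤ L := fun u hu => (le_sup_right : Φ ≤ N.focalSubgroup ⊔ Φ) ⟨u, hu, rfl⟩
    have hLn : L.Normal := ⟨fun u hu g => by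
      have h1 : ⁅g, u⁆ ∈ L := hLf (CfsgLib.PGroup.commutator_le_frattini hS
        (Subgroup.commutator_mem_commutator (Subgroup.mem_top _) (Subgroup.mem_top _)))
      have h2 := L.mul_mem h1 hu
      rwa [commutatorElement_def, inv_mul_cancel_right] at h2⟩
    let _ : CommGroup (T ⧸ L) :=
      { (inferInstance : Group (T ⧸ L)) with
        mul_comm := fun a b => by
          induction a using QuotientGroup.induction_on with
          | H a =>
          induction b using QuotientGroup.induction_on with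
          | H b =>
          rw [← QuotientGroup.mk_mul, ← QuotientGroup.mk_mul, QuotientGroup.eq]
          refine hLf (CfsgLib.PGroup.commutator_le_frattini hS ?_)
          have := Subgroup.commutator_mem_commutator (Subgroup.mem_top b⁻¹) (Subgroup.mem_top a⁻¹)
          rw [_root_.commutator_def]
          simpa [commutatorElement_def, mul_assoc] using this }
    have key : F.focalSubgroup ≤ N.focalSubgroup ⊔ Φ := by
      intro z hz
      have hzT : z ∈ T := focalSubgroup_le hz
      have hone := eq_one_of_noWreath hS hF hnw (A := T ⧸ L)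
        (fun a => by
          induction a using QuotientGroup.induction_on with
          | H a =>
            rw [← QuotientGroup.mk_pow, QuotientGroup.eq_one_iff]
            exact hLf (CfsgLib.PGroup.pow_mem_frattini hS a))
        (QuotientGroup.mk' L) (fun φ hφ u h => by
          refine (QuotientGroup.eq.2 ?_).symm
          refine (le_sup_left : N.focalSubgroup ≤ N.focalSubgroup ⊔ Φ) ?_
          refine Subgroup.subset_closure ⟨T, φ, u, ?_, rfl⟩
          rw [hN T]
          refine ⟨hφ, hT.le, fun y => hT.le (apply_mem_S F hφ y), ?_⟩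
          obtain ⟨ω, hω, hωe⟩ := mem_of_eq_sup (sup_eq_left.2 le_rfl : T ⊔ T = T).symm hφ
          refine ⟨ω, hω, fun y => hωe _, ?_⟩
          have := finite_of_le (show T ⊔ T ≤ T from sup_le le_rfl le_rfl)
          refine Subgroup.eq_of_le_of_card_ge ?_ ?_
          · rintro _ ⟨y, -, rfl⟩
            exact apply_mem_S F hω y
          · rw [Subgroup.card_map_of_injective (F.injective_of_mem hω),
              Nat.card_congr (Subgroup.subgroupOfEquivOfLe (le_sup_left : T ≤ T ⊔ T)).toEquiv])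
        ⟨z, hzT⟩ hz
      exact (QuotientGroup.eq_one_iff (N := L) (⟨z, hzT⟩ : T)).1 hone
    refine (hyperfocalSubgroup_le_focalSubgroup p).trans (key.trans ?_)
    rw [focalSubgroup_eq hS hNsat]
    exact sup_le (sup_le le_sup_left (hcomm.trans le_sup_right)) le_sup_right
  rw [focalSubgroup_eq hS hF, focalSubgroup_eq hS hNsat, hhyp]

/-- Yoshida's theorem. -/
theorem exists_wreath_of_focal_ne (hS : IsPGroup p S) (hF : F.IsSaturated p)
    (N : FusionSystem (normalizerIn S S))
    (hN : F.IsNormalizerSystem S N) (hne : N.focalSubgroup ≠ F.focalSubgroup) :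
    ∃ (W : Sylow p (Equiv.Perm (Fin (p ^ 2))))
      (f : S →* ↥(W : Subgroup (Equiv.Perm (Fin (p ^ 2))))), Function.Surjective f :=
  not_not.1 (exists_wreath_of_focal_ne_aux hS hF rfl N
    (isSaturated_normalizerSystem hS hF isFullyNormalized_self N hN) hN hne)

end CfsgLib.Fusion.Yoshida
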